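import Cfsg.Agent.Lib.SP4.Loc
import Cfsg.Agent.Lib.SPC.AEmb

/-! Type-free facts on a copy of the symplectic group -/

set_option autoImplicit false
set_option linter.unusedSectionVars false

namespace CfsgLib.SP4

open Subgroup Module CfsgLib.Forms CfsgLib.LieMult
open CfsgLib.HX (Std CO Two Mv M2 QA)
open CfsgLib.UN (AV SI TI HH Rad Stb Yg Rg Eg Act nu Bas Nh flag Ub Uni TD Od)
open CfsgLib.ClSys (II)
open Submodule (span)
open scoped commutatorElement Pointwise

universe u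

variable {F : Type} [Field F] [Finite F] {V : Type} [AddCommGroup V] [Module F V]
  [FiniteDimensional F V] {P : PQ (RingHom.id F) V} {S : Type} [Group S] [Finite S] {G : Type u}
  [Group G] [Finite G] {C : CG P S} {φ : S →* G} {t : G}

theorem Mod.gen_line (h : Mod C) {e f e' f' : V} (k : HH P e f e' f') {H : Subgroup S}
    (h1 : ∀ p c, P.B e p = 0 → C.T p 0 c ∈ H) (h2 : ∀ l : F, C.T e' (l • f) 0 ∈ H) : H = ⊤ := by
  have mv : ∀ s ∈ H, ∀ p c, C.T (C.act s p) 0 c ∈ H → C.T p 0 c ∈ H := fun s hs p c hp => by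
    have := H.mul_mem (H.mul_mem (H.inv_mem hs) hp) hs
    rwa [← map_zero (C.act s), ← h.T_conj s (map_zero _), mul_assoc s, inv_mul_cancel_left,
      inv_mul_cancel_right] at this
  have a1 : P.B e' f = 0 := (h.B_comm _ _).trans k.fe
  have a2 : P.B e' e = 0 := (h.B_comm _ _).trans k.ee
  have s1 : ∀ p c, P.B e' p ≠ 0 → C.T p 0 c ∈ H := fun p c hp =>
    mv _ (h2 (P.B e p / P.B e' p)) p c (h1 _ c (by
      rw [h.x_app (by rw [map_smul, a1, smul_zero]), map_add, map_add, map_smul (P.B e), map_smul (P.B e),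
        map_smul (P.B e), k.ee, k.h₁.ef, smul_zero, add_zero, smul_eq_mul, smul_eq_mul, mul_one,
        mul_div_cancel₀ _ hp, h.add_self]))
  have s2 : C.T e f' 0 ∈ H := h.fix_gen (h.ti_pt e) (fun p hp c => h1 p c (P.mem_perp_span_singleton.1 hp))
    (h.T_mem_fix k.ef (P.mem_perp_span_singleton.2 (h.B_self e)) (P.mem_perp_span_singleton.2 k.ef) 0)
  refine h.gen fun p c => ?_
  by_cases hp : P.B e p = 0
  · exact h1 p c hp
  by_cases hp' : P.B e' p = 0
  · refine mv _ s2 p c (s1 _ c ?_)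
    rwa [h.x_app k.ef, map_add, map_add, map_smul, map_smul, hp', a2, k.h₂.ef, smul_zero, add_zero,
      zero_add, smul_eq_mul, mul_one]
  · exact s1 p c hp'

namespace Emb

variable (h : Emb C φ) {g : G} {e a : V}
include h

theorem not_cent : ¬ φ.range ≤ centralizer (φ.range : Set G) := fun H => by
  obtain ⟨e, he⟩ := h.toMod.g2_T_ne
  exact he (h.inj ((h.eq_one ⟨_, rfl⟩ (H ⟨_, rfl⟩)).trans (map_one φ).symm))

theorem le_or_cent {H : Subgroup G} (h1 : φ.range ≤ normalizer (H : Set G))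
    (h2 : H ≤ normalizer (φ.range : Set G)) : φ.range ≤ H ∨ H ≤ centralizer (φ.range : Set G) := by
  refine or_iff_not_imp_left.2 fun H1 a ha b hb => ?_
  have k1 : ⁅a, b⁆ ∈ φ.range := mul_mem ((mem_normalizer_iff.1 (h2 ha) _).1 hb) (inv_mem hb)
  have k2 : ⁅a, b⁆ ∈ H := by
    rw [commutatorElement_def, mul_assoc, mul_assoc, ← mul_assoc b]
    exact mul_mem ha ((mem_normalizer_iff.1 (h1 hb) _).1 (inv_mem ha))
  by_contra e
  exact H1 (h.le_of_norm h1 k2 k1 fun e1 => e (commutatorElement_eq_one_iff_mul_comm.1 e1).symm)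

/-- an odd subgroup of `N(L)` normalised by `z e 1` and `x e a` -/
theorem cent_odd_sub {W : Subgroup G} (hW : Odd (Nat.card W)) (h1 : W ≤ normalizer (φ.range : Set G))
    (k : Ln P e a) (h2 : z C φ e 1 ∈ normalizer (W : Set G)) (h3 : x C φ e a ∈ normalizer (W : Set G))
    (hg : g ∈ Rg C φ (span F {e})) (h4 : g ∈ normalizer (W : Set G)) : W ≤ centralizer {g} := by
  have m := h.toMod
  intro v hv
  obtain ⟨α, γ, ka⟩ := h.act_of_odd (h1 hv) (hW.of_dvd_nat (orderOf_dvd_natCard W hv))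
  have e1 := h.act_z ka e 1
  rw [map_one] at e1
  have kW : z C φ e 1 * z C φ (γ e) 1 ∈ W := by
    have := mul_mem ((mem_normalizer_iff.1 h2 _).1 hv) (inv_mem hv)
    rwa [inv_eq_of_mul_eq_one_right (h.z_sq e 1), mul_assoc, mul_assoc, ← mul_assoc v, e1] at this
  have inv2 : ∀ {p p'}, P.B p p' = 0 → z C φ p 1 * z C φ p' 1 ∈ W → p = p' := fun {p p'} a3 a4 => by
    have := UN.one_of_odd hW a4 (k := 1) (by
      rw [pow_one, (h.z_comm a3 1 1).mul_pow, pow_two, pow_two, h.z_sq, h.z_sq, one_mul])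
    exact h.z_one_inj (by
      rw [← inv_eq_of_mul_eq_one_right this, inv_eq_of_mul_eq_one_right (h.z_sq p 1)])
  have e2 : P.B e (γ e) = 0 := by
    by_contra hb
    generalize γ e = p at kW hb
    obtain ⟨a', ha'⟩ : ∃ a', a' = a + (P.B a p / P.B e p) • e := ⟨_, rfl⟩
    have b0 : P.B e a' = 0 := by rw [ha', map_add, map_smul, k.perp, m.B_self, smul_zero, add_zero]
    have b1 : P.B a' p = 0 := by
      rw [ha', map_add, LinearMap.add_apply, m.B_smul_left, div_mul_cancel₀ _ hb, m.add_self]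
    have uN : φ (C.T e a' 0) ∈ normalizer (W : Set G) := by
      rw [ha', m.T_shift k.perp]
      exact h3
    have k2 := (mem_normalizer_iff.1 uN _).1 kW
    rw [← conj_mul, h.z_conj, h.z_conj, m.x_app b0, m.x_app b0, b1, m.B_comm a', b0, m.B_self] at k2
    simp only [zero_smul, add_zero] at k2
    have k3 := mul_mem (inv_mem kW) k2
    rw [mul_inv_rev, mul_assoc, inv_mul_cancel_left, inv_eq_of_mul_eq_one_right (h.z_sq p 1)] at k3
    have k4 := inv2 (by rw [map_add, map_smul, m.B_self, m.B_comm p a', b1, smul_zero, add_zero]) k3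
    rw [left_eq_add, smul_eq_zero_iff_right hb, ha'] at k4
    exact k.nmem (m.veq_of_add k4 ▸ Submodule.smul_mem _ _ (Submodule.mem_span_singleton_self e))
  have nQ := (h.act_norm ka (UN.SI.span_iff ka.toSI (e := e)
    (inv2 e2 kW ▸ Submodule.mem_span_singleton_self e))).2.1
  have m1 := mul_mem ((mem_normalizer_iff.1 nQ _).1 hg) (inv_mem hg)
  have m2 := mul_mem hv ((mem_normalizer_iff.1 h4 _).1 (inv_mem hv))
  rw [← mul_assoc, ← mul_assoc] at m2
  obtain ⟨j, hj⟩ := h.R_two (m.ti_pt e) ⟨_, m1⟩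
  have := UN.one_of_odd hW m2 (k := j) (congrArg Subtype.val hj)
  exact mem_centralizer_singleton_iff.2 (mul_inv_eq_iff_eq_mul.1 (mul_inv_eq_one.1 this))

end Emb

namespace Sit

variable (h : Sit C φ t) {g : G} {e a : V}
include h

theorem td_Q (h2 : Two φ.range t) (h0 : e ≠ 0) :
    TD φ.range (Rg C φ (span F {e})) (Rg C φ (span F {e})) t := by
  have em := h.toEmb
  refine { h.toStd with
    two' := h2
    ER := le_rfl
    RH := em.R_le_Y.trans em.Y_le_L
    sq := fun g hg => ?_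
    cen := fun g hg g' hg' => ?_
    EC := fun g hg => em.eq_one (em.Y_le_L (em.R_le_Y hg))
    cR := fun g e1 e2 => em.cQ h0 (h.norm_of e1) e2 }
  · obtain ⟨a, c, k, rfl⟩ := (em.mem_Q h0).1 hg
    exact em.τ_sq k c
  · obtain ⟨a, c, k, rfl⟩ := (em.mem_Q h0).1 hg
    obtain ⟨b, d, k', rfl⟩ := (em.mem_Q h0).1 hg'
    exact em.τ_comm k' k d c

theorem td_R (h2 : Two φ.range t) {U : Submodule F V} (hU : TI P U) (hd : 2 ≤ finrank F U) :
    TD φ.range (Rg C φ U) (Eg C φ U) t :=
  have em := h.toEmb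
  { h.toStd with
    two' := h2
    ER := em.E_le_R hU
    RH := em.R_le_Y.trans em.Y_le_L
    sq := fun _ hg => em.E_sq hU hg
    cen := (em.E_cent hU).trans (centralizer_le em.R_le_Y)
    EC := fun _ hg => em.eq_one (em.Y_le_L (em.R_le_Y (em.E_le_R hU hg)))
    cR := fun _ e1 e2 => em.cR hU hd (h.norm_of e1) e2 }

end Sit

end CfsgLib.SP4
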