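import Cfsg.Agent.Lib.SP4.FDefs
import Cfsg.Agent.Lib.SPC.CaC

/-! Type C: the structure HC -/

set_option autoImplicit false
set_option linter.unusedSectionVars false

namespace CfsgLib.SP4

open Subgroup Module CfsgLib.Forms CfsgLib.LieMult
open CfsgLib.HX (Std CO Two Mv M2)
open CfsgLib.UN (AV SI TI HH Rad Stb Yg Rg Eg Act nu)
open CfsgLib.ClSys (II)
open CfsgLib.SPC (cac_sand)
open Submodule (span)
open scoped commutatorElement Pointwise

universe u

variable {F : Type} [Field F] [Finite F] {V : Type} [AddCommGroup V] [Module F V]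
  [FiniteDimensional F V] {P : PQ (RingHom.id F) V} {S : Type} [Group S] [Finite S] {G : Type u}
  [Group G] [Finite G] {C : CG P S} {φ : S →* G} {t : G}

theorem Emb.cac_odd (h : Emb C φ) {o : G} (ho : o ∈ centralizer (φ.range : Set G)) (h1 : Odd (orderOf o))
    (h2 : o * o ∈ φ.range) : o = 1 := by
  have h3 : orderOf o ∣ 2 := orderOf_dvd_of_pow_eq_one (by rw [pow_two]; exact h.eq_one h2 (mul_mem ho ho))
  rcases (Nat.dvd_prime Nat.prime_two).1 h3 with e | e
  · exact orderOf_eq_one_iff.1 e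
  · rw [e] at h1; exact absurd h1 (by decide)

theorem Emb.cac_cY (h : Emb C φ) {g p : G} {α : RingAut F} {γ : AV V} (k : Act C φ g α γ) {e : V}
    (hp : p ∈ centralizer (Yg C φ (span F {e}) : Set G)) :
    g * p * g⁻¹ ∈ centralizer (Yg C φ (span F {γ e}) : Set G) := by
  rintro _ ⟨s', hs', rfl⟩
  obtain ⟨s, hs⟩ := h.toMod.exists_conj (h.act_inv k).toSI s'
  have h1 := (h.act_inv k).conj s' s hs
  have h2 : C.act s e = e := by
    have := hs (γ e)
    rw [hs' _ (Submodule.mem_span_singleton_self _)] at this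
    exact (by simpa using this)
  have h3 : φ s ∈ Yg C φ (span F {e}) := by
    refine ⟨s, fun v hv => ?_, rfl⟩
    obtain ⟨c, rfl⟩ := Submodule.mem_span_singleton.1 hv
    rw [map_smul, h2]
  have h4 := hp _ h3
  rw [← h1] at h4
  calc φ s' * (g * p * g⁻¹) = g * (g⁻¹ * φ s' * g⁻¹⁻¹ * p) * g⁻¹ := by group
    _ = _ := by rw [h4]; group

theorem Sit.cac_uniq (h : Sit C φ t) (h2 : Two φ.range t) {U : Submodule F V} (hU : TI P U) {p p' : G}
    (hp : p ∈ centralizer (Yg C φ U : Set G)) (hp' : p' ∈ centralizer (Yg C φ U : Set G))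
    (e : p * t * p⁻¹ = p' * t * p'⁻¹) : ∃ ε ∈ Eg C φ U, ∃ o ∈ centralizer (φ.range : Set G), o * t = t * o ∧
      Odd (orderOf o) ∧ (p' = p * ε * o ∨ p' = p * ε * (t * o)) := by
  have h1 : p⁻¹ * p' * t = t * (p⁻¹ * p') := by
    calc p⁻¹ * p' * t = p⁻¹ * (p' * t * p'⁻¹) * p' := by group
      _ = _ := by rw [← e]; group
  obtain ⟨ε, hε, c, hc, e1⟩ := h.toEmb.cY hU (h.norm_of h1) (mul_mem (inv_mem hp) hp')
  rw [e1] at h1
  obtain ⟨o, ho, ot, od, e2⟩ := h.dec h2 (h.toEmb.Y_le_L (h.toEmb.R_le_Y (h.toEmb.E_le_R hU hε))) hc h1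
  have e3 : p' = p * ε * c := by rw [mul_assoc, ← e1]; group
  refine ⟨ε, hε, o, ho, ot, od, ?_⟩
  rcases e2 with rfl | rfl
  exacts [Or.inl e3, Or.inr e3]

theorem Mod.cac_ti1 (h : Mod C) (e : V) : TI P (span F {e}) :=
  Submodule.span_le.2 (by
    rintro _ rfl
    exact h.mem_perp_span.2 (by rintro _ rfl; exact h.B_self _))

theorem Mod.cac_ti2 (h : Mod C) {e a : V} (k : P.B e a = 0) : TI P (span F {e, a}) :=
  Submodule.span_le.2 (by
    rintro _ (rfl | rfl) <;> refine h.mem_perp_span.2 ?_ <;> rintro _ (rfl | rfl)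
    · exact h.B_self _
    · rw [h.B_comm]; exact k
    · exact k
    · exact h.B_self _)

namespace HW

variable {w : V → V → G} {κ δ : F} (h : HW C φ t w κ δ)
include h

theorem cac_w0 (e : V) : w e 0 = 1 := by
  have := h.add e 0 0 (map_zero _) (map_zero _) (map_zero _)
  rw [add_zero] at this
  exact left_eq_mul.1 this

theorem cac_w0' (a : V) : w 0 a = 1 := by
  have := h.smul a a 0 (h.toMod.B_self a)
  rw [zero_smul] at this
  rw [this, h.cac_w0]

theorem cac_wτ {e a p b : V} (k : P.B e a = 0) (k0 : P.B p b = 0) (k1 : P.B e p = 0) (k2 : P.B a p = 0)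
    (k3 : P.B e b = 0) (k4 : P.B a b = 0) (c : F) : Commute (w e a) (τ C φ p b c) :=
  ((h.mv e a k).cY _ (h.toEmb.τ_mem_Y k0 (h.toMod.mem_perp_span.2 (by rintro _ (rfl | rfl); exacts [k1, k2]))
    (h.toMod.mem_perp_span.2 (by rintro _ (rfl | rfl); exacts [k3, k4])) c)).symm

theorem cac_wz {e a p : V} (k : P.B e a = 0) (k1 : P.B e p = 0) (k2 : P.B a p = 0) (c : F) :
    Commute (w e a) (z C φ p c) :=
  h.cac_wτ k (map_zero _) k1 k2 (map_zero _) (map_zero _) c

end HW

namespace HC1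

variable {w : V → V → G} {u : V → G} {δ ρ : F} (h : HC1 C φ t w u δ ρ)
include h

theorem cac_uτ {e p b : V} (k0 : P.B p b = 0) (k1 : P.B e p = 0) (k2 : P.B e b = 0) (c : F) :
    Commute (u e) (τ C φ p b c) :=
  ((h.umv e).cY _ (h.toEmb.τ_mem_Y k0 (h.toMod.mem_perp_span.2 (by rintro _ rfl; exact k1))
    (h.toMod.mem_perp_span.2 (by rintro _ rfl; exact k2)) c)).symm

theorem cac_uz {e p : V} (k1 : P.B e p = 0) (c : F) : Commute (u e) (z C φ p c) :=
  h.cac_uτ (map_zero _) k1 (map_zero _) c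

theorem cac_cY {U : Submodule F V} {p : V} (hp : p ∈ U) : u p ∈ centralizer (Yg C φ U : Set G) :=
  fun g hg => (h.umv p).cY g (h.toEmb.Y_anti ((Submodule.span_singleton_le_iff_mem _ _).2 hp) hg)

theorem cac_base {e a : V} (k : Ln P e a) : ρ = 1 ∧ ∃ r ρ' : F,
    u (e + a) = u e * u a * w e a * z C φ e r * x C φ e (ρ' • a) := by
  have hM : Mod C := h.toMod
  have hE : Emb C φ := h.toEmb
  have kea := k.perp
  have kae : P.B a e = 0 := by rw [hM.B_comm]; exact kea
  have kee := hM.B_self e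
  have kaa := hM.B_self a
  have hU := hM.cac_ti2 kea
  have me : e ∈ span F ({e, a} : Set V) := Submodule.subset_span (by simp)
  have ma : a ∈ span F ({e, a} : Set V) := Submodule.subset_span (by simp)
  have hW := h.mv e a kea
  have pt : u e * u a * w e a * t * (u e * u a * w e a)⁻¹ = u (e + a) * t * (u (e + a))⁻¹ := by
    have c1 : Commute (u a) (x C φ e a) := h.cac_uτ kea kae kaa 0
    have c2 : Commute (u e) (z C φ a 1 * x C φ e a) := (h.cac_uz kea 1).mul_right (h.cac_uτ kea kee kea 0)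
    calc _ = u e * (u a * (w e a * t * (w e a)⁻¹) * (u a)⁻¹) * (u e)⁻¹ := by group
      _ = u e * (u a * t * (u a)⁻¹ * (u a * x C φ e a * (u a)⁻¹)) * (u e)⁻¹ := by rw [hW.pt]; group
      _ = u e * t * (u e)⁻¹ * (u e * (z C φ a 1 * x C φ e a) * (u e)⁻¹) := by
        rw [(h.umv a).pt, c1.mul_inv_cancel]; group
      _ = _ := by rw [(h.umv e).pt, c2.mul_inv_cancel, (h.umv _).pt, hE.z_line kea, one_smul]; group
  obtain ⟨ε, hε, o, ho, ot, od, hD⟩ := h.toSit.cac_uniq h.two' hU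
    (mul_mem (mul_mem (h.cac_cY me) (h.cac_cY ma)) hW.cY) (h.cac_cY (add_mem me ma)) pt
  have Wε : Commute (w e a) ε := (hW.cY _ (hE.R_le_Y (hE.E_le_R hU hε))).symm
  have Wo : Commute (w e a) o := hW.co o ho ot od
  have εL : ε ∈ φ.range := hE.Y_le_L (hE.R_le_Y (hE.E_le_R hU hε))
  rcases hD with hD | hD
  swap
  · exfalso
    have c1 : Commute (w e a) (u (e + a)) :=
      (h.uw _ e a (by rw [map_add, LinearMap.add_apply, kee, kae, add_zero])
        (by rw [map_add, LinearMap.add_apply, kea, kaa, add_zero]) kea).symm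
    have c2 : Commute (w e a) (u e * u a * w e a * ε) :=
      (((h.uw e e a kee kea kea).symm.mul_right (h.uw a e a kae kaa kea).symm).mul_right
        (Commute.refl _)).mul_right Wε
    have c3 : Commute (w e a) ((u e * u a * w e a * ε)⁻¹ * u (e + a) * o⁻¹) :=
      (c2.inv_right.mul_right c1).mul_right Wo.inv_right
    rw [show (u e * u a * w e a * ε)⁻¹ * u (e + a) * o⁻¹ = t by rw [hD]; group] at c3
    have c4 := hW.pt
    rw [c3.mul_inv_cancel, left_eq_mul, ← one_smul F a, hE.x_eq_one k] at c4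
    exact one_ne_zero c4
  obtain ⟨f, c, hh⟩ := hM.hh_of_ln k
  have kec : P.B e c = 0 := hh.ef
  have kca : P.B c a = 1 := by rw [hM.B_comm]; exact hM.hp_iff.1 hh.h₂
  have kce : P.B c e = 0 := by rw [hM.B_comm]; exact kec
  have le : C.act (C.T e c 0) e = e := by rw [hM.x_app kec, kce, kee, zero_smul, zero_smul, add_zero, add_zero]
  have la : C.act (C.T e c 0) a = a + e := by rw [hM.x_app kec, kca, kea, one_smul, zero_smul, add_zero]
  obtain ⟨r, v, r', rfl⟩ := (hE.mem_El k).1 hε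
  have kv : ∀ v : F, P.B e (v • a) = 0 := fun v => by rw [map_smul, kea, smul_zero]
  have x1 : φ (C.T e c 0) * u (e + a) * (φ (C.T e c 0))⁻¹ = u a := by
    rw [h.ueqv, map_add, le, la, add_comm a e, ← add_assoc, hM.vadd_self, zero_add]
  have x2 : φ (C.T e c 0) * u e * (φ (C.T e c 0))⁻¹ = u e := by rw [h.ueqv, le]
  have x3 : φ (C.T e c 0) * u a * (φ (C.T e c 0))⁻¹ = u (e + a) := by rw [h.ueqv, la, add_comm]
  have x4 : φ (C.T e c 0) * w e a * (φ (C.T e c 0))⁻¹ = w e a * z C φ e 1 := by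
    rw [h.eqv _ _ _ kea, le, la]
    simpa using h.shift e a 1 kea
  have x5 : φ (C.T e c 0) * (z C φ e r * x C φ e (v • a) * z C φ a r') * (φ (C.T e c 0))⁻¹ =
      z C φ e r * x C φ e (v • a) * z C φ a r' * (z C φ e r' * x C φ e (r' • a)) := by
    have y1 := hE.z_conj (C.T e c 0) e r
    have y2 := hE.x_conj (C.T e c 0) (kv v)
    have y3 := hE.z_conj (C.T e c 0) a r'
    rw [le] at y1
    rw [le, map_smul, la, smul_add, hE.x_shift (kv v)] at y2
    rw [la, add_comm a e, hE.z_line kea, (hE.z_comm kea r' r').eq] at y3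
    calc _ = (φ (C.T e c 0) * z C φ e r * (φ (C.T e c 0))⁻¹) * (φ (C.T e c 0) * x C φ e (v • a) *
          (φ (C.T e c 0))⁻¹) * (φ (C.T e c 0) * z C φ a r' * (φ (C.T e c 0))⁻¹) := by group
      _ = _ := by rw [y1, y2, y3]; group
  have x6 : φ (C.T e c 0) * o * (φ (C.T e c 0))⁻¹ = o := Commute.mul_inv_cancel (ho _ ⟨_, rfl⟩)
  have ζE : z C φ e r' * x C φ e (r' • a) ∈ φ.range := mul_mem ⟨_, rfl⟩ ⟨_, rfl⟩
  have z1E : z C φ e 1 ∈ Yg C φ (span F {e, a}) := hE.R_le_Y (hE.E_le_R hU (hE.τ_mem_E hU me (zero_mem _) 1))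
  generalize hεd : z C φ e r * x C φ e (v • a) * z C φ a r' = ε at *
  generalize hζd : z C φ e r' * x C φ e (r' • a) = ζ at *
  have εo : Commute ε o := ho _ εL
  have εz : Commute ε (z C φ e 1) := (hE.E_cent hU hε _ z1E).symm
  have oz : Commute o (z C φ e 1 * ζ) := (ho _ (mul_mem ⟨_, rfl⟩ ζE)).symm
  have key : u a = u a * (z C φ e ρ * z C φ e 1 * ζ * (o * o)) := by
    calc u a = φ (C.T e c 0) * u (e + a) * (φ (C.T e c 0))⁻¹ := x1.symm
      _ = (φ (C.T e c 0) * u e * (φ (C.T e c 0))⁻¹) * (φ (C.T e c 0) * u a * (φ (C.T e c 0))⁻¹) *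
          (φ (C.T e c 0) * w e a * (φ (C.T e c 0))⁻¹) * (φ (C.T e c 0) * ε * (φ (C.T e c 0))⁻¹) *
          (φ (C.T e c 0) * o * (φ (C.T e c 0))⁻¹) := by rw [hD]; group
      _ = u e * (u e * u a * w e a * ε * o) * (w e a * z C φ e 1) * (ε * ζ) * o := by
        rw [x2, x3, x4, x5, x6, ← hD]
      _ = u e * u e * u a * (w e a * (ε * o) * w e a * z C φ e 1 * ε * ζ * o) := by simp only [mul_assoc]
      _ = z C φ e ρ * u a * (ε * (o * z C φ e 1) * ε * ζ * o) := by
        rw [h.usq, cac_sand (Wε.mul_right Wo) (h.sq e a kea)]; simp only [mul_assoc]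
      _ = z C φ e ρ * u a * (o * (z C φ e 1 * ζ) * o) := by
        rw [cac_sand (εo.mul_right εz) (hE.E_sq hU hε)]; simp only [mul_assoc]
      _ = _ := by rw [oz.eq, ← (h.cac_uz kae ρ).eq]; simp only [mul_assoc]
  rw [left_eq_mul] at key
  have o1 : o = 1 := by
    refine hE.cac_odd ho od ?_
    rw [eq_inv_of_mul_eq_one_right key]
    exact inv_mem (mul_mem (mul_mem ⟨_, rfl⟩ ⟨_, rfl⟩) ζE)
  subst o1
  rw [mul_one, mul_one, ← hζd, ← mul_assoc, ← hE.z_add, ← hE.z_add] at key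
  obtain ⟨e1, e2, -⟩ := hE.line_inj k (r := ρ + 1 + r') (v := r') (r' := 0) (s := 0) (u := 0) (s' := 0)
    (by rw [key, zero_smul, hE.x_zero, hE.z_zero e, one_mul, one_mul, one_mul])
  subst e2
  refine ⟨hM.eq_of_add (by rwa [add_zero] at e1), r, v, ?_⟩
  rw [hD, ← hεd, hE.z_zero]; simp only [mul_assoc, mul_one]

theorem line0 : ρ = 1 ∧ ∃ r ρ' : F, ∀ e a, Ln P e a →
    u (e + a) = u e * u a * w e a * z C φ e r * x C φ e (ρ' • a) := by
  have hM : Mod C := h.toMod
  have hE : Emb C φ := h.toEmb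
  obtain ⟨e₀, h0⟩ := hM.g2_ne
  obtain ⟨a₀, k₀⟩ := hM.exists_ln h0
  obtain ⟨e1, r, ρ', H⟩ := h.cac_base k₀
  refine ⟨e1, r, ρ', fun e a k => ?_⟩
  obtain ⟨s, rfl, rfl⟩ := hM.trans_ln k₀ k
  rw [← map_add, ← h.ueqv, ← h.ueqv, ← h.ueqv, ← h.eqv _ _ _ k₀.perp, ← hE.z_conj, ← map_smul,
    ← hE.x_conj _ (by rw [map_smul, k₀.perp, smul_zero]), H]
  group

theorem line1 : ∃ ρ' : F, ∀ e a, Ln P e a → u e * u a = u a * u e * x C φ e a ∧
    u (e + a) = u e * u a * w e a * x C φ e (ρ' • a) := by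
  have hM : Mod C := h.toMod
  have hE : Emb C φ := h.toEmb
  obtain ⟨rfl, r, ρ', H⟩ := h.line0
  refine ⟨ρ', fun e a k => ?_⟩
  have kea := k.perp
  have kae : P.B a e = 0 := by rw [hM.B_comm]; exact kea
  have kee := hM.B_self e
  have kaa := hM.B_self a
  have kv : ∀ v : F, P.B e (v • a) = 0 := fun v => by rw [map_smul, kea, smul_zero]
  have kv' : ∀ v : F, P.B a (v • a) = 0 := fun v => by rw [map_smul, kaa, smul_zero]
  have h1 := H e a k
  have h2 := H a e (hM.ln_symm k)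
  rw [add_comm a e, h.symm e a kea, hE.x_symm (e := a) (by rw [map_smul, kae, smul_zero]),
    hE.x_smul kea, h1, mul_left_inj] at h2
  have Wz : Commute (w e a) (z C φ e r) := h.cac_wz kea kee kae r
  have Wz' : Commute (w e a) (z C φ a r) := h.cac_wz kea kea kaa r
  have Wx : ∀ v : F, Commute (w e a) (x C φ e (v • a)) := fun v =>
    h.cac_wτ kea (kv v) kee kae (kv v) (kv' v) 0
  have zx : ∀ c v : F, Commute (z C φ e c) (x C φ e (v • a)) := fun c v => hE.τ_comm (map_zero _) (kv v) c 0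
  have zx' : Commute (z C φ a r) (x C φ e ((1 : F) • a)) := by
    rw [one_smul, hE.x_symm kea]; exact hE.τ_comm (map_zero _) kae r 0
  have zz := hE.z_comm kea r r
  have h3 : u e * u a * z C φ e r = u a * u e * (x C φ e ((1 : F) • a) * z C φ a r) := by
    apply mul_right_cancel (b := w e a)
    calc _ = u e * u a * w e a * z C φ e r := by rw [mul_assoc, ← Wz.eq, ← mul_assoc]
      _ = u a * u e * (w e a * (x C φ e ((1 : F) • a) * z C φ a r)) := by rw [h2]; simp only [mul_assoc]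
      _ = _ := by rw [((Wx 1).mul_right Wz').eq]; simp only [mul_assoc]
  have h4 : u a * u e = u e * u a * (z C φ e r * x C φ e ((1 : F) • a) * z C φ a r) := by
    rw [mul_assoc (z C φ e r), ← mul_assoc, h3, mul_assoc (u a * u e), ← mul_assoc (_ * z C φ a r),
      cac_sand zx'.symm (hE.x_sq (kv 1)), hE.z_sq, mul_one]
  have M2' : w e a * z C φ e r * x C φ e (ρ' • a) * (w e a * z C φ e r * x C φ e (ρ' • a)) = 1 := by
    calc _ = w e a * (z C φ e r * x C φ e (ρ' • a)) * w e a * z C φ e r * x C φ e (ρ' • a) := by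
          simp only [mul_assoc]
      _ = 1 := by
        rw [cac_sand (Wz.mul_right (Wx ρ')) (h.sq e a kea), cac_sand (zx r ρ') (hE.z_sq e r), hE.x_sq (kv ρ')]
  have MA : Commute (w e a * z C φ e r * x C φ e (ρ' • a)) (u e * u a) := by
    refine (Commute.mul_left ?_ ?_).symm
    · exact ((h.uw e e a kee kea kea).mul_right (h.cac_uz kee r)).mul_right (h.cac_uτ (kv ρ') kee (kv ρ') 0)
    · exact ((h.uw a e a kae kaa kea).mul_right (h.cac_uz kae r)).mul_right (h.cac_uτ (kv ρ') kae (kv' ρ') 0)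
  have BN : Commute (u a) (z C φ e r * x C φ e ((1 : F) • a) * z C φ a r) :=
    ((h.cac_uz kae r).mul_right (h.cac_uτ (kv 1) kae (kv' 1) 0)).mul_right (h.cac_uz kaa r)
  have h5 : z C φ e 1 * z C φ a 1 * x C φ e ((1 : F) • a) =
      z C φ e 1 * z C φ a 1 * (z C φ e r * x C φ e ((1 : F) • a) * z C φ a r) := by
    calc _ = u (e + a) * u (e + a) := by rw [h.usq, hE.z_line kea]
      _ = u e * u a * (w e a * z C φ e r * x C φ e (ρ' • a) * (u e * u a) *
          (w e a * z C φ e r * x C φ e (ρ' • a))) := by rw [h1]; simp only [mul_assoc]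
      _ = u e * (u a * u e) * u a := by rw [cac_sand MA M2']; simp only [mul_assoc]
      _ = u e * u e * (u a * ((z C φ e r * x C φ e ((1 : F) • a) * z C φ a r) * u a)) := by
        rw [h4]; simp only [mul_assoc]
      _ = _ := by rw [← BN.eq, ← mul_assoc (u a), h.usq, h.usq]; simp only [mul_assoc]
  rw [mul_right_inj] at h5
  obtain ⟨e1, -, -⟩ := hE.line_inj k (r := r) (v := 1) (r' := r) (s := 0) (u := 1) (s' := 0)
    (by rw [← h5, hE.z_zero, hE.z_zero, one_mul, mul_one])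
  subst e1
  rw [hE.z_zero, hE.z_zero, mul_one, mul_one, one_smul] at h3
  rw [hE.z_zero, mul_one] at h1
  exact ⟨h3, h1⟩

theorem hc : ∃ u', HC C φ t w u' δ := by
  have hM : Mod C := h.toMod
  have hE : Emb C φ := h.toEmb
  obtain ⟨rfl, -⟩ := h.line0
  obtain ⟨ρ', H⟩ := h.line1
  have mv : ∀ e, Mv φ.range (Yg C φ (span F {e})) t (z C φ e 1) (u e * z C φ e ρ') := by
    intro e
    refine ⟨mul_mem (h.umv e).cY (hE.E_cent (hM.cac_ti1 e) (hE.mem_Z.2 ⟨_, rfl⟩)), ?_,
      (h.umv e).co.mul (HX.CO.of_mem ⟨_, rfl⟩)⟩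
    have : Commute (z C φ e ρ') t := h.toSit.tl _
    rw [← (h.umv e).pt]
    calc _ = u e * (z C φ e ρ' * t * (z C φ e ρ')⁻¹) * (u e)⁻¹ := by group
      _ = _ := by rw [this.mul_inv_cancel]
  have sq : ∀ e, u e * z C φ e ρ' * (u e * z C φ e ρ') = z C φ e 1 := by
    intro e
    rw [mul_assoc, ← mul_assoc (z C φ e ρ'), cac_sand (h.cac_uz (hM.B_self e) ρ').symm (hE.z_sq e ρ'), h.usq]
  have eqv : ∀ l e, φ l * (u e * z C φ e ρ') * (φ l)⁻¹ = u (C.act l e) * z C φ (C.act l e) ρ' := by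
    intro l e
    rw [← h.ueqv, ← hE.z_conj]; group
  have zero : u 0 * z C φ 0 ρ' = 1 := by rw [h.zero, hE.z_zero', mul_one]
  have ln : ∀ e a, Ln P e a → u (e + a) * z C φ (e + a) ρ' =
      u e * z C φ e ρ' * (u a * z C φ a ρ') * w e a := by
    intro e a k
    have kea := k.perp
    have kae : P.B a e = 0 := by rw [hM.B_comm]; exact kea
    have kv : P.B e (ρ' • a) = 0 := by rw [map_smul, kea, smul_zero]
    have c1 : Commute (x C φ e (ρ' • a)) (z C φ e ρ' * z C φ a ρ') := by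
      refine Commute.mul_right (hE.τ_comm kv (map_zero _) 0 ρ') ?_
      rw [← hE.x_smul kea, hE.x_symm (by rw [hM.B_smul_left, kea, mul_zero])]
      exact hE.τ_comm (by rw [map_smul, kae, smul_zero]) (map_zero _) 0 ρ'
    have c2 : Commute (w e a) (z C φ e ρ' * z C φ a ρ') :=
      (h.cac_wz kea (hM.B_self e) kae ρ').mul_right (h.cac_wz kea kea (hM.B_self a) ρ')
    calc _ = u e * u a * (w e a * (x C φ e (ρ' • a) * (z C φ e ρ' * z C φ a ρ') * x C φ e (ρ' • a))) := by
          rw [(H e a k).2, hE.z_line kea]; simp only [mul_assoc]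
      _ = u e * (u a * z C φ e ρ') * z C φ a ρ' * w e a := by
        rw [cac_sand c1 (hE.x_sq kv), c2.eq]; simp only [mul_assoc]
      _ = _ := by rw [(h.cac_uz kae ρ').eq]; simp only [mul_assoc]
  have cz : ∀ e p c, P.B e p = 0 → Commute (u e * z C φ e ρ') (z C φ p c) := fun e p c k =>
    (h.cac_uz k c).mul_left (hE.z_comm k _ _)
  generalize hu' : (fun e => u e * z C φ e ρ') = u'
  have du : ∀ e, u e * z C φ e ρ' = u' e := fun e => congrFun hu' e
  simp only [du] at mv sq eqv zero ln cz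
  refine ⟨u', h.toHW, mv, sq, eqv, fun e a k => ?_, fun e a b k1 k2 k3 => ?_, fun g α γ hg k => ?_⟩
  · by_cases h0 : e = 0
    · subst h0; rw [zero_add, zero, h.cac_w0', one_mul, mul_one]
    by_cases h1 : a ∉ span F {e}
    · exact ln e a ⟨h0, h1, k⟩
    push Not at h1
    obtain ⟨l, rfl⟩ := Submodule.mem_span_singleton.1 h1
    obtain ⟨a, k₀⟩ := hM.exists_ln h0
    have kea := k₀.perp
    have kae : P.B a e = 0 := by rw [hM.B_comm]; exact kea
    have kee := hM.B_self e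
    have kaa := hM.B_self a
    have kv : ∀ v : F, P.B e (v • a) = 0 := fun v => by rw [map_smul, kea, smul_zero]
    have nμ : ∀ μ : F, u' (μ • e + a) = u' (μ • e) * u' a * w e (μ • a) := by
      intro μ
      rw [← h.smul e a μ kea]
      by_cases hμ : μ = 0
      · subst hμ; rw [zero_smul, zero_add, zero, h.cac_w0', one_mul, mul_one]
      · exact ln _ _ (by simpa using hM.ln_smul k₀ hμ one_ne_zero 0)
    obtain ⟨f, c, hh⟩ := hM.hh_of_ln k₀
    have kec : P.B e (l • c) = 0 := by rw [map_smul, hh.ef, smul_zero]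
    have kca : P.B (l • c) a = l := by rw [hM.B_smul_left, hM.B_comm, hM.hp_iff.1 hh.h₂, mul_one]
    have kce : P.B (l • c) e = 0 := by rw [hM.B_comm]; exact kec
    have le : C.act (C.T e (l • c) 0) e = e := by
      rw [hM.x_app kec, kce, kee, zero_smul, zero_smul, add_zero, add_zero]
    have la : C.act (C.T e (l • c) 0) a = a + l • e := by rw [hM.x_app kec, kca, kea, zero_smul, add_zero]
    have h2 : u' (e + (a + l • e)) = u' e * u' (a + l • e) * w e (a + l • e) := by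
      have y1 := eqv (C.T e (l • c) 0) (e + a)
      have y2 := eqv (C.T e (l • c) 0) e
      have y3 := eqv (C.T e (l • c) 0) a
      have y4 := h.eqv (C.T e (l • c) 0) e a kea
      rw [map_add, le, la] at y1
      rw [le] at y2
      rw [la] at y3
      rw [le, la] at y4
      rw [← y1, ← y3, ← y4, ln e a k₀]
      nth_rewrite 2 [← y2]
      group
    rw [show e + (a + l • e) = (l + 1) • e + a by module, nμ, h.shift e a l kea, add_comm a, nμ, one_mul,
      add_smul l 1 a, one_smul, h.add e (l • a) a (kv l) kea (by rw [hM.B_smul_left, kaa, mul_zero])] at h2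
    have h3 := h.shift e 0 l (map_zero _)
    rw [zero_add, h.cac_w0, one_mul, one_mul] at h3
    have c1 : Commute (z C φ e l) (u' a * (w e (l • a) * w e a)) :=
      (cz a e l kae).symm.mul_right (((h.cac_wz (kv l) kee (by rw [hM.B_smul_left, kae, mul_zero]) l).mul_left
        (h.cac_wz kea kee kae l)).symm)
    rw [h3, show e + l • e = (l + 1) • e by module]
    apply mul_right_cancel (b := u' a * (w e (l • a) * w e a))
    rw [← mul_assoc, h2, mul_assoc _ (z C φ e l), c1.eq]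
    simp only [mul_assoc]
  · rw [← du]
    exact (h.uw e a b k1 k2 k3).mul_left
      (h.cac_wz k3 (by rw [hM.B_comm]; exact k1) (by rw [hM.B_comm]; exact k2) ρ').symm
  · obtain ⟨e₀, h0⟩ := hM.g2_ne
    have h0' : γ e₀ ≠ 0 := fun e => h0 (γ.injective (e.trans (map_zero γ).symm))
    have z1 : g * z C φ e₀ 1 * g⁻¹ = z C φ (γ e₀) 1 := by rw [hE.act_z k, map_one]
    have gt : g * t * g⁻¹ = t := Commute.mul_inv_cancel hg
    have gt' : g⁻¹ * t * g = t := by rw [mul_assoc, ← hg, ← mul_assoc, inv_mul_cancel, one_mul]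
    have pt : u' (γ e₀) * t * (u' (γ e₀))⁻¹ = g * u' e₀ * g⁻¹ * t * (g * u' e₀ * g⁻¹)⁻¹ := by
      calc _ = g * t * g⁻¹ * (g * z C φ e₀ 1 * g⁻¹) := by rw [(mv _).pt, gt, z1]
        _ = g * (t * z C φ e₀ 1) * g⁻¹ := by group
        _ = g * (u' e₀ * (g⁻¹ * t * g) * (u' e₀)⁻¹) * g⁻¹ := by rw [gt', (mv _).pt]
        _ = _ := by group
    obtain ⟨ε, hε, o, ho, ot, od, hD⟩ := h.toSit.cac_uniq h.two' (hM.cac_ti1 (γ e₀)) (mv _).cY
      (hE.cac_cY k (mv e₀).cY) pt
    obtain ⟨μ, rfl⟩ := hE.mem_Z.1 hε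
    have s1 : g * u' e₀ * g⁻¹ * (g * u' e₀ * g⁻¹) = z C φ (γ e₀) 1 := by rw [← z1, ← sq]; group
    have uz := cz (γ e₀) (γ e₀) μ (hM.B_self _)
    have uo : Commute (u' (γ e₀)) o := (mv _).co o ho ot od
    have zo : ∀ c, Commute (z C φ (γ e₀) c) o := fun c => ho _ ⟨_, rfl⟩
    have s2 : u' (γ e₀) * z C φ (γ e₀) μ * (u' (γ e₀) * z C φ (γ e₀) μ) = z C φ (γ e₀) 1 := by
      rw [mul_assoc, ← mul_assoc (z C φ _ μ), cac_sand uz.symm (hE.z_sq _ _), sq]
    have hD' : g * u' e₀ * g⁻¹ = u' (γ e₀) * z C φ (γ e₀) μ := by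
      have po : Commute (u' (γ e₀) * z C φ (γ e₀) μ) o := uo.mul_left (zo μ)
      have pt' : u' (γ e₀) * z C φ (γ e₀) μ * t * (u' (γ e₀) * z C φ (γ e₀) μ)⁻¹ = t * z C φ (γ e₀) 1 := by
        have : Commute (z C φ (γ e₀) μ) t := h.toSit.tl _
        rw [← (mv _).pt]
        calc _ = u' (γ e₀) * (z C φ (γ e₀) μ * t * (z C φ (γ e₀) μ)⁻¹) * (u' (γ e₀))⁻¹ := by group
          _ = _ := by rw [this.mul_inv_cancel]
      generalize u' (γ e₀) * z C φ (γ e₀) μ = p at hD s2 po pt'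
      rcases hD with hD | hD
      · have o1 : o = 1 := by
          refine hE.cac_odd ho od ?_
          rw [hD, mul_assoc, ← mul_assoc o, ← po.eq, mul_assoc, ← mul_assoc, s2, mul_eq_left] at s1
          rw [s1]; exact one_mem _
        rw [hD, o1, mul_one]
      · exfalso
        have e1 : o * o = z C φ (γ e₀) 1 := by
          have ot' : Commute o t := ot
          calc o * o = t * (z C φ (γ e₀) 1 * z C φ (γ e₀) 1) * t * (o * o) := by
                rw [hE.z_sq, mul_one, h.t2, one_mul]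
            _ = p * t * p⁻¹ * (p * p) * t * (o * o) := by rw [pt', s2]; simp only [mul_assoc]
            _ = p * t * ((p * t) * o) * o := by group
            _ = p * (t * o) * (p * (t * o)) := by rw [(po.mul_left ot'.symm).eq]; simp only [mul_assoc]
            _ = _ := by rw [← hD, s1]
        have o1 := hE.cac_odd ho od (e1 ▸ ⟨_, rfl⟩)
        rw [o1, mul_one, eq_comm, hE.z_eq_one] at e1
        exact e1.elim h0' one_ne_zero
    refine ⟨μ, fun e => ?_⟩
    by_cases he : e = 0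
    · subst he; rw [map_zero, zero, hE.z_zero', mul_one, mul_one, mul_inv_cancel]
    obtain ⟨s, rfl⟩ := hM.trans h0 he
    obtain ⟨s', hs⟩ := hM.exists_conj k.toSI s
    rw [← hs, ← eqv, ← eqv, ← hE.z_conj, ← k.conj s s' hs]
    calc _ = g * φ s * g⁻¹ * (g * u' e₀ * g⁻¹) * (g * φ s * g⁻¹)⁻¹ := by group
      _ = _ := by rw [hD']; group

end HC1

end CfsgLib.SP4
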