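import Cfsg.Agent.Lib.SP4.TorA

/-! The stabilisers of short root elements -/

set_option autoImplicit false
set_option linter.unusedSectionVars false

namespace CfsgLib.SP4

open Subgroup Module CfsgLib.Forms CfsgLib.LieMult
open CfsgLib.HX (Std CO Two Mv M2)
open CfsgLib.UN (AV SI TI HH Rad Stb Yg Rg Eg Act nu)
open CfsgLib.ClSys (II)
open Submodule (span)
open scoped commutatorElement Pointwise

universe u

variable {F : Type} [Field F] [Finite F] {V : Type} [AddCommGroup V] [Module F V]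
  [FiniteDimensional F V] {P : PQ (RingHom.id F) V} {S : Type} [Group S] [Finite S] {G : Type u}
  [Group G] [Finite G] {C : CG P S} {φ : S →* G} {t : G}

theorem tor_span1 {α : RingAut F} {γ : AV V} (k : SI P α γ) (e v : V) :
    γ v ∈ span F {γ e} ↔ v ∈ span F {e} := by
  rw [Submodule.mem_span_singleton, Submodule.mem_span_singleton]
  refine ⟨fun ⟨c, hc⟩ => ⟨α.symm c, γ.injective ?_⟩, fun ⟨c, hc⟩ => ⟨α c, ?_⟩⟩
  · rw [k.semi, RingEquiv.apply_symm_apply, hc]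
  · rw [← k.semi, hc]

theorem tor_span2 {α : RingAut F} {γ : AV V} (k : SI P α γ) (e a v : V) :
    γ v ∈ span F {γ e, γ a} ↔ v ∈ span F {e, a} := by
  rw [Submodule.mem_span_pair, Submodule.mem_span_pair]
  refine ⟨fun ⟨c, d, hc⟩ => ⟨α.symm c, α.symm d, γ.injective ?_⟩,
    fun ⟨c, d, hc⟩ => ⟨α c, α d, ?_⟩⟩
  · rw [map_add, k.semi, k.semi, RingEquiv.apply_symm_apply, RingEquiv.apply_symm_apply, hc]
  · rw [← k.semi, ← k.semi, ← map_add, hc]

theorem tor_perp {α : RingAut F} {γ : AV V} (k : SI P α γ) {U W : Submodule F V}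
    (hU : ∀ v, γ v ∈ W ↔ v ∈ U) (v : V) : γ v ∈ P.perp W ↔ v ∈ P.perp U := by
  refine ⟨fun h w hw => α.injective ?_, fun h w hw => ?_⟩
  · rw [← k.B_eq, h _ ((hU w).2 hw), map_zero]
  · obtain ⟨w, rfl⟩ := γ.surjective w
    rw [k.B_eq, h w ((hU w).1 hw), map_zero]

theorem tor_fix {γ : AV V} {U W : Submodule F V} (hU : ∀ v, γ v ∈ W ↔ v ∈ U) {s s' : S}
    (e : ∀ v, C.act s' (γ v) = γ (C.act s v)) : s' ∈ C.fixG W ↔ s ∈ C.fixG U := by
  rw [C.mem_fixG, C.mem_fixG]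
  refine ⟨fun hs v hv => γ.injective ?_, fun hs v hv => ?_⟩
  · rw [← e, hs _ ((hU v).2 hv)]
  · obtain ⟨v, rfl⟩ := γ.surjective v
    rw [e, hs v ((hU v).1 hv)]

theorem tor_rad {α : RingAut F} {γ : AV V} (k : SI P α γ) {U W : Submodule F V}
    (hU : ∀ v, γ v ∈ W ↔ v ∈ U) {s s' : S} (e : ∀ v, C.act s' (γ v) = γ (C.act s v)) :
    s' ∈ Rad C W ↔ s ∈ Rad C U := by
  refine and_congr (tor_fix hU e) ⟨fun hs v hv => ?_, fun hs v hv => ?_⟩
  · have := hs _ ((tor_perp k hU v).2 hv)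
    rwa [e, ← map_sub, hU] at this
  · obtain ⟨v, rfl⟩ := γ.surjective v
    rw [e, ← map_sub, hU]
    exact hs v ((tor_perp k hU v).1 hv)

theorem tor_cent {A B : Subgroup G} {g y : G} (H : ∀ y, g * y * g⁻¹ ∈ A ↔ y ∈ B) :
    g * y * g⁻¹ ∈ centralizer (A : Set G) ↔ y ∈ centralizer (B : Set G) := by
  refine ⟨fun hy b hb => ?_, fun hy b hb => ?_⟩
  · have := hy _ ((H b).2 hb)
    calc b * y = g⁻¹ * (g * b * g⁻¹ * (g * y * g⁻¹)) * g := by group
      _ = y * b := by rw [this]; group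
  · have := hy (g⁻¹ * b * g) ((H _).1 (by simpa [mul_assoc] using hb))
    calc b * (g * y * g⁻¹) = g * (g⁻¹ * b * g * y) * g⁻¹ := by group
      _ = g * y * g⁻¹ * b := by rw [this]; group

namespace Emb

variable (h : Emb C φ) {e f a f' : V} {g : G}
include h

theorem tor_map {α : RingAut F} {γ : AV V} (k : Act C φ g α γ) {A B : Subgroup S}
    (H : ∀ s s', (∀ v, C.act s' (γ v) = γ (C.act s v)) → (s' ∈ A ↔ s ∈ B)) (y : G) :
    g * y * g⁻¹ ∈ A.map φ ↔ y ∈ B.map φ := by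
  constructor
  · rintro ⟨s', hs', e1⟩
    obtain ⟨s, rfl⟩ : y ∈ φ.range := (mem_normalizer_iff.1 (h.act_mem k) y).2 ⟨s', e1⟩
    obtain ⟨s'', e2⟩ := h.toMod.exists_conj k.toSI s
    have e3 : s'' = s' := h.inj ((k.conj s s'' e2).symm.trans e1.symm)
    exact ⟨s, (H s s'' e2).1 (e3 ▸ hs'), rfl⟩
  · rintro ⟨s, hs, rfl⟩
    obtain ⟨s', e2⟩ := h.toMod.exists_conj k.toSI s
    exact ⟨s', (H s s' e2).2 hs, (k.conj s s' e2).symm⟩

theorem tor_act {α : RingAut F} {γ : AV V} (k : Act C φ g α γ) {U W : Submodule F V}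
    (hU : ∀ v, γ v ∈ W ↔ v ∈ U) (y : G) :
    (g * y * g⁻¹ ∈ Yg C φ W ↔ y ∈ Yg C φ U) ∧ (g * y * g⁻¹ ∈ Rg C φ W ↔ y ∈ Rg C φ U) ∧
      (g * y * g⁻¹ ∈ Eg C φ W ↔ y ∈ Eg C φ U) :=
  ⟨h.tor_map k (fun _ _ e => tor_fix hU e) y, h.tor_map k (fun _ _ e => tor_rad k.toSI hU e) y,
    h.tor_map k (fun _ _ e => tor_fix (tor_perp k.toSI hU) e) y⟩

theorem tor_x_inj (k : Ln P e a) {v u : F} (e1 : x C φ e (v • a) = x C φ e (u • a)) : v = u :=
  (h.line_inj k (r := 0) (r' := 0) (s := 0) (s' := 0) (by rw [e1])).2.1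

theorem tor_mem (k : P.B e a = 0) {s : S} :
    φ s ∈ Yl C φ e a ↔ x C φ (C.act s e) (C.act s a) = x C φ e a := by
  rw [Yl, mem_inf, mem_centralizer_singleton_iff, ← h.x_conj s k, mul_inv_eq_iff_eq_mul]
  exact and_iff_right ⟨s, rfl⟩

theorem mem_Yl (k : Ln P e a) {s : S} : φ s ∈ Yl C φ e a ↔ ∃ α β γ δ : F, α * δ + β * γ = 1 ∧
    C.act s e = α • e + β • a ∧ C.act s a = γ • e + δ • a := by
  have hm := h.toMod
  rw [h.tor_mem k.perp]
  constructor
  · intro e1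
    have k' := hm.ln_act k s
    obtain ⟨p, p', hh⟩ := hm.hh_of_ln k'
    have e2 : C.T (C.act s e) (C.act s a) 0 = C.T e a 0 := h.inj e1
    have e3 : ∀ v, P.B (C.act s a) v • C.act s e + P.B (C.act s e) v • C.act s a =
        P.B a v • e + P.B e v • a := fun v => by
      have := hm.x_app k'.perp v
      rw [e2, hm.x_app k.perp, add_assoc, add_assoc] at this
      exact (add_left_cancel this).symm
    have e4 := e3 p
    have e5 := e3 p'
    rw [hm.B_comm _ p, hh.fe, hh.h₁.ef, zero_smul, one_smul, zero_add] at e4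
    rw [hh.h₂.ef, hh.ef, zero_smul, one_smul, add_zero] at e5
    refine ⟨_, _, _, _, ?_, e5, e4⟩
    have e6 := e1
    rw [e4, e5, h.loc_x k.perp] at e6
    have e7 := h.tor_x_inj k (e6.trans (by rw [one_smul]))
    rw [← e7]
    ring
  · rintro ⟨α, β, γ, δ, hd, e1, e2⟩
    rw [e1, e2, h.loc_x k.perp, mul_comm γ, hd, one_smul]

theorem tor_Yl_smul (k : Ln P e a) {d : F} (hd : d ≠ 0) : Yl C φ e (d • a) = Yl C φ e a := by
  have k' : Ln P e (d • a) := by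
    simpa using h.toMod.ln_smul k one_ne_zero hd 0
  ext y
  constructor
  · intro hy
    obtain ⟨s, rfl⟩ := hy.1
    obtain ⟨α, β, γ, δ, e0, e1, e2⟩ := (h.mem_Yl k').1 hy
    refine (h.mem_Yl k).2 ⟨α, β * d, d⁻¹ * γ, δ, ?_, by rw [e1, smul_smul], ?_⟩
    · rw [← e0]
      field_simp
    · rw [map_smul] at e2
      rw [← inv_smul_smul₀ hd (C.act s a), e2, smul_add, smul_smul, smul_comm δ d a,
        inv_smul_smul₀ hd]
  · intro hy
    obtain ⟨s, rfl⟩ := hy.1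
    obtain ⟨α, β, γ, δ, e0, e1, e2⟩ := (h.mem_Yl k).1 hy
    refine (h.mem_Yl k').2 ⟨α, β * d⁻¹, d * γ, δ, ?_, ?_, ?_⟩
    · rw [← e0]
      field_simp
    · rw [e1, smul_smul, mul_assoc, inv_mul_cancel₀ hd, mul_one]
    · rw [map_smul, e2, smul_add, smul_smul, smul_comm d δ a]

theorem tor_span {α β γ δ : F} (hd : α * δ + β * γ ≠ 0) :
    span F {α • e + β • a, γ • e + δ • a} = span F {e, a} := by
  have h2 := h.toMod.two
  refine le_antisymm (Submodule.span_le.2 ?_) (Submodule.span_le.2 ?_)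
  · rintro v (rfl | rfl)
    · exact Submodule.mem_span_pair.2 ⟨α, β, rfl⟩
    · exact Submodule.mem_span_pair.2 ⟨γ, δ, rfl⟩
  · intro v hv
    rcases hv with hv | hv
    · rw [hv]
      refine Submodule.mem_span_pair.2 ⟨(α * δ + β * γ)⁻¹ * δ, (α * δ + β * γ)⁻¹ * β, ?_⟩
      have e1 : (α * δ + β * γ)⁻¹ * δ * α + (α * δ + β * γ)⁻¹ * β * γ = 1 := by
        rw [← inv_mul_cancel₀ hd]; ring
      have e2 : (α * δ + β * γ)⁻¹ * δ * β + (α * δ + β * γ)⁻¹ * β * δ = 0 := by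
        linear_combination ((α * δ + β * γ)⁻¹ * β * δ) * h2
      linear_combination (norm := module) e1 • e + e2 • a
    · rw [Set.mem_singleton_iff.1 hv]
      refine Submodule.mem_span_pair.2 ⟨(α * δ + β * γ)⁻¹ * γ, (α * δ + β * γ)⁻¹ * α, ?_⟩
      have e1 : (α * δ + β * γ)⁻¹ * γ * β + (α * δ + β * γ)⁻¹ * α * δ = 1 := by
        rw [← inv_mul_cancel₀ hd]; ring
      have e2 : (α * δ + β * γ)⁻¹ * γ * α + (α * δ + β * γ)⁻¹ * α * γ = 0 := by
        linear_combination ((α * δ + β * γ)⁻¹ * α * γ) * h2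
      linear_combination (norm := module) e2 • e + e1 • a

theorem Yl_congr (k : Ln P e a) {α β γ δ : F} (hd : α * δ + β * γ ≠ 0) :
    Yl C φ (α • e + β • a) (γ • e + δ • a) = Yl C φ e a ∧
      Al C φ (α • e + β • a) (γ • e + δ • a) = Al C φ e a ∧
      span F {α • e + β • a, γ • e + δ • a} = span F {e, a} := by
  have e1 : Yl C φ (α • e + β • a) (γ • e + δ • a) = Yl C φ e a := by
    rw [← h.tor_Yl_smul k hd, Yl, Yl, h.loc_x k.perp, mul_comm γ]
  have e2 := h.tor_span (e := e) (a := a) hd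
  exact ⟨e1, by rw [Al, Al, e1, e2], e2⟩

theorem tor_x_mem (k : P.B e a = 0) (v : F) : x C φ e (v • a) ∈ Eg C φ (span F {e, a}) :=
  h.τ_mem_E (h.toMod.ti_pair k) (Submodule.subset_span (Or.inl rfl))
    (Submodule.smul_mem _ v (Submodule.subset_span (Or.inr rfl))) 0

theorem E_le_Yl (k : Ln P e a) : Eg C φ (span F {e, a}) ≤ Yl C φ e a := by
  have hU := h.toMod.ti_pair k.perp
  have hle : Eg C φ (span F {e, a}) ≤ Yg C φ (span F {e, a}) := (h.E_le_R hU).trans h.R_le_Y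
  have hx := h.tor_x_mem k.perp 1
  rw [one_smul] at hx
  intro y hy
  exact ⟨h.Y_le_L (hle hy), mem_centralizer_singleton_iff.2 (h.E_cent hU hy _ (hle hx)).symm⟩

theorem Yl_norm (k : Ln P e a) : Yl C φ e a ≤ normalizer (Eg C φ (span F {e, a}) : Set G) := by
  intro y hy
  obtain ⟨s, rfl⟩ := hy.1
  obtain ⟨α, β, γ, δ, e0, e1, e2⟩ := (h.mem_Yl k).1 hy
  have e3 : span F {C.act s e, C.act s a} = span F {e, a} := by
    rw [e1, e2]
    exact h.tor_span (by rw [e0]; exact one_ne_zero)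
  refine mem_normalizer_iff.2 fun y => (h.conj_Y s fun v => ?_).2.2.symm
  nth_rw 1 [← e3]
  exact tor_span2 (h.act_self s).toSI e a v

theorem mem_Al (k : Ln P e a) : g ∈ Al C φ e a ↔ ∃ v : F, g = x C φ e (v • a) := by
  have hm := h.toMod
  have kv : ∀ v : F, P.B e (v • a) = 0 := fun v => by rw [P.B_smul_right, k.perp, mul_zero]
  constructor
  · rintro ⟨h1, h2⟩
    obtain ⟨r, v, r', rfl⟩ := (h.mem_El k).1 h1
    obtain ⟨p, p', hh⟩ := hm.hh_of_ln k
    obtain ⟨l, l0, l1⟩ := hm.exists_big'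
    obtain ⟨s, -, e1, -, e2, -⟩ := hm.exists_diag hh l0 (inv_ne_zero l0)
    have hs : φ s ∈ Yl C φ e a := (h.mem_Yl k).2 ⟨l, 0, 0, l⁻¹,
      by rw [mul_inv_cancel₀ l0, mul_zero, add_zero], by rw [e1, zero_smul, add_zero],
      by rw [e2, zero_smul, zero_add]⟩
    have e3 := mul_inv_eq_iff_eq_mul.2 (h2 _ hs)
    have e4 : φ s * (z C φ e r * x C φ e (v • a) * z C φ a r') * (φ s)⁻¹ =
        φ s * z C φ e r * (φ s)⁻¹ * (φ s * x C φ e (v • a) * (φ s)⁻¹) *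
          (φ s * z C φ a r' * (φ s)⁻¹) := by group
    rw [e4, h.z_conj, h.z_conj, h.x_conj s (kv v), map_smul, e1, e2, h.z_smul, h.z_smul, smul_smul,
      h.x_smul (kv _), smul_smul] at e3
    obtain ⟨e5, -, e6⟩ := h.line_inj k e3
    have hl : l * l ≠ 1 := fun e => l1 (hm.sq_inj (by rw [e, mul_one]))
    have r0 : r = 0 := by
      by_contra hr
      exact hl (mul_right_cancel₀ hr (by rw [e5, one_mul]))
    have r0' : r' = 0 := by
      by_contra hr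
      have e7 : l⁻¹ * l⁻¹ = 1 := mul_right_cancel₀ hr (by rw [e6, one_mul])
      rw [← mul_inv, inv_eq_one] at e7
      exact hl e7
    exact ⟨v, by rw [r0, r0', h.z_zero, h.z_zero, one_mul, mul_one]⟩
  · rintro ⟨v, rfl⟩
    refine ⟨h.tor_x_mem k.perp v, fun y hy => ?_⟩
    obtain ⟨s, rfl⟩ := hy.1
    obtain ⟨α, β, γ, δ, e0, e1, e2⟩ := (h.mem_Yl k).1 hy
    rw [← mul_inv_eq_iff_eq_mul, h.x_conj s (kv v), map_smul, e1, e2, smul_add, smul_smul, smul_smul,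
      h.loc_x k.perp]
    congr 2
    linear_combination v * e0

/-- conjugation by a semilinear element -/
theorem act_conj {α : RingAut F} {γ : AV V} (k : Act C φ g α γ) (e a : V) (y : G) :
    (g * y * g⁻¹ ∈ Yg C φ (span F {γ e}) ↔ y ∈ Yg C φ (span F {e})) ∧
    (g * y * g⁻¹ ∈ Rg C φ (span F {γ e}) ↔ y ∈ Rg C φ (span F {e})) ∧
    (g * y * g⁻¹ ∈ Eg C φ (span F {γ e}) ↔ y ∈ Eg C φ (span F {e})) ∧
    (g * y * g⁻¹ ∈ Eg C φ (span F {γ e, γ a}) ↔ y ∈ Eg C φ (span F {e, a})) ∧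
    (P.B e a = 0 → (g * y * g⁻¹ ∈ Yl C φ (γ e) (γ a) ↔ y ∈ Yl C φ e a) ∧
      (g * y * g⁻¹ ∈ Al C φ (γ e) (γ a) ↔ y ∈ Al C φ e a)) := by
  obtain ⟨e1, e2, e3⟩ := h.tor_act k (tor_span1 k.toSI e) y
  have e4 := (h.tor_act k (tor_span2 k.toSI e a) y).2.2
  refine ⟨e1, e2, e3, e4, fun k' => ?_⟩
  have e5 : ∀ y, g * y * g⁻¹ ∈ Yl C φ (γ e) (γ a) ↔ y ∈ Yl C φ e a := fun y => by
    refine and_congr (mem_normalizer_iff.1 (h.act_mem k) y).symm ?_
    change g * y * g⁻¹ ∈ centralizer {x C φ (γ e) (γ a)} ↔ y ∈ centralizer {x C φ e a}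
    rw [mem_centralizer_singleton_iff, mem_centralizer_singleton_iff, ← h.act_x k k']
    constructor
    · intro e6
      calc y * x C φ e a = g⁻¹ * (g * y * g⁻¹ * (g * x C φ e a * g⁻¹)) * g := by group
        _ = x C φ e a * y := by rw [e6]; group
    · intro e6
      calc g * y * g⁻¹ * (g * x C φ e a * g⁻¹) = g * (y * x C φ e a) * g⁻¹ := by group
        _ = g * x C φ e a * g⁻¹ * (g * y * g⁻¹) := by rw [e6]; group
  exact ⟨e5 y, and_congr e4 (tor_cent e5)⟩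

end Emb

end CfsgLib.SP4
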