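import Cfsg.Agent.Lib.SP4.ABas0
import Cfsg.Agent.Lib.SP4.AEm
import Cfsg.Agent.Lib.SP4.Tor
import Cfsg.Agent.Lib.SP4.CaC

/-! Type A: the group generated by the hats -/

set_option autoImplicit false
set_option linter.unusedSectionVars false

namespace CfsgLib.SP4

open Subgroup Module CfsgLib.Forms CfsgLib.LieMult
open CfsgLib.HX (Std CO Two Mv M2 QA)
open CfsgLib.UN (AV SI TI HH Rad Stb Yg Rg Eg Act nu Bas Nh flag Ub Uni TD Od)
open CfsgLib.UN.SB (D)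
open CfsgLib.ClSys (II)
open Submodule (span)
open scoped commutatorElement Pointwise

universe u

variable {F : Type} [Field F] [Finite F] {V : Type} [AddCommGroup V] [Module F V]
  [FiniteDimensional F V] {P : PQ (RingHom.id F) V} {S : Type} [Group S] [Finite S] {G : Type u}
  [Group G] [Finite G] {C : CG P S} {φ : S →* G} {t : G}

namespace HA2

variable {w : V → V → G} {y : V → F → G} {δ : F} (h : HA2 C φ t w y δ) {e a b p u c : V} {r s β : F} {g : G}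
  {Gs : Subgroup G}
include h

theorem L_le : φ.range ≤ GA φ y := le_sup_left
theorem y_mem (e : V) (β : F) : y e β ∈ GA φ y := mem_sup_right (subset_closure ⟨e, β, rfl⟩)
theorem w_mem (k : P.B e a = 0) : w e a ∈ GA φ y := by
  have := mul_mem (inv_mem (mul_mem (h.y_mem e 1) (h.y_mem a 1))) (h.y_mem (e + a) 1)
  rwa [h.yline e a 1 k, inv_mul_cancel_left, one_smul] at this
theorem ab_le {H : Subgroup G} (hL : φ.range ≤ H) (hy : ∀ e β, e ≠ 0 → y e β ∈ H) : GA φ y ≤ H :=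
  sup_le hL ((closure_le _).2 (by
    rintro _ ⟨e, β, rfl⟩
    by_cases h0 : e = 0
    · rw [h0, h.y_zero']; exact one_mem H
    · exact hy e β h0))
theorem ab_hh (h0 : e ≠ 0) : ∃ a b, P.B e a = 0 ∧ P.B e b = 0 ∧ P.B a b = 1 := by
  obtain ⟨f, k⟩ := h.exists_hp h0
  obtain ⟨a, b, k⟩ := h.exists_hh k
  exact ⟨a, b, k.ee, k.ef, h.hp_iff.1 k.h₂⟩
theorem GA_le_w {H : Subgroup G} (hL : φ.range ≤ H) (hw : ∀ e a, P.B e a = 0 → w e a ∈ H) :
    GA φ y ≤ H := by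
  refine h.ab_le hL fun e β h0 => ?_
  obtain ⟨a, b, ka, kb, k⟩ := h.ab_hh h0
  have kb' : P.B e (β • b) = 0 := by simp [kb]
  have e1 := h.ww e a (β • b) ka kb'
  rw [show P.B a (β • b) = β by simp [k]] at e1
  have := mul_mem (mul_mem (inv_mem (hw e (a + β • b) (by simp [ka, kb]))) (mul_mem (hw e a ka) (hw e _ kb')))
    (inv_mem (hL (⟨_, rfl⟩ : z C φ e (δ * β) ∈ φ.range)))
  rwa [e1, mul_assoc (w e _), inv_mul_cancel_left, mul_inv_cancel_right] at this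
theorem ab_zy_sq (e : V) (s r : F) : z C φ e s * y e r * (z C φ e s * y e r) = 1 := by
  rw [(h.zy (h.B_self e) s r).symm.mul_mul_mul_comm, h.z_sq, h.y_sq, mul_one]
theorem mem_ZA : g ∈ ZA C φ y e ↔ ∃ s r, g = z C φ e s * y e r := by
  refine ⟨fun hg => ?_, fun ⟨s, r, e1⟩ => e1 ▸ mul_mem (subset_closure ⟨s, Or.inl rfl⟩) (subset_closure ⟨r, Or.inr rfl⟩)⟩
  induction hg using closure_induction with
  | mem x hx =>
    obtain ⟨s, rfl | rfl⟩ := hx
    · exact ⟨s, 0, by rw [h.y_zero, mul_one]⟩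
    · exact ⟨0, s, by rw [h.z_zero, one_mul]⟩
  | one => exact ⟨0, 0, by rw [h.y_zero, h.z_zero, mul_one]⟩
  | mul x x' _ _ hx hx' =>
    obtain ⟨s, r, rfl⟩ := hx
    obtain ⟨s', r', rfl⟩ := hx'
    exact ⟨s + s', r + r', by rw [(h.zy (h.B_self e) s' r).symm.mul_mul_mul_comm, h.z_add, h.yadd]⟩
  | inv x _ hx =>
    obtain ⟨s, r, rfl⟩ := hx
    exact ⟨s, r, inv_eq_of_mul_eq_one_right (h.ab_zy_sq e s r)⟩
theorem ZA_cY (e : V) : ZA C φ y e ≤ centralizer (Yg C φ (span F {e}) : Set G) :=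
  (closure_le _).2 (by
    rintro _ ⟨c, rfl | rfl⟩
    exacts [h.E_cent (h.ti_pt e) (h.mem_Z.2 ⟨c, rfl⟩), (h.ymv e c).cY])
theorem ZA_le (e : V) : ZA C φ y e ≤ GA φ y :=
  (closure_le _).2 (by
    rintro _ ⟨c, rfl | rfl⟩
    exacts [h.L_le ⟨_, rfl⟩, h.y_mem e c])
theorem ab_bil (k0 : P.B e a = 0) (α β γ δ : F) :
    w (α • e + β • a) (γ • e + δ • a) = w e ((α * δ + β * γ) • a) := by
  have two := h.two
  have k1 : ∀ c : F, P.B e (c • a) = 0 := fun c => by rw [map_smul, k0, smul_zero]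
  have k2 : ∀ c d : F, P.B e (c • e + d • a) = 0 := fun c d => by
    rw [map_add, k1, map_smul, h.B_self, smul_zero, add_zero]
  by_cases hβ : β = 0
  · rw [hβ, zero_smul, add_zero, h.smul _ _ _ (k2 _ _), zero_mul, add_zero, ← h.w_shift (k1 _) (α * γ)]
    congr 1
    module
  · obtain ⟨β', hb⟩ : ∃ β', β * β' = 1 := ⟨β⁻¹, mul_inv_cancel₀ hβ⟩
    have k3 : P.B (α • e + β • a) ((γ + δ * β' * α) • e) = 0 := by
      rw [map_smul, h.B_comm, k2, smul_zero]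
    have e1 : γ • e + δ • a = (γ + δ * β' * α) • e + (δ * β') • (α • e + β • a) := by
      linear_combination (norm := module) -(two * (δ * β' * α)) • e - (δ * hb) • a
    rw [e1, h.w_shift k3, ← h.w_symm k3, h.smul _ _ _ (k2 _ _),
      ← h.w_shift (k1 (α * δ + β * γ)) ((γ + δ * β' * α) * α)]
    congr 1
    linear_combination (norm := module) ((α * δ) * hb) • a
/-- for `κ = 0` the hat of a short root element centralises `C_L(x e a)` -/
theorem w_cYl (k : Ln P e a) {l : S} (hl : Commute (φ l) (x C φ e a)) : Commute (φ l) (w e a) := by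
  obtain ⟨α, β, γ, δ, e1, e2, e3⟩ := (h.mem_Yl k).1
    (mem_inf.2 ⟨⟨l, rfl⟩, mem_centralizer_singleton_iff.2 hl.eq⟩)
  have := h.eqv l e a k.perp
  rw [e2, e3, h.ab_bil k.perp, e1, one_smul, mul_inv_eq_iff_eq_mul] at this
  exact this
theorem sw_w (hg : g * t = t * g) (hs : Sw C φ g) (k : Ln P e a) : g * w e a * g⁻¹ ∈ GA φ y := by
  obtain ⟨p, p0, e1⟩ := hs.az e a k
  have h1 : g * w e a * g⁻¹ ∈ centralizer (Yg C φ (span F {p}) : Set G) := by
    rintro _ ⟨l, hl, rfl⟩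
    have c1 : φ l * z C φ p 1 * (φ l)⁻¹ = z C φ p 1 := by rw [h.z_conj, mem_fix_pt.1 hl]
    obtain ⟨l', e2⟩ : g⁻¹ * φ l * g⁻¹⁻¹ ∈ φ.range := UFP.conj_mem (inv_mem hs.nL) ⟨l, rfl⟩
    have e3 : φ l = g * φ l' * g⁻¹ := by rw [e2]; group
    have c2 : Commute (φ l') (x C φ e a) := by
      rw [e3, ← e1] at c1
      have : φ l' * x C φ e a * (φ l')⁻¹ = x C φ e a := by
        calc _ = g⁻¹ * (g * φ l' * g⁻¹ * (g * x C φ e a * g⁻¹) * (g * φ l' * g⁻¹)⁻¹) * g := by group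
          _ = _ := by rw [c1]; group
      exact mul_inv_eq_iff_eq_mul.1 this
    rw [e3, conj_mul, conj_mul, (h.w_cYl k c2).eq]
  have h2 : y p 1 * t * (y p 1)⁻¹ = g * w e a * g⁻¹ * t * (g * w e a * g⁻¹)⁻¹ := by
    have e2 : g⁻¹ * t * g = t := by rw [mul_assoc, ← hg, inv_mul_cancel_left]
    calc _ = g * (t * x C φ e a) * g⁻¹ := by rw [(h.ymv p 1).pt, ← e1, ← mul_assoc g, hg]; group
      _ = g * (w e a * (g⁻¹ * t * g) * (w e a)⁻¹) * g⁻¹ := by rw [e2, (h.mv e a k.perp).pt]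
      _ = _ := by group
  have h3 : g * w e a * g⁻¹ * (g * w e a * g⁻¹) = 1 := by
    rw [conj_mul, h.sq e a k.perp, mul_one, mul_inv_cancel]
  obtain ⟨ε, hε, o, ho, ot, od, e2⟩ := h.toSit.cac_uniq h.two' (h.ti_pt p) (h.ymv p 1).cY h1 h2
  obtain ⟨r, rfl⟩ := h.mem_Z.1 hε
  have c1 : Commute (y p 1) o := (h.ymv p 1).co o ho ot od
  have c2 : ∀ s, Commute (z C φ p s) o := fun s => ho _ ⟨_, rfl⟩
  have c3 : ∀ s, Commute (z C φ p s) (y p 1) := fun s => h.zy (h.B_self p) s 1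
  have c4 : ∀ s, Commute (z C φ p s) t := fun s => h.tC _ ⟨_, rfl⟩
  have q1 : y p 1 * z C φ p r * (y p 1 * z C φ p r) = 1 := by
    rw [← (c3 r).eq]; exact h.ab_zy_sq p r 1
  rcases e2 with e2 | e2
  · rw [e2, (c1.mul_left (c2 r)).symm.mul_mul_mul_comm, q1, one_mul] at h3
    rw [e2, h.toEmb.cac_odd ho od (h3 ▸ one_mem _), mul_one]
    exact mul_mem (h.y_mem p 1) (h.L_le ⟨_, rfl⟩)
  · have q2 : y p 1 * z C φ p r * t * (y p 1 * z C φ p r * t) = z C φ p 1 := by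
      calc _ = y p 1 * z C φ p r * (t * y p 1 * t⁻¹) * (t * z C φ p r * t) := by group
        _ = y p 1 * z C φ p r * (z C φ p 1 * (y p 1 * z C φ p r)) := by
          rw [h.t_y, ← (c4 r).eq, mul_assoc (z C φ p r) t t, h.t2, mul_one]; simp only [mul_assoc]
        _ = _ := by
          rw [((c3 1).mul_right (h.z_comm (h.B_self p) 1 r)).eq, ← mul_assoc, q1, one_mul]
    have c5 : Commute o t := ot
    rw [e2, ← mul_assoc _ t o, ((c1.mul_left (c2 r)).mul_left c5.symm).symm.mul_mul_mul_comm, q2] at h3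
    have o1 : o = 1 := h.toEmb.cac_odd ho od (by
      rw [eq_inv_of_mul_eq_one_right h3]; exact inv_mem ⟨_, rfl⟩)
    rw [o1, mul_one, mul_one, h.z_eq_one] at h3
    simp [p0] at h3
theorem cent_le (hg : g * t = t * g) : g ∈ normalizer (GA φ y : Set G) := by
  refine mem_normalizer_fintype fun a ha => (h.GA_le_w (H := (GA φ y).comap (MulAut.conj g).toMonoidHom)
    (fun a ha => h.L_le (UFP.conj_mem (h.norm_of hg) ha)) fun e a k' => ?_) ha
  show g * w e a * g⁻¹ ∈ GA φ y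
  obtain ⟨α, γ, k⟩ | k := h.exists_act' (h.norm_of hg)
  · obtain ⟨μ, hμ⟩ := h.ct g α γ hg k
    rw [hμ e a k']
    exact mul_mem (h.w_mem (by rw [k.B_eq, k', map_zero])) (h.L_le ⟨_, rfl⟩)
  by_cases h0 : e = 0
  · rw [h0, h.w_zero', mul_one, mul_inv_cancel]; exact one_mem _
  by_cases ha : a ∈ span F {e}
  · obtain ⟨μ, rfl⟩ := Submodule.mem_span_singleton.1 ha
    rw [h.w_self, mul_one, mul_inv_cancel]; exact one_mem _
  exact h.sw_w hg k ⟨h0, ha, k'⟩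
theorem t_norm : t ∈ normalizer (GA φ y : Set G) := h.cent_le rfl
theorem ab_z_ne (h0 : e ≠ 0) : z C φ e 1 ≠ 1 := fun e1 => by simpa [h0] using h.z_eq_one.1 e1
theorem cent_odd : Odd (Nat.card (centralizer (GA φ y : Set G))) := by
  obtain ⟨e, h0⟩ := h.g2_ne
  refine SLE.odd_of_inv h.t2 (Core.normalizer_le_normalizer_centralizer _ h.t_norm) fun c hc c2 ct =>
    (h.toStd.invol (centralizer_le h.L_le hc) ct c2).resolve_right fun e1 => ?_
  have := (h.ymv e 1).pt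
  rw [e1] at hc
  rw [hc _ (h.y_mem e 1), mul_inv_cancel_right, left_eq_mul] at this
  exact h.ab_z_ne h0 this
theorem GA_eq (h0 : e ≠ 0) : GA φ y = φ.range ⊔ ZA C φ y e := by
  refine le_antisymm (h.ab_le le_sup_left fun p s p0 => ?_) (sup_le h.L_le (h.ZA_le e))
  obtain ⟨l, rfl⟩ := h.trans h0 p0
  rw [← h.yeqv l e s]
  exact mul_mem (mul_mem_sup ⟨l, rfl⟩ (subset_closure ⟨s, Or.inr rfl⟩)) (mem_sup_left (inv_mem ⟨l, rfl⟩))
theorem GA_le {H : Subgroup G} (hH : GA φ y ≤ normalizer (H : Set G)) (hL : φ.range ≤ H) :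
    GA φ y ≤ H := by
  refine h.ab_le hL fun e r h0 => ?_
  obtain ⟨a, b, ka, kb, k⟩ := h.ab_hh h0
  have key : ∀ l β : F, w e ((l * β) • a) * y e (l * l * β) ∈ H := fun l β => by
    have m : x C φ e (l • b) ∈ H := hL ⟨_, rfl⟩
    have := mul_mem (inv_mem m) (UFP.conj_mem (hH (h.y_mem a β)) m)
    rwa [ab0_inv (h.y_sq a β), h.Yx ka (by simp [kb]), mul_assoc (x C φ e _), inv_mul_cancel_left,
      show P.B (l • b) a = l by simp [h.B_comm b a, k]] at this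
  obtain ⟨μ, m0, m1⟩ := h.toMod.exists_big'
  have m2 : 1 + μ ≠ 0 := fun e1 => m1 (by linear_combination e1 - h.two + μ * h.two - μ * h.two)
  have := mul_mem (inv_mem (key 1 (r / (1 + μ)))) (key μ (r / (1 + μ) / μ))
  rwa [mul_div_cancel₀ _ m0, one_mul, one_mul, mul_inv_rev, mul_assoc, inv_mul_cancel_left,
    ab0_inv (h.y_sq _ _), ← h.yadd,
    show 1 * (r / (1 + μ)) + μ * μ * (r / (1 + μ) / μ) = r by field_simp] at this
theorem GA_le_Gs (hG : SLE.Glob Gs t) (hL : φ.range ≤ Gs) : GA φ y ≤ Gs := by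
  have := hG.nrm
  exact h.GA_le le_normalizer_of_normal hL
theorem GA_co (hg : g ∈ GA φ y) : CO φ.range t g := by
  intro o ho k k'
  have : GA φ y ≤ centralizer {o} := sup_le (fun l hl => mem_centralizer_singleton_iff.2 (ho l hl))
    ((closure_le _).2 fun _ ⟨p, s, e⟩ => e ▸ mem_centralizer_singleton_iff.2 ((h.ymv p s).co o ho k k'))
  exact mem_centralizer_singleton_iff.1 (this hg)
/-- the hats of the elements of `E(U)` -/
theorem hat_E {U : Submodule F V} (hU : TI P U) (hg : g ∈ Eg C φ U) :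
    ∃ n ∈ GA φ y, n * n = 1 ∧ n ∈ centralizer (Yg C φ U : Set G) ∧ n * t * n⁻¹ = t * g := by
  let X : Set G := {g | ∃ p ∈ U, ∃ s, g = y p s}
  have h1 : closure X ≤ centralizer (closure X : Set G) := by
    rw [centralizer_closure, closure_le]
    rintro _ ⟨p, hp, s, rfl⟩ _ ⟨p', hp', s', rfl⟩
    exact h.yy (hU hp p' hp') s' s
  have h2 : ∀ g ∈ closure X, g * g = 1 := fun g hg => by
    induction hg using closure_induction with
    | mem _ hx => obtain ⟨p, hp, s, rfl⟩ := hx; exact h.y_sq p s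
    | one => exact one_mul 1
    | mul a b ha hb ea eb => rw [mul_assoc, ← mul_assoc b, h1 ha b hb, mul_assoc, eb, mul_one, ea]
    | inv a _ ea => rw [← mul_inv_rev, ea, inv_one]
  have h3 : closure X ≤ GA φ y ⊓ centralizer (Yg C φ U : Set G) := (closure_le _).2 (by
    rintro _ ⟨p, hp, s, rfl⟩
    refine ⟨h.y_mem p s, ?_⟩
    rintro _ ⟨l, hl, rfl⟩
    exact h.y_fix (hl p hp) s)
  let H : Subgroup S :=
    { carrier := {s | s ∈ C.fixG (P.perp U) ∧ ∃ n ∈ closure X, n * t * n⁻¹ = t * φ s}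
      one_mem' := ⟨one_mem _, 1, one_mem _, by simp⟩
      mul_mem' := by
        rintro a b ⟨ha, n, hn, ea⟩ ⟨hb, n', hn', eb⟩
        have := (h3 hn).2 (φ b) ⟨b, rad_le_fix U (h.E_le_rad hU hb), rfl⟩
        refine ⟨mul_mem ha hb, n * n', mul_mem hn hn', ?_⟩
        calc _ = n * (n' * t * n'⁻¹) * n⁻¹ := by group
          _ = n * t * n⁻¹ * (n * φ b) * n⁻¹ := by rw [eb]; group
          _ = _ := by rw [ea, ← this, map_mul]; group
      inv_mem' := by
        rintro a ⟨ha, k⟩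
        rw [inv_eq_of_mul_eq_one_right (h.toMod.E_sq hU ha)]
        exact ⟨ha, k⟩ }
  obtain ⟨a, ha, rfl⟩ := hg
  obtain ⟨-, n, hn, e1⟩ := h.E_gen hU (H := H) (fun p hp c =>
    ⟨h.T_mem_E hU hp (zero_mem _) c, _, subset_closure ⟨p, hp, c, rfl⟩, (h.ymv p c).pt⟩) ha
  exact ⟨n, (h3 hn).1, h2 n hn, (h3 hn).2, e1⟩
/-- the hats of the elements of `Q_e` -/
theorem hat_Q (h0 : e ≠ 0) (hg : g ∈ Rg C φ (span F {e})) :
    ∃ n ∈ GA φ y, n * n = 1 ∧ n ∈ centralizer (Rg C φ (span F {e}) : Set G) ∧ n * t * n⁻¹ = t * g := by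
  obtain ⟨a, c, k, rfl⟩ := (h.mem_Q h0).1 hg
  refine ⟨w e a * y e c, mul_mem (h.w_mem k) (h.y_mem e c), ?_, fun q hq => ?_, ?_⟩
  · rw [(h.yw' k c).mul_mul_mul_comm, h.sq e a k, h.y_sq, mul_one]
  · obtain ⟨b, d, k', rfl⟩ := (h.mem_Q h0).1 hq
    exact (h.τw k k' d).mul_right (h.τy k' d c)
  · have c1 : z C φ e c * w e a = w e a * z C φ e c := (h.τw k (b := 0) (by simp) c).eq
    calc _ = w e a * (y e c * t * (y e c)⁻¹) * (w e a)⁻¹ := by group
      _ = w e a * t * (w e a)⁻¹ * (w e a * z C φ e c) * (w e a)⁻¹ := by rw [(h.ymv e c).pt]; group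
      _ = _ := by rw [← c1, (h.mv e a k).pt, h.τ_eq k]; group
theorem eq_Gs (hG : SLE.Glob Gs t) (hL : φ.range ≤ Gs)
    (h1 : ∀ u ∈ Gs, u * u = 1 → u ∈ normalizer (GA φ y : Set G)) : GA φ y = Gs := by
  obtain ⟨e, h0⟩ := h.g2_ne
  have h2 := h.ab_z_ne h0
  exact hG.eq_of_norm (h.GA_le_Gs hG hL) (UFP.le_of_invol hG.simple (hL ⟨_, rfl⟩) h2 (h.z_sq e 1) h1)
    (h.L_le ⟨_, rfl⟩) h2

end HA2

end CfsgLib.SP4
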