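import Cfsg.Agent.Lib.SP4.AutA
import Cfsg.Agent.Lib.UN.Odd
import Cfsg.Agent.Lib.SPC.AutA

/-! The copy of the symplectic group in G and its normaliser -/

set_option autoImplicit false
set_option linter.unusedSectionVars false

namespace CfsgLib.SP4

open Subgroup Module CfsgLib.Forms CfsgLib.LieMult
open CfsgLib.HX (Std CO Two Mv M2)
open CfsgLib.UN (AV SI TI HH Rad Stb Yg Rg Eg Act nu)
open CfsgLib.ClSys (II)
open Submodule (span)
open scoped commutatorElement Pointwise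

universe u

variable {F : Type} [Field F] [Finite F] {V : Type} [AddCommGroup V] [Module F V]
  [FiniteDimensional F V] {P : PQ (RingHom.id F) V} {S : Type} [Group S] [Finite S] {G : Type u}
  [Group G] [Finite G] {C : CG P S} {φ : S →* G} {t : G}

theorem Mod.T_semi (h : Mod C) {α : RingAut F} {γ : AV V} (k : SI P α γ) {e a : V}
    (k' : P.B e a = 0) (c : F) (v : V) :
    C.act (C.T (γ e) (γ a) (α c)) (γ v) = γ (C.act (C.T e a c) v) := by
  have h1 : P.B (γ e) (γ a) = 0 := by rw [k.B_eq, k', map_zero]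
  rw [h.T_app h1, h.T_app k', map_add, map_add, k.semi, k.semi, k.B_eq, k.B_eq, map_add, map_mul]

theorem Mod.exists_conj (h : Mod C) {α : RingAut F} {γ : AV V} (k : SI P α γ) (s : S) :
    ∃ s', ∀ v, C.act s' (γ v) = γ (C.act s v) := by
  let H : Subgroup S :=
    { carrier := {s | ∃ s', ∀ v, C.act s' (γ v) = γ (C.act s v)}
      one_mem' := ⟨1, fun v => by rw [C.one_apply, C.one_apply]⟩
      mul_mem' := by
        rintro a b ⟨a', ha⟩ ⟨b', hb⟩
        exact ⟨a' * b', fun v => by rw [C.mul_apply, C.mul_apply, hb, ha]⟩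
      inv_mem' := by
        rintro a ⟨a', ha⟩
        exact ⟨a'⁻¹, fun v => C.inv_apply_eq (by rw [ha, C.apply_inv])⟩ }
  have : H = ⊤ := h.gen fun p r => ⟨_, h.T_semi k (map_zero _) r⟩
  exact (this ▸ mem_top s : s ∈ H)

theorem Mod.exists_ne0 (h : Mod C) : ∃ v : V, v ≠ 0 := by
  have : Nontrivial V := (Module.finrank_pos_iff (R := F)).1 (by have := h.d4; omega)
  exact exists_ne 0

theorem SI_perp {α : RingAut F} {γ : AV V} (k : SI P α γ) {U : Submodule F V}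
    (hU : ∀ v, γ v ∈ U ↔ v ∈ U) (v : V) : γ v ∈ P.perp U ↔ v ∈ P.perp U := by
  refine ⟨fun h w hw => α.injective ?_, fun h w hw => ?_⟩
  · rw [← k.B_eq, h _ ((hU w).2 hw), map_zero]
  · obtain ⟨w, rfl⟩ := γ.surjective w
    rw [k.B_eq, h w ((hU w).1 hw), map_zero]

theorem conj_map_iff (φ : S →* G) {A B : Subgroup S} {l : S} (e : ∀ s, l * s * l⁻¹ ∈ A ↔ s ∈ B)
    {g : G} : φ l * g * (φ l)⁻¹ ∈ A.map φ ↔ g ∈ B.map φ := by
  refine ⟨fun ⟨s, hs, e1⟩ => ⟨l⁻¹ * s * l, (e _).1 (by simpa [mul_assoc] using hs), ?_⟩, ?_⟩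
  · rw [map_mul, map_mul, map_inv, e1]; group
  · rintro ⟨s, hs, rfl⟩
    exact ⟨_, (e s).2 hs, by rw [map_mul, map_mul, map_inv]⟩

/-- a group with cyclic Sylow 2-subgroups -/
theorem exists_odd_comm (C : Subgroup G) (hc : ∀ P ≤ C, IsPGroup 2 P → IsCyclic P) :
    ∃ O ≤ C, (∀ o ∈ O, Odd (orderOf o)) ∧ ∀ a ∈ C, ∀ b ∈ C, ⁅a, b⁆ ∈ O := by
  rcases Nat.even_or_odd (Nat.card C) with h | h
  · have hp : (Nat.card C).minFac = 2 := (Nat.minFac_eq_two_iff _).2 h.two_dvd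
    obtain ⟨P⟩ : Nonempty (Sylow 2 C) := inferInstance
    have hP : IsCyclic P := by
      have := hc (P.1.map C.subtype) (map_subtype_le _) (P.2.map _)
      exact isCyclic_of_surjective _ (P.1.equivMapOfInjective _ C.subtype_injective).symm.surjective
    have hn := hP.normalizer_le_centralizer hp
    refine ⟨(MonoidHom.transferSylow P hn).ker.map C.subtype, map_subtype_le _, ?_, ?_⟩
    · intro o ho
      have h1 := MonoidHom.not_dvd_card_ker_transferSylow P hn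
      rw [← Core.card_map_subtype] at h1
      have h2 := orderOf_dvd_natCard _ ho
      rw [← Nat.not_even_iff_odd]
      exact fun h3 => h1 (h3.two_dvd.trans h2)
    · intro a ha b hb
      refine ⟨⟨a, ha⟩ * ⟨b, hb⟩ * ⟨a, ha⟩⁻¹ * ⟨b, hb⟩⁻¹, ?_, rfl⟩
      have hcm := hP.isMulCommutative.is_comm.comm (MonoidHom.transferSylow P hn ⟨a, ha⟩)
        (MonoidHom.transferSylow P hn ⟨b, hb⟩)
      show _ ∈ MonoidHom.ker _
      rw [MonoidHom.mem_ker, map_mul, map_mul, map_mul, map_inv, map_inv, hcm]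
      group
  · exact ⟨C, le_rfl, fun o ho => h.of_dvd_nat (orderOf_dvd_natCard _ ho), fun a ha b hb =>
      mul_mem (mul_mem (mul_mem ha hb) (inv_mem ha)) (inv_mem hb)⟩

theorem comm_mul_split {l l' c c' : G} (k1 : Commute l c) (k2 : Commute l' c) (k3 : Commute l c')
    (k4 : Commute l' c') : ⁅l * c, l' * c'⁆ = ⁅l, l'⁆ * ⁅c, c'⁆ := by
  rw [commutatorElement_def, commutatorElement_def, commutatorElement_def, k1.mul_inv, k4.mul_inv,
    k2.symm.mul_mul_mul_comm, ((k1.symm.mul_left k3.symm).inv_right).mul_mul_mul_comm,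
    (((k2.symm.mul_left k4.symm).mul_left k2.symm.inv_left).inv_right).mul_mul_mul_comm]

namespace Emb

variable (h : Emb C φ) {g g' : G} {α α' : RingAut F} {γ γ' : AV V} {e a b : V} {U : Submodule F V}
include h

theorem exists_hom : ∃ Θ : normalizer (φ.range : Set G) →* MulAut S,
    ∀ (g : normalizer (φ.range : Set G)) s, φ (Θ g s) = g * φ s * (g : G)⁻¹ := by
  have h0 : ∀ g : normalizer (φ.range : Set G), ∃ θ : MulAut S, ∀ s, φ (θ s) = g * φ s * (g : G)⁻¹ :=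
    fun g => by
    have h1 : ∀ s, ∃ s', φ s' = g * φ s * (g : G)⁻¹ := fun s => (mem_normalizer_iff.1 g.2 _).1 ⟨s, rfl⟩
    choose c hc using h1
    let θ : S →* S := MonoidHom.mk' c fun a b => h.inj (by rw [map_mul, hc, hc, hc, map_mul, conj_mul])
    have hθ : Function.Injective θ := fun a b e => h.inj (by
      have := congrArg φ e
      change φ (c a) = φ (c b) at this
      rw [hc, hc] at this
      simpa using this)
    exact ⟨MulEquiv.ofBijective θ (Finite.injective_iff_bijective.1 hθ), hc⟩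
  choose Θ hΘ using h0
  exact ⟨MonoidHom.mk' Θ fun a b => MulEquiv.ext fun s => h.inj (by
    rw [MulAut.mul_apply, hΘ, hΘ, hΘ, coe_mul]; group), hΘ⟩

/-- the map to the cyclic group `Out L` -/
theorem exists_out : ∃ π : normalizer (φ.range : Set G) →* Cfsg.Out S,
    ∀ g, π g = 1 ↔ ∃ l, ∃ c ∈ centralizer (φ.range : Set G), (g : G) = φ l * c := by
  obtain ⟨Θ, hΘ⟩ := h.exists_hom
  refine ⟨(QuotientGroup.mk' _).comp Θ, fun g => ⟨fun k => ?_, ?_⟩⟩
  · obtain ⟨l, hl⟩ := (QuotientGroup.eq_one_iff _).1 k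
    refine ⟨l, (φ l)⁻¹ * g, ?_, by group⟩
    rintro _ ⟨s, rfl⟩
    have := hΘ g s
    rw [← hl, MulAut.conj_apply, map_mul, map_mul, map_inv] at this
    rw [show φ s * ((φ l)⁻¹ * g) = (φ l)⁻¹ * (φ l * φ s * (φ l)⁻¹) * g by group, this]
    group
  · rintro ⟨l, c, hc, e⟩
    refine (QuotientGroup.eq_one_iff _).2 ⟨l, MulEquiv.ext fun s => h.inj ?_⟩
    rw [hΘ, e, MulAut.conj_apply, map_mul, map_mul, map_inv, mul_assoc (φ l) c, ← hc _ ⟨s, rfl⟩]
    group

theorem z_ne_x (k : Ln P e a) (p : V) (c : F) : z C φ p c ≠ x C φ e a := fun e1 => by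
  obtain ⟨f, f', k'⟩ := h.hh_of_ln k
  have e2 := h.inj e1
  have a1 := congrArg (fun s => C.act s f) e2
  have a2 := congrArg (fun s => C.act s f') e2
  simp only [h.z_app, h.x_app k.perp, k'.h₁.ef, k'.h₂.ef, k'.ef, h.B_comm a f, k'.fe, zero_smul,
    one_smul, add_zero, add_right_inj] at a1 a2
  have a3 : c * P.B p f' ≠ 0 := fun e3 => k.ne (by rw [← a2, e3, zero_smul])
  refine k.nmem (Submodule.mem_span_singleton.2 ⟨c * P.B p f / (c * P.B p f'), ?_⟩)
  rw [← a2, smul_smul, div_mul_cancel₀ _ a3, a1]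

theorem exists_act' (hg : g ∈ normalizer (φ.range : Set G)) :
    (∃ α γ, Act C φ g α γ) ∨ Sw C φ g := by
  obtain ⟨Θ, hΘ⟩ := h.exists_hom
  obtain ⟨θ, k⟩ := h.gr
  have hc := hΘ ⟨g, hg⟩
  rcases k.aut (Θ ⟨g, hg⟩) with ⟨α, γ, k1, k2⟩ | ⟨α, γ, k1, k2⟩
  · exact .inl ⟨α, γ, k1, fun s s' e => by rw [← k2 s s' e, hc]⟩
  · have a1 : ∀ {e a : V} (_ : P.B e a = 0) (c : F),
        g * φ (C.T e a c) * g⁻¹ = φ (θ (C.T (γ e) (γ a) (α c))) := fun k3 c => by
      rw [← k2 _ _ (h.toMod.T_semi k1 k3 c), MulAut.mul_apply, MulAut.apply_inv_self, hc]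
    refine .inr ⟨hg, fun e h0 => ?_, fun e a l => ?_⟩
    · obtain ⟨p, a, l, e1⟩ := k.za (γ e) (by simpa using h0)
      refine ⟨p, a, l, ?_⟩
      have := a1 (e := e) (map_zero _) 1
      rwa [map_zero, map_one, e1] at this
    · obtain ⟨p, p0, e1⟩ := k.az _ _ (SI_ln k1 l)
      refine ⟨p, p0, ?_⟩
      have := a1 l.perp 0
      rwa [map_zero, e1] at this

theorem act_of_z (hg : g ∈ normalizer (φ.range : Set G)) (h0 : e ≠ 0) {p : V} {c : F}
    (k : g * z C φ e 1 * g⁻¹ = z C φ p c) : ∃ α γ, Act C φ g α γ :=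
  (h.exists_act' hg).resolve_right fun s => by
    obtain ⟨p', a, l, e1⟩ := s.za e h0
    exact h.z_ne_x l p c (k.symm.trans e1)

theorem act_of_x (hg : g ∈ normalizer (φ.range : Set G)) (l : Ln P e a) {p : V} (l' : Ln P p b)
    (k : g * x C φ e a * g⁻¹ = x C φ p b) : ∃ α γ, Act C φ g α γ :=
  (h.exists_act' hg).resolve_right fun s => by
    obtain ⟨p', -, e1⟩ := s.az e a l
    exact h.z_ne_x l' p' 1 (e1.symm.trans k)

theorem act_τ (k : Act C φ g α γ) (k' : P.B e a = 0) (c : F) :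
    g * τ C φ e a c * g⁻¹ = τ C φ (γ e) (γ a) (α c) :=
  k.conj _ _ (h.toMod.T_semi k.toSI k' c)

theorem act_z (k : Act C φ g α γ) (e : V) (c : F) :
    g * z C φ e c * g⁻¹ = z C φ (γ e) (α c) := by
  have := h.act_τ k (e := e) (a := 0) (map_zero _) c
  rwa [map_zero] at this

theorem act_x (k : Act C φ g α γ) (k' : P.B e a = 0) :
    g * x C φ e a * g⁻¹ = x C φ (γ e) (γ a) := by
  have := h.act_τ k k' 0
  rwa [map_zero] at this

theorem act_mem (k : Act C φ g α γ) : g ∈ normalizer (φ.range : Set G) := by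
  refine Tech.mem_normalizer_of_forall ?_
  rintro _ ⟨s, rfl⟩
  obtain ⟨s', e⟩ := h.toMod.exists_conj k.toSI s
  exact ⟨s', (k.conj s s' e).symm⟩

theorem act_mul (k : Act C φ g α γ) (k' : Act C φ g' α' γ') :
    Act C φ (g * g') (α * α') (γ * γ') := by
  refine ⟨SI_mul k.toSI k'.toSI, fun s s'' e => ?_⟩
  obtain ⟨s', e'⟩ := h.toMod.exists_conj k'.toSI s
  rw [← k.conj s' s'' fun v => ?_, ← k'.conj s s' e']
  · group
  · obtain ⟨v, rfl⟩ := γ'.surjective v
    rw [e']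
    exact e v

theorem act_inv (k : Act C φ g α γ) : Act C φ g⁻¹ α⁻¹ γ⁻¹ := by
  refine ⟨SI_inv k.toSI, fun s s' e => ?_⟩
  rw [← k.conj s' s fun v => ?_]
  · group
  · have := e (γ v)
    change C.act s' (γ.symm (γ v)) = γ.symm _ at this
    rw [γ.symm_apply_apply] at this
    rw [this, γ.apply_symm_apply]

theorem act_cent (hg : g ∈ centralizer (φ.range : Set G)) : Act C φ g 1 1 := by
  refine ⟨⟨fun _ _ => rfl, fun _ _ => rfl⟩, fun s s' e => ?_⟩
  rw [C.ext (g := s') (h := s) e, ← hg _ ⟨s, rfl⟩, mul_inv_cancel_right]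

theorem act_self (l : S) : Act C φ (φ l) 1 ((C.act l).restrictScalars ℤ) := by
  refine ⟨⟨fun c v => map_smul (C.act l) c v, fun v w => C.B_act l v w⟩, fun s s' e => ?_⟩
  have : s' * l = l * s := C.ext fun v => by rw [C.mul_apply, C.mul_apply]; exact e v
  rw [← map_mul, ← this, map_mul, mul_inv_cancel_right]

theorem act_pow (k : Act C φ g α γ) (n : ℕ) : Act C φ (g ^ n) (α ^ n) (γ ^ n) := by
  induction n with
  | zero => simpa only [pow_zero] using h.act_cent (one_mem _)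
  | succ n ih => simpa only [pow_succ] using h.act_mul ih k

theorem act_unique (k : Act C φ g α γ) (k' : Act C φ g α' γ') : α = α' ∧ γ = γ' := by
  have h1 : ∀ v, γ v = γ' v := fun v => by
    have := (h.act_z k v 1).symm.trans (h.act_z k' v 1)
    rw [map_one, map_one] at this
    exact h.z_one_inj this
  obtain ⟨v, hv⟩ := h.toMod.exists_ne0
  refine ⟨RingEquiv.ext fun c => ?_, LinearEquiv.ext h1⟩
  have := h1 (c • v)
  rw [k.semi, k'.semi, ← h1] at this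
  exact smul_left_injective F (γ.map_ne_zero_iff.2 hv) this

theorem cent_of_act (k : Act C φ g α γ) {l : S} (e : ∀ v, C.act l v = γ v) :
    (φ l)⁻¹ * g ∈ centralizer (φ.range : Set G) := by
  rintro _ ⟨s, rfl⟩
  have := k.conj s (l * s * l⁻¹) fun v => by
    rw [← e, ← e, C.mul_apply, C.mul_apply, C.inv_apply]
  rw [map_mul, map_mul, map_inv] at this
  rw [show φ s * ((φ l)⁻¹ * g) = (φ l)⁻¹ * (φ l * φ s * (φ l)⁻¹) * g by group, ← this]
  group

theorem act_one (k : Act C φ g 1 γ) : ∃ l, (∀ v, C.act l v = γ v) ∧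
    ∃ c ∈ centralizer (φ.range : Set G), g = φ l * c := by
  obtain ⟨l, hl⟩ := h.full ⟨⟨γ, γ.map_add⟩, k.semi⟩ k.B_eq
  exact ⟨l, hl, _, h.cent_of_act k hl, (mul_inv_cancel_left _ _).symm⟩

theorem not_sw (k : Act C φ g α γ) : ¬ Sw C φ g := fun s => by
  obtain ⟨e, h0⟩ := h.toMod.exists_ne0
  obtain ⟨p, a, l, e1⟩ := s.za e h0
  exact h.z_ne_x l _ _ ((h.act_z k e 1).symm.trans e1)

theorem sw_mul_sw (k : Sw C φ g) (k' : Sw C φ g') : ∃ α γ, Act C φ (g * g') α γ := by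
  obtain ⟨e, h0⟩ := h.toMod.exists_ne0
  obtain ⟨p, a, l, e1⟩ := k'.za e h0
  obtain ⟨p', -, e2⟩ := k.az p a l
  refine h.act_of_z (mul_mem k.nL k'.nL) h0 (p := p') (c := 1) ?_
  rw [← e2, ← e1]; group

theorem sw_inv (k : Sw C φ g) : Sw C φ g⁻¹ :=
  (h.exists_act' (inv_mem k.nL)).resolve_left fun ⟨_, _, k1⟩ => h.not_sw (h.act_inv k1) (by simpa using k)

theorem sw_mul_act (k : Sw C φ g) (k' : Act C φ g' α γ) : Sw C φ (g * g') :=
  (h.exists_act' (mul_mem k.nL (h.act_mem k'))).resolve_left fun ⟨_, _, k1⟩ =>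
    h.not_sw (h.act_mul k1 (h.act_inv k')) (by simpa using k)

theorem act_mul_sw (k : Act C φ g α γ) (k' : Sw C φ g') : Sw C φ (g * g') :=
  (h.exists_act' (mul_mem (h.act_mem k) k'.nL)).resolve_left fun ⟨_, _, k1⟩ =>
    h.not_sw (h.act_mul (h.act_inv k) k1) (by simpa using k')

theorem act_sq (hg : g ∈ normalizer (φ.range : Set G)) : ∃ α γ, Act C φ (g * g) α γ :=
  (h.exists_act' hg).elim (fun ⟨_, _, k⟩ => ⟨_, _, h.act_mul k k⟩) fun k => h.sw_mul_sw k k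

/-- elements of odd order are semilinear -/
theorem act_of_odd (hg : g ∈ normalizer (φ.range : Set G)) (ho : Odd (orderOf g)) :
    ∃ α γ, Act C φ g α γ := by
  obtain ⟨α, γ, k⟩ := h.act_sq hg
  obtain ⟨m, hm⟩ := ho
  refine ⟨_, _, (?_ : (g * g) ^ (m + 1) = g) ▸ h.act_pow k (m + 1)⟩
  rw [← pow_two, ← pow_mul, show 2 * (m + 1) = orderOf g + 1 by omega, pow_succ, pow_orderOf_eq_one,
    one_mul]

theorem act_norm (k : Act C φ g α γ) (hU : ∀ v, γ v ∈ U ↔ v ∈ U) :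
    g ∈ normalizer (Yg C φ U : Set G) ∧ g ∈ normalizer (Rg C φ U : Set G) ∧
      g ∈ normalizer (Eg C φ U : Set G) := by
  have hY : ∀ {U : Submodule F V}, (∀ v, γ v ∈ U ↔ v ∈ U) → g ∈ normalizer (Yg C φ U : Set G) := by
    intro U hU
    refine Tech.mem_normalizer_of_forall ?_
    rintro _ ⟨s, hs, rfl⟩
    obtain ⟨s', e⟩ := h.toMod.exists_conj k.toSI s
    refine ⟨s', fun v hv => ?_, (k.conj s s' e).symm⟩
    obtain ⟨v, rfl⟩ := γ.surjective v
    change C.act s' (γ v) = _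
    rw [e, hs v ((hU v).1 hv)]
  refine ⟨hY hU, Tech.mem_normalizer_of_forall ?_, hY (SI_perp k.toSI hU)⟩
  rintro _ ⟨s, hs, rfl⟩
  obtain ⟨s', e⟩ := h.toMod.exists_conj k.toSI s
  refine ⟨s', ⟨fun v hv => ?_, fun v hv => ?_⟩, (k.conj s s' e).symm⟩
  · obtain ⟨v, rfl⟩ := γ.surjective v
    rw [e, hs.1 v ((hU v).1 hv)]
  · obtain ⟨v, rfl⟩ := γ.surjective v
    rw [e, ← map_sub, hU]
    exact hs.2 v ((SI_perp k.toSI hU v).1 hv)

theorem conj_Y (l : S) {W : Submodule F V} (e1 : ∀ v, C.act l v ∈ W ↔ v ∈ U) :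
    (φ l * g * (φ l)⁻¹ ∈ Yg C φ W ↔ g ∈ Yg C φ U) ∧ (φ l * g * (φ l)⁻¹ ∈ Rg C φ W ↔ g ∈ Rg C φ U) ∧
      (φ l * g * (φ l)⁻¹ ∈ Eg C φ W ↔ g ∈ Eg C φ U) :=
  ⟨conj_map_iff φ fun _ => (h.toMod.conj_fix l e1).1,
    conj_map_iff φ fun _ => (h.toMod.conj_fix l e1).2.1,
    conj_map_iff φ fun _ => (h.toMod.conj_fix l e1).2.2⟩

/-- squares in `L × C(L)` -/
theorem sq_split {l c : G} (hl : l ∈ φ.range) (hc : c ∈ centralizer (φ.range : Set G))
    (g2 : l * c * (l * c) = 1) : l * l = 1 ∧ c * c = 1 := by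
  have k : Commute l c := hc l hl
  rw [k.symm.mul_mul_mul_comm, ← mul_one (1 : G)] at g2
  exact h.dec_inj (mul_mem hl hl) (one_mem _) (mul_mem hc hc) (one_mem _) g2

theorem invol (hg : g ∈ normalizer (φ.range : Set G)) (g2 : g * g = 1) :
    (∃ l, l * l = 1 ∧ ∃ c ∈ centralizer (φ.range : Set G), c * c = 1 ∧ g = φ l * c) ∨
      (∃ α γ, Act C φ g α γ ∧ α ≠ 1 ∧ α * α = 1 ∧ ∀ v, γ (γ v) = v) ∨ Sw C φ g := by
  rcases h.exists_act' hg with ⟨α, γ, k⟩ | k
  swap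
  · exact .inr (.inr k)
  have k2 := h.act_mul k k
  rw [g2] at k2
  obtain ⟨h1, h2⟩ := h.act_unique k2 (h.act_cent (one_mem _))
  by_cases h3 : α = 1
  · subst h3
    obtain ⟨l, -, c, hc, rfl⟩ := h.act_one k
    obtain ⟨a1, a2⟩ := h.sq_split ⟨l, rfl⟩ hc g2
    exact .inl ⟨l, h.inj (by rw [map_mul, a1, map_one]), c, hc, a2, rfl⟩
  · exact .inr (.inl ⟨α, γ, k, h3, h1, fun v => LinearEquiv.congr_fun h2 v⟩)

/-- an element of `N(L)` centralising the transvections with centre in `W` -/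
theorem cz {W : Submodule F V} (hW : W ≠ ⊥) (hg : g ∈ normalizer (φ.range : Set G))
    (H : ∀ u ∈ W, ∀ c, Commute g (z C φ u c)) :
    ∃ y ∈ Yg C φ W, ∃ c ∈ centralizer (φ.range : Set G), g = y * c := by
  obtain ⟨u, hu, u0⟩ := (Submodule.ne_bot_iff W).1 hW
  obtain ⟨α, γ, k⟩ := h.act_of_z hg u0 (p := u) (c := 1) (by rw [(H u hu 1).eq, mul_inv_cancel_right])
  have h1 : ∀ u ∈ W, ∀ c, z C φ (γ u) (α c) = z C φ u c := fun u hu c => by
    rw [← h.act_z k, (H u hu c).eq, mul_inv_cancel_right]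
  have h2 : ∀ u ∈ W, γ u = u := fun u hu => h.z_one_inj (by simpa only [map_one] using h1 u hu 1)
  obtain rfl : α = 1 := RingEquiv.ext fun c =>
    h.z_inj (c := α c) (d := c) u0 (by simpa only [h2 u hu] using h1 u hu c)
  obtain ⟨l, hl, hc⟩ := h.act_one k
  exact ⟨_, ⟨l, fun v hv => (hl v).trans (h2 v hv), rfl⟩, hc⟩

theorem cY (hU : TI P U) (hg : g ∈ normalizer (φ.range : Set G))
    (hc : g ∈ centralizer (Yg C φ U : Set G)) :
    ∃ ε ∈ Eg C φ U, ∃ c ∈ centralizer (φ.range : Set G), g = ε * c := by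
  refine h.cz (W := P.perp U) (fun e => ?_) hg fun u hu c =>
    (hc _ (h.τ_mem_Y (map_zero _) hu (zero_mem _) c)).symm
  have h1 := h.toMod.rank_perp U
  have h2 : U = ⊥ := le_bot_iff.1 (e ▸ hU)
  have h3 := h.d4
  rw [e, h2, finrank_bot] at h1
  omega

/-- an element of `Y_U C(L)` centralising `R_U` -/
theorem cR_aux (hU : TI P U) {y : S} (hy : y ∈ C.fixG U) {c : G}
    (hc : c ∈ centralizer (φ.range : Set G)) (H : φ y * c ∈ centralizer (Rg C φ U : Set G))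
    {p : V} (hp : p ∈ U) (p0 : p ≠ 0) (ha : a ∈ P.perp U) : C.act y a + a ∈ span F {p} := by
  have k : P.B p a = 0 := ha p hp
  have c1 : Commute (φ y * c) (τ C φ p a 0) := (H _ (h.τ_mem_R hU hp ha 0)).symm
  have c2 : Commute c (τ C φ p a 0) := (hc _ ⟨_, rfl⟩).symm
  have c3 : Commute (φ y) (τ C φ p a 0) := by simpa using c1.mul_left c2.inv_left
  have e1 := h.τ_conj y k 0
  rw [c3.eq, mul_inv_cancel_right, hy p hp] at e1
  have k' : P.B p (C.act y a) = 0 := by rw [← k, ← C.B_act y p a, hy p hp]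
  exact ((h.τ_eq_iff p0 k' k).1 e1.symm).1

theorem cQ (h0 : e ≠ 0) (hg : g ∈ normalizer (φ.range : Set G))
    (hc : g ∈ centralizer (Rg C φ (span F {e}) : Set G)) :
    ∃ ε ∈ Rg C φ (span F {e}), ∃ c ∈ centralizer (φ.range : Set G), g = ε * c := by
  have hU := h.toMod.ti_pt e
  obtain ⟨_, ⟨y, hy, rfl⟩, c, hc', rfl⟩ := h.cz (W := span F {e}) (by simpa using h0) hg
    fun u hu c => (hc _ (h.τ_mem_R hU hu (zero_mem _) c)).symm
  refine ⟨_, ⟨y, ⟨hy, fun a ha => ?_⟩, rfl⟩, c, hc', rfl⟩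
  rw [h.toMod.vsub_eq]
  exact h.cR_aux hU hy hc' hc (Submodule.mem_span_singleton_self e) h0 ha

theorem cR (hU : TI P U) (h2 : 2 ≤ finrank F U) (hg : g ∈ normalizer (φ.range : Set G))
    (hc : g ∈ centralizer (Rg C φ U : Set G)) :
    ∃ ε ∈ Eg C φ U, ∃ c ∈ centralizer (φ.range : Set G), g = ε * c := by
  have hb : U ≠ ⊥ := fun e => by rw [e, finrank_bot] at h2; omega
  obtain ⟨_, ⟨y, hy, rfl⟩, c, hc', rfl⟩ := h.cz hb hg
    fun u hu c => (hc _ (h.τ_mem_R hU hu (zero_mem _) c)).symm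
  obtain ⟨p, hp, h0⟩ := (Submodule.ne_bot_iff U).1 hb
  obtain ⟨p', hp', h0'⟩ : ∃ p' ∈ U, p' ∉ span F {p} := by
    by_contra hc
    push Not at hc
    have := Submodule.finrank_mono (show U ≤ span F {p} from hc)
    rw [finrank_span_singleton h0] at this
    omega
  refine ⟨_, ⟨y, fun a ha => ?_, rfl⟩, c, hc', rfl⟩
  have a1 := h.cR_aux hU hy hc' hc hp h0 ha
  obtain ⟨m, hm⟩ := Submodule.mem_span_singleton.1
    (h.cR_aux hU hy hc' hc hp' (fun e => h0' (by simp [e])) ha)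
  by_cases m0 : m = 0
  · rw [m0, zero_smul] at hm
    exact h.toMod.veq_of_add hm.symm
  · rw [← hm, Submodule.smul_mem_iff _ m0] at a1
    exact absurd a1 h0'

end Emb

namespace Sit

variable (h : Sit C φ t) {g : G}
include h

theorem cj (g : G) : Sit C ((MulAut.conj g).toMonoidHom.comp φ) (g * t * g⁻¹) :=
  ⟨h.toEmb.cj g, by
    rw [MonoidHom.range_comp]
    exact h.toStd.cj g⟩

theorem tl (l : S) : φ l * t = t * φ l := h.tC _ ⟨l, rfl⟩

theorem tL (hg : g ∈ φ.range) : g * t = t * g := h.tC _ hg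

theorem t_not_mem : t ∉ φ.range := fun e => h.t1 (h.toEmb.eq_one e h.tC)

theorem norm_of (hg : g * t = t * g) : g ∈ normalizer (φ.range : Set G) :=
  h.CN (mem_centralizer_singleton_iff.2 hg)

theorem t_norm {H : Subgroup G} (hH : H ≤ φ.range) : t ∈ normalizer (H : Set G) :=
  centralizer_le_normalizer _ (centralizer_le hH h.tC)

theorem mem_sup_t {H : Subgroup G} (hH : H ≤ φ.range) :
    g ∈ H ⊔ zpowers t ↔ g ∈ H ∨ t * g ∈ H := by
  rw [TwoGrp.mem_sup_zpowers_iff (h.t_norm hH) (h.t2 ▸ one_mem _)]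
  refine or_congr_right ⟨?_, fun k => ⟨_, k, ?_⟩⟩
  · rintro ⟨c, hc, rfl⟩
    rwa [h.tL (hH hc), ← mul_assoc, h.t2, one_mul]
  · rw [h.tL (hH k), ← mul_assoc, h.t2, one_mul]

theorem card_sup_t {H : Subgroup G} (hH : H ≤ φ.range) :
    Nat.card (H ⊔ zpowers t : Subgroup G) = 2 * Nat.card H :=
  TwoGrp.card_sup_zpowers (h.t_norm hH) (h.t2 ▸ one_mem _) fun e => h.t_not_mem (hH e)

theorem InT_sq (hg : g ∈ φ.range) (k : InT t g) : g * g = 1 := by
  obtain ⟨a, e⟩ := k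
  have h1 : t * g * (t * g) = 1 := by rw [← e, conj_mul, h.t2, mul_one, mul_inv_cancel]
  rwa [(show Commute g t from h.tL hg).mul_mul_mul_comm, h.t2, one_mul] at h1

/-- the `C(L)`-part of an element of `C(t)` -/
theorem ct_of {ε c : G} (hε : ε ∈ φ.range) (hg : ε * c * t = t * (ε * c)) : c * t = t * c := by
  rwa [← mul_assoc, ← h.tL hε, mul_assoc, mul_assoc, mul_right_inj] at hg

/-- an involution of `C(t)` -/
theorem invol' (hg : g * t = t * g) (g2 : g * g = 1) :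
    (∃ l, l * l = 1 ∧ (g = φ l ∨ g = t * φ l)) ∨
      (∃ α γ, Act C φ g α γ ∧ α ≠ 1 ∧ α * α = 1 ∧ ∀ v, γ (γ v) = v) ∨ Sw C φ g := by
  refine (h.toEmb.invol (h.norm_of hg) g2).imp_left ?_
  rintro ⟨l, l2, c, hc, c2, rfl⟩
  refine ⟨l, l2, (h.toStd.invol hc (h.ct_of ⟨l, rfl⟩ hg) c2).imp ?_ ?_⟩
  · rintro rfl; exact mul_one _
  · rintro rfl; exact h.tl l

theorem odd_comm {c d : G} (hc : c ∈ centralizer (φ.range : Set G))
    (hd : d ∈ centralizer (φ.range : Set G)) : Odd (orderOf ⁅c, d⁆) := by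
  obtain ⟨O, -, h1, h2⟩ := exists_odd_comm _ h.cyc
  exact h1 _ (h2 c hc d hd)

/-- a 2-element of `N(L)''` lies in `L` -/
theorem mem_of_dd {H : Subgroup G} (hH : H ≤ normalizer (φ.range : Set G))
    (hg : g ∈ ⁅⁅H, H⁆, ⁅H, H⁆⁆ ∨ Small F ∧ g ∈ ⁅H, H⁆) (g2 : g * g = 1) : g ∈ φ.range := by
  obtain ⟨O, hO, h1, h2⟩ := exists_odd_comm _ h.cyc
  have hn : centralizer (φ.range : Set G) ≤ normalizer (φ.range : Set G) :=
    centralizer_le_normalizer _
  have h3 : ∀ K ≤ φ.range ⊔ centralizer (φ.range : Set G), ⁅K, K⁆ ≤ φ.range ⊔ O := fun K hK =>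
    commutator_le.2 fun a ha b hb => by
      obtain ⟨l, hl, c, hc, rfl⟩ := (Core.mem_sup_of_le_normalizer_left hn).1 (hK ha)
      obtain ⟨l', hl', c', hc', rfl⟩ := (Core.mem_sup_of_le_normalizer_left hn).1 (hK hb)
      rw [comm_mul_split (hc l hl) (hc l' hl') (hc' l hl) (hc' l' hl')]
      exact mul_mem_sup (mul_mem (mul_mem (mul_mem hl hl') (inv_mem hl)) (inv_mem hl'))
        (h2 c hc c' hc')
  have h4 : g ∈ φ.range ⊔ O := by
    rcases hg with hg | ⟨hs, hg⟩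
    · refine h3 _ (commutator_le.2 fun a ha b hb => ?_) hg
      obtain ⟨π, hπ⟩ := h.toEmb.exists_out
      have := h.out
      obtain ⟨l, c, hc, e⟩ := (hπ ⁅(⟨a, hH ha⟩ : normalizer (φ.range : Set G)), ⟨b, hH hb⟩⁆).1 (by
        rw [map_commutatorElement, commutatorElement_eq_one_iff_mul_comm]
        exact (IsCyclic.isMulCommutative (α := Cfsg.Out S)).is_comm.comm _ _)
      rw [show ⁅a, b⁆ = φ l * c from e]
      exact mul_mem_sup ⟨l, rfl⟩ hc
    · exact (h.big hs).elim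
  obtain ⟨l, hl, o, ho, rfl⟩ := (Core.mem_sup_of_le_normalizer_left (hO.trans hn)).1 h4
  have h5 := (h.toEmb.sq_split hl (hO ho) g2).2
  rw [← StdInt.odd_pow_sq h5 (h1 o ho), pow_orderOf_eq_one, mul_one]
  exact hl

/-- a 2-element generated by elements of odd order of `C(t)` lies in `L` -/
theorem mem_of_Od (hg : g ∈ UN.Od (centralizer {t})) (h2 : IsPGroup 2 (zpowers g)) :
    g ∈ φ.range := by
  obtain ⟨π, hπ⟩ := h.toEmb.exists_out
  have := h.out
  let _ : CommGroup (Cfsg.Out S) := IsCyclic.commGroup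
  refine UN.mem_of_Od' h.cyc ?_ π (fun n hn => ?_) (UN.Od_mono h.CN hg) h2
  · rw [(eq_bot_iff_forall (φ.range ⊓ centralizer (φ.range : Set G))).2 fun a ha =>
      h.toEmb.eq_one ha.1 ha.2, card_bot]
    exact odd_one
  · obtain ⟨l, c, hc, e⟩ := (hπ n).1 hn
    exact ⟨1, odd_one, by rw [pow_one, e]; exact mul_mem_sup ⟨l, rfl⟩ hc⟩

/-- a perfect subgroup of `C(t)` lies in `L` -/
theorem le_of_perf {H : Subgroup G} (h1 : H ≤ centralizer {t}) (h2 : H ≤ ⁅H, H⁆) : H ≤ φ.range := by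
  have : (φ.range.subgroupOf H).Normal := ⟨fun o ho g =>
    (mem_normalizer_iff.1 (h.CN (h1 g.2)) o).1 ho⟩
  refine UN.odd_le_of_solv h2 (FT.odd_order_solvable (UN.odd_index _ fun g => ?_))
  obtain ⟨m, hm, e⟩ := UN.odd_pow_odd (g : G)
  exact ⟨m, hm, h.mem_of_Od (UN.Od_mono h1 (UN.le_Od_of_perf h2 (pow_mem g.2 m))) e⟩

theorem mem_of_perf {H : Subgroup G} (h1 : H ≤ centralizer {t}) (h2 : H ≤ ⁅H, H⁆) (hg : g ∈ H)
    (g2 : g * g = 1) : g ∈ φ.range :=
  h.mem_of_dd (h1.trans h.CN) (.inl (commutator_mono h2 h2 (h2 hg))) g2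

/-- the decomposition of an element `ε c` of `C(t)` -/
theorem dec (h2 : Two φ.range t) {ε c : G} (hε : ε ∈ φ.range) (hc : c ∈ centralizer (φ.range : Set G))
    (hg : ε * c * t = t * (ε * c)) : ∃ o ∈ centralizer (φ.range : Set G), o * t = t * o ∧
      Odd (orderOf o) ∧ (c = o ∨ c = t * o) :=
  h2.dec hc (h.ct_of hε hg)

/-- conjugates of elements of `C(L) ∩ C(t)` under `N(Y_U ⟨t⟩)` -/
theorem cj_C {U : Submodule F V} (hU : TI P U)
    (hg : g ∈ normalizer ((Yg C φ U ⊔ zpowers t : Subgroup G) : Set G)) {c : G}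
    (h1 : c ∈ centralizer (φ.range : Set G)) (h2 : c * t = t * c) :
    g * c * g⁻¹ * t = t * (g * c * g⁻¹) ∧ ∃ ε ∈ φ.range, ε * ε = 1 ∧
      ∃ c' ∈ centralizer (φ.range : Set G), g * c * g⁻¹ = ε * c' := by
  have h3 : Yg C φ U ⊔ zpowers t ≤ centralizer {c} := sup_le
    (fun y hy => mem_centralizer_singleton_iff.2 (h1 y (h.toEmb.Y_le_L hy)))
    (zpowers_le.2 (mem_centralizer_singleton_iff.2 h2.symm))
  have h4 : ∀ y ∈ Yg C φ U ⊔ zpowers t, y * (g * c * g⁻¹) = g * c * g⁻¹ * y := fun y hy => by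
    have := mem_centralizer_singleton_iff.1 (h3 ((mem_normalizer_iff.1 (inv_mem hg) y).1 hy))
    calc _ = g * (g⁻¹ * y * g⁻¹⁻¹ * c) * g⁻¹ := by group
      _ = _ := by rw [this]; group
  have h5 := (h4 t (mem_sup_right (mem_zpowers t))).symm
  obtain ⟨ε, hε, k⟩ := h.toEmb.cY hU (h.norm_of h5) fun y hy => h4 y (mem_sup_left hy)
  exact ⟨h5, ε, h.toEmb.Y_le_L (h.toEmb.R_le_Y (h.toEmb.E_le_R hU hε)), h.toEmb.E_sq hU hε, k⟩

/-- an element normalising `Y_U ⟨t⟩` permutes the odd elements of `C(L) ∩ C(t)` -/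
theorem nO {U : Submodule F V} (hU : TI P U)
    (hg : g ∈ normalizer ((Yg C φ U ⊔ zpowers t : Subgroup G) : Set G)) {o : G}
    (h1 : o ∈ centralizer (φ.range : Set G)) (h2 : o * t = t * o) (h3 : Odd (orderOf o)) :
    g * o * g⁻¹ ∈ centralizer (φ.range : Set G) ∧ g * o * g⁻¹ * t = t * (g * o * g⁻¹) := by
  obtain ⟨a1, ε, hε, e2, c, hc, e⟩ := h.cj_C hU hg h1 h2
  refine ⟨?_, a1⟩
  have a2 : ε * c ^ orderOf o = 1 * 1 := by
    rw [← StdInt.odd_pow_sq e2 h3, ← (show Commute ε c from hc _ hε).mul_pow, ← e, conj_pow,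
      pow_orderOf_eq_one, mul_one, mul_inv_cancel, mul_one]
  rw [e, (h.toEmb.dec_inj hε (one_mem _) (pow_mem hc _) (one_mem _) a2).1, one_mul]
  exact hc

/-- so its conjugates of elements of `L` are `CO` -/
theorem co_conj {U : Submodule F V} (hU : TI P U)
    (hg : g ∈ normalizer ((Yg C φ U ⊔ zpowers t : Subgroup G) : Set G)) {l : G} (hl : l ∈ φ.range) :
    CO φ.range t (g * l * g⁻¹) := fun o h1 h2 h3 => by
  have := (h.nO hU (inv_mem hg) h1 h2 h3).1 l hl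
  calc _ = g * (l * (g⁻¹ * o * g⁻¹⁻¹)) * g⁻¹ := by group
    _ = _ := by rw [this]; group

theorem co_conj' (hg : g * t = t * g) {p : G} (hp : CO φ.range t p) : CO φ.range t (g * p * g⁻¹) :=
  fun o h1 h2 h3 => by
  have a1 : g⁻¹ * o * g ∈ centralizer (φ.range : Set G) := fun l hl => by
    have := h1 _ ((mem_normalizer_iff.1 (h.norm_of hg) l).1 hl)
    calc _ = g⁻¹ * (g * l * g⁻¹ * o) * g := by group
      _ = _ := by rw [this]; group
  have a2 : g⁻¹ * o * g * t = t * (g⁻¹ * o * g) :=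
    ((show Commute g t from hg).inv_left.mul_left h2).mul_left hg
  have a3 : Odd (orderOf (g⁻¹ * o * g)) := by
    rwa [← (MulAut.conj g⁻¹).orderOf_eq, MulAut.conj_apply, inv_inv] at h3
  have := hp _ a1 a2 a3
  calc _ = g * (p * (g⁻¹ * o * g)) * g⁻¹ := by group
    _ = _ := by rw [this]; group

theorem two_of {U : Submodule F V} (hU : TI P U)
    (hg : g ∈ normalizer ((Yg C φ U ⊔ zpowers t : Subgroup G) : Set G)) (h1 : g * t * g⁻¹ ≠ t) :
    Two φ.range t := fun c hc ct h2 => by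
  obtain ⟨k, hk⟩ := Core.isPGroup_zpowers_iff.1 h2
  clear h2
  induction k generalizing c with
  | zero => exact .inl (by simpa using hk)
  | succ k ih =>
    rcases ih (c * c) (mul_mem hc hc) (Commute.mul_left ct ct)
      (by rw [← pow_two, ← pow_mul, ← pow_succ', hk]) with e1 | e1
    · exact h.toStd.invol hc ct e1
    · obtain ⟨a1, ε, hε, e2, c', hc', e⟩ := h.cj_C hU hg hc ct
      have a2 : g * t * g⁻¹ = g * c * g⁻¹ * (g * c * g⁻¹) := by rw [conj_mul, e1]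
      have a3 : g * t * g⁻¹ ∈ centralizer (φ.range : Set G) := by
        rw [a2, e, (show Commute ε c' from hc' _ hε).symm.mul_mul_mul_comm, e2, one_mul]
        exact mul_mem hc' hc'
      rcases h.toStd.invol a3 (a2 ▸ Commute.mul_left a1 a1)
        (by rw [conj_mul, h.t2, mul_one, mul_inv_cancel]) with a4 | a4
      · exact absurd (by simpa using a4) h.t1
      · exact absurd a4 h1

end Sit

end CfsgLib.SP4
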