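import Cfsg.Agent.Lib.SP4.Defs
import Cfsg.Agent.Lib.SPC.ADefs

/-! Type A: definitions -/

set_option autoImplicit false
set_option linter.unusedSectionVars false

namespace CfsgLib.SP4

open Subgroup Module CfsgLib.Forms CfsgLib.LieMult
open CfsgLib.HX (Std CO Two Mv M2 QA)
open CfsgLib.UN (AV SI TI HH Rad Stb Yg Rg Eg Act nu Bas Nh flag Ub Uni TD Od)
open CfsgLib.UN.SB (D)
open CfsgLib.ClSys (II)
open Submodule (span)
open scoped commutatorElement Pointwise

universe u

variable {F : Type} [Field F] [Finite F] {V : Type} [AddCommGroup V] [Module F V]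
  [FiniteDimensional F V] {P : PQ (RingHom.id F) V} {S : Type} [Group S] [Finite S] {G : Type u}
  [Group G] [Finite G] {C : CG P S} {φ : S →* G} {t : G}

export CfsgLib.SPC (rta ent R2 GA ZA xmA xlA)

section
variable (C φ)

/-- type A together with the relation (Yw) -/
structure HA2 (t : G) (w : V → V → G) (y : V → F → G) (δ : F) : Prop extends HA C φ t w y δ where
  Yw' : ∀ (e u c : V) (β : F), P.B e u = 0 → P.B e c = 0 → y u β * w e c * y u β =
    w e c * w e ((P.B c u * β) • u) * x C φ e ((δ * P.B c u * β) • u) *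
      y e ((1 + δ) * P.B c u * P.B c u * β) * z C φ e (δ * P.B c u * P.B c u * β)

/-- field case -/
structure AF (t : G) (w : V → V → G) (y : V → F → G) (δ : F) {k : ℕ} (b : Basis (Fin (2 * k)) F V)
    {K : Type} [Field K] {V' : Type} [AddCommGroup V'] [Module K V'] {P' : PQ (RingHom.id K) V'}
    {S' : Type} [Group S'] (C' : CG P' S') (ψ : S' →* G) (b' : Basis (Fin (2 * k)) K V')
    (σ : RingAut K) : Prop extends HA2 C φ t w y δ where
  emb : Emb C' ψ
  hb : Bas P b
  hb' : Bas P' b'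
  σ1 : σ ≠ 1
  σ2 : σ * σ = 1
  ext : ∀ i j c, j ≠ i.rev → ∃ d, φ (rta C b i j c) = ψ (rta C' b' i j d)
  tc : ∀ i j c, j ≠ i.rev → t * ψ (rta C' b' i j c) * t⁻¹ = ψ (rta C' b' i j (σ c))
  eqG : ψ.range = GA φ y

/-- product case -/
structure AP (t : G) (w : V → V → G) (y : V → F → G) (δ : F) (φ₁ φ₂ : S →* G) : Prop
    extends HA2 C φ t w y δ where
  emb₁ : Emb C φ₁
  emb₂ : Emb C φ₂
  c12 : ∀ s s', Commute (φ₁ s) (φ₂ s')
  ext : ∀ s, φ s = φ₁ s * φ₂ s
  tc : ∀ s, t * φ₁ s * t⁻¹ = φ₂ s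
  eqG : φ₁.range ⊔ φ₂.range = GA φ y

end

end CfsgLib.SP4
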