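import Cfsg.Agent.Lib.SP4.Defs
import Cfsg.Agent.Lib.SPC.Inst
import Cfsg.Agent.Lib.ClAut.Sp4

/-! The matrix model -/

set_option autoImplicit false
set_option linter.unusedSectionVars false

namespace CfsgLib.SP4

open Subgroup Module CfsgLib.Forms CfsgLib.LieMult
open CfsgLib.HX (Std CO Two Mv M2)
open CfsgLib.UN (AV SI TI HH Rad Stb Yg Rg Eg Act nu)
open CfsgLib.ClSys (II)
open Submodule (span)
open scoped commutatorElement Pointwise

universe u

variable {F : Type} [Field F] [Finite F] {V : Type} [AddCommGroup V] [Module F V]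
  [FiniteDimensional F V] {P : PQ (RingHom.id F) V} {S : Type} [Group S] [Finite S] {G : Type u}
  [Group G] [Finite G] {C : CG P S} {φ : S →* G} {t : G}

section Inst
open CfsgLib.ClAut CfsgLib.SPC

theorem inst_sem (h2 : (2 : F) = 0) (θ : MulAut (Matrix.symplecticGroup (Fin 2) F))
    (h : MulAut.congr (MulEquiv.ofBijective _ (mk_bij (k := 2) h2)) θ ∈ (pspInd 2 F).range) :
    Sem (cgSp 2 h2) θ := by
  have : CharP F 2 := CharTwo.of_one_ne_zero_of_two_eq_zero one_ne_zero h2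
  set e := MulEquiv.ofBijective _ (mk_bij (k := 2) h2)
  obtain ⟨x, hx⟩ := h
  obtain ⟨c, hc⟩ := x.2
  obtain ⟨d, hd⟩ := isSquare_of_charTwo' (c⁻¹ : F)
  have d0 : d ≠ 0 := fun e => inv_ne_zero c.ne_zero (by rw [hd, e, mul_zero])
  refine ⟨x.1.right, ((ClAut.gamEquiv x.1).trans
    (LinearEquiv.smulOfNeZero F _ d d0).toAddEquiv).toIntLinearEquiv, ⟨fun a v => ?_, fun v w => ?_⟩,
    fun s s' H => e.injective ?_⟩
  · show d • ClAut.gamAct x.1 (a • v) = _ • d • ClAut.gamAct x.1 v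
    rw [ClAut.gamAct_smul, smul_comm]
  · show spB (Fin 2) F (d • ClAut.gamAct x.1 v) (d • ClAut.gamAct x.1 w) = x.1.right (spB (Fin 2) F v w)
    rw [map_smul, map_smul, LinearMap.smul_apply, smul_smul, ← hd, spB_eq_sympForm, spB_eq_sympForm, hc,
      smul_eq_mul, inv_mul_cancel_left₀ c.ne_zero]
  · have h1 : ClAut.pspInd 2 F x (e s) = e s' := ClAut.gamInd_mk x (Units.ext (matrix_ext_mulVec fun v => by
      obtain ⟨v, rfl⟩ := ClAut.gamAct_surjective x.1 v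
      rw [ClAut.gamAut_mulVec]
      exact smul_right_injective _ d0 ((Matrix.mulVec_smul _ _ _).symm.trans (H v))))
    simpa [hx] using h1

theorem inst_tv (h2 : (2 : F) = 0) {a : Matrix.symplecticGroup (Fin 2) F} :
    PTv (spPQ (Fin 2) F) (glRep (spTau 2 F)) a ↔ ∃ p, p ≠ 0 ∧ a = (cgSp 2 h2).T p 0 1 := by
  have : CharP F 2 := CharTwo.of_one_ne_zero_of_two_eq_zero one_ne_zero h2
  have T : ∀ p v, (cgSp 2 h2).act ((cgSp 2 h2).T p 0 1) v = v + (spPQ (Fin 2) F).B p v • p := fun p v => by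
    rw [(cgSp 2 h2).T_apply ⟨trivial, map_zero _, trivial⟩, tfun, smul_zero, sub_zero, map_zero,
      LinearMap.zero_apply, zero_sub, map_one, one_mul, CharTwo.neg_eq]
  constructor
  · rintro ⟨x, d, -, x0, d0, h⟩
    obtain ⟨s, rfl⟩ := isSquare_of_charTwo' d
    refine ⟨s • x, smul_ne_zero (left_ne_zero_of_mul d0) x0, (cgSp 2 h2).ext fun v => ?_⟩
    rw [T]
    refine ((LinearMap.congr_fun h v).trans (PQ.qrefl_apply _ _ _ _)).trans ?_
    rw [smul_smul, map_smulₛₗ, LinearMap.smul_apply, smul_eq_mul, RingHom.id_apply, mul_right_comm s _ s]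
  · rintro ⟨p, p0, rfl⟩
    exact ⟨p, 1, trivial, p0, one_ne_zero, LinearMap.ext fun v => by
      rw [PQ.qrefl_apply, one_mul]; exact T p v⟩

theorem inst_short (h2 : (2 : F) = 0) {a : Matrix.symplecticGroup (Fin 2) F} :
    PShort (spPQ (Fin 2) F) (glRep (spTau 2 F)) a ↔
      ∃ p b, Ln (spPQ (Fin 2) F) p b ∧ a = (cgSp 2 h2).T p b 0 := by
  have : CharP F 2 := CharTwo.of_one_ne_zero_of_two_eq_zero one_ne_zero h2
  have T : ∀ p b v, (spPQ (Fin 2) F).B p b = 0 → (cgSp 2 h2).act ((cgSp 2 h2).T p b 0) v =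
      v + (spPQ (Fin 2) F).B p v • b + (spPQ (Fin 2) F).B b v • p := fun p b v h => by
    rw [(cgSp 2 h2).T_apply ⟨trivial, h, trivial⟩, tfun, map_zero, zero_mul, sub_zero, sub_eq_add_neg,
      ← neg_smul, CharTwo.neg_eq, add_right_comm]
  constructor
  · rintro ⟨p, b, h1, h3, h⟩
    refine ⟨p, b, ⟨fun e => one_ne_zero (h1 1 0 (by simp [e])).1, fun e => ?_, h3⟩,
      (cgSp 2 h2).ext fun v => (h v).trans (T p b v h3).symm⟩
    obtain ⟨c, rfl⟩ := Submodule.mem_span_singleton.1 e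
    exact neg_ne_zero.2 one_ne_zero (h1 c (-1) (by simp)).2
  · rintro ⟨p, b, h, rfl⟩
    refine ⟨p, b, fun s t e => ?_, h.perp, fun v => T p b v h.perp⟩
    have t0 : t = 0 := by
      by_contra t0
      refine h.nmem (Submodule.mem_span_singleton.2 ⟨-(t⁻¹ * s), ?_⟩)
      rw [neg_smul, mul_smul, eq_neg_of_add_eq_zero_left e, smul_neg, neg_neg, inv_smul_smul₀ t0]
    rw [t0, zero_smul, add_zero] at e
    exact ⟨(smul_eq_zero.1 e).resolve_right h.ne, t0⟩

/-- an automorphism that is not semilinear sends transvections to short root elements -/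
theorem inst_swap (h2 : (2 : F) = 0) {β : MulAut (Cfsg.PSp 2 F)} (hβ : β ∉ (pspInd 2 F).range)
    {t a : Matrix.symplecticGroup (Fin 2) F} (ht : PTv (spPQ (Fin 2) F) (glRep (spTau 2 F)) t)
    (h : Rel β t a) : PShort (spPQ (Fin 2) F) (glRep (spTau 2 F)) a := by
  have : CharP F 2 := CharTwo.of_one_ne_zero_of_two_eq_zero one_ne_zero h2
  have hZ0 := Symp.center_eq_bot_of_two_eq_zero (F := F) (m := 2) h2
  have hZ := centerPrime_sp (F := F) (m := 2) (p := 2) le_rfl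
  have hρ : PolRep (spPQ (Fin 2) F) (glRep (spTau 2 F)) := specRep_sp.polRep (p := 2)
  have hfull : ∀ g : (Fin 2 ⊕ Fin 2 → F) ≃ₗ[F] (Fin 2 ⊕ Fin 2 → F), (spPQ (Fin 2) F).IsIso g →
      ∃ h, ∀ v, glRep (spTau 2 F) h v = g v := fun g hg => exists_sp_of_linearMap g.toLinearMap hg
  have hu : Unip 2 a := let ⟨k, hk⟩ := ht.unip (p := 2) hρ
    ⟨k, (Rel.eq_one_iff hZ0 hZ0 (h.pow _)).1 hk⟩
  have key2 : ∀ (β : MulAut (Cfsg.PSp 2 F)) a a' b b', Rel β a a' → Rel β b b' → Unip 2 b' →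
      PTv (spPQ (Fin 2) F) (glRep (spTau 2 F)) a → PTv (spPQ (Fin 2) F) (glRep (spTau 2 F)) a' →
      PTv (spPQ (Fin 2) F) (glRep (spTau 2 F)) b → PTv (spPQ (Fin 2) F) (glRep (spTau 2 F)) b' := by
    intro β a a' b b' h1 h2 h3 h4 h5 h6
    obtain ⟨g, rfl⟩ := h4.exists_conj hρ hfull rfl h6
    obtain ⟨g', hg⟩ := Rel.total β g
    rw [h2.unique hZ (h1.conj hg) h3 ((h5.unip hρ).conj g')]
    exact h5.conj hρ g'
  exact (hρ.pTv_or_pShort hfull rfl (by rw [finrank_sp]; omega)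
    (h.pCent hZ hZ hu (hρ.pCent_of_pTv hfull rfl ht)) (h.noFour hZ0 hZ0 (ht.noFour hρ))).resolve_left
    fun ha => hβ (mem_range_pspInd_of_pTv (p := 2) le_rfl β fun b b' h3 h4 h5 =>
      ⟨key2 β t a b b' h h3 h5 ht ha, key2 β.symm a t b' b h.symm h3.symm h4 ha ht⟩)

theorem inst_gr (h2 : (2 : F) = 0) : ∃ θ, Gr (cgSp 2 h2) θ := by
  have : CharP F 2 := CharTwo.of_one_ne_zero_of_two_eq_zero one_ne_zero h2
  let e := MulEquiv.ofBijective _ (mk_bij (k := 2) h2)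
  have hρ : PolRep (spPQ (Fin 2) F) (glRep (spTau 2 F)) := specRep_sp.polRep (p := 2)
  have hfull : ∀ g : (Fin 2 ⊕ Fin 2 → F) ≃ₗ[F] (Fin 2 ⊕ Fin 2 → F), (spPQ (Fin 2) F).IsIso g →
      ∃ h, ∀ v, glRep (spTau 2 F) h v = g v := fun g hg => exists_sp_of_linearMap g.toLinearMap hg
  obtain ⟨γ, -, h1, h3⟩ := exists_graph_sp4 (φ := frobeniusEquiv F 2) fun _ => rfl
  obtain ⟨θ, rfl⟩ := (MulAut.congr e).surjective γ
  have r : ∀ (θ : MulAut (Matrix.symplecticGroup (Fin 2) F)) a, Rel (MulAut.congr e θ) a (θ a) :=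
    fun θ a => show MulAut.congr e θ (e a) = e (θ a) by simp
  refine ⟨θ, fun θ' => (h3 (MulAut.congr e θ')).imp (inst_sem h2 _) fun h => inst_sem h2 _ ?_,
    fun p hp => (inst_short h2).1 (inst_swap h2 h1 ((inst_tv h2).2 ⟨p, hp, rfl⟩) (r θ _)),
    fun p a h => (inst_tv h2).1 ?_⟩
  · rwa [map_mul, map_inv]
  · have ht := (inst_tv h2).2 ⟨p, h.ne, rfl⟩
    obtain ⟨m, hm⟩ := (inst_swap h2 (β := MulAut.congr e θ⁻¹) (by rwa [map_inv, inv_mem_iff]) ht
      (r θ⁻¹ _)).exists_conj hρ hfull rfl ((inst_short h2).2 ⟨p, a, h, rfl⟩)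
    rw [hm, map_mul, map_mul, map_inv, MulAut.apply_inv_self]
    exact ht.conj hρ _

theorem inst_card (hq : ¬ Small F) [Fintype F] : 3 ≤ Fintype.card F := by
  simp only [SPC.Small, not_forall, not_or] at hq
  obtain ⟨c, c0, c1⟩ := hq
  exact Fintype.two_lt_card_iff.2 ⟨c, 0, 1, c0, c1, zero_ne_one⟩

end Inst

-- copy SPC/Inst `exists_mod`; `gr`: θ = transport of γ from `ClAut.exists_graph_sp4` (its 3rd part gives
-- `Gr.aut` as in SPC `exists_mod`); za/az: see ClAut/Sp4 (pTv_or_pShort, not_pTv_sp4Star, PShort.exists_conj,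
-- γ * γ = Frobenius); `out`: `ClAut.out_psp_four` transported along `mk_bij`; `mult`: S2092
theorem exists_mod (h2 : (2 : F) = 0) (hq : ¬ Small F) :
    ∃ (P : PQ (RingHom.id F) (Fin 2 ⊕ Fin 2 → F)) (C : CG P (Matrix.symplecticGroup (Fin 2) F)),
      Mod C := by
  let _ := Fintype.ofFinite F
  have : CharP F 2 := CharTwo.of_one_ne_zero_of_two_eq_zero one_ne_zero h2
  let e := MulEquiv.ofBijective _ (SPC.mk_bij (k := 2) h2)
  have := Symp.isSimpleGroup_PSp (F := F) (m := 2) le_rfl fun _ => inst_card hq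
  refine ⟨_, SPC.cgSp 2 h2, h2, rfl, fun g hg => exists_sp_of_linearMap g ((spPQ_isIso _ _ _).2 hg),
    ClAut.finrank_sp, hq, e.isSimpleGroup, inst_gr h2, ?_, HX.M2.of_equiv ?_ e.symm⟩
  · obtain ⟨n, -, hn⟩ := FiniteField.card F 2
    refine (QuotientGroup.congr (Cfsg.Inn _) (Cfsg.Inn _) (MulAut.congr e) ?_).isCyclic.2
      (ClAut.out_psp_four hn).1
    ext β
    constructor
    · rintro ⟨_, ⟨g, rfl⟩, rfl⟩
      exact ⟨e g, by ext; simp⟩
    · rintro ⟨h, rfl⟩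
      exact ⟨_, ⟨e.symm h, rfl⟩, by ext; simp⟩
  · have h := Cfsg.Agent.S2092.result (F := F) rfl 2 le_rfl (fun _ => inst_card hq) (by omega)
    have hn := (Nat.dvd_prime Nat.prime_two).1 (Nat.gcd_dvd_left 2 (Fintype.card F - 1))
    generalize Nat.gcd 2 (Fintype.card F - 1) = n at h hn
    intro Γ _ _ σ hσ
    obtain ⟨π, hπ⟩ := h.2 Γ σ hσ
    refine IsPGroup.of_surjective (IsPGroup.of_card (n := n - 1) ?_) π hπ
    rcases hn with rfl | rfl <;> simp

theorem equiv_PSp (h2 : (2 : F) = 0) :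
    Nonempty (Matrix.symplecticGroup (Fin 2) F ≃* Cfsg.PSp 2 F) := by
  exact ⟨MulEquiv.ofBijective _ (SPC.mk_bij h2)⟩

/-- a symplectic group in the sense of `Mod` is the matrix group -/
theorem Mod.equiv_PSp (h : Mod C) : Nonempty (S ≃* Cfsg.PSp 2 F) := by
  obtain ⟨e, he⟩ := P.exists_isIso₂_spPQ (m := 2) C.nondeg h.lam h.d4
  exact ⟨((MulEquiv.ofBijective (C.act.codRestrict P.isom C.iso) ⟨fun _ _ e => C.inj (congrArg Subtype.val e),
    fun g => (h.full (g : V ≃ₗ[F] V).toLinearMap g.2.B_eq).imp fun _ hs =>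
      Subtype.ext (LinearEquiv.ext hs)⟩).trans (PQ.isomCongr he)).trans
    ((spEquiv _ F).symm.trans (MulEquiv.ofBijective _ (SPC.mk_bij h.two)))⟩

theorem exists_model (K : Type) [Field K] [Finite K] (h2 : (2 : K) = 0) (hq : ¬ Small K) :
    ∃ (V : Type) (_ : AddCommGroup V) (_ : Module K V) (_ : FiniteDimensional K V)
      (P : PQ (RingHom.id K) V) (S : Type) (_ : Group S) (_ : Finite S) (C : CG P S),
      Mod C ∧ finrank K V = 2 * 2 ∧ Nonempty (S ≃* Cfsg.PSp 2 K) := by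
  obtain ⟨P, C, h⟩ := exists_mod h2 hq
  exact ⟨_, _, _, inferInstance, P, _, _, inferInstance, C, h, ClAut.finrank_sp, equiv_PSp h2⟩

end CfsgLib.SP4
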