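import Cfsg.Agent.Lib.SP4.ASyl0

/-! The Sylow subgroup of a basis -/

set_option autoImplicit false
set_option linter.unusedSectionVars false

namespace CfsgLib.SP4

open Subgroup Module CfsgLib.Forms CfsgLib.LieMult
open CfsgLib.HX (Std CO Two Mv M2 QA)
open CfsgLib.UN (AV SI TI HH Rad Stb Yg Rg Eg Act nu Bas Nh flag Ub Uni TD Od)
open CfsgLib.UN.SB (D)
open CfsgLib.ClSys (II)
open Submodule (span)
open scoped commutatorElement Pointwise

universe u

variable {F : Type} [Field F] [Finite F] {V : Type} [AddCommGroup V] [Module F V]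
  [FiniteDimensional F V] {P : PQ (RingHom.id F) V} {S : Type} [Group S] [Finite S] {G : Type u}
  [Group G] [Finite G] {C : CG P S} {φ : S →* G} {t : G}

theorem asyl_lead {m l : ℕ} {b : Basis (Fin m) F V} (hl : 0 < l) {s s' : S} (hs : s ∈ D C b l) (hs' : s' ∈ D C b l) :
    nu C (s * s') - nu C s - nu C s' ∈ Nh b (l + 1) := by
  convert UN.Nh_anti b (show l + 1 ≤ l + l by omega) (UN.Nh_mul b hs.2 hs'.2) using 1
  rw [UN.SB.nu_mul]
  abel

namespace Mod

variable (h : Mod C) {k : ℕ} {b : Basis (Fin (2 * k)) F V} (hb : Bas P b) {i j : Fin (2 * k)} {l : ℕ} {s : S}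
include h hb

theorem asyl_perp (e : j ≠ i.rev) (c : F) : P.B (b i) (c • b j) = 0 := by
  have _ := h
  rw [P.B_smul_right, hb, if_neg e, mul_zero]

theorem rta_app (e : j ≠ i.rev) (c : F) (v : V) : nu C (rta C b i j c) v =
    if i = j then (c * b.repr v i.rev) • b i
    else (c * b.repr v j.rev) • b i + (c * b.repr v i.rev) • b j := by
  rw [UN.SB.nu_apply, rta]
  split_ifs with e'
  · rw [h.z_app, add_sub_cancel_left, UN.SB.B_bas hb]
  · rw [h.x_app (h.asyl_perp hb e c), add_assoc, add_sub_cancel_left, h.B_smul_left, UN.SB.B_bas hb,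
      UN.SB.B_bas hb, smul_smul, mul_comm _ c]

omit h hb in
theorem asyl_ne (e : j ≠ i.rev) : i ≠ j.rev := fun e' => e (by rw [e', Fin.rev_rev])

theorem rta_symm (e : j ≠ i.rev) (c : F) : rta C b i j c = rta C b j i c := by
  by_cases e' : i = j
  · rw [e']
  · refine asyl_ext (C := C) (LinearMap.ext fun v => ?_)
    rw [h.rta_app hb e, h.rta_app hb (asyl_ne e), if_neg e', if_neg (Ne.symm e'), add_comm]

theorem rta_add (e : j ≠ i.rev) (c d : F) : rta C b i j (c + d) = rta C b i j c * rta C b i j d := by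
  unfold rta
  split_ifs with e'
  · rw [h.T_mul (map_zero _) (map_zero _), add_zero, map_zero, add_zero]
  · rw [h.T_mul (h.asyl_perp hb e c) (h.asyl_perp hb e d), add_smul, h.B_smul_left, P.B_smul_right, h.B_self]
    simp

theorem nu_rta (e : j ≠ i.rev) (c : F) : nu C (rta C b i j c) = c • nu C (rta C b i j 1) :=
  LinearMap.ext fun v => by
    rw [LinearMap.smul_apply, h.rta_app hb e, h.rta_app hb e]
    split_ifs <;> simp [smul_smul]

/-- the entries of a root element -/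
theorem asyl_ent (e : j ≠ i.rev) (c : F) (p q : Fin (2 * k)) : b.repr (nu C (rta C b i j c) (b q)) p =
    if (p = i ∧ q = j.rev) ∨ (p = j ∧ q = i.rev) then c else 0 := by
  rw [h.rta_app hb e]
  by_cases e' : i = j
  · subst e'
    by_cases e1 : p = i <;> by_cases e2 : q = i.rev <;> simp [e1, e2, eq_comm]
  · have e3 : i.rev ≠ j.rev := fun e => e' (Fin.rev_injective e)
    rw [if_neg e']
    by_cases e1 : p = i
    · subst e1
      by_cases e2 : q = j.rev <;> by_cases e5 : q = p.rev <;> simp_all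
    · by_cases e4 : p = j
      · subst e4
        by_cases e2 : q = i.rev <;> by_cases e5 : q = p.rev <;> simp_all
      · simp [e1, e4]

omit h hb in
theorem asyl_ne' (e : (i : ℕ) + j + 1 < 2 * k) : j ≠ i.rev := fun e' => by
  have := congrArg Fin.val e'
  rw [Fin.val_rev] at this
  omega

theorem rta_mem_D (hl : 0 < l) (e : (i : ℕ) + j + l < 2 * k) (c : F) : rta C b i j c ∈ D C b l :=
  (UN.SB.mem_D hl).2 fun p q e' => by
    rw [h.asyl_ent hb (asyl_ne' (by omega)), if_neg]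
    rintro (⟨rfl, rfl⟩ | ⟨rfl, rfl⟩) <;> rw [Fin.val_rev] at e' <;> omega

theorem D_sq (hl : 0 < l) (hs : s ∈ D C b l) : s * s ∈ D C b (l + 1) := by
  have _ := hb
  refine ⟨mul_mem hs.1 hs.1, ?_⟩
  convert asyl_lead hl hs hs using 1
  rw [sub_sub, show nu C s + nu C s = 0 from LinearMap.ext fun v => h.vadd_self _, sub_zero]

theorem asyl_symm (hl : 0 < l) (hs : nu C s ∈ Nh b l) (e : (i : ℕ) + j + l + 1 = 2 * k) :
    b.repr (nu C s (b j.rev)) i = b.repr (nu C s (b i.rev)) j := by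
  have h1 := C.B_act s (b i.rev) (b j.rev)
  have := Fin.val_rev j
  have := Fin.val_rev i
  have h2 : P.B (nu C s (b i.rev)) (nu C s (b j.rev)) = 0 :=
    P.mem_perp.1 ((h.perp_flag hb (r := i.rev + 1 - l) (by omega)).ge (UN.flag_mono b (by omega)
      ((UN.mem_Nh b).1 hs _ _ (UN.b_mem_flag b (Nat.lt_succ_self _))))) _
      ((UN.mem_Nh b).1 hs _ _ (UN.b_mem_flag b (Nat.lt_succ_self _)))
  rw [UN.SB.act_eq, UN.SB.act_eq s (b j.rev), P.B_add_left, P.B_add_right, P.B_add_right, add_assoc, add_eq_left,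
    h2, add_zero, UN.SB.B_bas hb, h.B_comm, UN.SB.B_bas hb, Fin.rev_rev, Fin.rev_rev] at h1
  exact h.eq_of_add h1

theorem asyl_layer (hl : 0 < l) {H : Subgroup S} (h1 : D C b (l + 1) ≤ H)
    (h2 : ∀ i j : Fin (2 * k), (i : ℕ) + j + l + 1 = 2 * k → ∀ c, rta C b i j c ∈ H) : D C b l ≤ H := by
  suffices ∀ n, n ≤ 2 * k → ∀ s ∈ D C b l, (∀ p q : Fin (2 * k), (q : ℕ) = p + l → (p : ℕ) < n →
    b.repr (nu C s (b q)) p = 0) → s ∈ H from fun s hs => this 0 (Nat.zero_le _) s hs fun _ _ _ e => absurd e (by omega)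
  intro n hn
  refine Nat.decreasingInduction' (P := fun n => ∀ s ∈ D C b l, (∀ p q : Fin (2 * k), (q : ℕ) = p + l → (p : ℕ) < n →
    b.repr (nu C s (b q)) p = 0) → s ∈ H) (fun n h4 _ ih s hs f => ?_) hn fun s hs f =>
      h1 ((UN.SB.mem_D (by omega)).2 fun p q e => (Nat.lt_or_ge q (p + l)).elim (hs.2 p q) fun e' =>
        f p q (by omega) p.2)
  by_cases h5 : 2 * k ≤ n + l
  · exact ih s hs fun p q e e' => f p q e (by omega)
  obtain ⟨i, rfl⟩ : ∃ i : Fin (2 * k), n = i := ⟨⟨n, h4⟩, rfl⟩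
  obtain ⟨j, hj⟩ : ∃ j : Fin (2 * k), (i : ℕ) + j + l + 1 = 2 * k := ⟨⟨2 * k - 1 - i - l, by omega⟩, by simp only; omega⟩
  have ri := Fin.val_rev i
  have rj := Fin.val_rev j
  have step : ∀ t ∈ D C b l, t ∈ H → b.repr (nu C t (b j.rev)) i = b.repr (nu C s (b j.rev)) i →
      (∀ p q : Fin (2 * k), (q : ℕ) = p + l → p < i → b.repr (nu C t (b q)) p = 0) → s ∈ H := fun t ht ht' e g =>
    (mul_mem_cancel_right ht').1 (ih _ (mul_mem hs ht) fun p q e1 e2 => by
      rw [UN.SB.ent_mul hl hs.2 ht.2 e1]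
      by_cases e3 : p < i
      · rw [f p q e1 e3, g p q e1 e3, add_zero]
      · obtain rfl : p = i := Fin.ext (by omega)
        obtain rfl : q = j.rev := Fin.ext (by omega)
        rw [e, h.add_self])
  rcases le_or_gt i j with lt | lt
  · refine step _ (h.rta_mem_D hb hl (by omega) _) (h2 i j hj (b.repr (nu C s (b j.rev)) i)) ?_ fun p q _ e => ?_
    · rw [h.asyl_ent hb (asyl_ne' (by omega)), if_pos (Or.inl ⟨rfl, rfl⟩)]
    · rw [h.asyl_ent hb (asyl_ne' (by omega)), if_neg]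
      rintro (⟨rfl, -⟩ | ⟨rfl, -⟩)
      · exact lt_irrefl _ e
      · exact absurd lt (not_le.2 e)
  · exact step 1 (one_mem _) (one_mem _) (by
      rw [UN.SB.nu_one, h.asyl_symm hb hl hs.2 hj, f j _ (by omega) lt]; simp) fun p q _ _ => by simp [UN.SB.nu_one]

/-- the layers are generated by root elements -/
theorem gen_D (hl : 0 < l) {H : Subgroup S}
    (hH : ∀ i j : Fin (2 * k), (i : ℕ) + j + l < 2 * k → ∀ c, rta C b i j c ∈ H) : D C b l ≤ H :=
  UN.SB.down fun _ hl' ih => h.asyl_layer hb (by omega) ih fun i j e => hH i j (by omega)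

/-- the layers are vector spaces -/
theorem D_scal (hl : 0 < l) (hs : s ∈ D C b l) (c : F) :
    ∃ s' ∈ D C b l, nu C s' - c • nu C s ∈ Nh b (l + 1) := by
  have key := h.gen_D hb hl (H := closure {s | ∃ i j : Fin (2 * k), (i : ℕ) + j + l < 2 * k ∧ ∃ c, s = rta C b i j c})
    (fun i j e c => subset_closure ⟨i, j, e, c, rfl⟩) hs
  suffices s ∈ D C b l ∧ ∃ s' ∈ D C b l, nu C s' - c • nu C s ∈ Nh b (l + 1) from this.2
  clear hs
  induction key using closure_induction with
  | mem x hx =>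
    obtain ⟨i, j, e, d, rfl⟩ := hx
    refine ⟨h.rta_mem_D hb hl e d, _, h.rta_mem_D hb hl e (c * d), ?_⟩
    rw [h.nu_rta hb (asyl_ne' (by omega)), h.nu_rta hb (asyl_ne' (by omega)) d, smul_smul, sub_self]
    exact zero_mem _
  | one => exact ⟨one_mem _, 1, one_mem _, by rw [UN.SB.nu_one, smul_zero, sub_zero]; exact zero_mem _⟩
  | mul x y _ _ hx hy =>
    obtain ⟨h1, x', h2, h3⟩ := hx
    obtain ⟨h4, y', h5, h6⟩ := hy
    refine ⟨mul_mem h1 h4, _, mul_mem h2 h5, ?_⟩
    convert sub_mem (add_mem (add_mem (asyl_lead hl h2 h5) h3) h6) (Submodule.smul_mem _ c (asyl_lead hl h1 h4)) using 1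
    module
  | inv x _ hx =>
    obtain ⟨h1, x', h2, h3⟩ := hx
    refine ⟨inv_mem h1, _, inv_mem h2, ?_⟩
    have a := asyl_lead hl (inv_mem h1) h1
    have a' := asyl_lead hl (inv_mem h2) h2
    rw [inv_mul_cancel, UN.SB.nu_one] at a a'
    convert sub_mem (sub_mem (Submodule.smul_mem _ c a) a') h3 using 1
    module

theorem asyl_Ub {H : Subgroup S} (hH : ∀ i j : Fin (2 * k), j ≠ i.rev → ∀ c, rta C b i j c ∈ H) : Ub C b ≤ H :=
  UN.SB.D_one.ge.trans (h.gen_D hb one_pos fun i j e => hH i j (asyl_ne' e))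

theorem gen_rta {H : Subgroup S} (hH : ∀ i j : Fin (2 * k), j ≠ i.rev → ∀ c, rta C b i j c ∈ H) :
    H = ⊤ := by
  have e0 : ∀ i, b.reindex Fin.revPerm i = b i.rev := fun i => by simp
  have hb' : Bas P (b.reindex Fin.revPerm) := fun i j => by
    rw [e0, e0, hb]
    simp only [Fin.rev_inj]
  have h1 := (h.E_le_Ub hb).trans (h.asyl_Ub hb hH)
  have h2 := (h.E_le_Ub hb').trans (h.asyl_Ub hb' (H := H) fun i j e c => by
    have := hH i.rev j.rev (fun e' => e (Fin.rev_injective e')) c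
    simpa only [rta, e0, Fin.rev_inj] using this)
  have ti := h.ti_flag hb le_rfl
  have ti' := h.ti_flag hb' le_rfl
  have hs : ⊤ ≤ flag b k ⊔ flag (b.reindex Fin.revPerm) k := by
    rw [← b.span_eq, Submodule.span_le]
    rintro _ ⟨j, rfl⟩
    by_cases e : (j : ℕ) < k
    · exact Submodule.mem_sup_left (UN.b_mem_flag b e)
    · refine Submodule.mem_sup_right ?_
      rw [← j.rev_rev, ← e0]
      exact UN.b_mem_flag _ (by rw [Fin.val_rev]; omega)
  refine h.gen fun v c => ?_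
  obtain ⟨m, hm, m', hm', rfl⟩ := Submodule.mem_sup.1 (hs (Submodule.mem_top (x := v)))
  by_cases e : m' ∈ flag b k
  · exact h1 (h.T_mem_E ti (add_mem hm e) (zero_mem _) c)
  rw [← h.lag_flag hb, P.mem_perp] at e
  push Not at e
  obtain ⟨p, hp, e⟩ := e
  have hp' := Submodule.smul_mem _ (P.B p m')⁻¹ hp
  have e1 : P.B ((P.B p m')⁻¹ • p) m' = 1 := by rw [h.B_smul_left, inv_mul_cancel₀ e]
  generalize (P.B p m')⁻¹ • p = p at hp' e1
  have h3 := h1 (h.T_mem_E ti hp' hm (P.B m m'))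
  have h4 := mul_mem (mul_mem h3 (h2 (h.T_mem_E ti' hm' (zero_mem _) c))) (inv_mem h3)
  rwa [h.T_conj _ (map_zero _), map_zero, h.T_app (P.mem_perp.1 (ti hm) p hp'), e1, mul_one, h.add_self, zero_smul,
    add_zero, one_smul, add_comm] at h4

theorem asyl_root (hij : (j : ℕ) = i + 1) : ∃ u ∈ Ub C b, b.repr (nu C u (b j)) i ≠ 0 := by
  have := j.2
  have e : (i : ℕ) + j.rev + 1 < 2 * k := by rw [Fin.val_rev]; omega
  refine ⟨_, (h.rta_mem_D hb one_pos e 1).1, ?_⟩
  rw [h.asyl_ent hb (asyl_ne' e), if_pos (Or.inl ⟨rfl, j.rev_rev.symm⟩)]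
  exact one_ne_zero

theorem mem_succ {r : ℕ} {v : V} (hv : ∀ u ∈ Ub C b, C.act u v - v ∈ flag b r) :
    v ∈ flag b (r + 1) := by
  have key : ∀ d, v ∈ flag b (r + 1 + d) → v ∈ flag b (r + 1) := fun d => by
    induction d with
    | zero => exact id
    | succ d ih =>
      refine fun h1 => ih ?_
      by_cases h2 : 2 * k ≤ r + 1 + d
      · rw [UN.flag_top b h2]
        trivial
      obtain ⟨u, hu, h3⟩ := h.asyl_root hb (i := ⟨r + d, by omega⟩) (j := ⟨r + 1 + d, by omega⟩) (by dsimp only; omega)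
      have h4 := UN.sub_mem_flag b (j := ⟨r + 1 + d, by omega⟩) h1
      have h5 := (UN.mem_flag b).1 ((UN.mem_Nh b).1 ((UN.mem_Ub b).1 hu) _ _ h4) ⟨r + d, by omega⟩
        (by dsimp only; omega)
      have h6 : b.repr (nu C u v) ⟨r + d, by omega⟩ = 0 := (UN.mem_flag b).1 (hv u hu) _ (by dsimp only; omega)
      rw [map_sub, map_smul, map_sub, map_smul, Finsupp.sub_apply, h6, zero_sub, neg_eq_zero, Finsupp.smul_apply,
        smul_eq_mul] at h5
      rwa [(mul_eq_zero.1 h5).resolve_right h3, zero_smul, sub_zero] at h4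
  exact key (2 * k) (by rw [UN.flag_top b (by omega)]; trivial)

theorem asyl_flag {H : Subgroup (V ≃ₗ[F] V)} (h2 : IsPGroup 2 H) (hU : ∀ s ∈ Ub C b, C.act s ∈ H)
    {g : V ≃ₗ[F] V} (hg : g ∈ H) : g.toLinearMap - LinearMap.id ∈ Nh b 1 := by
  have key : ∀ i, ∀ g ∈ H, ∀ v ∈ flag b i, g v - v ∈ flag b (i - 1) := fun i => by
    induction i with
    | zero =>
      intro g _ v hv
      rw [UN.flag_zero, Submodule.mem_bot] at hv
      rw [hv, map_zero, sub_zero]
      exact zero_mem _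
    | succ i ih =>
      have h1 : ∀ g ∈ H, ∀ v ∈ flag b i, g v ∈ flag b i := fun g hg v hv => by
        simpa using add_mem (UN.flag_mono b (Nat.sub_le _ _) (ih g hg v hv)) hv
      intro g hg w hw
      by_cases hi : 2 * k ≤ i
      · rw [Nat.add_sub_cancel, UN.flag_top b hi]
        trivial
      obtain ⟨v, hv, hv'⟩ := UN.exists_fixed_quot h.two h2 h1 (x := b ⟨i, by omega⟩)
        fun hx => by simpa using (UN.mem_flag b).1 hx ⟨i, by omega⟩ le_rfl
      have h3 := UN.sub_mem_flag b (j := ⟨i, by omega⟩) (h.mem_succ hb fun u hu => hv' _ (hU u hu))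
      have h4 := UN.sub_mem_flag b (j := ⟨i, by omega⟩) hw
      have h5 : b.repr v ⟨i, by omega⟩ ≠ 0 := fun e => hv (by simpa [e] using h3)
      generalize b.repr v ⟨i, by omega⟩ = x at h3 h5
      generalize b.repr w ⟨i, by omega⟩ = y at h4
      have h6 : w - (y / x) • v ∈ flag b i := by
        convert sub_mem h4 (Submodule.smul_mem _ (y / x) h3) using 1
        rw [smul_sub, smul_smul, div_mul_cancel₀ _ h5]
        abel
      rw [Nat.add_sub_cancel]
      convert add_mem (sub_mem (h1 g hg _ h6) h6) (Submodule.smul_mem _ (y / x) (hv' g hg)) using 1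
      rw [map_sub, map_smul, smul_sub]
      abel
  exact (UN.mem_Nh b).2 fun i => key i g hg

theorem Ub_max {H : Subgroup S} (h2 : IsPGroup 2 H) (hU : Ub C b ≤ H) : H = Ub C b :=
  le_antisymm (fun _ hs => (UN.mem_Ub b).2 (h.asyl_flag hb (h2.map C.act)
    (fun _ hu => mem_map_of_mem _ (hU hu)) (mem_map_of_mem _ hs))) hU

theorem norm_flag (hs : s ∈ normalizer (Ub C b : Set S)) (r : ℕ) : s ∈ Stb C (flag b r) := by
  have key : ∀ v ∈ flag b r, C.act s v ∈ flag b r := by
    induction r with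
    | zero =>
      intro v hv
      rw [UN.flag_zero, Submodule.mem_bot] at hv
      rw [hv, map_zero]
      exact zero_mem _
    | succ r ih =>
      refine fun v hv => h.mem_succ hb fun u hu => ?_
      have := ih _ (UN.SB.move ((mem_normalizer_iff''.1 hs u).1 hu) hv)
      rwa [map_sub, C.mul_apply, C.mul_apply, C.apply_inv] at this
  exact fun v => ⟨UN.mem_of_map_mem key, key v⟩

theorem mem_Ub_of (h2 : IsPGroup 2 (zpowers s)) (hs : s ∈ normalizer (Ub C b : Set S)) :
    s ∈ Ub C b :=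
  (h.Ub_max hb ((h.Ub_two hb).to_sup_of_normal_left' h2 (zpowers_le.2 hs)) le_sup_left).le
    (mem_sup_right (mem_zpowers s))

/-- the diagonal elements -/
theorem exists_diag_bas {μ : Fin (2 * k) → F} (hμ : ∀ i, μ i * μ i.rev = 1) :
    ∃ s ∈ normalizer (Ub C b : Set S), ∀ i, C.act s (b i) = μ i • b i := by
  have key : ∀ i j, P.B (μ i • b i) (μ j • b j) = P.B (b i) (b j) := fun i j => by
    rw [h.B_smul_left, P.B_smul_right, hb]
    split_ifs with e
    · rw [e, mul_one, hμ]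
    · simp
  obtain ⟨s, hs⟩ := h.witt b.linearIndependent (g2_li (P := P) (w := fun i => μ i.rev • b i.rev) fun i j => by
    rw [key, hb, Fin.rev_rev]
    simp only [eq_comm]) key
  have h1 := UN.SB.pres (b := b) fun j => ⟨_, hs j⟩
  exact ⟨s, norm_Ub fun r v => ⟨UN.mem_of_map_mem (h1 r), h1 r v⟩, hs⟩

theorem diag_rta {μ : Fin (2 * k) → F} (hs : ∀ i, C.act s (b i) = μ i • b i) (e : j ≠ i.rev) (c : F) :
    s * rta C b i j c * s⁻¹ = rta C b i j (μ i * μ j * c) := by
  unfold rta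
  split_ifs with e'
  · rw [h.T_conj _ (map_zero _), hs, map_zero, h.T_smul (map_zero _), smul_zero, e']
  · rw [h.T_conj _ (h.asyl_perp hb e c), hs, map_smul, hs, smul_smul, h.T_smul (h.asyl_perp hb e _), mul_zero,
      smul_smul, mul_comm c, mul_assoc]

end Mod

theorem Emb.inf_Ub (h : Emb C φ) {k : ℕ} {b : Basis (Fin (2 * k)) F V} (hb : Bas P b) {T : Subgroup G}
    (hT : IsPGroup 2 T) (hU : (Ub C b).map φ ≤ T) : T ⊓ φ.range = (Ub C b).map φ := by
  rw [← h.toMod.Ub_max hb (hT.comap_of_injective φ h.inj) (map_le_iff_le_comap.1 hU), map_comap_eq, inf_comm]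

end CfsgLib.SP4
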