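import Cfsg.Agent.Lib.SP4.ABas
import Cfsg.Agent.Lib.SP4.ASyl

/-! Type A: the field case, the chain -/

set_option autoImplicit false
set_option linter.unusedSectionVars false

namespace CfsgLib.SP4

open Subgroup Module CfsgLib.Forms CfsgLib.LieMult
open CfsgLib.HX (Std CO Two Mv M2 QA)
open CfsgLib.UN (AV SI TI HH Rad Stb Yg Rg Eg Act nu Bas Nh flag Ub Uni TD Od)
open CfsgLib.UN.SB (D)
open CfsgLib.ClSys (II)
open Submodule (span)
open scoped commutatorElement Pointwise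

universe u

variable {F : Type} [Field F] [Finite F] {V : Type} [AddCommGroup V] [Module F V]
  [FiniteDimensional F V] {P : PQ (RingHom.id F) V} {S : Type} [Group S] [Finite S] {G : Type u}
  [Group G] [Finite G] {C : CG P S} {φ : S →* G} {t : G}

namespace AF

variable {w : V → V → G} {y : V → F → G} {δ : F} {k : ℕ} {b : Basis (Fin (2 * k)) F V}
  {K : Type} [Field K] [Finite K] {V' : Type} [AddCommGroup V'] [Module K V'] [FiniteDimensional K V']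
  {P' : PQ (RingHom.id K) V'} {S' : Type} [Group S'] [Finite S'] {C' : CG P' S'} {ψ : S' →* G}
  {b' : Basis (Fin (2 * k)) K V'} {σ : RingAut K} (h : AF C φ t w y δ b C' ψ b' σ) {Gs : Subgroup G}
include h

theorem tN : t ∈ normalizer (ψ.range : Set G) := h.eqG ▸ h.toHA2.t_norm
theorem odd : Odd (Nat.card (centralizer (ψ.range : Set G))) := h.eqG ▸ h.toHA2.cent_odd
theorem act_t : ∃ γ, Act C' ψ t σ γ ∧ ∀ i, γ (b' i) = b' i := by
  have k3 := (h.emb.toMod.bas_rank h.hb').2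
  obtain ⟨α, γ, kk⟩ := h.emb.act_of_z h.tN (b'.ne_zero ⟨0, by omega⟩) (p := b' ⟨0, by omega⟩) (c := σ 1) (by
    have := h.tc ⟨0, by omega⟩ ⟨0, by omega⟩ 1 fun e => by
      have := congrArg Fin.val e
      rw [Fin.val_rev] at this; simp only at this; omega
    simp only [rta, if_true] at this
    exact this)
  have key : ∀ i c, z C' ψ (γ (b' i)) (α c) = z C' ψ (b' i) (σ c) := fun i c => by
    have := h.tc i i c fun e => by
      have := congrArg Fin.val e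
      rw [Fin.val_rev] at this; omega
    simp only [rta, if_true] at this
    rw [← h.emb.act_z kk]
    exact this
  have fx : ∀ i, γ (b' i) = b' i := fun i => h.emb.z_one_inj (by simpa using key i 1)
  have : α = σ := RingEquiv.ext fun c => by
    have := key ⟨0, by omega⟩ c
    rw [fx] at this
    exact h.emb.z_inj (b'.ne_zero _) this
  exact ⟨γ, this ▸ kk, fx⟩
/-- `t` applies `σ` to the matrix entries -/
theorem t_ent (s : S') : ∃ s', t * ψ s * t⁻¹ = ψ s' ∧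
    ∀ i j, b'.repr (nu C' s' (b' j)) i = σ (b'.repr (nu C' s (b' j)) i) := by
  obtain ⟨γ, kk, fx⟩ := h.act_t
  obtain ⟨s', e⟩ := h.emb.toMod.exists_conj kk.toSI s
  refine ⟨s', kk.conj _ _ e, fun i j => ?_⟩
  have e1 : nu C' s' (b' j) = γ (nu C' s (b' j)) := by
    rw [UN.SB.nu_apply, UN.SB.nu_apply, map_sub, ← e, fx]
  have e2 := kk.B_eq (b' i.rev) (nu C' s (b' j))
  rwa [fx, UN.SB.B_bas h.hb', UN.SB.B_bas h.hb', Fin.rev_rev, ← e1] at e2
theorem fb_map {H : Subgroup S'} {s : S'} : ψ s ∈ H.map ψ ↔ s ∈ H := mem_map_iff_mem h.emb.inj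

theorem fb_D {l : ℕ} (hl : 0 < l) {s : S'} (hs : s ∈ D C' b' l) : ∃ s' ∈ D C' b' l, t * ψ s * t⁻¹ = ψ s' ∧
    ∀ i j, b'.repr (nu C' s' (b' j)) i = σ (b'.repr (nu C' s (b' j)) i) := by
  obtain ⟨s', e1, e2⟩ := h.t_ent s
  exact ⟨s', (UN.SB.mem_D hl).2 fun i j e => by rw [e2, hs.2 i j e, map_zero], e1, e2⟩

omit h in
theorem fb_ne {l : ℕ} (hl : 0 < l) {i j : Fin (2 * k)} (e : (i : ℕ) + j + l < 2 * k) : j ≠ i.rev := fun e' => by
  have := congrArg Fin.val e'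
  rw [Fin.val_rev] at this; omega

theorem fb_one {i j : Fin (2 * k)} (e : j ≠ i.rev) (H : Subgroup G) :
    t * ψ (rta C' b' i j 1) * t⁻¹ * (ψ (rta C' b' i j 1))⁻¹ ∈ H := by
  rw [h.tc i j 1 e, map_one σ, mul_inv_cancel]
  exact one_mem _

theorem chain : UFP.Chain t ((Ub C' b').map ψ) (2 * k - 1) fun i => (D C' b' (2 * k - i)).map ψ := by
  have M := h.emb.toMod
  have k3 := (M.bas_rank h.hb').2
  have hk : ∀ i < 2 * k - 1, ∃ l, 0 < l ∧ 2 * k - (i + 1) = l ∧ 2 * k - i = l + 1 :=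
    fun i hi => ⟨_, by omega, rfl, by omega⟩
  refine ⟨?_, ?_, fun i _ => map_mono (D_anti (by omega)), fun i hi => ?_, fun i hi => ?_,
    fun i hi => ?_, fun i hi => ?_⟩
  · rw [Nat.sub_zero, D_top, Subgroup.map_bot]
  · rw [show 2 * k - (2 * k - 1) = 1 by omega, UN.SB.D_one]
  · refine mem_normalizer_fintype ?_
    rintro _ ⟨s, hs, rfl⟩
    obtain ⟨s', h1, h2, -⟩ := h.fb_D (by omega) hs
    exact ⟨s', h1, h2.symm⟩
  all_goals obtain ⟨l, l0, e1, e2⟩ := hk i hi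
  all_goals simp only [e1, e2]
  · rintro _ ⟨u, hu, rfl⟩ _ ⟨g, hg, rfl⟩
    exact ⟨_, D_comm_succ hu hg, by simp⟩
  · rintro _ ⟨g, hg, rfl⟩
    exact ⟨_, M.D_sq h.hb' l0 hg, map_mul ..⟩
  · rintro _ ⟨s, hs, rfl⟩ e
    obtain ⟨s', h1, h2, h3⟩ := h.fb_D l0 hs
    rw [h2, ← map_inv, ← map_mul, h.fb_map, D_div (D_le h1) (D_le hs)] at e
    obtain ⟨θ, hθ⟩ := (M.aut_two h.σ1 h.σ2).1
    obtain ⟨r, r1, r2⟩ := M.D_scal h.hb' l0 hs θ
    obtain ⟨r', r3, r4, r5⟩ := h.fb_D l0 r1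
    refine ⟨_, ⟨r, r1, rfl⟩, ?_⟩
    rw [r4, ← map_inv, ← map_mul, ← map_mul, h.fb_map, ← mul_assoc, D_div (D_le (mul_mem hs r3)) (D_le r1),
      UN.SB.nu_mul, add_sub_right_comm]
    refine add_mem (fun p q hpq => ?_) (UN.Nh_anti b' (by omega) (UN.Nh_mul b' hs.2 r3.2))
    have f1 := e p q hpq
    have f2 := r2 p q hpq
    have f3 := r5 p q
    have f4 := h3 p q
    simp only [LinearMap.sub_apply, LinearMap.add_apply, LinearMap.smul_apply, map_sub, map_add, map_smul,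
      Finsupp.sub_apply, Finsupp.add_apply, Finsupp.smul_apply, smul_eq_mul, sub_eq_zero] at f1 f2 ⊢
    rw [f3, f2, map_mul, ← f4, f1]
    have two := M.two
    linear_combination (b'.repr (nu C' s (b' q)) p) * hθ +
      (b'.repr (nu C' s (b' q)) p - θ * b'.repr (nu C' s (b' q)) p) * two
theorem lin : ∀ i < 2 * k - 1, ∀ j < i, ∀ u ∈ (Ub C' b').map ψ,
    (∀ g ∈ (D C' b' (2 * k - (i + 1))).map ψ, t * g * t⁻¹ * g⁻¹ ∈ (D C' b' (2 * k - i)).map ψ →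
      u * g * u⁻¹ * g⁻¹ ∈ (D C' b' (2 * k - j)).map ψ) →
    ∀ g ∈ (D C' b' (2 * k - (i + 1))).map ψ, u * g * u⁻¹ * g⁻¹ ∈ (D C' b' (2 * k - j)).map ψ := by
  intro i hi j hj
  have M := h.emb.toMod
  obtain ⟨l, l0, e1, e2⟩ : ∃ l, 0 < l ∧ 2 * k - (i + 1) = l ∧ 2 * k - i = l + 1 := ⟨_, by omega, rfl, by omega⟩
  rw [e1, e2]
  generalize 2 * k - j = l'
  rintro _ ⟨u, hu, rfl⟩ hc _ ⟨g, hg, rfl⟩
  have key := SLE.comm_closure (U := Ub C' b') (N := D C' b' l') (w := u)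
    (X := {s | ∃ p q : Fin (2 * k), (p : ℕ) + q + l < 2 * k ∧ ∃ c, s = rta C' b' p q c}) ?_ D_norm ?_ g
    (M.gen_D h.hb' l0 (fun p q e c => by exact Subgroup.subset_closure ⟨p, q, e, c, rfl⟩) hg)
  · exact ⟨_, key, by simp⟩
  · rw [closure_le]
    rintro _ ⟨p, q, e, c, rfl⟩
    exact D_le (M.rta_mem_D h.hb' l0 e c)
  · rintro _ ⟨p, q, e, c, rfl⟩
    have m1 := M.rta_mem_D h.hb' l0 e 1
    have := hc _ ⟨_, m1, rfl⟩ (h.fb_one (fb_ne l0 e) _)
    rw [← map_inv, ← map_inv, ← map_mul, ← map_mul, ← map_mul, h.fb_map, D_comm hu (D_le m1)] at this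
    rw [D_comm hu (D_le (M.rta_mem_D h.hb' l0 e c)), M.nu_rta h.hb' (fb_ne l0 e), mul_smul_comm, smul_mul_assoc,
      ← smul_sub]
    exact Submodule.smul_mem _ _ this
theorem lin2 : ∀ i < 2 * k - 1, ∀ n ∈ normalizer (ψ.range : Set G),
    (∀ g ∈ (D C' b' (2 * k - (i + 1))).map ψ, t * g * t⁻¹ * g⁻¹ ∈ (D C' b' (2 * k - i)).map ψ →
      g * n = n * g) →
    ∀ g ∈ (D C' b' (2 * k - (i + 1))).map ψ, n * g * n⁻¹ ∈ (D C' b' (2 * k - (i + 1))).map ψ := by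
  intro i hi n hn
  have M := h.emb.toMod
  obtain ⟨l, l0, e1, e2⟩ : ∃ l, 0 < l ∧ 2 * k - (i + 1) = l ∧ 2 * k - i = l + 1 := ⟨_, by omega, rfl, by omega⟩
  rw [e1, e2]
  rintro hc _ ⟨g, hg, rfl⟩
  have k3 := (M.bas_rank h.hb').2
  obtain ⟨α, γ, kk⟩ := h.emb.act_of_z hn (b'.ne_zero ⟨0, by omega⟩) (p := b' ⟨0, by omega⟩) (c := 1) (by
    have e0 : ((⟨0, by omega⟩ : Fin (2 * k)) : ℕ) + (⟨0, by omega⟩ : Fin (2 * k)) + l < 2 * k := by
      simp only; omega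
    have := hc _ ⟨_, M.rta_mem_D h.hb' l0 e0 1, rfl⟩ (h.fb_one (fb_ne l0 e0) _)
    simp only [rta, if_true] at this
    exact mul_inv_eq_iff_eq_mul.2 this.symm)
  refine M.gen_D h.hb' l0 (H := ((D C' b' l).map ψ).comap ((MulAut.conj n).toMonoidHom.comp ψ))
    (fun p q e c => ?_) hg
  have ne := fb_ne l0 e
  have m1 := M.rta_mem_D h.hb' l0 e 1
  obtain ⟨s', e3⟩ := M.exists_conj kk.toSI (rta C' b' p q 1)
  have e4 := kk.conj _ _ e3
  rw [← hc _ ⟨_, m1, rfl⟩ (h.fb_one ne _), mul_inv_cancel_right] at e4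
  rw [← h.emb.inj e4] at e3
  refine ⟨_, M.rta_mem_D h.hb' l0 e (α c), (kk.conj _ _ fun v => ?_).symm⟩
  have e5 : nu C' (rta C' b' p q 1) (γ v) = γ (nu C' (rta C' b' p q 1) v) := by
    rw [UN.SB.nu_apply, UN.SB.nu_apply, map_sub, e3]
  rw [UN.SB.act_eq, UN.SB.act_eq (rta C' b' p q c), M.nu_rta h.hb' ne (α c), M.nu_rta h.hb' ne c,
    LinearMap.smul_apply, LinearMap.smul_apply, map_add, kk.semi, e5]
theorem Ub_le : (Ub C b).map φ ≤ (Ub C' b').map ψ ⊓ centralizer {t} := by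
  rw [map_le_iff_le_comap, ← UN.SB.D_one]
  refine h.toMod.gen_D h.hb one_pos fun p q e c => ⟨?_, UFP.mem_cent1.2 (h.toSit.tl _).symm⟩
  obtain ⟨d, hd⟩ := h.ext p q c (fb_ne one_pos e)
  exact ⟨_, D_le (h.emb.toMod.rta_mem_D h.hb' one_pos e d), hd.symm⟩

end AF

end CfsgLib.SP4
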