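import Cfsg.Agent.Lib.SP4.AFldB
import Cfsg.Agent.Lib.SP4.ATop

/-! Type A: the field case -/

set_option autoImplicit false
set_option linter.unusedSectionVars false

namespace CfsgLib.SP4

open Subgroup Module CfsgLib.Forms CfsgLib.LieMult
open CfsgLib.HX (Std CO Two Mv M2 QA)
open CfsgLib.UN (AV SI TI HH Rad Stb Yg Rg Eg Act nu Bas Nh flag Ub Uni TD Od)
open CfsgLib.UN.SB (D)
open CfsgLib.ClSys (II)
open Submodule (span)
open scoped commutatorElement Pointwise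

universe u

variable {F : Type} [Field F] [Finite F] {V : Type} [AddCommGroup V] [Module F V]
  [FiniteDimensional F V] {P : PQ (RingHom.id F) V} {S : Type} [Group S] [Finite S] {G : Type u}
  [Group G] [Finite G] {C : CG P S} {φ : S →* G} {t : G}

namespace AF

variable {w : V → V → G} {y : V → F → G} {δ : F} {k : ℕ} {b : Basis (Fin (2 * k)) F V}
  {K : Type} [Field K] [Finite K] {V' : Type} [AddCommGroup V'] [Module K V'] [FiniteDimensional K V']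
  {P' : PQ (RingHom.id K) V'} {S' : Type} [Group S'] [Finite S'] {C' : CG P' S'} {ψ : S' →* G}
  {b' : Basis (Fin (2 * k)) K V'} {σ : RingAut K} (h : AF C φ t w y δ b C' ψ b' σ) {Gs : Subgroup G}
include h

theorem lin_odd {g : G} {γ : AV V'} (a : Act C' ψ g 1 γ) : ∃ m, Odd m ∧ g ^ m ∈ ψ.range := by
  obtain ⟨l, -, c, hc, rfl⟩ := h.emb.act_one a
  refine ⟨_, h.odd, ?_⟩
  have e : Commute (ψ l) c := mem_centralizer_iff.1 hc _ ⟨l, rfl⟩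
  have e2 : c ^ Nat.card (centralizer (ψ.range : Set G)) = 1 :=
    congrArg Subtype.val (pow_card_eq_one' (x := (⟨c, hc⟩ : centralizer (ψ.range : Set G))))
  rw [e.mul_pow, e2, mul_one]
  exact pow_mem (MonoidHom.mem_range.2 ⟨l, rfl⟩) _


theorem afc_t2 : t * t = 1 := h.t2

theorem afc_U1 : (Ub C' b').map ψ ≤ normalizer (ψ.range : Set G) := (map_le_range _ _).trans le_normalizer

theorem afc_syl : ∃ T : Subgroup G,
    (Ub C' b').map ψ ⊔ zpowers t ≤ T ∧ T ≤ normalizer (ψ.range : Set G) ∧ IsPGroup 2 T ∧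
      ∀ Q ≤ normalizer (ψ.range : Set G), IsPGroup 2 Q →
        ∃ g ∈ normalizer (ψ.range : Set G), ∀ p ∈ Q, g * p * g⁻¹ ∈ T :=
  SLE.exists_syl (IsPGroup.to_sup_of_normal_left' ((h.emb.toMod.Ub_two h.hb').map ψ)
    (UFP.pgroup_zpowers_of_sq h.afc_t2) (zpowers_le.2 h.chain.tU)) (sup_le h.afc_U1 (zpowers_le.2 h.tN))

theorem afc_comm {a a' : G} (ha : a ∈ normalizer (ψ.range : Set G)) (ha' : a' ∈ normalizer (ψ.range : Set G)) :
    ∃ γ, Act C' ψ (a * a' * a⁻¹ * a'⁻¹) 1 γ := by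
  obtain ⟨π, hπ⟩ := h.emb.exists_out
  have := h.emb.out
  have e : π ⟨a, ha⟩ * π ⟨a', ha'⟩ = π ⟨a', ha'⟩ * π ⟨a, ha⟩ := by
    let _ := IsCyclic.commGroup (α := Cfsg.Out S')
    exact mul_comm _ _
  obtain ⟨l, c, hc, e1⟩ := (hπ (⟨a, ha⟩ * ⟨a', ha'⟩ * ⟨a, ha⟩⁻¹ * ⟨a', ha'⟩⁻¹)).1 (by
    rw [map_mul, map_mul, map_mul, map_inv, map_inv, e, mul_inv_cancel_right, mul_inv_cancel])
  have k3 := h.emb.act_mul (h.emb.act_self l) (h.emb.act_cent hc)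
  rw [← e1, mul_one] at k3
  exact ⟨_, k3⟩

/-- an involution of `N(ψ S')` outside `ψ S'` acts like `t` -/
theorem afc_inv {s : G} (hs : s ∈ normalizer (ψ.range : Set G)) (s2 : s * s = 1) (h1 : s ∉ ψ.range) :
    ∃ γ, Act C' ψ s σ γ := by
  obtain ⟨π, hπ⟩ := h.emb.exists_out
  have := h.emb.out
  obtain ⟨γt, kt, -⟩ := h.act_t
  have a1 : π ⟨s, hs⟩ * π ⟨s, hs⟩ = 1 := by rw [← map_mul, ← map_one π]; congr 1; exact Subtype.ext s2
  have a2 : π ⟨t, h.tN⟩ * π ⟨t, h.tN⟩ = 1 := by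
    rw [← map_mul, ← map_one π]; congr 1; exact Subtype.ext h.afc_t2
  rcases SPC.mx_two a1 a2 with e | e | e
  · obtain ⟨l, c, hc, k⟩ := (hπ _).1 e
    change s = _ at k
    have c2 := (h.emb.sq_split ⟨l, rfl⟩ hc (k ▸ s2)).2
    have c1 : c = 1 := orderOf_eq_one_iff.1 (Nat.eq_one_of_dvd_coprimes h.odd.coprime_two_left
      (orderOf_dvd_of_pow_eq_one (by rwa [pow_two])) (Subgroup.orderOf_dvd_natCard _ hc))
    exact absurd ⟨l, by rw [k, c1, mul_one]⟩ h1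
  · obtain ⟨l, c, hc, k⟩ := (hπ _).1 e
    change t = _ at k
    have k3 := h.emb.act_mul (h.emb.act_self l) (h.emb.act_cent hc)
    rw [← k, mul_one] at k3
    exact absurd (h.emb.act_unique kt k3).1 h.σ1
  · obtain ⟨l, c, hc, k⟩ := (hπ (⟨s, hs⟩ * ⟨t, h.tN⟩)).1 (by rw [map_mul, e, a2])
    change s * t = _ at k
    have k3 := h.emb.act_mul (h.emb.act_mul (h.emb.act_self l) (h.emb.act_cent hc)) kt
    rw [← k, mul_assoc, h.afc_t2, mul_one, mul_one, one_mul] at k3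
    exact ⟨_, k3⟩

theorem afc_lin : ∃ N : Subgroup G, (∀ g, g ∈ N ↔ ∃ γ, Act C' ψ g 1 γ) ∧ N ≤ normalizer (ψ.range : Set G) ∧
    ∀ a ∈ normalizer (ψ.range : Set G), ∀ a' ∈ normalizer (ψ.range : Set G), a * a' * a⁻¹ * a'⁻¹ ∈ N :=
  ⟨{ carrier := {g | ∃ γ, Act C' ψ g 1 γ}
     one_mem' := ⟨_, h.emb.act_cent (one_mem _)⟩
     mul_mem' := fun ⟨_, a⟩ ⟨_, a'⟩ => ⟨_, one_mul (1 : RingAut K) ▸ h.emb.act_mul a a'⟩
     inv_mem' := fun ⟨_, a⟩ => ⟨_, inv_one (G := RingAut K) ▸ h.emb.act_inv a⟩ },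
    fun _ => Iff.rfl, fun _ ⟨_, a⟩ => h.emb.act_mem a, fun _ ha _ ha' => h.afc_comm ha ha'⟩

theorem native {g : G} (hg : g * t * g⁻¹ ∈ normalizer (ψ.range : Set G))
    (h1 : g * t * g⁻¹ ∉ ψ.range) : g ∈ normalizer (ψ.range : Set G) := by
  have t2 := h.afc_t2
  have s2 : g * t * g⁻¹ * (g * t * g⁻¹) = 1 := by
    rw [show g * t * g⁻¹ * (g * t * g⁻¹) = g * (t * t) * g⁻¹ by group, t2]; group
  obtain ⟨γ, k⟩ := h.afc_inv hg s2 h1
  have k2 := h.σ2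
  · skip
    obtain ⟨T, t1, -, t2', t3⟩ := h.afc_syl
    obtain ⟨n, hn, e⟩ := t3 _ (zpowers_le.2 hg) (UFP.pgroup_zpowers_of_sq s2)
    have e1 := mul_mem (e _ (mem_zpowers _)) (t1 (mem_sup_right (mem_zpowers t)))
    obtain ⟨γ', k'⟩ := h.afc_comm hn hg
    obtain ⟨γt, kt, -⟩ := h.act_t
    have k3 := h.emb.act_mul (h.emb.act_mul k' k) kt
    rw [inv_mul_cancel_right, one_mul, k2] at k3
    obtain ⟨m, m1, m2⟩ := h.lin_odd k3
    have e2 := (h.emb.inf_Ub h.hb' t2' (le_sup_left.trans t1)).le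
      ⟨e1, SLE.mem_of_odd_pow (SLE.pg_zpowers t2' e1) m1 m2⟩
    obtain ⟨u, hu, e3⟩ := h.chain.conj t2 e2 (by
      rw [mul_assoc _ t t, t2, mul_one, show n * (g * t * g⁻¹) * n⁻¹ * (n * (g * t * g⁻¹) * n⁻¹) =
        n * (g * t * g⁻¹ * (g * t * g⁻¹)) * n⁻¹ by group, s2, mul_one, mul_inv_cancel])
    rw [mul_assoc _ t t, t2, mul_one] at e3
    have h7 := h.toHA2.cent_le (g := u⁻¹ * n * g) (by
      calc _ = u⁻¹ * (n * (g * t * g⁻¹) * n⁻¹) * n * g := by group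
        _ = _ := by rw [e3]; group)
    rw [← h.eqG] at h7
    exact (Subgroup.mul_mem_cancel_left _ (mul_mem (inv_mem (h.afc_U1 hu)) hn)).1 h7

theorem not_mem (hG : SLE.Glob Gs t) : t ∉ Gs := by
  obtain ⟨N, n1, n2, n3⟩ := h.afc_lin
  obtain ⟨A, _, _, l, -, hl⟩ := SLE.exists_two_hom n2 n3
  refine hG.not_mem (UFP.not_mem_commutator h.afc_t2 h.tN l (fun e => ?_) fun x hx e => h.native hx fun ⟨s, e'⟩ =>
    e ((hl _).2 ⟨1, odd_one, (n1 _).2 ⟨_, by rw [pow_one]; exact e' ▸ h.emb.act_self s⟩⟩))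
  obtain ⟨m, m1, m2⟩ := (hl _).1 e
  obtain ⟨γ, k⟩ := (n1 t).1 (SLE.mem_of_odd_pow (UFP.pgroup_zpowers_of_sq h.afc_t2) m1 m2)
  obtain ⟨γt, kt, -⟩ := h.act_t
  exact h.σ1 (h.emb.act_unique kt k).1

theorem afc_le (hG : SLE.Glob Gs t) (hL : φ.range ≤ Gs) : ψ.range ≤ Gs := h.eqG ▸ h.toHA2.GA_le_Gs hG hL

theorem isU (hG : SLE.Glob Gs t) (hL : φ.range ≤ Gs) : UFP.U (normalizer (ψ.range : Set G)) t := 
  ⟨h.afc_t2, h.tN, fun x hx => h.native hx fun e => h.not_mem hG (by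
    simpa [mul_assoc] using hG.nrm.conj_mem _ (h.afc_le hG hL e) x⁻¹)⟩

theorem afc_sylow (hG : SLE.Glob Gs t) (hL : φ.range ≤ Gs) :
    ∀ Q ≤ normalizer (ψ.range : Set G), IsPGroup 2 Q →
      ∃ x ∈ normalizer (ψ.range : Set G), ∀ p ∈ Q, x * p * x⁻¹ ∈ (Ub C' b').map ψ ⊔ zpowers t := by
  have ht := h.not_mem hG
  have h0 := h.afc_le hG hL
  obtain ⟨N, n1, n2, n3⟩ := h.afc_lin
  obtain ⟨A, _, _, l, hA, hl⟩ := SLE.exists_two_hom n2 n3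
  obtain ⟨T, h1, h2, hT, h3⟩ := h.afc_syl
  have key : ∀ x : normalizer (ψ.range : Set G), l x = 1 → ∃ m, Odd m ∧ (x : G) ^ m ∈ ψ.range := fun x e => by
    obtain ⟨m, m1, m2⟩ := (hl x).1 e
    obtain ⟨γ, k⟩ := (n1 _).1 m2
    obtain ⟨m', m3, m4⟩ := h.lin_odd k
    exact ⟨m * m', m1.mul m3, by rwa [pow_mul]⟩
  have h4 := h.chain.syl (h.isU hG hL) (hG.index ht) ht hG.perf h3 h2 (h1 (mem_sup_right (mem_zpowers t)))
    h.afc_U1 l hA (fun x e => (key x e).elim fun m hm => hG.mem_of_odd hm.1 (h0 hm.2))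
    (fun x ⟨s, _, e⟩ => (hl x).2 ⟨1, odd_one, (n1 _).2 ⟨_, by rw [pow_one]; exact e ▸ h.emb.act_self s⟩⟩)
    fun x e1 e2 => (key x e2).elim fun m hm => (h.emb.inf_Ub h.hb' hT (le_sup_left.trans h1)).le
      ⟨e1, SLE.mem_of_odd_pow (SLE.pg_zpowers hT e1) hm.1 hm.2⟩
  exact fun Q p1 p2 => (h3 Q p1 p2).imp fun x hx => ⟨hx.1, fun p hp => h4 (hx.2 p hp)⟩

theorem eq (hG : SLE.Glob Gs t) (hL : φ.range ≤ Gs) : ψ.range = Gs := by
  have hu := h.isU hG hL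
  have ht := h.not_mem hG
  have uw := h.toHA2.uw_Ub hG hL ht (h.eqG ▸ hu) h.hb
  rw [← h.eqG] at uw
  have d : UFP.FldData (normalizer (ψ.range : Set G)) Gs t ((Ub C' b').map ψ) (2 * k - 1)
      fun i => (D C' b' (2 * k - i)).map ψ :=
    ⟨h.chain, h.afc_U1, (map_le_range _ _).trans (h.afc_le hG hL), h.afc_sylow hG hL, h.lin, h.lin2,
      uw.mono h.Ub_le⟩
  exact h.eqG.trans (h.toHA2.eq_Gs hG hL fun u h2 h3 => h.eqG ▸ d.mem hu (hG.index ht) ht h2 h3)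

end AF

end CfsgLib.SP4
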