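import Cfsg.Agent.Lib.SP4.ARel
import Cfsg.Agent.Lib.SPC.APrd

/-! Type A: the product case, identification -/

set_option autoImplicit false
set_option linter.unusedSectionVars false

namespace CfsgLib.SP4

open Subgroup Module CfsgLib.Forms CfsgLib.LieMult
open CfsgLib.HX (Std CO Two Mv M2 QA)
open CfsgLib.UN (AV SI TI HH Rad Stb Yg Rg Eg Act nu Bas Nh flag Ub Uni TD Od)
open CfsgLib.UN.SB (D)
open CfsgLib.ClSys (II)
open CfsgLib.SPC (SRel SG ap_comm_left ap_SG_le pres_sp)
open Submodule (span)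
open scoped commutatorElement Pointwise

universe u

variable {F : Type} [Field F] [Finite F] {V : Type} [AddCommGroup V] [Module F V]
  [FiniteDimensional F V] {P : PQ (RingHom.id F) V} {S : Type} [Group S] [Finite S] {G : Type u}
  [Group G] [Finite G] {C : CG P S} {φ : S →* G} {t : G}

/-- the groups of two orthogonal ideals commute -/
theorem prd_comm_of {K K' : Type} [CommRing K] [CommRing K'] {m : ℕ} (hm : 2 ≤ m)
    {xm : II m → II m → K → G} {xl : II m → K → G} (h : SRel xm xl) (f f' : K' →ₙ+* K)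
    (e : ∀ s s', f s * f' s' = 0) :
    SG (fun a b s => xm a b (f s)) (fun a s => xl a (f s)) ≤
      centralizer (SG (fun a b s => xm a b (f' s)) (fun a s => xl a (f' s)) : Set G) := by
  have opp : ∀ a b, Ap a b → ∀ s s', Commute (xm a b (f s)) (xm a.swap b.swap (f' s')) := by
    intro a b k s s'
    have := h.mide a b.swap k.sr (f s) (f 1)
    rw [← map_mul, ← map_mul, ← map_mul, one_mul, one_mul, Sum.swap_swap] at this
    rw [eq_inv_mul_of_mul_eq this.symm]
    have c1 : ∀ c, Commute (xl c (f s)) (xm a.swap b.swap (f' s')) := fun c =>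
      (h.ap_ml k.sl.sr c (by rw [mul_comm]; exact e _ _)).symm
    refine (c1 a).inv_left.mul_left (ap_comm_left (c1 b) ?_)
    rw [h.symm a _ k.sr, h.symm _ _ k.sl.sr]
    exact h.mid' _ a k.symm.sl _ _
  have mm : ∀ a b c d, Ap a b → Ap c d → ∀ s s', Commute (xm a b (f s)) (xm c d (f' s')) := by
    intro a b c d k k' s s'
    by_cases h1 : c = a.swap ∧ d = b.swap
    · obtain ⟨rfl, rfl⟩ := h1; exact opp a b k s s'
    by_cases h2 : c = b.swap ∧ d = a.swap
    · obtain ⟨rfl, rfl⟩ := h2; rw [h.symm a b k]; exact opp b a k.symm s s'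
    exact h.ap_mm k k' h1 h2 (e _ _)
  have ll : ∀ a b s s', Commute (xl a (f s)) (xl b (f' s')) := by
    intro a b s s'
    rcases ap_cases a b with (rfl | rfl) | k
    · show _ = _
      rw [← h.ladd, ← h.ladd, add_comm]
    · obtain ⟨c, k1⟩ := (exists_ap [a] hm).imp fun _ h => h a (by simp)
      have := h.mide a c k1.symm (f s) (f 1)
      rw [← map_mul, ← map_mul, ← map_mul, one_mul, one_mul] at this
      rw [eq_mul_inv_of_mul_eq this.symm]
      exact (ap_comm_left (h.ends _ _ k1.sl.sr _ _) (h.ap_ml k1.symm _ (e _ _))).mul_left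
        (h.ap_ml k1.symm.sr _ (e _ _)).inv_left
    · exact h.ends _ _ k.symm _ _
  rw [SG, closure_le]
  intro g hg
  rw [SetLike.mem_coe, SG, centralizer_closure, mem_centralizer_iff]
  intro g' hg'
  rcases hg with ⟨a, b, s, k, rfl⟩ | ⟨a, s, rfl⟩ <;> rcases hg' with ⟨c, d, s', k', rfl⟩ | ⟨c, s', rfl⟩
  · exact (mm a b c d k k' s s').symm
  · exact (h.ap_ml k c (e _ _)).symm
  · exact h.ap_ml k' a (by rw [mul_comm]; exact e _ _)
  · exact (ll a c s s').symm

theorem HA2.prod {w : V → V → G} {y : V → F → G} {δ : F} (h : HA2 C φ t w y δ) {r : F} (hr : r * r + r = δ) :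
    ∃ φ₁ φ₂, AP C φ t w y δ φ₁ φ₂ := by
  have hM : Mod C := h.toMod
  have hF := hM.add_self
  obtain ⟨k, hk, hV⟩ := hM.even_rank
  obtain ⟨Fr⟩ := hM.exists_frame hV
  have hr' : (r + 1) * (r + 1) + (r + 1) = δ := by linear_combination hr + hF r + hF 1
  set f := HX.idem hF hr with hf
  set f' := HX.idem hF hr' with hf'
  have e : ∀ s s', f s * f' s' = 0 := fun s s' => HX.idem_mul hF hr s s'
  have e' : ∀ s s', f' s * f s' = 0 := fun s s' => by rw [mul_comm]; exact e _ _
  have R := h.srel Fr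
  have c1 := prd_comm_of hk R f f' e
  have c2 := prd_comm_of hk R f' f e'
  have dec : ∀ ξ : QA F δ, ξ = f (ξ.im + ξ.re + r * ξ.im) + f' (ξ.re + r * ξ.im) := by
    intro ξ
    ext
    · simp only [hf, hf', HX.idem_apply, QuadraticAlgebra.re_add]
      linear_combination -hF (r * ξ.im) - hF (r * ξ.re) - hF (r * r * ξ.im)
    · simp only [hf, hf', HX.idem_apply, QuadraticAlgebra.im_add]
      linear_combination -hF ξ.re - hF (r * ξ.im)
  have sup : SG (fun a b s => xmA C φ w δ Fr a b (f s)) (fun a s => xlA C φ y δ Fr a (f s)) ⊔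
      SG (fun a b s => xmA C φ w δ Fr a b (f' s)) (fun a s => xlA C φ y δ Fr a (f' s)) = GA φ y := by
    rw [← h.SG_eq Fr]
    refine le_antisymm (sup_le (ap_SG_le _ _ _) (ap_SG_le _ _ _)) ((closure_le _).2 ?_)
    rintro _ (⟨a, b, ξ, k, rfl⟩ | ⟨a, ξ, rfl⟩)
    · rw [dec ξ, R.add a b k]
      exact mul_mem_sup (subset_closure (Or.inl ⟨a, b, _, k, rfl⟩)) (subset_closure (Or.inl ⟨a, b, _, k, rfl⟩))
    · rw [dec ξ, R.ladd]
      exact mul_mem_sup (subset_closure (Or.inr ⟨a, _, rfl⟩)) (subset_closure (Or.inr ⟨a, _, rfl⟩))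
  have odd : ∀ g ∈ centralizer (GA φ y : Set G), g * g = 1 → g = 1 := by
    intro g hg g2
    have h1 : orderOf (⟨g, hg⟩ : centralizer (GA φ y : Set G)) ∣ 2 :=
      orderOf_dvd_of_pow_eq_one (Subtype.ext (by simpa [pow_two] using g2))
    have h2 := orderOf_dvd_natCard (⟨g, hg⟩ : centralizer (GA φ y : Set G))
    have h3 : orderOf (⟨g, hg⟩ : centralizer (GA φ y : Set G)) = 1 := by
      rcases (Nat.dvd_prime Nat.prime_two).1 h1 with e | e
      · exact e
      · exact absurd (e ▸ h2) h.cent_odd.not_two_dvd_nat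
    exact congrArg Subtype.val (orderOf_eq_one_iff.1 h3)
  have cs : ∀ {A B : Subgroup G} {g : G}, g ∈ centralizer (A : Set G) → g ∈ centralizer (B : Set G) →
      g ∈ centralizer ((A ⊔ B : Subgroup G) : Set G) := by
    intro A B g h1 h2 q hq
    exact mem_centralizer_singleton_iff.1 ((sup_le (a := A) (b := B) (c := centralizer {g})
      (fun q hq => mem_centralizer_singleton_iff.2 (h1 q hq))
      (fun q hq => mem_centralizer_singleton_iff.2 (h2 q hq))) hq)
  have gen : ∀ K : Subgroup S, (∀ e a c, TOk P e a c → C.T e a c ∈ K) → K = ⊤ :=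
    fun K H => hM.gen fun p c => H p 0 c (hM.tok0 p c)
  obtain ⟨φ₁, a1, b1, r1⟩ := pres_sp C Fr hM.two hM.lam (by omega) gen hM.perf hM.mult (R.comp f)
    fun g hg hc g2 => odd g (sup ▸ cs hc (c1 hg)) g2
  obtain ⟨φ₂, a2, b2, r2⟩ := pres_sp C Fr hM.two hM.lam (by omega) gen hM.perf hM.mult (R.comp f')
    fun g hg hc g2 => odd g (sup ▸ cs (c2 hg) hc) g2
  have c12 : ∀ s s', Commute (φ₁ s) (φ₂ s') := fun s s' =>
    (c1 (r1 ▸ ⟨s, rfl⟩ : φ₁ s ∈ _) (φ₂ s') (r2 ▸ ⟨s', rfl⟩ : φ₂ s' ∈ _)).symm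
  have one : ∀ c, f c + f' c = (⟨c, 0⟩ : QA F δ) := by
    intro c
    ext
    · simp only [hf, hf', HX.idem_apply, QuadraticAlgebra.re_add]
      linear_combination hF (r * c)
    · simp only [hf, hf', HX.idem_apply, QuadraticAlgebra.im_add]
      exact hF c
  have bar : ∀ c, (⟨(f c).re + (f c).im, (f c).im⟩ : QA F δ) = f' c := by
    intro c
    ext
    · simp only [hf, hf', HX.idem_apply]; ring
    · simp only [hf, hf', HX.idem_apply]
  let π : S →* G := MonoidHom.mk' (fun s => φ₁ s * φ₂ s) fun s s' => by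
    rw [map_mul, map_mul, mul_assoc, mul_assoc, ← mul_assoc (φ₁ s'), (c12 s' s).eq, mul_assoc]
  have ext : ∀ s, φ s = φ₁ s * φ₂ s := by
    intro s
    have : φ.eqLocus π = ⊤ := by
      refine hM.gen_frame Fr (fun a b k c => ?_) fun a c => ?_
      · show φ _ = φ₁ _ * φ₂ _
        rw [a1 a b k, a2 a b k, ← R.add a b k, one, h.xmA_re Fr k]
      · show φ _ = φ₁ _ * φ₂ _
        rw [b1, b2, ← R.ladd, one, h.xlA_re Fr]
    exact (this ▸ mem_top s : s ∈ φ.eqLocus π)
  have tc : ∀ s, t * φ₁ s * t⁻¹ = φ₂ s := by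
    intro s
    have : ((MulAut.conj t).toMonoidHom.comp φ₁).eqLocus φ₂ = ⊤ := by
      refine hM.gen_frame Fr (fun a b k c => ?_) fun a c => ?_
      · show t * φ₁ _ * t⁻¹ = φ₂ _
        rw [a1 a b k, a2 a b k, h.t_xmA Fr k, bar]
      · show t * φ₁ _ * t⁻¹ = φ₂ _
        rw [b1, b2, h.t_xlA Fr, bar]
    exact (this ▸ mem_top s : s ∈ ((MulAut.conj t).toMonoidHom.comp φ₁).eqLocus φ₂)
  have i1 : Function.Injective φ₁ := by
    have := hM.simp
    rcases (inferInstance : φ₁.ker.Normal).eq_bot_or_eq_top with e | e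
    · exact (MonoidHom.ker_eq_bot_iff _).1 e
    · exfalso
      obtain ⟨s, hs⟩ := exists_ne (1 : S)
      have h1 : φ₁ s = 1 := (e ▸ mem_top s : s ∈ φ₁.ker)
      refine hs (h.inj ?_)
      rw [ext, ← tc, h1, map_one]; group
  have i2 : Function.Injective φ₂ := by
    intro s s' e
    rw [← tc, ← tc] at e
    exact i1 (mul_left_cancel (mul_right_cancel e))
  exact ⟨φ₁, φ₂, h, ⟨hM, i1⟩, ⟨hM, i2⟩, c12, ext, tc, by rw [r1, r2, sup]⟩

end CfsgLib.SP4
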