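import Cfsg.Agent.Lib.SP4.ABas
import Cfsg.Agent.Lib.UN.PrdA

/-! Type A: the product case, swapping conjugates -/

set_option autoImplicit false
set_option linter.unusedSectionVars false

namespace CfsgLib.SP4

open Subgroup Module CfsgLib.Forms CfsgLib.LieMult
open CfsgLib.HX (Std CO Two Mv M2 QA)
open CfsgLib.UN (AV SI TI HH Rad Stb Yg Rg Eg Act nu Bas Nh flag Ub Uni TD Od)
open CfsgLib.UN.SB (D)
open CfsgLib.ClSys (II)
open Submodule (span)
open CfsgLib.UN (PrdA_conj_self PrdA_range_cj)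
open CfsgLib.UFP (mem_cent mem_cent1 conj_mem conj_mem' norm_conj pgroup_zpowers_of_sq conj_conj)
open scoped commutatorElement Pointwise

universe u

variable {F : Type} [Field F] [Finite F] {V : Type} [AddCommGroup V] [Module F V]
  [FiniteDimensional F V] {P : PQ (RingHom.id F) V} {S : Type} [Group S] [Finite S] {G : Type u}
  [Group G] [Finite G] {C : CG P S} {φ : S →* G} {t : G}

namespace AP

variable {w : V → V → G} {y : V → F → G} {δ : F} {φ₁ φ₂ : S →* G} (h : AP C φ t w y δ φ₁ φ₂)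
  {Gs : Subgroup G}
include h

theorem cm {p q : G} (hp : p ∈ φ₁.range) (hq : q ∈ φ₂.range) : p * q = q * p := by
  obtain ⟨s, rfl⟩ := hp
  obtain ⟨s', rfl⟩ := hq
  exact (h.c12 s s').eq

theorem c21 : φ₂.range ≤ centralizer (φ₁.range : Set G) := fun _ hq => mem_cent.2 fun _ hp => h.cm hp hq

theorem flip : AP C φ t w y δ φ₂ φ₁ :=
  ⟨h.toHA2, h.emb₂, h.emb₁, fun s s' => (h.c12 s' s).symm, fun s => by rw [h.ext, (h.c12 s s).eq],
    fun s => by rw [← h.tc, PrdA_conj_self h.t2], by rw [sup_comm, h.eqG]⟩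

theorem conj_t : MulAut.conj t • φ₁.range = φ₂.range := by
  rw [← PrdA_range_cj]
  congr 1
  ext s
  exact h.tc s

theorem conj_map (A : Subgroup S) : MulAut.conj t • A.map φ₁ = A.map φ₂ := by
  ext x
  rw [Coprime.mem_conj_smul_iff]
  constructor
  · rintro ⟨s, hs, e⟩
    exact ⟨s, hs, by rw [← h.tc, e]; group⟩
  · rintro ⟨s, hs, rfl⟩
    exact ⟨s, hs, by rw [← h.tc]; group⟩

theorem ne : φ₁.range ≠ φ₂.range := fun e => h.emb₁.not_cent (e.le.trans h.c21)

theorem t_not_norm : t ∉ normalizer (φ₁.range : Set G) := fun e =>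
  h.ne ((Coprime.mem_normalizer_iff_conj_smul_eq.1 e).symm.trans h.conj_t)

theorem mem_W {c : G} (h1 : c ∈ centralizer (φ₁.range : Set G))
    (h2 : c ∈ centralizer (φ₂.range : Set G)) : c ∈ centralizer (GA φ y : Set G) := by
  rw [← h.eqG]
  exact le_centralizer_iff.1 (sup_le (le_centralizer_iff.1 (zpowers_le.2 h1))
    (le_centralizer_iff.1 (zpowers_le.2 h2))) (mem_zpowers c)

theorem odd_W {c : G} (h1 : c ∈ centralizer (φ₁.range : Set G))
    (h2 : c ∈ centralizer (φ₂.range : Set G)) : Odd (orderOf c) :=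
  h.toHA2.cent_odd.of_dvd_nat (Subgroup.orderOf_dvd_natCard _ (h.mem_W h1 h2))

theorem le1 : φ₁.range ≤ GA φ y := h.eqG ▸ le_sup_left

theorem L1_le : φ₁.range ≤ normalizer (GA φ y : Set G) := h.le1.trans le_normalizer

theorem norm1 : GA φ y ≤ normalizer (φ₁.range : Set G) :=
  h.eqG ▸ sup_le le_normalizer (h.c21.trans (centralizer_le_normalizer _))

theorem pa_card_eq : Nat.card φ₂.range = Nat.card φ₁.range := by rw [← h.conj_t, Coprime.card_conj_smul]

theorem perm' {g : G} (hg : g ∈ normalizer (GA φ y : Set G)) :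
    MulAut.conj g • φ₁.range = φ₁.range ∨ MulAut.conj g • φ₁.range = φ₂.range := by
  have h1 : MulAut.conj g • φ₁.range ≤ GA φ y :=
    Coprime.conj_smul_le_iff.2 fun x hx => conj_mem hg (h.le1 hx)
  have h2 : GA φ y ≤ normalizer ((MulAut.conj g • φ₁.range : Subgroup G) : Set G) := fun x hx => by
    have := norm_conj (g := g) (h.norm1 (conj_mem' hg hx))
    rwa [show g * (g⁻¹ * x * g) * g⁻¹ = x by group] at this
  rcases h.emb₁.le_or_cent (h.le1.trans h2) (h1.trans h.norm1) with h3 | h3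
  · exact .inl (Core.eq_of_le_of_card_le h3 (Coprime.card_conj_smul g _).le).symm
  rcases h.emb₂.le_or_cent (h.flip.le1.trans h2) (h1.trans h.flip.norm1) with h4 | h4
  · exact .inr (Core.eq_of_le_of_card_le h4 ((Coprime.card_conj_smul g _).trans h.pa_card_eq.symm).le).symm
  · refine absurd ?_ (h.emb₁.cj g).not_cent
    rw [PrdA_range_cj]
    exact fun x hx => centralizer_le h1 (h.mem_W (h3 hx) (h4 hx))

theorem norm2 {g : G} (hg : g ∈ normalizer (GA φ y : Set G)) (h1 : g ∈ normalizer (φ₁.range : Set G)) :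
    g ∈ normalizer (φ₂.range : Set G) := by
  rcases h.flip.perm' hg with h2 | h2
  · exact Coprime.mem_normalizer_iff_conj_smul_eq.2 h2
  · exact absurd (MulAction.injective _ ((Coprime.mem_normalizer_iff_conj_smul_eq.1 h1).trans h2.symm)) h.ne

theorem perm {g : G} (hg : g ∈ normalizer (GA φ y : Set G)) :
    g ∈ normalizer (φ₁.range : Set G) ∧ g ∈ normalizer (φ₂.range : Set G) ∨
      g * t ∈ normalizer (φ₁.range : Set G) ∧ g * t ∈ normalizer (φ₂.range : Set G) := by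
  rcases h.flip.perm' hg with h1 | h1
  · have h2 := Coprime.mem_normalizer_iff_conj_smul_eq.2 h1
    exact .inl ⟨h.flip.norm2 hg h2, h2⟩
  · have h2 : g * t ∈ normalizer (φ₁.range : Set G) := Coprime.mem_normalizer_iff_conj_smul_eq.2 (by
      rw [map_mul, mul_smul, h.conj_t, h1])
    exact .inr ⟨h2, h.norm2 (mul_mem hg h.toHA2.t_norm) h2⟩

/-- an element which does not normalise the factors swaps them -/
theorem swaps {g : G} (hg : g ∈ normalizer (GA φ y : Set G)) (h1 : g ∉ normalizer (φ₁.range : Set G)) :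
    (∀ p ∈ φ₁.range, g * p * g⁻¹ ∈ φ₂.range) ∧ ∀ p ∈ φ₂.range, g * p * g⁻¹ ∈ φ₁.range := by
  have e1 := (h.perm' hg).resolve_left fun e => h1 (Coprime.mem_normalizer_iff_conj_smul_eq.2 e)
  have e2 := (h.flip.perm' hg).resolve_left fun e =>
    h1 (h.flip.norm2 hg (Coprime.mem_normalizer_iff_conj_smul_eq.2 e))
  exact ⟨fun p hp => e1 ▸ Coprime.conj_mem_conj_smul hp, fun p hp => e2 ▸ Coprime.conj_mem_conj_smul hp⟩

theorem swap : UFP.Swap (normalizer (GA φ y : Set G))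
    (normalizer (GA φ y : Set G) ⊓ normalizer (φ₁.range : Set G))
    (normalizer (GA φ y : Set G) ⊓ centralizer (φ₂.range : Set G))
    (normalizer (GA φ y : Set G) ⊓ centralizer (φ₁.range : Set G)) := by
  have := UFP.swap_of h.t2 h.toHA2.t_norm h.t_not_norm (fun _ hg => (h.perm hg).imp And.left And.left) (by
    rw [h.conj_t]
    exact h.toHA2.cent_odd.of_dvd_nat (card_dvd_of_le fun x hx => h.mem_W hx.2.2 hx.1.2))
  rwa [h.conj_t] at this

/-- the diagonal map of a swapping element -/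
theorem pa_diag {s : G} (hs : MulAut.conj s • φ₁.range = φ₂.range) :
    ∃ ψ : φ₁.range →* G, ∀ x, ψ x = x * (s * x * s⁻¹) :=
  ⟨MonoidHom.mk' (fun x => x * (s * x * s⁻¹)) fun p q => by
    simp only [coe_mul]
    rw [mul_assoc (p : G) (s * p * s⁻¹), ← mul_assoc (s * p * s⁻¹),
      ← h.cm q.2 (hs.le (Coprime.conj_mem_conj_smul p.2))]
    group, fun _ => rfl⟩

/-- the involutions of `L t` are conjugate to `t` in `G₀` -/
theorem pa_conj {l : G} (hl : l ∈ φ.range) (l2 : l * l = 1) : ∃ p ∈ φ₁.range, l * t = p * t * p⁻¹ := by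
  obtain ⟨s, rfl⟩ := hl
  have s2 : s * s = 1 := h.inj (by rw [map_mul, l2, map_one])
  have h4 : φ₁ s * φ₁ s = 1 := by rw [← map_mul, s2, map_one]
  exact ⟨φ₁ s, ⟨s, rfl⟩, by rw [h.ext, ← h.tc, inv_eq_of_mul_eq_one_right h4]; group⟩

theorem pa_nat1 {g : G} (hg : MulAut.conj (g * t * g⁻¹) • φ₁.range = φ₂.range) {x : G} (hx : x ∈ φ₁.range) :
    g⁻¹ * x * g ∈ GA φ y := by
  obtain ⟨s, hs⟩ : ∃ s, s = g * t * g⁻¹ := ⟨_, rfl⟩
  have H := h.toSit.cj g
  rw [← hs] at hg H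
  have h2 : ∀ p ∈ φ₁.range, s * p * s⁻¹ ∈ φ₂.range := fun p hp => hg ▸ Coprime.conj_mem_conj_smul hp
  obtain ⟨ψ, hψ⟩ := h.pa_diag hg
  have hD : ∀ p ∈ φ₁.range, g⁻¹ * (p * (s * p * s⁻¹)) * g ∈ φ.range := fun p hp => by
    refine Coprime.mem_conj_smul_iff.1 (PrdA_range_cj φ g ▸ H.le_of_perf (H := ψ.range) ?_ ?_ ⟨⟨p, hp⟩, hψ _⟩)
    · rintro _ ⟨q, rfl⟩
      rw [hψ, mem_cent1, ← mul_inv_eq_iff_eq_mul, show s * (q * (s * q * s⁻¹)) * s⁻¹ =
        s * q * s⁻¹ * (s * (s * q * s⁻¹) * s⁻¹) by group, PrdA_conj_self H.t2, h.cm q.2 (h2 q q.2)]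
    · have : (⊤ : Subgroup φ₁.range) ≤ ⁅⊤, ⊤⁆ := (map_le_map_iff_of_injective φ₁.range.subtype_injective).1 (by
        rw [map_commutator, ← MonoidHom.range_eq_map, range_subtype]; exact h.emb₁.perf)
      rw [ψ.range_eq_map, ← map_commutator]
      exact map_mono this
  have h3 : ∀ z ∈ φ₁.range, z * z = 1 → z ∈ MulAut.conj g • normalizer (GA φ y : Set G) := fun z hz z2 => by
    obtain ⟨p, hp, e⟩ := h.pa_conj (hD z hz) (by
      rw [show g⁻¹ * (z * (s * z * s⁻¹)) * g * (g⁻¹ * (z * (s * z * s⁻¹)) * g) =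
        g⁻¹ * (z * (s * z * s⁻¹ * z) * (s * z * s⁻¹)) * g by group, ← h.cm hz (h2 z hz),
        show z * (z * (s * z * s⁻¹)) * (s * z * s⁻¹) = z * z * (s * (z * z) * s⁻¹) by group, z2]
      group)
    refine Coprime.mem_conj_smul_iff.2 ((Subgroup.mul_mem_cancel_left _ (inv_mem (h.L1_le hp))).1
      (h.toHA2.cent_le ?_))
    calc _ = p⁻¹ * (g⁻¹ * (z * s * (z * s⁻¹ * (g * t * g⁻¹) * z)) * g) := by
          rw [← hs, inv_mul_cancel_right, z2, hs]; group
      _ = p⁻¹ * (p * t * p⁻¹) * (g⁻¹ * z * g) := by rw [← e]; group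
      _ = _ := by group
  have h3' : φ₁.range ≤ MulAut.conj g • normalizer (GA φ y : Set G) := by
    rintro _ ⟨a, rfl⟩
    have := h.emb₁.toMod.gen (H := (MulAut.conj g • normalizer (GA φ y : Set G)).comap φ₁)
      fun p r => h3 _ ⟨_, rfl⟩ (h.emb₁.z_sq p r)
    exact (this ▸ mem_top a : a ∈ (MulAut.conj g • normalizer (GA φ y : Set G)).comap φ₁)
  have h4 : ⁅φ₁.range, φ₁.range⁆ ≤ MulAut.conj g • GA φ y := commutator_le.2 fun z hz p hp => by
    have h5 : _ ∈ GA φ y := mem_sup_left (hD p hp)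
    have h6 := mul_mem (conj_mem (Coprime.mem_conj_smul_iff.1 (h3' hz)) h5) (inv_mem h5)
    refine Coprime.mem_conj_smul_iff.2 ?_
    rwa [show g⁻¹ * z * g * (g⁻¹ * (p * (s * p * s⁻¹)) * g) * (g⁻¹ * z * g)⁻¹ *
      (g⁻¹ * (p * (s * p * s⁻¹)) * g)⁻¹ = g⁻¹ * (z * p * (s * p * s⁻¹ * z⁻¹) * (s * p * s⁻¹)⁻¹ * p⁻¹) * g
      by group, ← h.cm (inv_mem hz) (h2 p hp), show z * p * (z⁻¹ * (s * p * s⁻¹)) * (s * p * s⁻¹)⁻¹ *
      p⁻¹ = ⁅z, p⁆ by rw [commutatorElement_def]; group] at h6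
  exact Coprime.mem_conj_smul_iff.1 (h4 (h.emb₁.perf hx))

theorem native {g : G} (hg : g * t * g⁻¹ ∈ normalizer (GA φ y : Set G))
    (h1 : g * t * g⁻¹ ∉ normalizer (φ₁.range : Set G)) : g ∈ normalizer (GA φ y : Set G) := by
  have h2 := (h.perm' hg).resolve_left fun e => h1 (Coprime.mem_normalizer_iff_conj_smul_eq.2 e)
  have h3 : MulAut.conj (g * t * g⁻¹) • φ₂.range = φ₁.range := by rw [← h2, conj_conj (h.toSit.cj g).t2]
  refine inv_mem_iff.1 (mem_normalizer_fintype fun z hz => ?_)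
  rw [SetLike.mem_coe, ← h.eqG] at hz
  obtain ⟨p, hp, q, hq, rfl⟩ := SLE.mem_sup_comm (fun _ hp _ hq => h.cm hp hq) hz
  rw [show g⁻¹ * (p * q) * g⁻¹⁻¹ = g⁻¹ * p * g * (g⁻¹ * q * g) by group]
  exact mul_mem (h.pa_nat1 h2 hp) (h.flip.pa_nat1 h3 hq)

theorem not_mem (hG : SLE.Glob Gs t) : t ∉ Gs := by
  have k := h.swap
  obtain ⟨B, _, _, l, -, hl⟩ := SLE.exists_two_hom k.le fun p hp q hq => by
    by_cases e : q ∈ normalizer (GA φ y : Set G) ⊓ normalizer (φ₁.range : Set G)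
    · exact mul_mem (k.conj hp e) (inv_mem e)
    · exact k.idx _ (mul_mem (mul_mem hp hq) (inv_mem hp)) _ (inv_mem hq) (k.conj_not hp e)
        fun e' => e (inv_mem_iff.1 e')
  refine hG.not_mem (UFP.not_mem_commutator h.t2 h.toHA2.t_norm l (fun e => ?_) fun x hx e =>
    h.native hx fun e' => e ((hl _).2 ⟨1, odd_one, by rw [pow_one]; exact ⟨hx, e'⟩⟩))
  obtain ⟨m, hm, h1⟩ := (hl _).1 e
  exact h.t_not_norm (SLE.mem_of_odd_pow (pgroup_zpowers_of_sq h.t2) hm h1).2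

end AP

end CfsgLib.SP4
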