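import Cfsg.Agent.Lib.SP4.Big
import Cfsg.Agent.Lib.SP4.AEm

/-! Elementary abelian subgroups of `N(L)` -/

set_option autoImplicit false
set_option linter.unusedSectionVars false

namespace CfsgLib.SP4

open Subgroup Module CfsgLib.Forms CfsgLib.LieMult
open CfsgLib.HX (Std CO Two Mv M2 QA)
open CfsgLib.UN (AV SI TI HH Rad Stb Yg Rg Eg Act nu)
open CfsgLib.ClSys (II)
open Submodule (span)
open scoped commutatorElement Pointwise

universe u

variable {F : Type} [Field F] [Finite F] {V : Type} [AddCommGroup V] [Module F V]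
  [FiniteDimensional F V] {P : PQ (RingHom.id F) V} {S : Type} [Group S] [Finite S] {G : Type u}
  [Group G] [Finite G] {C : CG P S} {φ : S →* G} {t : G}

namespace Emb

variable (h : Emb C φ) {g g' : G}
include h

theorem pe_sub {X : Subgroup G} (hX : X ≤ φ.range) (h2 : ∀ b ∈ X, b * b = 1) :
    (∃ e, e ≠ 0 ∧ X ≤ Rg C φ (span F {e})) ∨ ∃ e a, Ln P e a ∧ X ≤ Eg C φ (span F {e, a}) := by
  have e0 := map_comap_eq_self hX
  rcases h.toMod.eab (X := X.comap φ) (fun s hs => h.inj (by rw [map_mul, map_one]; exact h2 _ hs)) with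
    ⟨e, h0, k⟩ | ⟨e, a, l, k⟩
  · exact Or.inl ⟨e, h0, e0 ▸ map_mono k⟩
  · exact Or.inr ⟨e, a, l, e0 ▸ map_mono k⟩

theorem pe_le {X : Subgroup G} (hX : X ≤ φ.range) (h2 : ∀ b ∈ X, b * b = 1) :
    Nat.card X ≤ Nat.card F ^ 3 := by
  rcases h.pe_sub hX h2 with ⟨e, h0, k⟩ | ⟨e, a, l, k⟩
  · exact h.card_Q h0 ▸ card_le_of_le k
  · exact h.card_El l ▸ card_le_of_le k

theorem pe_E {e a : V} (k : Ln P e a) (hg : g ∈ normalizer (φ.range : Set G)) (g2 : g * g = 1)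
    (hn : ¬ ∃ l, ∃ c ∈ centralizer (φ.range : Set G), g = φ l * c) {X : Subgroup G}
    (hX : X ≤ Eg C φ (span F {e, a})) (hc : X ≤ centralizer {g}) : Nat.card X ≤ Nat.card F ^ 2 := by
  have q1 : 1 < Nat.card F := Finite.one_lt_card
  obtain ⟨l, -, c, hc', -, e⟩ | ⟨α, γ, ha, a1, -⟩ | hs := h.invol hg g2
  · exact absurd ⟨l, c, hc', e⟩ hn
  · have c1 := h.card_fld (h.toMod.lag_ti (h.toMod.lag_ln k)) ha a1 hX hc
    rw [h.card_El k] at c1
    have c2 : Nat.card F ^ 3 ≤ (Nat.card F ^ 2) ^ 2 := by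
      rw [← pow_mul]; exact Nat.pow_le_pow_right q1.le (by norm_num)
    exact (Nat.pow_le_pow_iff_left two_ne_zero).1 (c1.trans c2)
  · exact h.card_sw k hs hX hc

/-- an outer involution centralises at most `q²` elements of an elementary abelian subgroup of `L` -/
theorem pe_out (hg : g ∈ normalizer (φ.range : Set G)) (g2 : g * g = 1)
    (hn : ¬ ∃ l, ∃ c ∈ centralizer (φ.range : Set G), g = φ l * c) {X : Subgroup G} (hX : X ≤ φ.range)
    (h2 : ∀ b ∈ X, b * b = 1) (hc : X ≤ centralizer {g}) : Nat.card X ≤ Nat.card F ^ 2 := by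
  rcases h.pe_sub hX h2 with ⟨e, h0, k⟩ | ⟨e, a, l, k⟩
  · obtain ⟨φ', h', d, -⟩ := h.exists_dual
    obtain ⟨p, a, l, -, e1⟩ := d.pt e h0
    refine h'.pe_E l (d.rng ▸ hg) g2 ?_ (e1 ▸ k) hc
    rintro ⟨s, c, hc', e2⟩
    obtain ⟨s', e'⟩ : φ' s ∈ φ.range := d.rng ▸ ⟨s, rfl⟩
    exact hn ⟨s', c, d.rng ▸ hc', by rwa [e']⟩
  · exact h.pe_E l hg g2 hn k hc

theorem pe_two (hg : g ∈ normalizer (φ.range : Set G)) (hg' : g' ∈ normalizer (φ.range : Set G))
    (g2 : g * g = 1) (g2' : g' * g' = 1) (hn : ¬ ∃ l, ∃ c ∈ centralizer (φ.range : Set G), g = φ l * c)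
    (hn' : ¬ ∃ l, ∃ c ∈ centralizer (φ.range : Set G), g' = φ l * c) :
    ∃ l, ∃ c ∈ centralizer (φ.range : Set G), g * g' = φ l * c := by
  obtain ⟨π, hπ⟩ := h.exists_out
  have cyc := h.out
  have : Finite (MulAut S) := Finite.of_injective (fun f : MulAut S => (f : S → S)) DFunLike.coe_injective
  have : Finite (Cfsg.Out S) := Finite.of_surjective _ QuotientGroup.mk_surjective
  have sq : ∀ (y : G) (hy : y ∈ normalizer (φ.range : Set G)), y * y = 1 → π ⟨y, hy⟩ * π ⟨y, hy⟩ = 1 :=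
    fun y hy y2 => by
      rw [← map_mul, ← π.map_one]
      exact congrArg π (Subtype.ext y2)
  rcases SPC.mx_two (sq g hg g2) (sq g' hg' g2') with e | e | e
  · exact absurd ((hπ _).1 e) hn
  · exact absurd ((hπ _).1 e) hn'
  · refine (hπ (⟨g, hg⟩ * ⟨g', hg'⟩)).1 ?_
    rw [map_mul, e, sq g' hg' g2']

theorem pe_core {A : Subgroup G} (h1 : A ≤ normalizer (φ.range : Set G))
    (h2 : ∀ a ∈ A, a * a = 1) : ∃ X : Subgroup S, (∀ l ∈ X, l * l = 1) ∧
      (∀ l ∈ X, ∃ a ∈ A, ∃ c ∈ centralizer (φ.range : Set G), a = φ l * c) ∧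
      (Nat.card A ≤ Nat.card X * Nat.card (A ⊓ centralizer (φ.range : Set G) : Subgroup G) ∨
        Nat.card A < Nat.card F ^ 3 * Nat.card (A ⊓ centralizer (φ.range : Set G) : Subgroup G)) := by
  have m := h.toMod
  have inv : ∀ b ∈ A, b⁻¹ = b := fun b hb => inv_eq_of_mul_eq_one_right (h2 b hb)
  have ab : ∀ a ∈ A, ∀ b ∈ A, a * b = b * a := fun a ha b hb => by
    rw [← inv _ (A.mul_mem ha hb), mul_inv_rev, inv a ha, inv b hb]
  let X : Subgroup S :=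
    { carrier := {l | ∃ a ∈ A, ∃ c ∈ centralizer (φ.range : Set G), a = φ l * c}
      one_mem' := ⟨1, one_mem _, 1, one_mem _, by rw [map_one, one_mul]⟩
      mul_mem' := by
        rintro l l' ⟨_, ha, c, hc, rfl⟩ ⟨_, ha', c', hc', rfl⟩
        refine ⟨_, mul_mem ha ha', c * c', mul_mem hc hc', ?_⟩
        rw [map_mul, mul_assoc, ← mul_assoc c, ← hc _ ⟨l', rfl⟩, mul_assoc, mul_assoc]
      inv_mem' := by
        rintro l ⟨_, ha, c, hc, rfl⟩
        refine ⟨_, inv_mem ha, c⁻¹, inv_mem hc, ?_⟩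
        rw [hc _ ⟨l, rfl⟩, mul_inv_rev, map_inv] }
  have X2 : ∀ l ∈ X, l * l = 1 := by
    rintro l ⟨_, ha, c, hc, rfl⟩
    exact h.inj (by rw [map_mul, map_one, (h.sq_split ⟨l, rfl⟩ hc (h2 _ ha)).1])
  have hX : ∀ l : X, ∃ a ∈ A, ∃ c ∈ centralizer (φ.range : Set G), a = φ l * c := fun l => l.2
  choose r r1 c c1 rc using hX
  let f : X × (A ⊓ centralizer (φ.range : Set G) : Subgroup G) → G := fun p => r p.1 * p.2
  have hf : ∀ b ∈ A, (∃ l, ∃ c ∈ centralizer (φ.range : Set G), b = φ l * c) → ∃ i, f i = b := by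
    rintro b hb ⟨l, d, hd, e⟩
    have hl : l ∈ X := ⟨b, hb, d, hd, e⟩
    refine ⟨(⟨l, hl⟩, ⟨(r ⟨l, hl⟩)⁻¹ * b, mem_inf.2 ⟨mul_mem (inv_mem (r1 _)) hb, ?_⟩⟩),
      mul_inv_cancel_left _ _⟩
    rw [rc, e, mul_inv_rev, mul_assoc, inv_mul_cancel_left]
    exact mul_mem (inv_mem (c1 _)) hd
  refine ⟨X, X2, fun l hl => hl, ?_⟩
  by_cases H : ∀ b ∈ A, ∃ l, ∃ c ∈ centralizer (φ.range : Set G), b = φ l * c
  · have c1 := SPC.mx_card_le (A := (A : Set G)) f fun b hb => hf b hb (H b hb)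
    rw [Nat.card_prod] at c1
    exact Or.inl c1
  refine Or.inr ?_
  simp only [not_forall] at H
  obtain ⟨g, hg, H⟩ := H
  have c1 := SPC.mx_card_le (A := (A : Set G))
    (fun p : (X × (A ⊓ centralizer (φ.range : Set G) : Subgroup G)) × Bool =>
      if p.2 then g * f p.1 else f p.1) fun b hb => by
      by_cases e : ∃ l, ∃ c ∈ centralizer (φ.range : Set G), b = φ l * c
      · obtain ⟨i, hi⟩ := hf b hb e
        exact ⟨(i, false), hi⟩
      obtain ⟨i, hi⟩ := hf _ (A.mul_mem hg hb) (h.pe_two (h1 hg) (h1 hb) (h2 g hg) (h2 b hb) H e)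
      refine ⟨(i, true), ?_⟩
      change g * f i = b
      rw [hi, ← mul_assoc, h2 g hg, one_mul]
  rw [Nat.card_prod, Nat.card_prod, Nat.card_eq_fintype_card (α := Bool), Fintype.card_bool] at c1
  change Nat.card A ≤ _ at c1
  have q1 : 1 < Nat.card F := Finite.one_lt_card
  have q2 : Nat.card F ≠ 2 := fun e => m.big (m.small_iff.2 e)
  have q3 : 3 ≤ Nat.card F := by omega
  have c2 := h.pe_out (h1 hg) (h2 g hg) H (X := X.map φ) (map_le_range φ _) (by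
      rintro _ ⟨l, hl, rfl⟩
      rw [← map_mul, X2 l hl, map_one]) (by
      rintro _ ⟨l, ⟨_, hl, d, hd, rfl⟩, rfl⟩ y rfl
      have n1 := h1 hg
      have e := (h.dec_inj ((mem_normalizer_iff.1 n1 _).1 ⟨l, rfl⟩) ⟨l, rfl⟩
        ((mem_normalizer_iff.1 (loc_ncent n1) _).1 hd) hd
        (by rw [conj_mul, ab _ hg _ hl, mul_inv_cancel_right])).1
      exact mul_inv_eq_iff_eq_mul.1 e)
  rw [h.card_map] at c2
  rw [pow_succ]
  have p1 : 0 < Nat.card F ^ 2 * Nat.card (A ⊓ centralizer (φ.range : Set G) : Subgroup G) :=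
    Nat.mul_pos (pow_pos (by omega) _) Nat.card_pos
  have c5 := Nat.mul_le_mul_right (Nat.card (A ⊓ centralizer (φ.range : Set G) : Subgroup G)) c2
  rw [mul_right_comm]
  nlinarith

theorem ea_le {A : Subgroup G} (h1 : A ≤ normalizer (φ.range : Set G)) (h2 : ∀ a ∈ A, a * a = 1) :
    Nat.card A ≤ Nat.card F ^ 3 * Nat.card (A ⊓ centralizer (φ.range : Set G) : Subgroup G) := by
  obtain ⟨X, X2, -, c | c⟩ := h.pe_core h1 h2
  · refine c.trans (Nat.mul_le_mul_right _ ?_)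
    rw [← h.card_map]
    refine h.pe_le (map_le_range φ _) ?_
    rintro _ ⟨l, hl, rfl⟩
    rw [← map_mul, X2 l hl, map_one]
  · exact c.le

theorem ea_eq {A : Subgroup G} (h1 : A ≤ normalizer (φ.range : Set G)) (h2 : ∀ a ∈ A, a * a = 1)
    (h3 : Nat.card F ^ 3 * Nat.card (A ⊓ centralizer (φ.range : Set G) : Subgroup G) ≤ Nat.card A) :
    ∃ X ≤ φ.range, Nat.card F ^ 3 ≤ Nat.card X ∧
      ∀ ε ∈ X, ∃ a ∈ A, ∃ c ∈ centralizer (φ.range : Set G), ε = a * c := by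
  obtain ⟨X, X2, hX, c | c⟩ := h.pe_core h1 h2
  swap
  · exact absurd h3 (not_le.2 c)
  refine ⟨X.map φ, map_le_range φ _, ?_, ?_⟩
  · rw [h.card_map]
    exact Nat.le_of_mul_le_mul_right (h3.trans c) Nat.card_pos
  · rintro _ ⟨l, hl, rfl⟩
    obtain ⟨a, ha, c, hc, e⟩ := hX l hl
    exact ⟨a, ha, c⁻¹, inv_mem hc, by rw [e, mul_inv_cancel_right]⟩

end Emb

namespace Sit

variable (h : Sit C φ t) {B : Subgroup G}
include h

theorem big_le (h1 : B ≤ centralizer {t}) (h2 : ∀ b ∈ B, b * b = 1) : Nat.card B ≤ 2 * Nat.card F ^ 3 := by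
  by_cases h3 : 2 * Nat.card F ^ 3 ≤ Nat.card B
  · rcases h.bigA h1 h2 h3 with ⟨e, h0, rfl⟩ | ⟨e, a, k, rfl⟩
    · exact ((h.card_sup_t (map_le_range φ _)).trans (congrArg _ (h.toEmb.card_Q h0))).le
    · exact ((h.card_sup_t (map_le_range φ _)).trans (congrArg _ (h.toEmb.card_El k))).le
  · exact (not_le.1 h3).le

theorem big_in (h1 : B ≤ centralizer {t}) (h2 : ∀ b ∈ B, b * b = 1) (h3 : 2 * Nat.card F ^ 3 ≤ Nat.card B) :
    B ≤ φ.range ⊔ centralizer (φ.range : Set G) := by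
  rcases h.bigA h1 h2 h3 with ⟨e, -, rfl⟩ | ⟨e, a, -, rfl⟩ <;>
    exact sup_le_sup (map_le_range φ _) (zpowers_le.2 h.tC)

end Sit

end CfsgLib.SP4
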