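import Cfsg.Agent.Lib.SP4.Big
import Cfsg.Agent.Lib.SPC.Fus

/-! Fusion of t, preparations -/

set_option autoImplicit false
set_option linter.unusedSectionVars false

namespace CfsgLib.SP4

open Subgroup Module CfsgLib.Forms CfsgLib.LieMult
open CfsgLib.HX (Std CO Two Mv M2)
open CfsgLib.UN (AV SI TI HH Rad Stb Yg Rg Eg Act nu)
open CfsgLib.ClSys (II)
open Submodule (span)
open scoped commutatorElement Pointwise

universe u

variable {F : Type} [Field F] [Finite F] {V : Type} [AddCommGroup V] [Module F V]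
  [FiniteDimensional F V] {P : PQ (RingHom.id F) V} {S : Type} [Group S] [Finite S] {G : Type u}
  [Group G] [Finite G] {C : CG P S} {φ : S →* G} {t : G}

theorem Mod.fusa_hp (h : Mod C) {α : RingAut F} {γ : AV V} (k : SI P α γ) (h1 : α ≠ 1)
    (h2 : α * α = 1) (h3 : ∀ v, γ (γ v) = v) {A : Set V} (hA : ∀ a ∈ A, γ a = a) {e f : V}
    (he : ∀ a ∈ A, P.B a e = 0) (hf : ∀ a ∈ A, P.B a f = 0) (ef : P.B e f = 1) :
    ∃ e' f', γ e' = e' ∧ γ f' = f' ∧ (∀ a ∈ A, P.B a e' = 0) ∧ (∀ a ∈ A, P.B a f' = 0) ∧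
      P.B e' f' = 1 := by
  obtain ⟨⟨θ, hθ⟩, -⟩ := h.aut_two h1 h2
  have sp : ∀ v, (∀ a ∈ A, P.B a v = 0) → ∃ u w, (γ u = u ∧ ∀ a ∈ A, P.B a u = 0) ∧
      (γ w = w ∧ ∀ a ∈ A, P.B a w = 0) ∧ v = u + α θ • w := fun v hv => by
    have k1 : ∀ v, (∀ a ∈ A, P.B a v = 0) → γ (v + γ v) = v + γ v ∧ ∀ a ∈ A, P.B a (v + γ v) = 0 :=
      fun v hv => ⟨by rw [map_add, h3, add_comm], fun a ha => by
        rw [map_add, hv a ha, ← hA a ha, k.B_eq, hv a ha, map_zero, add_zero]⟩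
    refine ⟨_, _, k1 (θ • v) fun a ha => by rw [map_smul, hv a ha, smul_zero], k1 v hv, ?_⟩
    rw [k.semi, smul_add, add_add_add_comm, h.vadd_self, add_zero, ← add_smul, hθ, one_smul]
  obtain ⟨u, w, hu, hw, c⟩ : ∃ u w, (γ u = u ∧ ∀ a ∈ A, P.B a u = 0) ∧
      (γ w = w ∧ ∀ a ∈ A, P.B a w = 0) ∧ P.B u w ≠ 0 := by
    by_contra! c
    obtain ⟨u, w, hu, hw, rfl⟩ := sp e he
    obtain ⟨u', w', hu', hw', rfl⟩ := sp f hf
    simp [c _ _ hu hu', c _ _ hu hw', c _ _ hw hu', c _ _ hw hw'] at ef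
  have c1 : α (P.B u w) = P.B u w := by rw [← k.B_eq, hu.1, hw.1]
  exact ⟨u, (P.B u w)⁻¹ • w, hu.1, by rw [k.semi, map_inv₀, c1, hw.1], hu.2,
    fun a ha => by rw [map_smul, hw.2 a ha, smul_zero], by rw [map_smul, smul_eq_mul, inv_mul_cancel₀ c]⟩

/-- a semilinear involution fixes a hyperbolic basis -/
theorem Mod.fixed_hh (h : Mod C) {α : RingAut F} {γ : AV V} (k : SI P α γ) (h1 : α ≠ 1)
    (h2 : α * α = 1) (h3 : ∀ v, γ (γ v) = v) :
    ∃ e f a f', HH P e f a f' ∧ γ e = e ∧ γ f = f ∧ γ a = a ∧ γ f' = f' := by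
  obtain ⟨e, e0⟩ := h.exists_ne0
  obtain ⟨f, ef⟩ := h.exists_hp e0
  obtain ⟨e₁, f₁, a1, b1, -, -, k1⟩ := h.fusa_hp k h1 h2 h3 (A := ∅) (by simp) (by simp) (by simp) ef
  obtain ⟨e, f, l⟩ := h.exists_hh k1
  obtain ⟨e₂, f₂, a2, b2, c2, d2, k2⟩ := h.fusa_hp k h1 h2 h3 (A := {e₁, f₁}) (by simp [a1, b1])
    (by simp [l.ee, l.fe]) (by simp [l.ef, l.ff]) l.h₂.ef
  simp only [Set.mem_insert_iff, Set.mem_singleton_iff, forall_eq_or_imp, forall_eq] at c2 d2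
  exact ⟨e₁, f₁, e₂, f₂, ⟨l.h₁, h.hp_iff.2 k2, c2.1, d2.1, c2.2, d2.2⟩, a1, b1, a2, b2⟩

theorem Emb.zx_uniq (h : Emb C φ) {p b p' u v : V} {r : F} (k : P.B p b = 0) (k' : Ln P u v)
    (c : Commute (z C φ p' 1) (x C φ u v)) (e1 : z C φ p r * x C φ p b = z C φ p' 1 * x C φ u v) :
    z C φ p' 1 = z C φ p r := by
  -- p' is fixed by x u v (`fix_of_comm`) so p' ⊥ u, v; compare w ↦ B (s w) w: r (B p w)² = (B p' w)²
  have M := h.toMod
  have c1 : C.T u v 0 * C.T p' 0 1 = C.T p' 0 1 * C.T u v 0 := h.inj (by rw [map_mul, map_mul]; exact c.symm.eq)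
  have c2 := M.fix_of_comm one_ne_zero c1
  rw [M.x_app k'.perp, add_assoc, add_eq_left] at c2
  obtain ⟨c3, c4⟩ := M.ln_inj k' (c' := 0) (d' := 0) (c2.trans (by simp))
  have c5 : P.B p' v = 0 := by rw [M.B_comm, c3]
  have c6 : P.B p' u = 0 := by rw [M.B_comm, c4]
  have e2 : C.T p 0 r * C.T p b 0 = C.T p' 0 1 * C.T u v 0 := h.inj (by rw [map_mul, map_mul]; exact e1)
  obtain ⟨ρ, rfl⟩ := M.exists_sqrt r
  have two := M.two
  have e3 : ρ • p + p' = 0 := M.nd fun w => by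
    have := congrArg (fun s => P.B (C.act s w) w) e2
    simp only [C.mul_apply, M.z_app, M.x_app k, M.x_app k'.perp, map_add, LinearMap.add_apply, map_smul,
      LinearMap.smul_apply, smul_eq_mul, M.B_self, k, c5, c6] at this
    have e4 : ρ * P.B p w = P.B p' w := M.sq_inj (by
      linear_combination this - two * (P.B b w * P.B p w) + two * (P.B v w * P.B u w))
    rw [map_add, LinearMap.add_apply, M.B_smul_left, e4, M.add_self]
  rw [← M.veq_of_add e3, h.z_smul, mul_one]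

/-- a swapping involution has an absolute point -/
theorem Emb.sw_abs (h : Emb C φ) {s : G} (hs : Sw C φ s) (s2 : s * s = 1) :
    ∃ e a, Ln P e a ∧ s * z C φ e 1 * s⁻¹ = x C φ e a := by
  -- s z_e s = x p b. If e ∈ ⟨p, b⟩ rewrite with `loc_x`. Otherwise choose p ⊥ e in the line; j = (z x)² =
  -- z p r * x p (v • e), r, v ≠ 0 (`z_τ`/`Bz`), s j s = j; `zx_uniq` gives s (x p (v • e)) s = z p r
  have M := h.toMod
  have si : s⁻¹ = s := inv_eq_of_mul_eq_one_right s2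
  have back : ∀ {a b : G}, s * a * s⁻¹ = b → s * b * s⁻¹ = a := fun {a b} e => by
    rw [← e, si]
    calc s * (s * a * s) * s = (s * s) * a * (s * s) := by group
      _ = a := by rw [s2, one_mul, mul_one]
  have chg : ∀ {p b : V}, Ln P p b → ∀ c d : F, c • p + d • b ≠ 0 →
      ∃ a, Ln P (c • p + d • b) a ∧ x C φ (c • p + d • b) a = x C φ p b := fun {p b} l c d h0 => by
    obtain ⟨c₂, d₂, e⟩ : ∃ c₂ d₂, c * d₂ + c₂ * d = 1 := by
      by_cases hc : c = 0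
      · have hd : d ≠ 0 := fun hd => h0 (by simp [hc, hd])
        exact ⟨d⁻¹, 0, by simp [hd]⟩
      · exact ⟨0, c⁻¹, by simp [hc]⟩
    exact ⟨_, h.loc_ln l (e ▸ one_ne_zero), by rw [h.loc_x l.perp, e, one_smul]⟩
  obtain ⟨e, e0⟩ := M.exists_ne0
  obtain ⟨p₀, b₀, l₀, k₀⟩ := hs.za e e0
  have mem : ∀ {p b : V}, Ln P p b → P.B p e = 0 → P.B b e = 0 → s * z C φ e 1 * s⁻¹ = x C φ p b →
      ∃ e a, Ln P e a ∧ s * z C φ e 1 * s⁻¹ = x C φ e a := fun {p b} l h1 h2 k => by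
    obtain ⟨f, f', hh⟩ := M.hh_of_ln l
    have e1 := M.hh_eq hh e
    rw [h1, h2, zero_smul, zero_smul, add_zero, add_zero] at e1
    obtain ⟨a, a1, a2⟩ := chg l _ _ (e1 ▸ e0)
    rw [← e1] at a1 a2
    exact ⟨e, a, a1, k.trans a2.symm⟩
  by_cases h0 : P.B b₀ e • p₀ + P.B p₀ e • b₀ = 0
  · obtain ⟨h1, h2⟩ := M.ln_inj l₀ (c' := 0) (d' := 0) (h0.trans (by simp))
    exact mem l₀ h2 h1 k₀
  obtain ⟨b, l, k⟩ := chg l₀ _ _ h0
  have pe : P.B (P.B b₀ e • p₀ + P.B p₀ e • b₀) e = 0 := by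
    rw [map_add, LinearMap.add_apply, M.B_smul_left, M.B_smul_left, mul_comm, M.add_self]
  generalize P.B b₀ e • p₀ + P.B p₀ e • b₀ = p at l k pe
  replace k := k₀.trans k.symm
  by_cases be : P.B b e = 0
  · exact mem l pe be k
  obtain ⟨β, hβ⟩ : ∃ β, β = P.B b e := ⟨_, rfl⟩
  rw [← hβ] at be
  have bp : P.B b p = 0 := by rw [M.B_comm, l.perp]
  have l1 : Ln P p e := ⟨l.ne, fun c => be (by
    obtain ⟨c, rfl⟩ := Submodule.mem_span_singleton.1 c
    rw [hβ, map_smul, bp, smul_zero]), pe⟩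
  have l2 : Ln P (β • p) e := by simpa using M.ln_smul l1 be one_ne_zero 0
  have k1 : P.B p (β • e) = 0 := by rw [map_smul, pe, smul_zero]
  have k2 : P.B p (b + β • e) = 0 := by rw [map_add, l.perp, k1, add_zero]
  have j1 : z C φ e 1 * x C φ p b * z C φ e 1 * x C φ p b = x C φ p (β • e) * z C φ p (β * β) := by
    have a1 := h.z_τ (u := e) 1 l.perp 0
    rw [M.B_comm e p, pe, M.B_comm e b, ← hβ, mul_zero, zero_smul, add_zero, one_mul] at a1
    have a2 := h.x_mul k2 l.perp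
    rw [add_comm b, add_assoc, M.vadd_self, add_zero, map_add, LinearMap.add_apply, M.B_self, add_zero,
      M.B_smul_left, M.B_comm e b, ← hβ, add_comm (β • e)] at a2
    rw [← a2]
    exact congrArg (· * x C φ p b) a1
  have j2 : x C φ p (β • e) * z C φ p (β * β) * (x C φ p (β • e) * z C φ p (β * β)) = 1 := by
    rw [← h.τ_eq k1, h.τ_sq k1]
  have j3 : s * (x C φ p (β • e) * z C φ p (β * β)) * s⁻¹ = x C φ p (β • e) * z C φ p (β * β) := by
    have a1 := back k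
    have a2 := inv_eq_of_mul_eq_one_right (h.z_sq e 1)
    have a3 := inv_eq_of_mul_eq_one_right (h.x_sq l.perp)
    calc _ = (s * z C φ e 1 * s⁻¹) * (s * x C φ p b * s⁻¹) * (s * z C φ e 1 * s⁻¹) *
          (s * x C φ p b * s⁻¹) := by rw [← j1]; group
      _ = (z C φ e 1 * x C φ p b * z C φ e 1 * x C φ p b)⁻¹ := by
          rw [k, a1, mul_inv_rev, mul_inv_rev, mul_inv_rev, a2, a3]; group
      _ = _ := by rw [j1, inv_eq_of_mul_eq_one_right j2]
  have cm : Commute (x C φ p (β • e)) (z C φ p (β * β)) := h.τ_comm k1 (b := 0) (by simp) _ _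
  obtain ⟨p', -, m1⟩ := hs.az _ _ l2
  obtain ⟨u, v, l3, m2⟩ := hs.za _ l2.ne
  rw [h.x_smul pe] at m1
  rw [h.z_smul, mul_one] at m2
  have m3 := h.zx_uniq (r := β * β) k1 l3 (p' := p') (by rw [← m1, ← m2]; exact cm.conj s) (by
    rw [← m1, ← m2, conj_mul, j3, cm.eq])
  refine ⟨_, _, l2, ?_⟩
  rw [h.x_smul pe, h.z_smul, mul_one, ← m3]
  exact back m1

namespace Sit

variable (h : Sit C φ t)
include h

theorem exists_comm {Gs : Subgroup G} (hG : SLE.Glob Gs t) (hL : φ.range ≤ Gs) :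
    ∃ g, g * t * g⁻¹ ≠ t ∧ Commute (g * t * g⁻¹) t := by
  by_contra! h0
  have := hG.simple
  have := hG.nrm
  have hO : Cfsg.pPrimeCore 2 G = ⊥ := by
    rcases ((inferInstance : (Cfsg.pPrimeCore 2 G).Normal).subgroupOf Gs).eq_bot_or_eq_top with e | e
    · rw [eq_bot_iff, ← hG.cen]
      intro x hx y hy
      have : y * x * y⁻¹ * x⁻¹ ∈ Cfsg.pPrimeCore 2 G ⊓ Gs :=
        mem_inf.2 ⟨mul_mem (Normal.conj_mem inferInstance x hx y) (inv_mem hx), by
          have := hG.nrm.conj_mem _ (inv_mem hy) x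
          simpa [mul_assoc] using mul_mem hy this⟩
      rw [subgroupOf_eq_bot, disjoint_iff] at e
      rw [e, mem_bot, mul_inv_eq_one, mul_inv_eq_iff_eq_mul] at this
      exact this
    · obtain ⟨a, a0⟩ := h.g2_ne
      have h1 := (Core.odd_card_oddCore G).of_dvd_nat
        (orderOf_dvd_natCard _ (subgroupOf_eq_top.1 e (hL (⟨_, rfl⟩ : z C φ a 1 ∈ φ.range))))
      rw [Invol.orderOf_eq_two (fun c => (h.z_eq_one.1 c).elim a0 one_ne_zero) (h.z_sq a 1)] at h1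
      exact absurd h1 (by decide)
  have := ZStar.zstar_center hO (t := t) ⟨Invol.orderOf_eq_two h.t1 h.t2, fun g hg => by
    by_contra e
    exact h0 g e hg.symm⟩
  have h1 : t ∈ centralizer (Gs : Set G) := fun y _ => mem_center_iff.1 this y
  rw [hG.cen] at h1
  exact h.t1 h1

/-- a four-group of `L` centralising `s = g t g⁻¹` meets `L_s` -/
theorem inner_four {g : G} {j j' : G} (h1 : j * j = 1) (h1' : j' * j' = 1) (c : Commute j j')
    (h2 : j ≠ 1) (h2' : j' ≠ 1) (h3 : j ≠ j') (c1 : Commute j (g * t * g⁻¹))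
    (c2 : Commute j' (g * t * g⁻¹)) (k1 : InT (g * t * g⁻¹) j) (k2 : InT (g * t * g⁻¹) j')
    (k3 : InT (g * t * g⁻¹) (j * j')) :
    ∃ g' l, l * l = 1 ∧ l ≠ 1 ∧ g' * t * g'⁻¹ = t * φ l := by
  -- for `h.cj g`: `exists_out`, `SPC.mx_two`: one of j, j', j j' is l c with l ∈ L_s, c ∈ C(L_s), `sq_split`,
  -- `Std.invol`: c = 1 or c = s; c = s gives s j ∈ L_s, against `nL`
  have h' := h.cj g
  have key : ∀ y : G, y * y = 1 → y ≠ 1 → Commute y (g * t * g⁻¹) → InT (g * t * g⁻¹) y →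
      (∃ l, ∃ c ∈ centralizer ((((MulAut.conj g).toMonoidHom.comp φ).range : Subgroup G) : Set G),
        y = ((MulAut.conj g).toMonoidHom.comp φ) l * c) →
      ∃ g' l, l * l = 1 ∧ l ≠ 1 ∧ g' * t * g'⁻¹ = t * φ l := by
    rintro _ y2 y1 yc ⟨k, hk⟩ ⟨l, c, hc, rfl⟩
    obtain ⟨l2, c2⟩ := h'.sq_split ⟨l, rfl⟩ hc y2
    rcases h'.toStd.invol hc (h'.ct_of ⟨l, rfl⟩ yc) c2 with rfl | rfl
    · rw [mul_one] at hk y1
      refine ⟨g⁻¹ * k * g, l, h'.inj (by rw [map_mul, l2, map_one]), fun e => y1 (by rw [e, map_one]), ?_⟩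
      calc _ = g⁻¹ * (k * (g * t * g⁻¹) * k⁻¹) * g := by group
        _ = _ := by
          rw [hk]
          show g⁻¹ * (g * t * g⁻¹ * (g * φ l * g⁻¹)) * g = _
          group
    · refine absurd ⟨l, ?_⟩ (h'.nL k)
      rw [hk, h'.tl, ← mul_assoc, h'.t2, one_mul]
  obtain ⟨π, hπ⟩ := h'.exists_out
  have := h.out
  have : Finite (Cfsg.Out S) := Finite.of_surjective _ (QuotientGroup.mk'_surjective _)
  have n1 := h'.norm_of c1
  have n2 := h'.norm_of c2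
  rcases SPC.mx_two (a := π ⟨j, n1⟩) (b := π ⟨j', n2⟩)
    (by rw [← map_mul, show (⟨j, n1⟩ * ⟨j, n1⟩ : normalizer _) = 1 from Subtype.ext h1, map_one])
    (by rw [← map_mul, show (⟨j', n2⟩ * ⟨j', n2⟩ : normalizer _) = 1 from Subtype.ext h1', map_one]) with e | e | e
  · exact key j h1 h2 c1 k1 ((hπ _).1 e)
  · exact key j' h1' h2' c2 k2 ((hπ _).1 e)
  · refine key (j * j') ?_ (fun e => h3 ?_) (c1.mul_left c2) k3 ((hπ (⟨j, n1⟩ * ⟨j', n2⟩)).1 ?_)
    · rw [mul_assoc, ← mul_assoc j', ← c.eq, mul_assoc, h1', mul_one, h1]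
    · rw [eq_inv_of_mul_eq_one_left e, inv_eq_of_mul_eq_one_right h1']
    · rw [map_mul, e, ← map_mul, show (⟨j', n2⟩ * ⟨j', n2⟩ : normalizer _) = 1 from Subtype.ext h1', map_one]

end Sit

end CfsgLib.SP4
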