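import Cfsg.Agent.Lib.SP4.PU
import Cfsg.Agent.Lib.SP4.FusA

/-! Centralisers of graph involutions -/

set_option autoImplicit false
set_option linter.unusedSectionVars false

namespace CfsgLib.SP4

open Subgroup Module CfsgLib.Forms CfsgLib.LieMult
open CfsgLib.HX (Std CO Two Mv M2 QA)
open CfsgLib.UN (AV SI TI HH Rad Stb Yg Rg Eg Act nu)
open CfsgLib.ClSys (II)
open Submodule (span)
open scoped commutatorElement Pointwise

universe u

variable {F : Type} [Field F] [Finite F] {V : Type} [AddCommGroup V] [Module F V]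
  [FiniteDimensional F V] {P : PQ (RingHom.id F) V} {S : Type} [Group S] [Finite S] {G : Type u}
  [Group G] [Finite G] {C : CG P S} {φ : S →* G} {t : G}

/-- `Gr.map_Q` for any automorphism -/
theorem Mod.psw_map (h : Mod C) (θ : MulAut S) {e p a : V} (h0 : e ≠ 0) (l : Ln P p a)
    (e1 : θ (C.T e 0 1) = C.T p a 0) (s : S) :
    θ s ∈ C.fixG (P.perp (span F {p, a})) ↔ s ∈ Rad C (span F {e}) := by
  have hi : Emb C (MonoidHom.id S) := ⟨h, fun _ _ e => e⟩
  set E := C.fixG (P.perp (span F {p, a})) with hE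
  have eE : Eg C (MonoidHom.id S) (span F {p, a}) = E := Subgroup.map_id _
  have mY : ∀ s : S, θ s ∈ Yl C (MonoidHom.id S) p a ↔ C.act s e = e := fun s => by
    have e2 : x C (MonoidHom.id S) p a = θ (C.T e 0 1) := e1.symm
    rw [Yl, mem_inf, e2, mem_centralizer_singleton_iff, ← map_mul, ← map_mul, θ.injective.eq_iff]
    refine ⟨fun k => h.fix_of_comm one_ne_zero k.2, fun k => ⟨⟨θ s, rfl⟩, ?_⟩⟩
    rw [← mul_inv_eq_iff_eq_mul, h.T_conj s (map_zero _), map_zero, k]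
  have f1 : ∀ s ∈ E.comap θ.toMonoidHom, C.act s e = e := fun s hs =>
    (mY s).1 (hi.E_le_Yl l (by rw [eE]; exact hs))
  have tl : TI P (span F {p, a}) := h.ti_pair l.perp
  have le : E.comap θ.toMonoidHom ≤ Rad C (span F {e}) := fun s hs =>
    ⟨mem_fix_pt.2 (f1 s hs), fun v hv => h.o2 (h.ti_pt e)
      (((h.rad_two tl).to_le (h.E_le_rad tl)).comap_of_injective _ θ.injective)
      (fun s hs => fix_le_stb _ (mem_fix_pt.2 (f1 s hs)))
      (fun y hy => le_normalizer_comap _ (by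
        have := hi.Yl_norm l ((mY y).2 (mem_fix_pt.1 hy))
        rw [eE] at this
        exact this)) hs hv⟩
  have c1 : Nat.card (E.comap θ.toMonoidHom) = Nat.card F ^ 3 := by
    rw [← hi.card_El l, eE]
    exact Nat.card_congr (θ.toEquiv.subtypeEquiv fun _ => Iff.rfl)
  have c2 : Nat.card (Rad C (span F {e})) = Nat.card F ^ 3 := by rw [h.card_Q h0, h.d4]
  rw [← eq_of_le_of_card_ge le (c2.trans c1.symm).le]
  rfl

omit [Finite G] in
theorem psw_cj {s : G} (s2 : s * s = 1) (y : G) : s * (s * y * s⁻¹) * s⁻¹ = y := by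
  rw [show s * (s * y * s⁻¹) * s⁻¹ = s * s * y * (s * s)⁻¹ by group, s2]; group

namespace Emb

variable (h : Emb C φ) {s : G}
include h

theorem ps_swap (hs : Sw C φ s) (s2 : s * s = 1) : ∃ e a, Ln P e a ∧
    (∀ y, s * y * s⁻¹ ∈ Eg C φ (span F {e, a}) ↔ y ∈ Rg C φ (span F {e})) ∧
    ∀ y, s * y * s⁻¹ ∈ Rg C φ (span F {e}) ↔ y ∈ Eg C φ (span F {e, a}) := by
  obtain ⟨e, a, l, e1⟩ := h.sw_abs hs s2
  obtain ⟨Θ, hΘ⟩ := h.exists_hom
  have hθ : ∀ u, φ (Θ ⟨s, hs.nL⟩ u) = s * φ u * s⁻¹ := hΘ ⟨s, hs.nL⟩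
  have k := h.toMod.psw_map (Θ ⟨s, hs.nL⟩) l.ne l (h.inj ((hθ _).trans e1))
  have key : ∀ y, s * y * s⁻¹ ∈ Eg C φ (span F {e, a}) ↔ y ∈ Rg C φ (span F {e}) := fun y => by
    constructor
    · rintro ⟨m, hm, e2⟩
      obtain ⟨u, rfl⟩ := (Θ ⟨s, hs.nL⟩).surjective m
      rw [hθ] at e2
      exact ⟨u, (k u).1 hm, by simpa using e2⟩
    · rintro ⟨u, hu, rfl⟩
      exact ⟨_, (k u).2 hu, hθ u⟩
  exact ⟨e, a, l, key, fun y => by rw [← key, psw_cj s2]⟩

theorem ps_P (hs : Sw C φ s) (s2 : s * s = 1) : ∃ B ≤ φ.range ⊓ centralizer {s},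
    ∃ f : B →* Multiplicative F, Function.Surjective f ∧
      ∀ w : B, (w : G) ^ 4 = 1 ∧ (f w ≠ 1 → (w : G) * w ≠ 1) := by
  have m := h.toMod
  obtain ⟨e, a, l, hE, hQ⟩ := h.ps_swap hs s2
  obtain ⟨f, f', k⟩ := m.hh_of_ln l
  have cs : ∀ w : G, w ∈ centralizer {s} ↔ s * w * s⁻¹ = w := fun w => by
    rw [mem_centralizer_singleton_iff, mul_inv_eq_iff_eq_mul, eq_comm]
  choose r v ρ μ hw using fun w : (UU C φ e a ⊓ centralizer {s} : Subgroup G) => (h.mem_UU k).1 w.2.1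
  refine ⟨UU C φ e a ⊓ centralizer {s}, inf_le_inf_right _ (h.UU_le e a),
    MonoidHom.mk' (fun w => Multiplicative.ofAdd (μ w)) fun w w' => ?_, fun n => ?_, fun w => ⟨h.UU_four l w.2.1,
      fun h1 h2 => ?_⟩⟩
  · have := hw (w * w')
    rw [coe_mul, hw w, hw w', h.nf_mul k] at this
    rw [← (h.nf_inj k this).2.2.2]; rfl
  · have nz : ∀ c, nf C φ e a f' c 0 0 0 = z C φ e c := fun c => by
      simp only [nf, zero_smul, h.x_zero, h.z_zero, mul_one]
    have nx : ∀ c, nf C φ e a f' 0 c 0 0 = x C φ e (c • a) := fun c => by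
      simp only [nf, zero_smul, h.x_zero, h.z_zero, mul_one, one_mul]
    have zQ : ∀ c d, nf C φ e a f' c d 0 0 ∈ Rg C φ (span F {e}) := fun c d => (h.nf_Q k).2 rfl
    have zE : ∀ c d, nf C φ e a f' c d 0 0 ∈ Eg C φ (span F {e, a}) := fun c d => (h.nf_E k).2 rfl
    have mZ : ∀ g ∈ Rg C φ (span F {e}), g ∈ Eg C φ (span F {e, a}) → ∃ c d, g = nf C φ e a f' c d 0 0 :=
      fun g h1 h2 => by
        obtain ⟨c, d, ρ, μ, rfl⟩ := (h.mem_UU k).1 (mem_sup_left h1 : g ∈ UU C φ e a)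
        exact ⟨c, d, by rw [(h.nf_Q k).1 h1, (h.nf_E k).1 h2]⟩
    have zm : ∀ c d c' d', nf C φ e a f' c d 0 0 * nf C φ e a f' c' d' 0 0 = nf C φ e a f' (c + c') (d + d') 0 0 :=
      fun c d c' d' => by rw [h.nf_mul k]; simp
    have cm : ∀ y y' : G, s * (y * y') * s⁻¹ = s * y * s⁻¹ * (s * y' * s⁻¹) := fun y y' => by group
    have inj : ∀ c d d', s * nf C φ e a f' c d 0 0 * s⁻¹ = nf C φ e a f' c d 0 0 →
        s * nf C φ e a f' c d' 0 0 * s⁻¹ = nf C φ e a f' c d' 0 0 → d = d' := fun c d d' h1 h2 => by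
      by_contra hd
      have l' := m.ln_smul l one_ne_zero (fun e => hd (m.eq_of_add e) : d + d' ≠ 0) 0
      rw [one_smul, zero_smul, add_zero] at l'
      obtain ⟨p, -, e1⟩ := hs.az _ _ l'
      refine h.z_ne_x l' p 1 ?_
      have e2 := zm c d c d'
      rw [m.add_self] at e2
      rw [← e1, ← nx, ← e2, cm, h1, h2]
    choose c d hc using fun c => mZ _ ((hQ _).2 (zE c 0)) ((hE _).2 (zQ c 0))
    have fx : ∀ t, s * nf C φ e a f' (t + c t) (d t) 0 0 * s⁻¹ = nf C φ e a f' (t + c t) (d t) 0 0 := fun t => by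
      have e1 := zm t 0 (c t) (d t)
      rw [zero_add] at e1
      rw [← e1, cm, hc, ← hc, psw_cj s2, hc, zm, zm, add_comm t, add_comm 0]
    have ci : Function.Injective fun t => t + c t := fun t t' e1 => by
      by_contra hd
      simp only at e1
      have e2 := inj _ _ _ (fx t) (e1 ▸ fx t')
      obtain ⟨η, hη⟩ := m.exists_sqrt (t + t')
      have η0 : η ≠ 0 := by
        rintro rfl
        exact hd (m.eq_of_add (by rw [← hη, mul_zero]))
      obtain ⟨p, b, l', e3⟩ := hs.za _ (smul_ne_zero η0 l.ne)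
      refine h.z_ne_x l' e (t + t') ?_
      have e4 := zm t 0 t' 0
      rw [add_zero] at e4
      rw [← e3, h.z_smul, mul_one, hη, ← nz]
      conv_rhs => rw [← e4, cm, hc, hc, zm, e2, m.add_self]
      congr 1
      linear_combination e1 + (t' - c t) * m.two
    obtain ⟨r₁, v₁, ρ₁, μ₁, e1⟩ := (h.mem_UU k).1
      (mem_sup_right ((hE _).2 ((h.nf_Q k (r := 0) (v := 0) (μ := n.toAdd)).2 rfl)) : _ ∈ UU C φ e a)
    obtain rfl : μ₁ = 0 := (h.nf_E k).1 (e1 ▸ (hE _).2 ((h.nf_Q k).2 rfl))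
    have e2 := congrArg (fun y => s * y * s⁻¹) e1
    simp only [psw_cj s2] at e2
    obtain ⟨t, ht⟩ := Finite.injective_iff_surjective.1 ci (ρ₁ * n.toAdd * n.toAdd)
    simp only at ht
    have e3 : d t = ρ₁ * n.toAdd := inj _ _ _ (ht ▸ fx t) (by
      have e4 := h.nf_sq k (0 + r₁ + ρ₁ * n.toAdd * n.toAdd) (0 + v₁ + ρ₁ * n.toAdd) (0 + ρ₁) (n.toAdd + 0)
      conv_lhs at e4 => rw [← h.nf_mul k]
      rw [zero_add, add_zero] at e4
      conv_lhs => rw [← e4, cm, cm, e1, ← e2, h.nf_mul k, h.nf_sq k]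
      simp)
    let w : (UU C φ e a ⊓ centralizer {s} : Subgroup G) := ⟨nf C φ e a f' 0 0 0 n.toAdd *
      nf C φ e a f' r₁ v₁ ρ₁ 0 * nf C φ e a f' t 0 0 0, mul_mem (mul_mem ((h.mem_UU k).2 ⟨_, _, _, _, rfl⟩)
        ((h.mem_UU k).2 ⟨_, _, _, _, rfl⟩)) ((h.mem_UU k).2 ⟨_, _, _, _, rfl⟩), (cs _).2 (by
      rw [cm, cm, e1, ← e2, hc, e3, h.nf_mul k, h.nf_mul k, h.nf_mul k, h.nf_mul k]
      congr 1
      · linear_combination ht - t * m.two
      all_goals ring)⟩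
    refine ⟨w, ?_⟩
    have e5 : nf C φ e a f' 0 0 0 n.toAdd * nf C φ e a f' r₁ v₁ ρ₁ 0 * nf C φ e a f' t 0 0 0 = _ := hw w
    rw [h.nf_mul k, h.nf_mul k] at e5
    show Multiplicative.ofAdd (μ w) = n
    rw [← (h.nf_inj k e5).2.2.2]
    simp
  · have m0 : μ w ≠ 0 := fun e => h1 (by show Multiplicative.ofAdd (μ w) = 1; rw [e]; rfl)
    rw [hw w] at h2
    have := (hE _).2 ((h.nf_Q k (r := r w) (v := v w) (μ := μ w)).2 (((h.nf_sq_one k).1 h2).resolve_right m0))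
    rw [← hw w, (cs _).1 w.2.2, hw w] at this
    exact m0 ((h.nf_E k).1 this)

/-- an element of order four in `C_L(s)` in the kernel of a map to a cyclic group -/
theorem sw_four (hs : Sw C φ s) (s2 : s * s = 1) {N : Subgroup G} {A : Type} [Group A] [IsCyclic A]
    (π : N →* A) (hN : centralizer {s} ≤ N) : ∃ w : N, (w : G) ∈ φ.range ∧ (w : G) * s = s * w ∧
      (w : G) ^ 4 = 1 ∧ (w : G) * w ≠ 1 ∧ π w = 1 := by
  have m := h.toMod
  obtain ⟨B, hB, f, hf, hw⟩ := h.ps_P hs s2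
  let π' : B →* A := π.comp (inclusion (hB.trans (inf_le_right.trans hN)))
  by_contra H
  have le : π'.ker ≤ f.ker := fun w k => by
    by_contra k'
    exact H ⟨inclusion (hB.trans (inf_le_right.trans hN)) w, (hB w.2).1,
      mem_centralizer_singleton_iff.1 (hB w.2).2, (hw w).1, (hw w).2 k', k⟩
  haveI := isCyclic_of_injective _ (QuotientGroup.kerLift_injective π')
  haveI : IsCyclic (Multiplicative F) := isCyclic_of_surjective (QuotientGroup.lift π'.ker f le) fun y => by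
    obtain ⟨w, rfl⟩ := hf y
    exact ⟨w, rfl⟩
  obtain ⟨c, c0, c1⟩ := m.exists_big'
  rcases SPC.mx_two (a := Multiplicative.ofAdd c) (b := Multiplicative.ofAdd (1 : F))
    (congrArg Multiplicative.ofAdd (m.add_self c)) (congrArg Multiplicative.ofAdd (m.add_self 1)) with e | e | e
  exacts [c0 e, one_ne_zero (α := F) e, c1 e]

theorem psw_inn {θ : MulAut S} (hθ : ∀ u, φ (θ u) = s * φ u * s⁻¹) (e : (θ : Cfsg.Out S) = 1) :
    ∃ γ, Act C φ s 1 γ := by
  obtain ⟨l, hl⟩ := (QuotientGroup.eq_one_iff _).1 e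
  refine ⟨_, (h.act_self l).toSI, fun u u' e => ?_⟩
  rw [← hθ, ← hl, ← (h.act_self l).conj u u' e, MulAut.conj_apply, map_mul, map_mul, map_inv]

/-- an involution does not act as a field automorphism on one copy, as a graph automorphism on another -/
theorem not_fsw {φ' : S →* G} (h' : Emb C φ') (s2 : s * s = 1) {α : RingAut F} {γ : AV V}
    (a : Act C φ s α γ) (h1 : α ≠ 1) (hs : Sw C φ' s) : False := by
  obtain ⟨Θ, hΘ⟩ := h.exists_hom
  obtain ⟨Θ', hΘ'⟩ := h'.exists_hom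
  have cyc := h.out
  have : Finite (MulAut S) := Finite.of_injective (fun f : MulAut S => (f : S → S)) DFunLike.coe_injective
  have : Finite (Cfsg.Out S) := Finite.of_surjective _ QuotientGroup.mk_surjective
  have k1 : ∀ u, φ (Θ ⟨s, h.act_mem a⟩ u) = s * φ u * s⁻¹ := hΘ _
  have k2 : ∀ u, φ' (Θ' ⟨s, hs.nL⟩ u) = s * φ' u * s⁻¹ := hΘ' _
  rcases SPC.mx_two (Q := Cfsg.Out S) (a := (Θ ⟨s, h.act_mem a⟩ : MulAut S)) (b := (Θ' ⟨s, hs.nL⟩ : MulAut S))
    (by rw [← QuotientGroup.mk_mul, ← map_mul, ← QuotientGroup.mk_one, ← Θ.map_one]; congr; exact Subtype.ext s2)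
    (by rw [← QuotientGroup.mk_mul, ← map_mul, ← QuotientGroup.mk_one, ← Θ'.map_one]; congr; exact Subtype.ext s2)
    with e | e | e
  · obtain ⟨γ', k⟩ := h.psw_inn k1 e
    exact h1 (h.act_unique a k).1
  · obtain ⟨γ', k⟩ := h'.psw_inn k2 e
    exact h'.not_sw k hs
  · obtain ⟨l, hl⟩ := QuotientGroup.eq.1 e
    obtain ⟨e, e0⟩ := h.toMod.exists_ne0
    obtain ⟨p, b, l', e1⟩ := hs.za e e0
    refine h'.z_ne_x l' (γ (C.act l e)) (α 1) ?_
    rw [← e1, z, z, ← k2, inv_mul_eq_iff_eq_mul.1 hl.symm, MulAut.mul_apply, MulAut.conj_apply,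
      h.toMod.T_conj l (map_zero _), map_zero]
    exact congrArg φ' (h.inj ((k1 _).trans (h.act_z a _ _))).symm

end Emb

end CfsgLib.SP4
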