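import Cfsg.Agent.Lib.SP4.APrdA
import Cfsg.Agent.Lib.SP4.PEa
import Cfsg.Agent.Lib.SP4.PSw
import Cfsg.Agent.Lib.SPC.APrdB

/-! Type A: the product case, conjugates normalising both factors -/

set_option autoImplicit false
set_option linter.unusedSectionVars false

namespace CfsgLib.SP4

open Subgroup Module CfsgLib.Forms CfsgLib.LieMult
open CfsgLib.HX (Std CO Two Mv M2 QA)
open CfsgLib.UN (AV SI TI HH Rad Stb Yg Rg Eg Act nu Bas Nh flag Ub Uni TD Od)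
open CfsgLib.UN.SB (D)
open CfsgLib.ClSys (II)
open CfsgLib.SPC (pb_el pb_zp card_cent_inv)
open Submodule (span)
open scoped commutatorElement Pointwise

universe u

variable {F : Type} [Field F] [Finite F] {V : Type} [AddCommGroup V] [Module F V]
  [FiniteDimensional F V] {P : PQ (RingHom.id F) V} {S : Type} [Group S] [Finite S] {G : Type u}
  [Group G] [Finite G] {C : CG P S} {φ : S →* G} {t : G}

theorem Emb.pb_act (h : Emb C φ) {s : G} (c : s ∈ φ.range ⊔ centralizer (φ.range : Set G)) :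
    ∃ γ, Act C φ s 1 γ := by
  obtain ⟨_, ⟨l, rfl⟩, d, hd, rfl⟩ := SLE.mem_sup_comm (fun a ha b hb => UFP.mem_cent.1 hb a ha) c
  exact ⟨_, one_mul (1 : RingAut F) ▸ h.act_mul (h.act_self l) (h.act_cent hd)⟩

theorem Emb.pb_not_mem (h : Emb C φ) {s : G} {α : RingAut F} {γ : AV V} (a : Act C φ s α γ) (h1 : α ≠ 1) :
    s ∉ φ.range ⊔ centralizer (φ.range : Set G) := fun c =>
  (h.pb_act c).elim fun _ k => h1 (h.act_unique a k).1

theorem Emb.pb_not_mem' (h : Emb C φ) {s : G} (a : Sw C φ s) :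
    s ∉ φ.range ⊔ centralizer (φ.range : Set G) := fun c => (h.pb_act c).elim fun _ k => h.not_sw k a

theorem Emb.pb_card (h : Emb C φ) {s : G} (s2 : s * s = 1) {α : RingAut F} {γ : AV V} (k : Act C φ s α γ)
    {e a : V} (l : Ln P e a) (he : γ e = e) (ha : γ a = a) :
    Nat.card F ^ 3 ≤ Nat.card (Eg C φ (span F {e, a}) ⊓ centralizer {s} : Subgroup G) ^ 2 := by
  have := card_cent_inv (fun g hg => h.E_sq (h.ti_pair l.perp) hg) s2
    (h.act_norm k (fun v => by have := tor_span2 k.toSI e a v; rwa [he, ha] at this)).2.2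
  rwa [h.card_El l] at this

theorem Sit.pb_four (h : Sit C φ t) {K : Subgroup G} {w w' : G} (hw : w ∈ K) (hw' : w' ∈ K) (c : Commute w w')
    (i : w ∈ φ.range ⊔ centralizer (φ.range : Set G)) (i' : w' ∈ φ.range ⊔ centralizer (φ.range : Set G))
    (ct : w * t = t * w) (ct' : w' * t = t * w') (w4 : w ^ 4 = 1) (w4' : w' ^ 4 = 1) (w2 : w * w ≠ 1)
    (w2' : w' * w' ≠ 1) : w * w = w' * w' ∨ t ∈ K := by
  have E := h.toEmb
  have key : ∀ w ∈ K, w ∈ φ.range ⊔ centralizer (φ.range : Set G) → w * t = t * w → w ^ 4 = 1 → w * w ≠ 1 →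
      t ∈ K ∨ ∃ l ∈ φ.range, ∃ d ∈ centralizer (φ.range : Set G), w = l * d ∧ l ^ 4 = 1 ∧ l * l ≠ 1 ∧
        (w * w = l * l ∨ w * w = l * l * t) := by
    intro w hw i ct w4 w2
    obtain ⟨l, hl, d, hd, rfl⟩ := SLE.mem_sup_comm (fun a ha b hb => UFP.mem_cent.1 hb a ha) i
    have c1 : Commute l d := hd l hl
    rw [c1.mul_pow, ← mul_one (1 : G)] at w4
    obtain ⟨a1, a2⟩ := E.dec_inj (pow_mem hl 4) (one_mem _) (pow_mem hd 4) (one_mem _) w4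
    have c2 : Commute d t := h.ct_of hl ct
    have e1 : l * d * (l * d) = l * l * (d * d) := c1.symm.mul_mul_mul_comm l d
    have a3 := h.toStd.invol (mul_mem hd hd) (c2.mul_left c2).eq (by rw [← a2, ← sq d, ← pow_add])
    by_cases l2 : l * l = 1
    · rw [l2, one_mul] at e1
      exact .inl ((a3.resolve_left (e1 ▸ w2)) ▸ e1 ▸ mul_mem hw hw)
    · exact .inr ⟨l, hl, d, hd, rfl, a1, l2, a3.imp (fun e => by rw [e1, e, mul_one]) fun e => by rw [e1, e]⟩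
  rcases key w hw i ct w4 w2 with k | ⟨l, hl, d, hd, rfl, a1, a2, a3⟩
  · exact .inr k
  rcases key w' hw' i' ct' w4' w2' with k | ⟨l', hl', d', hd', rfl, b1, b2, b3⟩
  · exact .inr k
  have c1 : Commute l l' := (E.dec_inj (mul_mem hl hl') (mul_mem hl' hl) (mul_mem hd hd') (mul_mem hd' hd) (by
    rw [← (show Commute d l' from (hd l' hl').symm).mul_mul_mul_comm,
      ← (show Commute d' l from (hd' l hl).symm).mul_mul_mul_comm, c.eq])).1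
  have e := E.four_sq hl hl' c1 a1 b1 a2 b2
  have m := mul_mem hw hw
  have m' := mul_mem hw' hw'
  rcases a3 with a3 | a3 <;> rcases b3 with b3 | b3
  · exact .inl (by rw [a3, b3, e])
  · rw [b3, ← e, ← a3] at m'
    exact .inr ((K.mul_mem_cancel_left m).1 m')
  · rw [a3, e, ← b3] at m
    exact .inr ((K.mul_mem_cancel_left m').1 m)
  · exact .inl (by rw [a3, b3, e])

namespace AP

variable {w : V → V → G} {y : V → F → G} {δ : F} {φ₁ φ₂ : S →* G} (h : AP C φ t w y δ φ₁ φ₂)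
  {Gs : Subgroup G}
include h

theorem pb_big {s : G} (s2 : s * s = 1) (hn : s ∉ φ₂.range ⊔ centralizer (φ₂.range : Set G))
    {X₁ X₂ : Subgroup G} (l1 : X₁ ≤ φ₁.range) (l2 : X₂ ≤ φ₂.range) (e1 : ∀ a ∈ X₁, a * a = 1)
    (e2 : ∀ a ∈ X₂, a * a = 1) (c1 : X₁ ≤ centralizer {s}) (c2 : X₂ ≤ centralizer {s}) :
    X₁ ⊔ X₂ ⊔ zpowers s ≤ centralizer {s} ∧ (∀ a ∈ X₁ ⊔ X₂ ⊔ zpowers s, a * a = 1) ∧
      2 * (Nat.card X₁ * Nat.card X₂) ≤ Nat.card (X₁ ⊔ X₂ ⊔ zpowers s : Subgroup G) := by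
  have c : ∀ a ∈ X₁, ∀ b ∈ X₂, a * b = b * a := fun a ha b hb => h.cm (l1 ha) (l2 hb)
  have c3 := sup_le c1 c2
  refine ⟨sup_le c3 (zpowers_le.2 (mem_centralizer_singleton_iff.2 rfl)), pb_el (pb_el e1 e2 c) (pb_zp s2) ?_,
    (Nat.mul_le_mul_left 2 (SLE.card_sup_comm c fun a ha hb => h.emb₁.eq_one (l1 ha) (h.c21 (l2 hb)))).trans
      (SLE.card_sup_inv s2 (fun m => hn (sup_le ((l1.trans h.flip.c21).trans le_sup_right)
          (l2.trans le_sup_left) m))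
        (centralizer_le_normalizer _ fun a ha => mem_centralizer_singleton_iff.1 (c3 ha)))⟩
  rintro a ha _ ⟨i, rfl⟩
  exact (Commute.zpow_right (mem_centralizer_singleton_iff.1 (c3 ha)) i).eq

theorem not_mixed {g : G} {l : S} (l2 : l * l = 1) {c : G} (hc : c ∈ centralizer (φ₁.range : Set G))
    (e : g * t * g⁻¹ = φ₁ l * c) (hn : g * t * g⁻¹ ∉ φ₂.range ⊔ centralizer (φ₂.range : Set G)) {u : G}
    (hu : u ∈ φ₂.range) (u1 : u ≠ 1) (u2 : u * u = 1) (uc : u * (g * t * g⁻¹) = g * t * g⁻¹ * u) : False := by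
  have H := h.toSit.cj g
  have hm := h.emb₁.toMod
  obtain ⟨M, hM, lM⟩ := hm.invol_mem_E l2
  obtain ⟨b1, b2, b3⟩ := h.pb_big H.t2 hn (X₁ := Eg C φ₁ M) (X₂ := zpowers u)
    (map_le_range _ _) (zpowers_le.2 hu) (fun _ hx => h.emb₁.E_sq (hm.lag_ti hM) hx) (pb_zp u2)
    (fun x hx => mem_centralizer_singleton_iff.2 (by
      rw [e, ← mul_assoc, ← h.emb₁.E_cent (hm.lag_ti hM) hx (φ₁ l)
        (mem_map_of_mem φ₁ ((show P.perp M = M from hM) ▸ lM)), mul_assoc, mul_assoc,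
        hc x (map_le_range _ _ hx)]))
    (zpowers_le.2 (mem_centralizer_singleton_iff.2 uc))
  have b4 := b3.trans (H.big_le b1 b2)
  have r : finrank F M = 2 := by have := hm.lag_rank hM; have := hm.d4; omega
  rw [Eg, h.emb₁.card_map, hm.card_E (hm.lag_ti hM), r, Nat.card_zpowers, Invol.orderOf_eq_two u1 u2] at b4
  have : 0 < Nat.card F ^ 3 := pow_pos Nat.card_pos _
  change 2 * (Nat.card F ^ 3 * 2) ≤ _ at b4
  omega

theorem pb_ff {g : G} {α α' : RingAut F} {γ γ' : AV V} (a : Act C φ₁ (g * t * g⁻¹) α γ) (h1 : α ≠ 1)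
    (h2 : α * α = 1) (h3 : ∀ v, γ (γ v) = v) (a' : Act C φ₂ (g * t * g⁻¹) α' γ') (h1' : α' ≠ 1)
    (h2' : α' * α' = 1) (h3' : ∀ v, γ' (γ' v) = v) : ∃ u ∈ φ₁.range,
      u ∈ ((MulAut.conj g).toMonoidHom.comp φ).range ⊔
        centralizer (((MulAut.conj g).toMonoidHom.comp φ).range : Set G) ∧
      u * (g * t * g⁻¹) = g * t * g⁻¹ * u ∧ u ^ 4 = 1 ∧ u * u ≠ 1 := by
  have H := h.toSit.cj g
  generalize g * t * g⁻¹ = s at a a' H
  have E := h.emb₁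
  have hm := E.toMod
  obtain ⟨e, f, p, f', k, k1, -, k2, k3⟩ := hm.fixed_hh a.toSI h1 h2 h3
  obtain ⟨e₂, f₂, p₂, f₂', l, l1, -, l2, -⟩ := hm.fixed_hh a'.toSI h1' h2' h3'
  have l0 := hm.ln_of_hh l
  have n2 := h.emb₂.pb_card H.t2 a' l0 l1 l2
  have key : ∀ b, Ln P e b → γ b = b → Eg C φ₁ (span F {e, b}) ⊓ centralizer {s} ≤ _ := fun b j hb => by
    obtain ⟨b1, b2, b3⟩ := h.pb_big H.t2 (h.emb₂.pb_not_mem a' h1')
      (X₁ := Eg C φ₁ (span F {e, b}) ⊓ centralizer {s}) (X₂ := Eg C φ₂ (span F {e₂, p₂}) ⊓ centralizer {s})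
      (inf_le_left.trans (map_le_range _ _)) (inf_le_left.trans (map_le_range _ _))
      (fun _ hx => E.E_sq (hm.ti_pair j.perp) hx.1) (fun _ hx => h.emb₂.E_sq (hm.ti_pair l0.perp) hx.1)
      inf_le_right inf_le_right
    exact (le_sup_left.trans le_sup_left).trans (H.big_in b1 b2 ((Nat.mul_le_mul_left 2
      ((Nat.pow_le_pow_iff_left two_ne_zero).1 (by
        rw [mul_pow, sq]; exact Nat.mul_le_mul (E.pb_card H.t2 a j k1 hb) n2))).trans b3))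
  have k0 := hm.ln_of_hh k
  have k4 : Ln P e f' := ⟨k0.ne, fun c => by
    obtain ⟨c, rfl⟩ := Submodule.mem_span_singleton.1 c
    have := k.h₂.fe
    rw [hm.B_smul_left, k.ee, mul_zero] at this
    exact zero_ne_one this, k.ef⟩
  have m1 : z C φ₁ p 1 ∈ Eg C φ₁ (span F {e, p}) ⊓ centralizer {s} :=
    ⟨E.τ_mem_E (hm.ti_pair k.ee) (Submodule.subset_span (by simp)) (zero_mem _) 1,
      mem_centralizer_singleton_iff.2 (by rw [eq_comm, ← mul_inv_eq_iff_eq_mul, E.act_z a, k2, map_one])⟩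
  have m2 : x C φ₁ e f' ∈ Eg C φ₁ (span F {e, f'}) ⊓ centralizer {s} :=
    ⟨E.τ_mem_E (hm.ti_pair k.ef) (Submodule.subset_span (by simp)) (Submodule.subset_span (by simp)) 0,
      mem_centralizer_singleton_iff.2 (by rw [eq_comm, ← mul_inv_eq_iff_eq_mul, E.act_x a k.ef, k1, k3])⟩
  have e1 : nf C φ₁ e p f' 0 0 1 1 = z C φ₁ p 1 * x C φ₁ e f' := by
    rw [nf, E.z_zero, zero_smul, E.x_zero, one_mul, one_mul, one_smul]
  refine ⟨z C φ₁ p 1 * x C φ₁ e f', mul_mem ⟨_, rfl⟩ ⟨_, rfl⟩, mul_mem (key p k0 k2 m1) (key f' k4 k3 m2),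
    mem_centralizer_singleton_iff.1 (mul_mem m1.2 m2.2), E.UU_four k0 ((E.mem_UU k).2 ⟨_, _, _, _, e1.symm⟩),
    fun c => ?_⟩
  rw [← e1, E.nf_sq_one k] at c
  exact c.elim one_ne_zero one_ne_zero

omit h in
theorem pb_ss {ψ : S →* G} (E : Emb C ψ) (H : Sit C φ t) (a : Sw C ψ t) : ∃ u ∈ ψ.range,
    u ∈ φ.range ⊔ centralizer (φ.range : Set G) ∧ u * t = t * u ∧ u ^ 4 = 1 ∧ u * u ≠ 1 := by
  obtain ⟨π, hπ⟩ := H.toEmb.exists_out
  have := H.out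
  obtain ⟨u, u1, u2, u3, u4, u5⟩ := E.sw_four a H.t2 π H.CN
  obtain ⟨l, c, hc, e⟩ := (hπ u).1 u5
  exact ⟨u, u1, e ▸ mul_mem_sup ⟨l, rfl⟩ hc, u2, u3, u4⟩

theorem pb_out {φ' : S →* G} {s : G} (H : Sit C φ' s) (hn : s ∉ φ₂.range ⊔ centralizer (φ₂.range : Set G))
    (k : ∃ u ∈ φ₁.range, u ∈ φ'.range ⊔ centralizer (φ'.range : Set G) ∧ u * s = s * u ∧ u ^ 4 = 1 ∧
      u * u ≠ 1)
    (k' : ∃ u ∈ φ₂.range, u ∈ φ'.range ⊔ centralizer (φ'.range : Set G) ∧ u * s = s * u ∧ u ^ 4 = 1 ∧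
      u * u ≠ 1) : False := by
  obtain ⟨u, a1, a2, a3, a4, a5⟩ := k
  obtain ⟨v, b1, b2, b3, b4, b5⟩ := k'
  refine (H.pb_four (mem_sup_right (h.flip.c21 a1)) (mem_sup_left b1) (h.cm a1 b1) a2 b2 a3 b3 a4 b4
    a5 b5).elim (fun e => a5 (h.emb₁.eq_one (mul_mem a1 a1) (e ▸ h.c21 (mul_mem b1 b1)))) hn

omit h in
theorem pb_inv {ψ : S →* G} (E : Emb C ψ) {s : G} (s2 : s * s = 1)
    (k : (∃ α γ, Act C ψ s α γ ∧ α ≠ 1 ∧ α * α = 1 ∧ ∀ v, γ (γ v) = v) ∨ Sw C ψ s) :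
    s ∉ ψ.range ⊔ centralizer (ψ.range : Set G) ∧
      ∃ u ∈ ψ.range, u ≠ 1 ∧ u * u = 1 ∧ u * s = s * u := by
  rcases k with ⟨α, γ, a, h1, h2, h3⟩ | a
  · obtain ⟨e, f, p, f', k, k1, -⟩ := E.toMod.fixed_hh a.toSI h1 h2 h3
    exact ⟨E.pb_not_mem a h1, z C ψ e 1, ⟨_, rfl⟩,
      fun c => (E.z_eq_one.1 c).elim (E.toMod.ln_of_hh k).ne one_ne_zero, E.z_sq e 1, by
        rw [eq_comm, ← mul_inv_eq_iff_eq_mul, E.act_z a, k1, map_one]⟩
  · obtain ⟨u, u1, u2, u3, u4, -⟩ := E.sw_four a s2 (N := ⊤) (A := Unit) 1 le_top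
    exact ⟨E.pb_not_mem' a, u * u, mul_mem u1 u1, u4, by rw [← u3, ← sq (u : G), ← pow_add],
      ((show Commute (u : G) s from u2).mul_left u2).eq⟩

theorem isU (hG : SLE.Glob Gs t) (hL : φ.range ≤ Gs) : UFP.U (normalizer (GA φ y : Set G)) t := by
  refine ⟨h.t2, h.toHA2.t_norm, fun g hg => h.native hg fun h1 => ?_⟩
  have h2 := h.norm2 hg h1
  have H := h.toSit.cj g
  have s2 := H.t2
  rcases h.emb₁.invol h1 s2 with ⟨p, p2, c, hc, -, e1⟩ | k <;>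
    rcases h.emb₂.invol h2 s2 with ⟨q, q2, d, hd, -, e2⟩ | l
  · have hp : φ₁ p ∈ φ₁.range := ⟨p, rfl⟩
    have hq : φ₂ q ∈ φ₂.range := ⟨q, rfl⟩
    have h3 : (φ₁ p * φ₂ q)⁻¹ * (g * t * g⁻¹) ∈ Gs := hG.mem_of_odd
      (h.odd_W (c := (φ₁ p * φ₂ q)⁻¹ * (g * t * g⁻¹))
        (by rw [mul_inv_rev, mul_assoc, e1, inv_mul_cancel_left]; exact mul_mem (inv_mem (h.c21 hq)) hc)
        (by
          rw [h.cm hp hq, mul_inv_rev, mul_assoc, e2, inv_mul_cancel_left]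
          exact mul_mem (inv_mem (h.flip.c21 hp)) hd))
      (by rw [pow_orderOf_eq_one]; exact one_mem _)
    rw [mul_mem_cancel_left (inv_mem (mul_mem (hG.pf_le h.emb₁.perf hp) (hG.pf_le h.emb₂.perf hq)))] at h3
    exact h.not_mem hG (by simpa [mul_assoc] using hG.nrm.conj_mem _ h3 g⁻¹)
  · obtain ⟨n, u, u1, u2, u3, u4⟩ := pb_inv h.emb₂ s2 l
    exact h.not_mixed p2 hc e1 n u1 u2 u3 u4
  · obtain ⟨n, u, u1, u2, u3, u4⟩ := pb_inv h.emb₁ s2 k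
    exact h.flip.not_mixed q2 hd e2 n u1 u2 u3 u4
  have n := (pb_inv h.emb₂ s2 l).1
  rcases k with ⟨α, γ, k, k1, k2, k3⟩ | k <;> rcases l with ⟨α', γ', l, l1, l2, l3⟩ | l
  · exact h.pb_out H n (h.pb_ff k k1 k2 k3 l l1 l2 l3) (h.flip.pb_ff l l1 l2 l3 k k1 k2 k3)
  · exact h.emb₁.not_fsw h.emb₂ s2 k k1 l
  · exact h.emb₂.not_fsw h.emb₁ s2 l l1 k
  · exact h.pb_out H n (pb_ss h.emb₁ H k) (pb_ss h.emb₂ H l)

end AP

end CfsgLib.SP4
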