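import Cfsg.Agent.Lib.SP4.EAb
import Cfsg.Agent.Lib.UN.Syl

/-! The Sylow 2-subgroup `U = Q_e E(l)` in normal form -/

set_option autoImplicit false
set_option linter.unusedSectionVars false

namespace CfsgLib.SP4

open Subgroup Module CfsgLib.Forms CfsgLib.LieMult
open CfsgLib.HX (Std CO Two Mv M2 QA)
open CfsgLib.UN (AV SI TI HH Rad Stb Yg Rg Eg Act nu)
open CfsgLib.ClSys (II)
open Submodule (span)
open scoped commutatorElement Pointwise

universe u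

variable {F : Type} [Field F] [Finite F] {V : Type} [AddCommGroup V] [Module F V]
  [FiniteDimensional F V] {P : PQ (RingHom.id F) V} {S : Type} [Group S] [Finite S] {G : Type u}
  [Group G] [Finite G] {C : CG P S} {φ : S →* G} {t : G}

variable (C φ) in
/-- the Sylow 2-subgroup of the flag `⟨e⟩ < ⟨e, a⟩` -/
def UU (e a : V) : Subgroup G := Rg C φ (span F {e}) ⊔ Eg C φ (span F {e, a})

variable (C φ) in
/-- normal form of its elements -/
def nf (e a f' : V) (r v ρ μ : F) : G :=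
  z C φ e r * x C φ e (v • a) * z C φ a ρ * x C φ e (μ • f')

theorem pu_flag (h : Mod C) {H : Subgroup S} (h2 : IsPGroup 2 H) :
    ∃ e f, SPC.Ln P e f ∧ ∀ g ∈ H, C.act g e = e ∧ ∃ α : F, C.act g f = f + α • e := by
  have h2' := h2.map C.act
  have fx : ∀ (M : Submodule F V), (∀ g ∈ H, ∀ v ∈ M, C.act g v ∈ M) → ∀ x, x ∉ M →
      ∃ v, v ∉ M ∧ ∀ g ∈ H, C.act g v - v ∈ M := fun M h1 x hx => by
    obtain ⟨v, k1, k2⟩ := UN.exists_fixed_quot h.two h2' (M := M) (by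
      rintro _ ⟨g, hg, rfl⟩; exact h1 g hg) hx
    exact ⟨v, k1, fun g hg => k2 _ ⟨g, hg, rfl⟩⟩
  obtain ⟨x, hx⟩ := h.g2_ne
  obtain ⟨e, e0, he⟩ := fx ⊥ (fun g _ v hv => by rw [(Submodule.mem_bot F).1 hv, map_zero]; exact zero_mem _)
    x (by simpa using hx)
  replace e0 : e ≠ 0 := by simpa using e0
  replace he : ∀ g ∈ H, C.act g e = e := fun g hg => sub_eq_zero.1 ((Submodule.mem_bot F).1 (he g hg))
  obtain ⟨y, hy⟩ := h.exists_ln e0
  obtain ⟨v, v0, hv⟩ := fx (span F {e}) (fun g hg v hv => by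
    obtain ⟨c, rfl⟩ := Submodule.mem_span_singleton.1 hv
    rw [map_smul, he g hg]; exact hv) y hy.nmem
  replace hv : ∀ g ∈ H, ∃ α : F, C.act g v = v + α • e := fun g hg => by
    obtain ⟨c, hc⟩ := Submodule.mem_span_singleton.1 (hv g hg)
    exact ⟨c, by rw [hc]; abel⟩
  by_cases k : P.B e v = 0
  · exact ⟨e, v, ⟨e0, v0, k⟩, fun g hg => ⟨he g hg, hv g hg⟩⟩
  obtain ⟨e', f', hh⟩ := h.exists_hh (e := e) (f := (P.B e v)⁻¹ • v) (by
    rw [P.B_smul_right, inv_mul_cancel₀ k])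
  have m1 : e ∈ span F ({e, v} : Set V) := Submodule.subset_span (by simp)
  have m2 : v ∈ span F ({e, v} : Set V) := Submodule.subset_span (by simp)
  obtain ⟨w, w0, hw⟩ := fx (span F {e, v}) (fun g hg u hu => by
    obtain ⟨c, d, rfl⟩ := Submodule.mem_span_pair.1 hu
    obtain ⟨α, hα⟩ := hv g hg
    rw [map_add, map_smul, map_smul, he g hg, hα]
    exact add_mem (Submodule.smul_mem _ _ m1)
      (Submodule.smul_mem _ _ (add_mem m2 (Submodule.smul_mem _ _ m1)))) e' (fun hu => by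
    obtain ⟨c, d, hu⟩ := Submodule.mem_span_pair.1 hu
    have a1 := h.hp_iff.1 hh.h₂
    have a2 := hh.ff
    rw [h.B_smul_left, mul_eq_zero, or_iff_right (inv_ne_zero k)] at a2
    rw [← hu, P.B_add_left, h.B_smul_left, h.B_smul_left, hh.ef, a2] at a1
    simp at a1)
  have kp : P.B e (w - (P.B e w / P.B e v) • v) = 0 := by
    rw [P.B_sub_right, P.B_smul_right, div_mul_cancel₀ _ k, sub_self]
  refine ⟨e, w - (P.B e w / P.B e v) • v, ⟨e0, fun hu => w0 ?_, kp⟩, fun g hg => ⟨he g hg, ?_⟩⟩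
  · obtain ⟨c, hc⟩ := Submodule.mem_span_singleton.1 hu
    rw [show w = c • e + (P.B e w / P.B e v) • v by rw [hc]; abel]
    exact add_mem (Submodule.smul_mem _ _ m1) (Submodule.smul_mem _ _ m2)
  · obtain ⟨c, d, hu⟩ := Submodule.mem_span_pair.1 (hw g hg)
    obtain ⟨α, hα⟩ := hv g hg
    have a1 : P.B e (C.act g w - w) = 0 := by
      rw [P.B_sub_right]
      nth_rw 1 [← he g hg]
      rw [C.B_act, sub_self]
    rw [← hu, P.B_add_right, P.B_smul_right, P.B_smul_right, h.B_self, mul_zero, zero_add, mul_eq_zero,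
      or_iff_left k] at a1
    rw [a1, zero_smul, add_zero, eq_sub_iff_add_eq] at hu
    refine ⟨c - P.B e w / P.B e v * α, ?_⟩
    rw [map_sub, map_smul, hα, ← hu]
    module

namespace Emb

variable (h : Emb C φ) {e f a f' : V} {g : G} {r v ρ μ r' v' ρ' μ' : F}
include h

theorem pu_E (k : P.B e a = 0) (r v ρ r' v' ρ' : F) :
    z C φ e r * x C φ e (v • a) * z C φ a ρ * (z C φ e r' * x C φ e (v' • a) * z C φ a ρ') =
      z C φ e (r + r') * x C φ e ((v + v') • a) * z C φ a (ρ + ρ') := by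
  have k1 : ∀ c : F, P.B e (c • a) = 0 := fun c => by rw [map_smul, k, smul_zero]
  have k2 : P.B a e = 0 := (h.B_comm _ _).trans k
  have c1 : Commute (z C φ a ρ) (z C φ e r') := h.z_comm k2 _ _
  have c2 : Commute (z C φ a ρ) (x C φ e (v' • a)) := by
    rw [← h.x_smul k, h.x_symm (by rw [h.B_smul_left, k, mul_zero])]
    exact h.τ_comm (map_zero _) (by rw [map_smul, k2, smul_zero]) _ _
  have c3 : Commute (x C φ e (v • a)) (z C φ e r') := h.τ_comm (k1 _) (map_zero _) _ _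
  rw [h.z_add, h.z_add, add_smul, h.x_add (k1 _) (k1 _) (by
    rw [h.B_smul_left, map_smul, h.B_self, smul_zero, mul_zero])]
  simp only [mul_assoc]
  rw [c1.left_comm, c2.left_comm, c3.left_comm]

theorem pu_X (k : HH P e f a f') (μ μ' : F) :
    x C φ e (μ • f') * x C φ e (μ' • f') = x C φ e ((μ + μ') • f') := by
  have k1 : ∀ c : F, P.B e (c • f') = 0 := fun c => by rw [map_smul, k.ef, smul_zero]
  rw [add_smul, h.x_add (k1 _) (k1 _) (by rw [h.B_smul_left, map_smul, h.B_self, smul_zero, mul_zero])]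

theorem pu_XE (k : HH P e f a f') (μ r v ρ : F) :
    x C φ e (μ • f') * (z C φ e r * x C φ e (v • a) * z C φ a ρ) =
      z C φ e (r + ρ * μ * μ) * x C φ e ((v + ρ * μ) • a) * z C φ a ρ * x C φ e (μ • f') := by
  have k1 : ∀ c : F, P.B e (c • a) = 0 := fun c => by rw [map_smul, k.ee, smul_zero]
  have k2 : P.B e (μ • f') = 0 := by rw [map_smul, k.ef, smul_zero]
  have c1 : Commute (x C φ e (μ • f')) (z C φ e r) := h.τ_comm k2 (map_zero _) _ _
  have c2 : Commute (x C φ e (μ • f')) (x C φ e (v • a)) := h.τ_comm k2 (k1 _) _ _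
  have c3 : Commute (x C φ e ((ρ * μ) • a)) (z C φ e (ρ * μ * μ)) := h.τ_comm (k1 _) (map_zero _) _ _
  have e1 := h.pu_E k.ee r v ρ (ρ * μ * μ) (ρ * μ) 0
  rw [add_zero, h.z_zero, mul_one] at e1
  have e2 : x C φ e (μ • f') * z C φ a ρ =
      z C φ a ρ * (z C φ e (ρ * μ * μ) * x C φ e ((ρ * μ) • a)) * x C φ e (μ • f') := by
    rw [← c3.eq, ← mul_assoc (z C φ a ρ), ← h.Bz k, mul_assoc _ (x C φ e (μ • f')), h.x_sq k2, mul_one]
  rw [← e1]
  simp only [mul_assoc] at e2 ⊢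
  rw [c1.left_comm, c2.left_comm, e2]

theorem pu_XE0 (k : HH P e f a f') (hx : x C φ e (μ • f') ∈ Eg C φ (span F {e, a})) : μ = 0 := by
  have e1 : x C φ e (μ • f') = z C φ e 0 * x C φ e ((0 : F) • a) * x C φ e (μ • f') := by
    rw [h.z_zero, zero_smul, h.x_zero, one_mul, one_mul]
  obtain ⟨r, v, e2⟩ := (h.mem_QE (h.ln_of_hh k)).1 ⟨(h.mem_Q' k).2 ⟨0, 0, μ, e1⟩, hx⟩
  refine (h.Q_inj k (r := 0) (v := 0) (r' := r) (v' := v) (μ' := 0) ?_).2.2
  rw [← e1, e2, zero_smul, h.x_zero, mul_one]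

theorem pu_nf_E (k : HH P e f a f') : nf C φ e a f' r v ρ μ ∈ Eg C φ (span F {e, a}) ↔ μ = 0 := by
  have m : z C φ e r * x C φ e (v • a) * z C φ a ρ ∈ Eg C φ (span F {e, a}) :=
    (h.mem_El (h.ln_of_hh k)).2 ⟨r, v, ρ, rfl⟩
  rw [nf, Subgroup.mul_mem_cancel_left _ m]
  refine ⟨h.pu_XE0 k, ?_⟩
  rintro rfl
  rw [zero_smul, h.x_zero]
  exact one_mem _

theorem nf_mul (k : HH P e f a f') (r v ρ μ r' v' ρ' μ' : F) :
    nf C φ e a f' r v ρ μ * nf C φ e a f' r' v' ρ' μ' =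
      nf C φ e a f' (r + r' + ρ' * μ * μ) (v + v' + ρ' * μ) (ρ + ρ') (μ + μ') := by
  calc _ = z C φ e r * x C φ e (v • a) * z C φ a ρ *
        (x C φ e (μ • f') * (z C φ e r' * x C φ e (v' • a) * z C φ a ρ')) * x C φ e (μ' • f') := by
        simp only [nf, mul_assoc]
    _ = z C φ e r * x C φ e (v • a) * z C φ a ρ *
        (z C φ e (r' + ρ' * μ * μ) * x C φ e ((v' + ρ' * μ) • a) * z C φ a ρ') *
        (x C φ e (μ • f') * x C φ e (μ' • f')) := by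
        rw [h.pu_XE k]; simp only [mul_assoc]
    _ = _ := by rw [h.pu_E k.ee, h.pu_X k, nf, add_assoc r, add_assoc v]

theorem nf_one (e a f' : V) : nf C φ e a f' 0 0 0 0 = 1 := by
  rw [nf, zero_smul, zero_smul, h.z_zero, h.z_zero, h.x_zero, mul_one, mul_one, mul_one]

theorem nf_inj (k : HH P e f a f') (e1 : nf C φ e a f' r v ρ μ = nf C φ e a f' r' v' ρ' μ') :
    r = r' ∧ v = v' ∧ ρ = ρ' ∧ μ = μ' := by
  have e2 : ∀ r v ρ μ μ' : F, nf C φ e a f' r v ρ μ * x C φ e (μ' • f') = nf C φ e a f' r v ρ (μ + μ') :=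
    fun r v ρ μ μ' => by rw [nf, nf, mul_assoc, h.pu_X k]
  have e3 := congrArg (· * x C φ e (μ' • f')) e1
  simp only [e2] at e3
  have e4 : μ + μ' = 0 := (h.pu_nf_E k).1 (e3 ▸ (h.pu_nf_E k).2 (h.add_self μ'))
  obtain rfl := h.eq_of_add e4
  obtain ⟨a1, a2, a3⟩ := h.line_inj (h.ln_of_hh k) (mul_right_cancel e1)
  exact ⟨a1, a2, a3, rfl⟩

theorem nf_Q (k : HH P e f a f') : nf C φ e a f' r v ρ μ ∈ Rg C φ (span F {e}) ↔ ρ = 0 := by
  have e1 : ∀ r v μ : F, nf C φ e a f' r v 0 μ = z C φ e r * x C φ e (v • a) * x C φ e (μ • f') :=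
    fun r v μ => by rw [nf, h.z_zero, mul_one]
  rw [h.mem_Q' k]
  constructor
  · rintro ⟨r', v', μ', e2⟩
    exact (h.nf_inj k (e2.trans (e1 _ _ _).symm)).2.2.1
  · rintro rfl
    exact ⟨r, v, μ, e1 _ _ _⟩

theorem nf_E (k : HH P e f a f') : nf C φ e a f' r v ρ μ ∈ Eg C φ (span F {e, a}) ↔ μ = 0 := by
  exact h.pu_nf_E k

theorem mem_UU (k : HH P e f a f') : g ∈ UU C φ e a ↔ ∃ r v ρ μ, g = nf C φ e a f' r v ρ μ := by
  constructor
  · let N : Subgroup G :=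
      { carrier := {g | ∃ r v ρ μ, g = nf C φ e a f' r v ρ μ}
        one_mem' := ⟨0, 0, 0, 0, (h.nf_one e a f').symm⟩
        mul_mem' := by
          rintro _ _ ⟨r, v, ρ, μ, rfl⟩ ⟨r', v', ρ', μ', rfl⟩
          exact ⟨_, _, _, _, h.nf_mul k ..⟩
        inv_mem' := by
          rintro _ ⟨r, v, ρ, μ, rfl⟩
          refine ⟨r + ρ * μ * μ, v + ρ * μ, ρ, μ, inv_eq_of_mul_eq_one_right ?_⟩
          rw [h.nf_mul k, add_assoc, add_assoc, h.add_self, add_zero, h.add_self, add_assoc, add_assoc,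
            h.add_self, add_zero, h.add_self, h.add_self, h.add_self, h.nf_one] }
    refine fun hg => (show UU C φ e a ≤ N from sup_le (fun y hy => ?_) fun y hy => ?_) hg
    · obtain ⟨r, v, μ, rfl⟩ := (h.mem_Q' k).1 hy
      exact ⟨r, v, 0, μ, by rw [nf, h.z_zero, mul_one]⟩
    · obtain ⟨r, v, ρ, rfl⟩ := (h.mem_El (h.ln_of_hh k)).1 hy
      exact ⟨r, v, ρ, 0, by rw [nf, zero_smul, h.x_zero, mul_one]⟩
  · rintro ⟨r, v, ρ, μ, rfl⟩
    refine mul_mem (mem_sup_right ((h.mem_El (h.ln_of_hh k)).2 ⟨r, v, ρ, rfl⟩))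
      (mem_sup_left ((h.mem_Q' k).2 ⟨0, 0, μ, ?_⟩))
    rw [h.z_zero, zero_smul, h.x_zero, one_mul, one_mul]

theorem nf_comm (k : HH P e f a f') :
    Commute (nf C φ e a f' r v ρ μ) (nf C φ e a f' r' v' ρ' μ') ↔
      ρ' * μ = ρ * μ' ∧ ρ' * μ * μ = ρ * μ' * μ' := by
  rw [commute_iff_eq, h.nf_mul k, h.nf_mul k, add_comm r' r, add_comm v' v, add_comm ρ' ρ, add_comm μ' μ]
  constructor
  · intro e1
    obtain ⟨a1, a2, -⟩ := h.nf_inj k e1
    exact ⟨add_left_cancel a2, add_left_cancel a1⟩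
  · rintro ⟨a1, a2⟩
    rw [a2, a1]

theorem nf_sq (k : HH P e f a f') (r v ρ μ : F) :
    nf C φ e a f' r v ρ μ * nf C φ e a f' r v ρ μ = nf C φ e a f' (ρ * μ * μ) (ρ * μ) 0 0 := by
  rw [h.nf_mul k, h.add_self, h.add_self, h.add_self, h.add_self, zero_add, zero_add]

theorem nf_sq_one (k : HH P e f a f') :
    nf C φ e a f' r v ρ μ * nf C φ e a f' r v ρ μ = 1 ↔ ρ = 0 ∨ μ = 0 := by
  rw [h.nf_sq k, ← h.nf_one e a f', ← mul_eq_zero]
  constructor
  · exact fun e1 => (h.nf_inj k e1).2.1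
  · intro e1
    rw [e1, zero_mul]

theorem UU_four (k : Ln P e a) (hg : g ∈ UU C φ e a) : g ^ 4 = 1 := by
  obtain ⟨f, f', l⟩ := h.hh_of_ln k
  obtain ⟨r, v, ρ, μ, rfl⟩ := (h.mem_UU l).1 hg
  rw [show 4 = 2 * 2 from rfl, pow_mul, pow_two, pow_two, h.nf_sq l]
  exact (h.nf_sq_one l).2 (Or.inl rfl)

theorem UU_le (e a : V) : UU C φ e a ≤ φ.range := by
  exact sup_le (map_le_range _ _) (map_le_range _ _)

theorem UU_two (k : Ln P e a) : IsPGroup 2 (UU C φ e a) := by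
  exact fun g => ⟨2, Subtype.ext (h.UU_four k g.2)⟩

theorem card_UU (k : Ln P e a) : Nat.card (UU C φ e a) = Nat.card F ^ 4 := by
  obtain ⟨f, f', l⟩ := h.hh_of_ln k
  rw [show Nat.card F ^ 4 = Nat.card (F × F × F × F) by simp only [Nat.card_prod]; ring]
  refine (Nat.card_eq_of_bijective (fun p : F × F × F × F =>
    ⟨_, (h.mem_UU l).2 ⟨p.1, p.2.1, p.2.2.1, p.2.2.2, rfl⟩⟩) ⟨fun p q e1 => ?_, fun y => ?_⟩).symm
  · obtain ⟨a1, a2, a3, a4⟩ := h.nf_inj l (congrArg Subtype.val e1)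
    exact Prod.ext a1 (Prod.ext a2 (Prod.ext a3 a4))
  · obtain ⟨r, v, ρ, μ, e1⟩ := (h.mem_UU l).1 y.2
    exact ⟨(r, v, ρ, μ), Subtype.ext e1.symm⟩

theorem mem_UU_act (k : Ln P e a) {s : S} (h1 : C.act s e = e) {α : F} (h2 : C.act s a = a + α • e) :
    φ s ∈ UU C φ e a := by
  obtain ⟨f, f', l⟩ := h.hh_of_ln k
  have k2 : P.B e (α • f') = 0 := by rw [map_smul, l.ef, smul_zero]
  have m : s * C.T e (α • f') 0 ∈ C.fixG (P.perp (span F {e, a})) := by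
    rw [h.lag_ln k, mem_fix_pair, C.mul_apply, C.mul_apply, h.x_app k2, h.x_app k2, h.B_self, h.B_comm _ e, k2,
      k.perp, h.B_smul_left, h.B_comm f' a, h.hp_iff.1 l.h₂, mul_one]
    simp only [zero_smul, add_zero, map_add, map_smul, h1, h2]
    exact ⟨trivial, by rw [add_assoc, h.vadd_self, add_zero]⟩
  have e1 : φ s = φ (s * C.T e (α • f') 0) * x C φ e (α • f') := by
    rw [map_mul, mul_assoc]
    exact (mul_one _).symm.trans (congrArg _ (h.x_sq k2).symm)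
  rw [e1]
  exact mul_mem (mem_sup_right ⟨_, m, rfl⟩) (mem_sup_left ((h.mem_Q k.ne).2 ⟨_, 0, k2, rfl⟩))

/-- every 2-subgroup of `L` lies in some `U` -/
theorem two_le {H : Subgroup G} (h2 : IsPGroup 2 H) (hH : H ≤ φ.range) :
    ∃ e a, Ln P e a ∧ H ≤ UU C φ e a := by
  obtain ⟨e, a, k, hk⟩ := pu_flag h.toMod (h2.comap_of_injective φ h.inj)
  refine ⟨e, a, k, fun g hg => ?_⟩
  obtain ⟨s, rfl⟩ := hH hg
  obtain ⟨a1, α, a2⟩ := hk s hg
  exact h.mem_UU_act k a1 a2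

theorem inf_UU (k : Ln P e a) {T : Subgroup G} (hT : IsPGroup 2 T) (hU : UU C φ e a ≤ T) :
    T ⊓ φ.range = UU C φ e a := by
  obtain ⟨e', a', k', le⟩ := h.two_le (H := T ⊓ φ.range) hT.to_inf_left inf_le_right
  refine (eq_of_le_of_card_ge (le_inf hU (h.UU_le e a)) ?_).symm
  rw [h.card_UU k, ← h.card_UU k']
  exact card_le_of_le le

/-- commuting elements of order four have the same square -/
theorem four_sq {u w : G} (hu : u ∈ φ.range) (hw : w ∈ φ.range) (c : Commute u w) (u4 : u ^ 4 = 1)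
    (w4 : w ^ 4 = 1) (u2 : u * u ≠ 1) (w2 : w * w ≠ 1) : u * u = w * w := by
  have hp : ∀ {u : G}, u ^ 4 = 1 → IsPGroup 2 (zpowers u) := fun {u} u4 g => ⟨2, Subtype.ext (by
    obtain ⟨_, n, rfl⟩ := g
    change (u ^ n) ^ 4 = 1
    rw [← zpow_natCast, ← zpow_mul, mul_comm, zpow_mul, zpow_natCast, u4, one_zpow])⟩
  obtain ⟨e, a, k, le⟩ := h.two_le (IsPGroup.to_sup_of_normal_left' (hp u4) (hp w4) (zpowers_le.2
    (centralizer_le_normalizer _ (mem_centralizer_iff.2 (by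
      rintro _ ⟨n, rfl⟩; exact (c.zpow_left n).eq))))) (sup_le (zpowers_le.2 hu) (zpowers_le.2 hw))
  obtain ⟨f, f', l⟩ := h.hh_of_ln k
  obtain ⟨r, v, ρ, μ, rfl⟩ := (h.mem_UU l).1 (le (mem_sup_left (mem_zpowers u)))
  obtain ⟨r', v', ρ', μ', rfl⟩ := (h.mem_UU l).1 (le (mem_sup_right (mem_zpowers w)))
  rw [Ne, h.nf_sq_one l, not_or] at u2 w2
  obtain ⟨a1, a2⟩ := (h.nf_comm l).1 c
  obtain rfl : μ = μ' := by
    rw [a1] at a2
    exact mul_left_cancel₀ (mul_ne_zero u2.1 w2.2) a2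
  obtain rfl : ρ' = ρ := mul_right_cancel₀ u2.2 a1
  rw [h.nf_sq l, h.nf_sq l]

end Emb

end CfsgLib.SP4
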