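import Cfsg.Agent.Lib.SP4.APrdA
import Cfsg.Agent.Lib.SP4.PEa
import Cfsg.Agent.Lib.SP4.PU
import Cfsg.Agent.Lib.SPC.APrdB

/-! Type A: the product case, the characteristic subgroup -/

set_option autoImplicit false
set_option linter.unusedSectionVars false

namespace CfsgLib.SP4

open Subgroup Module CfsgLib.Forms CfsgLib.LieMult
open CfsgLib.HX (Std CO Two Mv M2 QA)
open CfsgLib.UN (AV SI TI HH Rad Stb Yg Rg Eg Act nu Bas Nh flag Ub Uni TD Od)
open CfsgLib.UN.SB (D)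
open CfsgLib.ClSys (II)
open CfsgLib.SPC (pb_el)
open Submodule (span)
open scoped commutatorElement Pointwise

universe u

variable {F : Type} [Field F] [Finite F] {V : Type} [AddCommGroup V] [Module F V]
  [FiniteDimensional F V] {P : PQ (RingHom.id F) V} {S : Type} [Group S] [Finite S] {G : Type u}
  [Group G] [Finite G] {C : CG P S} {φ : S →* G} {t : G}

namespace AP

variable {w : V → V → G} {y : V → F → G} {δ : F} {φ₁ φ₂ : S →* G} (h : AP C φ t w y δ φ₁ φ₂)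
  {Gs : Subgroup G}
include h

theorem prdN_one {c : G} (h1 : c ∈ centralizer (φ₁.range : Set G))
    (h2 : c ∈ centralizer (φ₂.range : Set G)) (h3 : IsPGroup 2 (zpowers c)) : c = 1 :=
  UFP.eq_one_of_odd h3 (mem_zpowers c) (h.odd_W h1 h2) (pow_orderOf_eq_one c)

theorem prdN_mul (A B : Subgroup G) (hA : A ≤ φ₁.range) (hB : B ≤ φ₂.range) :
    Nat.card A * Nat.card B ≤ Nat.card (A ⊔ B : Subgroup G) :=
  SLE.card_sup_comm (fun _ ha _ hb => h.cm (hA ha) (hB hb))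
    fun _ ha hb => h.emb₁.eq_one (hA ha) (h.c21 (hB hb))

theorem prdN_q : 2 ≤ Nat.card F := Finite.one_lt_card

theorem prdN_half {A : Subgroup G} (n1 : A ≤ normalizer (φ₁.range : Set G))
    (n2 : A ≤ normalizer (φ₂.range : Set G)) (h2 : ∀ a ∈ A, a * a = 1) :
    Nat.card A ≤ Nat.card F ^ 3 * Nat.card F ^ 3 ∧
      (Nat.card F ^ 3 * Nat.card F ^ 3 ≤ Nat.card A →
        ∃ X ≤ φ₂.range, Nat.card F ^ 3 ≤ Nat.card X ∧ X ≤ A) := by
  have a1 := h.emb₁.ea_le n1 h2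
  have z : A ⊓ centralizer (φ₁.range : Set G) ⊓ centralizer (φ₂.range : Set G) = ⊥ :=
    eq_bot_iff.2 fun c hc => h.prdN_one hc.1.2 hc.2 (UFP.pgroup_zpowers_of_sq (h2 c hc.1.1))
  have a2 := h.emb₂.ea_le (A := A ⊓ centralizer (φ₁.range : Set G)) (inf_le_left.trans n2)
    fun a ha => h2 a ha.1
  rw [z, card_bot, mul_one] at a2
  refine ⟨a1.trans (Nat.mul_le_mul_left _ a2), fun h3 => ?_⟩
  obtain ⟨X, hX, hX', e⟩ := h.emb₂.ea_eq (A := A ⊓ centralizer (φ₁.range : Set G)) (inf_le_left.trans n2)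
    (fun a ha => h2 a ha.1) (by
      rw [z, card_bot, mul_one]
      exact Nat.le_of_mul_le_mul_left (h3.trans a1) (Nat.pow_pos Nat.card_pos))
  refine ⟨X, hX, hX', fun ε hε => ?_⟩
  obtain ⟨a, ha, c, hc, rfl⟩ := e ε hε
  have m := hX hε
  have s2 : a * c * c⁻¹ * (a * c * c⁻¹) = 1 := by rw [mul_inv_cancel_right]; exact h2 a ha.1
  have s3 := inv_eq_one.1 (h.prdN_one (inv_mem ((Subgroup.mul_mem_cancel_left _ ha.2).1 (h.c21 m)))
    (inv_mem hc) (UFP.pgroup_zpowers_of_sq (h.emb₂.sq_split m (inv_mem hc) s2).2))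
  rw [s3, mul_one]
  exact ha.1

variable {e a : V} (k : Ln P e a) {T : Subgroup G} (hN : T ≤ normalizer (GA φ y : Set G))
  (e1 : T ⊓ φ₁.range = UU C φ₁ e a) (e2 : T ⊓ φ₂.range = UU C φ₂ e a)
include hN e1 e2

theorem mem_hat {A : Subgroup G} (hA : A ≤ T) (h2 : ∀ a ∈ A, a * a = 1)
    (h3 : Nat.card F ^ 3 * Nat.card F ^ 3 ≤ Nat.card A) : A ≤ UU C φ₁ e a ⊔ UU C φ₂ e a := by
  have n1 : A ≤ normalizer (φ₁.range : Set G) := fun a ha => by
    by_contra hn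
    have z : A ⊓ normalizer (φ₁.range : Set G) ⊓ centralizer (φ₁.range : Set G) = ⊥ :=
      eq_bot_iff.2 fun c hc => h.prdN_one hc.2 (UFP.mem_cent.2 fun p hp => by
        have e := UFP.mem_cent.1 hc.2 _ ((h.swaps (hN (hA ha)) hn).2 p hp)
        have ca : a * c = c * a := by
          rw [eq_inv_of_mul_eq_one_left (h2 _ (mul_mem ha hc.1.1)), mul_inv_rev,
            inv_eq_of_mul_eq_one_right (h2 a ha), inv_eq_of_mul_eq_one_right (h2 c hc.1.1)]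
        calc p * c = a⁻¹ * (a * p * a⁻¹ * (a * c * a⁻¹)) * a := by group
          _ = a⁻¹ * (a * c * a⁻¹ * (a * p * a⁻¹)) * a := by rw [ca, mul_inv_cancel_right, e]
          _ = c * p := by group) (UFP.pgroup_zpowers_of_sq (h2 c hc.1.1))
    have a1 := h.emb₁.ea_le (A := A ⊓ normalizer (φ₁.range : Set G)) inf_le_right
      fun a ha => h2 a ha.1
    rw [z, card_bot, mul_one] at a1
    have a2 : (normalizer (φ₁.range : Set G)).relIndex A ∣ 2 := index_dvd_two_iff.2 ⟨⟨a, ha⟩, fun x => by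
      by_cases hx : (x : G) ∈ normalizer (φ₁.range : Set G)
      · exact .inr hx
      · exact .inl (h.swap.idx _ (hN (hA x.2)) _ (hN (hA ha)) (fun e => hx e.2) fun e => hn e.2).2⟩
    have a3 := h3
    rw [PLocal.card_eq_relIndex_mul (normalizer (φ₁.range : Set G)) A, inf_comm] at a3
    have a4 := Nat.le_of_mul_le_mul_right (a3.trans (Nat.mul_le_mul (Nat.le_of_dvd two_pos a2) a1))
      (Nat.pow_pos Nat.card_pos)
    have a5 := (Nat.pow_le_pow_left h.prdN_q _).trans a4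
    rw [show ∀ n, 2 ^ n ≤ 2 ↔ n ≤ 1 from fun n => Nat.pow_le_pow_iff_right (m := 1) one_lt_two] at a5
    omega
  have n2 : A ≤ normalizer (φ₂.range : Set G) := fun a ha => h.norm2 (hN (hA ha)) (n1 ha)
  obtain ⟨b1, b2⟩ := h.prdN_half n1 n2 h2
  obtain ⟨X, x1, x2, x3⟩ := (h.flip.prdN_half n2 n1 h2).2 h3
  obtain ⟨Y, y1, y2, y3⟩ := b2 h3
  rw [← eq_of_le_of_card_ge (sup_le x3 y3) (b1.trans ((Nat.mul_le_mul x2 y2).trans (h.prdN_mul X Y x1 y1)))]
  exact sup_le_sup (e1 ▸ le_inf (x3.trans hA) x1) (e2 ▸ le_inf (y3.trans hA) y1)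

include k in
theorem nh {H : Subgroup G} (h1 : H ≤ T) (h2 : UU C φ₁ e a ⊔ UU C φ₂ e a ≤ H) :
    normalizer (H : Set G) ≤ normalizer ((UU C φ₁ e a ⊔ UU C φ₂ e a : Subgroup G) : Set G) := by
  intro n hn
  have M := h.toMod
  have key : ∀ X ≤ UU C φ₁ e a, ∀ Y ≤ UU C φ₂ e a, (∀ b ∈ X, b * b = 1) → (∀ b ∈ Y, b * b = 1) →
      Nat.card X = Nat.card F ^ 3 → Nat.card Y = Nat.card F ^ 3 → X ⊔ Y ≤ closure {x | ∃ A ≤ H,
        (∀ b ∈ A, b * b = 1) ∧ Nat.card F ^ 3 * Nat.card F ^ 3 ≤ Nat.card A ∧ x ∈ A} := by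
    intro X x1 Y y1 x2 y2 x3 y3 g hg
    have x4 := x1.trans (h.emb₁.UU_le e a)
    have y4 := y1.trans (h.emb₂.UU_le e a)
    exact subset_closure ⟨X ⊔ Y, (sup_le_sup x1 y1).trans h2,
      pb_el x2 y2 fun _ ha _ hb => h.cm (x4 ha) (y4 hb), by
        nth_rewrite 1 [← x3]
        rw [← y3]
        exact h.prdN_mul X Y x4 y4, hg⟩
  have k1 := key _ le_sup_left _ le_sup_left (fun _ => h.emb₁.Q_sq k.ne) (fun _ => h.emb₂.Q_sq k.ne)
    (h.emb₁.card_Q k.ne) (h.emb₂.card_Q k.ne)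
  have k2 := key _ le_sup_right _ le_sup_right (fun _ => h.emb₁.E_sq (M.ti_pair k.perp))
    (fun _ => h.emb₂.E_sq (M.ti_pair k.perp)) (h.emb₁.card_El k) (h.emb₂.card_El k)
  have a3 : UU C φ₁ e a ⊔ UU C φ₂ e a = closure {x | ∃ A ≤ H,
      (∀ b ∈ A, b * b = 1) ∧ Nat.card F ^ 3 * Nat.card F ^ 3 ≤ Nat.card A ∧ x ∈ A} :=
    le_antisymm (sup_le (sup_le (le_sup_left.trans k1) (le_sup_left.trans k2))
      (sup_le (le_sup_right.trans k1) (le_sup_right.trans k2)))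
      ((closure_le _).2 fun x ⟨A, b1, b2, b3, b4⟩ => h.mem_hat hN e1 e2 (b1.trans h1) b2 b3 b4)
  rw [a3]
  refine SLE.norm_closure fun x ⟨A, b1, b2, b3, b4⟩ => subset_closure ⟨Tech.cj n A,
    Tech.cj_le_iff.2 fun x hx => UFP.conj_mem hn (b1 hx), ?_, by rwa [Tech.card_cj], Tech.conj_mem_cj.2 b4⟩
  rintro _ ⟨x, hx, rfl⟩
  rw [← map_mul, b2 x hx, map_one]

end AP

end CfsgLib.SP4
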