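import Cfsg.Agent.Lib.SP4.PU
import Cfsg.Agent.Lib.SP4.AEm
import Cfsg.Agent.Lib.SLF.NUX

/-! The Sylow 2-subgroup `U = Q_e E(l)`: the data for the uniqueness argument -/

set_option autoImplicit false
set_option linter.unusedSectionVars false

namespace CfsgLib.SP4

open Subgroup Module CfsgLib.Forms CfsgLib.LieMult
open CfsgLib.HX (Std CO Two Mv M2 QA)
open CfsgLib.UN (AV SI TI HH Rad Stb Yg Rg Eg Act nu)
open CfsgLib.ClSys (II)
open Submodule (span)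
open scoped commutatorElement Pointwise

universe u

variable {F : Type} [Field F] [Finite F] {V : Type} [AddCommGroup V] [Module F V]
  [FiniteDimensional F V] {P : PQ (RingHom.id F) V} {S : Type} [Group S] [Finite S] {G : Type u}
  [Group G] [Finite G] {C : CG P S} {φ : S →* G} {t : G}

theorem pub_ar {ρ μ ρ₁ μ₁ ρ₂ μ₂ : F} (h0 : ¬ (ρ = 0 ∧ μ = 0)) (h1 : ρ₁ * μ = ρ * μ₁ ∧ ρ₁ * μ * μ = ρ * μ₁ * μ₁)
    (h2 : ρ₂ * μ = ρ * μ₂ ∧ ρ₂ * μ * μ = ρ * μ₂ * μ₂) :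
    ρ₂ * μ₁ = ρ₁ * μ₂ ∧ ρ₂ * μ₁ * μ₁ = ρ₁ * μ₂ * μ₂ := by
  by_cases r0 : ρ = 0
  · have m0 : μ ≠ 0 := fun q => h0 ⟨r0, q⟩
    have a1 : ρ₁ = 0 := by simpa [r0, m0] using h1.1
    have a2 : ρ₂ = 0 := by simpa [r0, m0] using h2.1
    simp [a1, a2]
  by_cases m0 : μ = 0
  · have a1 : μ₁ = 0 := by simpa [r0, m0] using h1.1
    have a2 : μ₂ = 0 := by simpa [r0, m0] using h2.1
    simp [a1, a2]
  have key : ∀ {ρ₁ μ₁ : F}, ρ₁ * μ = ρ * μ₁ ∧ ρ₁ * μ * μ = ρ * μ₁ * μ₁ →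
      (ρ₁ = 0 ∧ μ₁ = 0) ∨ (ρ₁ = ρ ∧ μ₁ = μ) := fun {ρ₁ μ₁} h1 => by
    by_cases q : μ₁ = 0
    · exact .inl ⟨by simpa [q, m0] using h1.1, q⟩
    · have a1 : μ = μ₁ := mul_left_cancel₀ (mul_ne_zero r0 q) (by rw [← h1.2, h1.1])
      exact .inr ⟨mul_right_cancel₀ m0 (by rw [h1.1, a1]), a1.symm⟩
  rcases key h1 with ⟨rfl, rfl⟩ | ⟨rfl, rfl⟩ <;> rcases key h2 with ⟨rfl, rfl⟩ | ⟨rfl, rfl⟩ <;> simp

theorem pub_stb {A : Set V} {s : S} (H : ∀ v ∈ A, C.act s v ∈ span F A) (v : V) :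
    C.act s v ∈ span F A ↔ v ∈ span F A :=
  Emb.ea_stb (fun v hv => by
    induction hv using Submodule.span_induction with
    | mem a ha => exact H a ha
    | zero => rw [map_zero]; exact zero_mem _
    | add a b _ _ h1 h2 => rw [map_add]; exact add_mem h1 h2
    | smul c a _ h1 => rw [map_smul]; exact Submodule.smul_mem _ c h1) v

theorem Emb.pub_nQ (h : Emb C φ) {e : V} {s : S} (H : C.act s e ∈ span F {e}) :
    φ s ∈ normalizer (Rg C φ (span F {e}) : Set G) :=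
  mem_normalizer_iff.2 fun _ => (h.conj_Y s (pub_stb (by rintro _ rfl; exact H))).2.1.symm

theorem Emb.pub_nE (h : Emb C φ) {e a : V} {s : S} (H : C.act s e ∈ span F {e, a})
    (H' : C.act s a ∈ span F {e, a}) : φ s ∈ normalizer (Eg C φ (span F {e, a}) : Set G) :=
  mem_normalizer_iff.2 fun _ => (h.conj_Y s (pub_stb (by rintro _ (rfl | rfl); exacts [H, H']))).2.2.symm

theorem pub_e (e a : V) : e ∈ span F {e, a} := Submodule.subset_span (by simp)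

theorem pub_a (e a : V) : a ∈ span F {e, a} := Submodule.subset_span (by simp)

namespace Emb

variable (h : Emb C φ) {e a : V} (k : Ln P e a) {d : G}
include h k

theorem pub_x {b : V} (kb : P.B e b = 0) : x C φ e b ∈ UU C φ e a :=
  mem_sup_left ((h.mem_Q k.ne).2 ⟨b, 0, kb, rfl⟩)

theorem pub_z (c : F) : z C φ e c ∈ UU C φ e a :=
  mem_sup_left ((h.mem_Q k.ne).2 ⟨0, c, map_zero _, rfl⟩)

theorem pub_z' (c : F) : z C φ a c ∈ UU C φ e a :=
  mem_sup_right (h.τ_mem_E (h.ti_pair k.perp) (pub_a e a) (zero_mem _) c)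

theorem side4 : SLF.Side4 (UU C φ e a) := by
  obtain ⟨f, f', hh⟩ := h.hh_of_ln k
  have m : ∀ r v ρ μ, nf C φ e a f' r v ρ μ ∈ UU C φ e a := fun r v ρ μ => (h.mem_UU hh).2 ⟨r, v, ρ, μ, rfl⟩
  refine ⟨⟨_, m 0 0 1 0, _, m 0 0 0 1, fun q => by simpa using ((h.nf_comm hh).1 q).1⟩,
    fun B hB D hD hBD hU => ?_, fun g hg => ?_⟩
  · have tr : ∀ c ∈ UU C φ e a, c ∉ centralizer (UU C φ e a : Set G) → ∀ p ∈ UU C φ e a,
        ∀ q ∈ UU C φ e a, Commute c p → Commute c q → Commute p q := by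
      intro c hc c0 p hp q hq c1 c2
      obtain ⟨r, v, ρ, μ, rfl⟩ := (h.mem_UU hh).1 hc
      obtain ⟨r₁, v₁, ρ₁, μ₁, rfl⟩ := (h.mem_UU hh).1 hp
      obtain ⟨r₂, v₂, ρ₂, μ₂, rfl⟩ := (h.mem_UU hh).1 hq
      refine (h.nf_comm hh).2 (pub_ar (ρ := ρ) (μ := μ) (fun ⟨a1, a2⟩ => c0 fun y hy => ?_)
        ((h.nf_comm hh).1 c1) ((h.nf_comm hh).1 c2))
      obtain ⟨r₃, v₃, ρ₃, μ₃, rfl⟩ := (h.mem_UU hh).1 hy
      exact (h.nf_comm hh).2 (by simp [a1, a2])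
    by_contra hn
    rw [not_or, SetLike.not_le_iff_exists, SetLike.not_le_iff_exists] at hn
    obtain ⟨⟨b, hb, b0⟩, c, hc, c0⟩ := hn
    have : B ⊔ D ≤ centralizer {b} := sup_le
      (fun b' hb' => mem_centralizer_singleton_iff.2
        (tr c (hD hc) c0 b' (hB hb') b (hB hb) (hBD hb' c hc) (hBD hb c hc)))
      fun c' hc' => mem_centralizer_singleton_iff.2 (hBD hb c' hc')
    exact b0 fun y hy => mem_centralizer_singleton_iff.1 (this (hU hy))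
  · obtain ⟨r, v, ρ, μ, rfl⟩ := (h.mem_UU hh).1 hg.1
    have a1 : μ = 0 := by simpa using ((h.nf_comm hh).1 (hg.2 _ (m 0 0 1 0))).1.symm
    have a2 : ρ = 0 := by simpa using ((h.nf_comm hh).1 (hg.2 _ (m 0 0 0 1))).1
    exact commutator_mono le_sup_left le_sup_right
      (h.QE_le_comm k ⟨(h.nf_Q hh).2 a2, (h.nf_E hh).2 a1⟩)

theorem ea_sub {A : Subgroup G} (hA : A ≤ UU C φ e a) (h2 : ∀ b ∈ A, b * b = 1) :
    A ≤ Rg C φ (span F {e}) ∨ A ≤ Eg C φ (span F {e, a}) := by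
  obtain ⟨f, f', hh⟩ := h.hh_of_ln k
  by_contra hn
  rw [not_or, SetLike.not_le_iff_exists, SetLike.not_le_iff_exists] at hn
  obtain ⟨⟨b, hb, b0⟩, c, hc, c0⟩ := hn
  obtain ⟨r, v, ρ, μ, rfl⟩ := (h.mem_UU hh).1 (hA hb)
  obtain ⟨r', v', ρ', μ', rfl⟩ := (h.mem_UU hh).1 (hA hc)
  rw [h.nf_Q hh] at b0
  rw [h.nf_E hh] at c0
  have a1 := ((h.nf_sq_one hh).1 (h2 _ hb)).resolve_left b0
  have a2 := ((h.nf_sq_one hh).1 (h2 _ hc)).resolve_right c0
  have a3 := h2 _ (mul_mem hb hc)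
  rw [h.nf_mul hh, h.nf_sq_one hh, a1, a2, add_zero, zero_add] at a3
  exact a3.elim b0 c0

theorem pub_ne : Rg C φ (span F {e}) ≠ Eg C φ (span F {e, a}) := fun q => by
  obtain ⟨f, f', hh⟩ := h.hh_of_ln k
  have : nf C φ e a f' 0 0 1 0 ∈ Eg C φ (span F {e, a}) := (h.nf_E hh).2 rfl
  rw [← q, h.nf_Q hh] at this
  exact one_ne_zero this

theorem pub_conj (hd : d ∈ normalizer (UU C φ e a : Set G)) {A : Subgroup G} (hA : A ≤ UU C φ e a)
    (h2 : ∀ b ∈ A, b * b = 1) (hc : Nat.card A = Nat.card F ^ 3) :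
    MulAut.conj d • A = Rg C φ (span F {e}) ∨ MulAut.conj d • A = Eg C φ (span F {e, a}) := by
  have c1 : Nat.card (MulAut.conj d • A : Subgroup G) = Nat.card F ^ 3 :=
    (Nat.card_congr (equivSMul (MulAut.conj d) A).toEquiv).symm.trans hc
  refine (h.ea_sub k (A := MulAut.conj d • A) (fun g hg => ?_) fun g hg => ?_).imp
    (fun q => eq_of_le_of_card_ge q (by rw [c1, h.card_Q k.ne]))
    fun q => eq_of_le_of_card_ge q (by rw [c1, h.card_El k])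
  · obtain ⟨s, hs, rfl⟩ := (mem_smul_pointwise_iff_exists _ _ _).1 hg
    exact (mem_normalizer_iff.1 hd s).1 (hA hs)
  · obtain ⟨s, hs, rfl⟩ := (mem_smul_pointwise_iff_exists _ _ _).1 hg
    rw [← smul_mul', h2 s hs, smul_one]

theorem norm_QE (hd : d ∈ normalizer (UU C φ e a : Set G)) :
    (MulAut.conj d • Rg C φ (span F {e}) = Rg C φ (span F {e}) ∧
      MulAut.conj d • Eg C φ (span F {e, a}) = Eg C φ (span F {e, a})) ∨
    (MulAut.conj d • Rg C φ (span F {e}) = Eg C φ (span F {e, a}) ∧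
      MulAut.conj d • Eg C φ (span F {e, a}) = Rg C φ (span F {e})) := by
  have h1 := h.pub_conj k hd le_sup_left (fun _ => h.Q_sq k.ne) (h.card_Q k.ne)
  have h2 := h.pub_conj k hd le_sup_right (fun _ => h.E_sq (h.ti_pair k.perp)) (h.card_El k)
  have h3 : MulAut.conj d • Rg C φ (span F {e}) ≠ MulAut.conj d • Eg C φ (span F {e, a}) :=
    fun q => h.pub_ne k (MulAction.injective _ q)
  rcases h1 with h1 | h1 <;> rcases h2 with h2 | h2
  exacts [absurd (h1.trans h2.symm) h3, .inl ⟨h1, h2⟩, .inr ⟨h1, h2⟩, absurd (h1.trans h2.symm) h3]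

theorem norm_Z (hd : d ∈ normalizer (UU C φ e a : Set G)) :
    d ∈ normalizer ((Rg C φ (span F {e}) ⊓ Eg C φ (span F {e, a}) : Subgroup G) : Set G) := by
  refine Core.mem_normalizer_iff_conj_smul_eq.2 ?_
  rcases h.norm_QE k hd with ⟨h1, h2⟩ | ⟨h1, h2⟩
  · rw [smul_inf, h1, h2]
  · rw [smul_inf, h1, h2, inf_comm]

theorem rn_QE (hd : d ∈ normalizer (UU C φ e a : Set G)) (ho : Odd (orderOf d)) :
    d ∈ normalizer (Rg C φ (span F {e}) : Set G) ∧ d ∈ normalizer (Eg C φ (span F {e, a}) : Set G) := by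
  have : d ^ 2 ^ 1 ∈ normalizer (Rg C φ (span F {e}) : Set G) ⊓ normalizer (Eg C φ (span F {e, a}) : Set G) := by
    rw [mem_inf, Core.mem_normalizer_iff_conj_smul_eq, Core.mem_normalizer_iff_conj_smul_eq, pow_one,
      pow_two, map_mul, mul_smul, mul_smul]
    rcases h.norm_QE k hd with ⟨h1, h2⟩ | ⟨h1, h2⟩
    · rw [h1, h1, h2, h2]; exact ⟨rfl, rfl⟩
    · rw [h1, h2, h1]; exact ⟨rfl, rfl⟩
  exact zpowers_le.2 this (UFP.mem_zpowers_two_pow ho 1)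

theorem UU_norm : UU C φ e a ≤ normalizer (Rg C φ (span F {e}) : Set G) ∧
    UU C φ e a ≤ normalizer (Eg C φ (span F {e, a}) : Set G) := by
  refine ⟨sup_le le_normalizer ?_, sup_le (fun g hg => ?_) le_normalizer⟩
  · rintro _ ⟨s, hs, rfl⟩
    refine h.pub_nQ ?_
    rw [hs e (h.ti_pair k.perp (pub_e e a))]
    exact Submodule.mem_span_singleton_self e
  · obtain ⟨b, c, kb, rfl⟩ := (h.mem_Q k.ne).1 hg
    refine h.pub_nE ?_ ?_
    · rw [h.T_app kb, h.B_self, zero_smul, add_zero]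
      exact add_mem (pub_e e a) (Submodule.smul_mem _ _ (pub_e e a))
    · rw [h.T_app kb, k.perp, zero_smul, add_zero]
      exact add_mem (pub_a e a) (Submodule.smul_mem _ _ (pub_e e a))

theorem fpf_UU {K : Subgroup G} (hK : ∀ l ∈ φ.range ⊓ normalizer (UU C φ e a : Set G), ∀ u ∈ UU C φ e a,
    l * u * l⁻¹ * u⁻¹ ∈ K) : UU C φ e a ≤ K := by
  obtain ⟨f, f', hh⟩ := h.hh_of_ln k
  obtain ⟨l, l0, l1⟩ := h.exists_big'
  have l2 : l + 1 ≠ 0 := fun q => l1 (h.eq_of_add q)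
  have l3 : l * l + 1 ≠ 0 := fun q => l1 (h.sq_inj ((h.eq_of_add q).trans (mul_one 1).symm))
  have hn : ∀ (s : S) (m m' : F), C.act s e = m • e → C.act s a = m' • a →
      φ s ∈ φ.range ⊓ normalizer (UU C φ e a : Set G) := fun s m m' h1 h2 =>
    ⟨⟨s, rfl⟩, normalizer_inf_normalizer_le_normalizer_sup _ _
      ⟨h.pub_nQ (h1 ▸ Submodule.smul_mem _ _ (Submodule.mem_span_singleton_self e)),
        h.pub_nE (h1 ▸ Submodule.smul_mem _ _ (pub_e e a)) (h2 ▸ Submodule.smul_mem _ _ (pub_a e a))⟩⟩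
  obtain ⟨s, -, s1, -, s2, s3, -⟩ := h.exists_diag hh l0 one_ne_zero
  obtain ⟨s', -, s1', -, s2', -⟩ := h.exists_diag hh one_ne_zero l0
  have hz : ∀ (s : S) (p : V), φ s ∈ φ.range ⊓ normalizer (UU C φ e a : Set G) → C.act s p = l • p →
      (∀ c, z C φ p c ∈ UU C φ e a) → ∀ r, z C φ p r ∈ K := fun s p h1 h2 h3 r => by
    have := hK _ h1 _ (h3 (r / (l * l + 1)))
    rwa [h.z_conj, h2, h.z_smul, inv_eq_of_mul_eq_one_right (h.z_sq _ _), ← h.z_add,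
      ← add_one_mul, mul_div_cancel₀ _ l3] at this
  have hx : ∀ b, P.B e b = 0 → C.act s b = b → ∀ v : F, x C φ e (v • b) ∈ K := fun b kb h2 v => by
    have j : ∀ c : F, P.B e (c • b) = 0 := fun c => by simp [kb]
    have := hK _ (hn s _ _ s1 s2) _ (h.pub_x k (j (v / (l + 1))))
    rwa [h.x_conj _ (j _), s1, map_smul, h2, h.x_smul (j _), inv_eq_of_mul_eq_one_right (h.x_sq (j _)),
      smul_smul, ← h.x_add (j _) (j _) (by simp [h.B_self]), ← add_smul,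
      show l * (v / (l + 1)) + v / (l + 1) = v by field_simp] at this
  intro g hg
  obtain ⟨r, v, ρ, μ, rfl⟩ := (h.mem_UU hh).1 hg
  exact mul_mem (mul_mem (mul_mem (hz s e (hn s _ _ s1 s2) s1 (h.pub_z k) r)
    (hx a k.perp (by rw [s2, one_smul]) v)) (hz s' a (hn s' _ _ s1' s2') s2' (h.pub_z' k) ρ))
    (hx f' hh.ef (by rw [s3, inv_one, one_smul]) μ)

theorem gen_UU {K : Subgroup G}
    (h1 : ∀ l ∈ φ.range ⊓ normalizer (Rg C φ (span F {e}) : Set G), ∀ u ∈ UU C φ e a, l * u * l⁻¹ ∈ K)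
    (h2 : ∀ l ∈ φ.range ⊓ normalizer (Eg C φ (span F {e, a}) : Set G), ∀ u ∈ UU C φ e a,
      l * u * l⁻¹ ∈ K) : φ.range ≤ K := by
  obtain ⟨f, f', hh⟩ := h.hh_of_ln k
  have := h.toMod.gen_line hh (H := K.comap φ) (fun p c kp => ?_) fun l => ?_
  · rintro _ ⟨s, rfl⟩
    exact (this.ge (mem_top s) :)
  · change z C φ p c ∈ K
    by_cases hp : p ∈ span F {e}
    · obtain ⟨m, rfl⟩ := Submodule.mem_span_singleton.1 hp
      rw [h.z_smul]
      simpa using h1 1 (one_mem _) _ (h.pub_z k (m * m * c))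
    · obtain ⟨s, s1, s2⟩ := h.trans_ln k ⟨k.ne, hp, kp⟩
      have := h1 _ ⟨⟨s, rfl⟩, h.pub_nQ (by rw [s1]; exact Submodule.mem_span_singleton_self e)⟩ _
        (h.pub_z' k c)
      rwa [h.z_conj, s2] at this
  · change x C φ a (l • f) ∈ K
    obtain ⟨s, s1, -, s2, s3⟩ := h.trans_hh hh hh.symm
    have j : P.B e (l • f') = 0 := by simp [hh.ef]
    have := h2 _ ⟨⟨s, rfl⟩, h.pub_nE (by rw [s1]; exact pub_a e a) (by rw [s2]; exact pub_e e a)⟩ _
      (h.pub_x k j)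
    rwa [h.x_conj _ j, s1, map_smul, s3] at this

end Emb

end CfsgLib.SP4
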