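import Cfsg.Agent.Lib.SP4.APrdB
import Cfsg.Agent.Lib.SP4.APrdN
import Cfsg.Agent.Lib.SP4.PUb
import Cfsg.Agent.Lib.SP4.ATop

/-! Type A: the product case, the contradiction -/

set_option autoImplicit false
set_option linter.unusedSectionVars false

namespace CfsgLib.SP4

open Subgroup Module CfsgLib.Forms CfsgLib.LieMult
open CfsgLib.HX (Std CO Two Mv M2 QA)
open CfsgLib.UN (AV SI TI HH Rad Stb Yg Rg Eg Act nu Bas Nh flag Ub Uni TD Od)
open CfsgLib.UN.SB (D)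
open CfsgLib.ClSys (II)
open Submodule (span)
open scoped commutatorElement Pointwise

universe u

variable {F : Type} [Field F] [Finite F] {V : Type} [AddCommGroup V] [Module F V]
  [FiniteDimensional F V] {P : PQ (RingHom.id F) V} {S : Type} [Group S] [Finite S] {G : Type u}
  [Group G] [Finite G] {C : CG P S} {φ : S →* G} {t : G}

namespace AP

variable {w : V → V → G} {y : V → F → G} {δ : F} {φ₁ φ₂ : S →* G} (h : AP C φ t w y δ φ₁ φ₂)
  {Gs : Subgroup G}
include h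

theorem conj_UU (e a : V) : MulAut.conj t • UU C φ₁ e a = UU C φ₂ e a := by
  rw [UU, UU, Rg, Rg, Eg, Eg, ← Subgroup.map_sup, ← Subgroup.map_sup, h.conj_map]

theorem prdL (hG : SLE.Glob Gs t) (hL : φ.range ≤ Gs) {e a : V} (k : Ln P e a) :
    ∃ T, T ⊓ φ₁.range = UU C φ₁ e a ∧ T ⊓ φ₂.range = UU C φ₂ e a ∧
    UFP.PrdL (normalizer (GA φ y : Set G))
      (normalizer (GA φ y : Set G) ⊓ normalizer (φ₁.range : Set G))
      (normalizer (GA φ y : Set G) ⊓ centralizer (φ₂.range : Set G))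
      (normalizer (GA φ y : Set G) ⊓ centralizer (φ₁.range : Set G)) T φ₁.range t := by
  have : Fact (Nat.Prime 2) := ⟨Nat.prime_two⟩
  have M := h.toMod
  have E := h.emb₁
  have l1 := E.UU_le e a
  have l2 := h.emb₂.UU_le e a
  obtain ⟨T, h0, h1, hT, syl⟩ := SLE.exists_syl ((UFP.pgroup_zpowers_of_sq h.t2).to_sup_of_normal_right'
    (SLE.pg_sup_comm (E.UU_two k) (h.emb₂.UU_two k) fun _ hp _ hq => h.cm (l1 hp) (l2 hq))
    (zpowers_le.2 (UFP.norm_sup
      (fun p hp => mem_sup_right ((h.conj_UU e a).le (Coprime.conj_mem_conj_smul hp)))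
      fun p hp => mem_sup_left ((h.flip.conj_UU e a).le (Coprime.conj_mem_conj_smul hp)))))
    (sup_le (zpowers_le.2 h.toHA2.t_norm) (sup_le (l1.trans h.L1_le) (l2.trans h.flip.L1_le)))
  have eq := E.inf_UU k hT ((le_sup_left.trans le_sup_right).trans h0)
  refine ⟨T, eq, h.emb₂.inf_UU k hT ((le_sup_right.trans le_sup_right).trans h0), h.swap, hT, h1,
    h0 (mem_sup_left (mem_zpowers t)), fun k => h.t_not_norm k.2, syl,
    le_inf h.L1_le h.flip.c21, inf_le_right, inf_le_right, ?_, ?_⟩ <;> rw [eq]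
  · exact ⟨Rg C φ₁ (span F {e}) ⊓ Eg C φ₁ (span F {e, a}), inf_le_left.trans le_sup_left,
      fun g hg => E.norm_Z k (eq ▸ UFP.norm_inf (le_normalizer hg.1) hg.2.2),
      fun b hb => E.Q_sq k.ne hb.1, z C φ₁ e 1, (E.mem_QE k).2 ⟨1, 0, by rw [zero_smul, E.x_zero, mul_one]⟩,
      x C φ₁ e a, (E.mem_QE k).2 ⟨0, 1, by rw [E.z_zero, one_smul, one_mul]⟩,
      fun c => (E.z_eq_one.1 c).elim k.ne one_ne_zero,
      fun c => one_ne_zero ((E.x_eq_one k).1 (by rwa [one_smul])), E.z_ne_x k e 1⟩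
  · refine (h.toHA2.uw hG hL (h.not_mem hG) (h.isU hG hL) k).mono ?_
    have r : Rad C (span F {e, a}) ≤ C.fixG (P.perp (span F {e, a})) := by
      rw [show P.perp (span F {e, a}) = span F {e, a} from M.lag_ln k]
      exact rad_le_fix _
    rw [h.conj_UU, UU, UU, Rg, Rg, Rg, Rg, Eg, Eg, ← Subgroup.map_sup, ← Subgroup.map_sup,
      ← Subgroup.map_sup]
    rintro _ ⟨s, hs, rfl⟩
    have hs' := sup_le_sup_left r _ hs
    exact ⟨h.ext s ▸ mul_mem_sup ⟨s, hs', rfl⟩ ⟨s, hs', rfl⟩, UFP.mem_cent1.2 (h.toSit.tl s).symm⟩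

theorem false (hG : SLE.Glob Gs t) (hL : φ.range ≤ Gs) : False := by
  have H := h.emb₁
  have M := h.toMod
  have ht := h.not_mem hG
  have hu := h.isU hG hL
  have s1 := hG.pf_le H.perf
  have s2 := hG.pf_le h.emb₂.perf
  obtain ⟨e, e0⟩ := M.g2_ne
  obtain ⟨a, k⟩ := M.exists_ln e0
  obtain ⟨T, eq, eq2, d⟩ := h.prdL hG hL k
  have x1 : ∀ {ψ : S →* G}, Emb C ψ → z C ψ e 1 ≠ 1 := fun E e1 =>
    (E.z_eq_one.1 e1).elim e0 one_ne_zero
  have xm : ∀ ψ : S →* G, z C ψ e 1 ∈ ψ.range := fun ψ => ⟨_, rfl⟩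
  have e1 : GA φ y = Gs := h.toHA2.eq_Gs hG hL fun u us u2 => by
    have cC : ∀ {g x c : G}, g ∈ normalizer (GA φ y : Set G) → x ∈ φ₁.range →
        c ∈ centralizer (φ₁.range : Set G) → g = x * c →
        c ∈ normalizer (GA φ y : Set G) ⊓ centralizer (φ₁.range : Set G) := fun hg hx hc k =>
      ⟨(Subgroup.mul_mem_cancel_left _ (h.L1_le hx)).1 (k ▸ hg), hc⟩
    refine SLF.NU4.mem (R := fun i : Bool => bif i then Eg C φ₁ (span F {e, a}) else Rg C φ₁ (span F {e}))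
      ⟨d, ?_, ?_, fun g g1 g2 => ?_, ?_, ?_, ?_, fun j g hg _ hc => ?_, fun J hJ => ?_, ?_⟩
      hu (hG.index ht) ht us u2
    · rw [eq]; exact H.side4 k
    · rw [eq, h.conj_UU]
      exact fun D h1 h2 => h.nh k d.S1 eq eq2 h1 h2
    · rw [h.conj_t] at g2
      rw [← h.eqG]
      exact UFP.norm_sup (fun p hp => mem_sup_left (UFP.conj_mem g1 hp))
        fun p hp => mem_sup_right (UFP.conj_mem g2 hp)
    · rw [eq]
      exact fun J => H.fpf_UU k
    · rw [eq]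
      rintro (_ | _)
      exacts [le_sup_left, le_sup_right]
    · rw [eq]
      rintro (_ | _)
      exacts [(H.UU_norm k).1, (H.UU_norm k).2]
    · cases j
      · obtain ⟨x, hx, c, m, rfl⟩ := H.cQ e0 hg.2 hc
        exact mul_mem_sup hx (cC hg.1 (map_le_range _ _ hx) m rfl)
      · obtain ⟨x, hx, c, m, rfl⟩ := H.cY (M.ti_pair k.perp) hg.2 (by
          rwa [← show Eg C φ₁ (span F {e, a}) = Yg C φ₁ (span F {e, a}) from
            congrArg (fun U => Yg C φ₁ U) (M.lag_ln k)])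
        exact mul_mem_sup hx (cC hg.1 (map_le_range _ _ hx) m rfl)
    · rw [eq] at hJ
      exact H.gen_UU k (hJ Bool.false) (hJ true)
    · rw [eq]
      rintro δ hδ ho - (_ | _)
      exacts [(H.rn_QE k hδ ho).1, (H.rn_QE k hδ ho).2]
  exact h.ne ((hG.eq_of_norm s1 (e1 ▸ h.norm1) (xm _) (x1 H)).trans
    (hG.eq_of_norm s2 (e1 ▸ h.flip.norm1) (xm _) (x1 h.emb₂)).symm)

end AP

end CfsgLib.SP4
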