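import Cfsg.Agent.Lib.SP4.ADefs
import Cfsg.Agent.Lib.SP4.Rad

/-! The Sylow subgroup of a basis -/

set_option autoImplicit false
set_option linter.unusedSectionVars false

namespace CfsgLib.SP4

open Subgroup Module CfsgLib.Forms CfsgLib.LieMult
open CfsgLib.HX (Std CO Two Mv M2 QA)
open CfsgLib.UN (AV SI TI HH Rad Stb Yg Rg Eg Act nu Bas Nh flag Ub Uni TD Od)
open CfsgLib.UN.SB (D)
open CfsgLib.ClSys (II)
open Submodule (span)
open scoped commutatorElement Pointwise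

universe u

variable {F : Type} [Field F] [Finite F] {V : Type} [AddCommGroup V] [Module F V]
  [FiniteDimensional F V] {P : PQ (RingHom.id F) V} {S : Type} [Group S] [Finite S] {G : Type u}
  [Group G] [Finite G] {C : CG P S} {φ : S →* G} {t : G}

theorem exists_eps (k : ℕ) : ∃ ε : Fin (2 * k) ≃ II k, ∀ i, ε i.rev = (ε i).swap := by
  let f : II k → Fin (2 * k) := Sum.elim (fun a => ⟨a, by omega⟩) fun a => ⟨2 * k - (a + 1), by omega⟩
  have hf : Function.Bijective f := by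
    refine (Fintype.bijective_iff_injective_and_card f).2 ⟨?_, by simp [two_mul]⟩
    rintro (a | a) (c | c) e <;> have e' := congrArg Fin.val e <;> have := a.2 <;> have := c.2 <;>
      simp only [f, Sum.elim_inl, Sum.elim_inr] at e'
    · exact congrArg _ (Fin.ext e')
    · omega
    · omega
    · exact congrArg _ (Fin.ext (by omega))
  refine ⟨(Equiv.ofBijective f hf).symm, fun i => ?_⟩
  obtain ⟨a, rfl⟩ := hf.2 i
  rw [Equiv.symm_apply_eq, Equiv.ofBijective_symm_apply_apply, Equiv.ofBijective_apply]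
  rcases a with a | a <;> have := a.2 <;> ext <;>
    simp only [f, Sum.elim_inl, Sum.elim_inr, Sum.swap_inl, Sum.swap_inr, Fin.val_rev]
  omega

section
variable {m : ℕ} {b : Basis (Fin m) F V} {s s' : S} {l : ℕ}

theorem D_anti {l' : ℕ} (e : l ≤ l') : D C b l' ≤ D C b l := fun _ hs => ⟨hs.1, UN.Nh_anti b e hs.2⟩
theorem D_le : D C b l ≤ Ub C b := fun _ hs => hs.1

theorem asyl_ext (e : nu C s = nu C s') : s = s' :=
  C.ext fun v => by rw [UN.SB.act_eq, e, ← UN.SB.act_eq]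

theorem D_top : D C b m = ⊥ := eq_bot_iff.2 fun _ hs =>
  asyl_ext (((UN.Nh_top b).le hs.2).trans UN.SB.nu_one.symm)

theorem asyl_mul {n : V →ₗ[F] V} (hn : n ∈ Nh b l) (hs : s ∈ Ub C b) : n + n * nu C s ∈ Nh b l :=
  add_mem hn (UN.Nh_anti b (Nat.le_add_right _ _) (UN.Nh_mul b hn ((UN.mem_Ub b).1 hs)))

theorem D_div (hs : s ∈ Ub C b) (hs' : s' ∈ Ub C b) :
    s * s'⁻¹ ∈ D C b l ↔ nu C s - nu C s' ∈ Nh b l := by
  refine ⟨fun e => ?_, fun e => ⟨mul_mem hs (inv_mem hs'), ?_⟩⟩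
  · have h1 := UN.SB.nu_mul (C := C) (s * s'⁻¹) s'
    rw [inv_mul_cancel_right] at h1
    convert asyl_mul e.2 hs' using 1
    rw [h1]; abel
  · have h1 := UN.SB.nu_mul (C := C) s' s'⁻¹
    rw [mul_inv_cancel, UN.SB.nu_one] at h1
    convert asyl_mul e (inv_mem hs') using 1
    rw [UN.SB.nu_mul, sub_mul]
    linear_combination (norm := abel) -h1

theorem D_comm (hs : s ∈ Ub C b) (hs' : s' ∈ Ub C b) :
    s * s' * s⁻¹ * s'⁻¹ ∈ D C b l ↔ nu C s * nu C s' - nu C s' * nu C s ∈ Nh b l := by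
  rw [mul_assoc, ← mul_inv_rev, D_div (mul_mem hs hs') (mul_mem hs' hs), UN.SB.nu_mul, UN.SB.nu_mul]
  congr! 1
  abel

theorem D_comm_succ (hs : s ∈ Ub C b) (hs' : s' ∈ D C b l) : s * s' * s⁻¹ * s'⁻¹ ∈ D C b (l + 1) :=
  (D_comm hs hs'.1).2 (sub_mem (add_comm 1 l ▸ UN.Nh_mul b ((UN.mem_Ub b).1 hs) hs'.2)
    (UN.Nh_mul b hs'.2 ((UN.mem_Ub b).1 hs)))

theorem D_norm : Ub C b ≤ normalizer (D C b l : Set S) := fun u hu =>
  Core.mem_normalizer_of_forall_conj_mem fun x hx => by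
    have := mul_mem (D_anti (Nat.le_succ l) (D_comm_succ hu hx)) hx
    rwa [inv_mul_cancel_right] at this

/-- the stabiliser of the flag normalises `Ub` -/
theorem norm_Ub (e : ∀ i, s ∈ Stb C (flag b i)) : s ∈ normalizer (Ub C b : Set S) := by
  refine Core.mem_normalizer_of_forall_conj_mem fun u hu => (UN.mem_Ub b).2 ((UN.mem_Nh b).2 fun n v hv => ?_)
  rw [UN.SB.nu_apply, C.mul_apply, C.mul_apply, ← C.apply_inv s v, C.inv_apply, ← map_sub]
  exact (e _ _).2 ((UN.mem_Nh b).1 ((UN.mem_Ub b).1 hu) n _ ((inv_mem (e n) v).2 hv))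

end

namespace Mod

variable (h : Mod C) {k : ℕ}
include h

theorem bas_of_frame (Fr : Frame P k) {ε : Fin (2 * k) ≃ II k} (hε : ∀ i, ε i.rev = (ε i).swap) :
    ∃ b : Basis (Fin (2 * k)) F V, Bas P b ∧ ∀ i, b i = Fr.v (ε i) := by
  have a1 : LinearIndependent F Fr.v := g2_li (P := P) (w := fun a => Fr.v a.swap) fun a b => by
    rw [Fr.B_v]
    simp only [Sum.swap_leftInverse.injective.eq_iff]
  have a2 : ⊤ ≤ span F (Set.range (Fr.v ∘ ε)) := fun x _ => by
    rw [h.g2_decomp Fr x]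
    exact Submodule.sum_mem _ fun b _ => Submodule.smul_mem _ _ (Submodule.subset_span ⟨ε.symm b, by simp⟩)
  refine ⟨Basis.mk (a1.comp ε ε.injective) a2, fun i j => ?_, fun i => by simp⟩
  simp only [Basis.coe_mk, Function.comp, Fr.B_v, ← hε, ε.injective.eq_iff]
  exact if_congr ⟨fun e => by rw [e, Fin.rev_rev], fun e => by rw [e, Fin.rev_rev]⟩ rfl rfl

theorem exists_bas (hk : finrank F V = 2 * k) : ∃ b : Basis (Fin (2 * k)) F V, Bas P b := by
  obtain ⟨Fr⟩ := h.exists_frame hk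
  obtain ⟨ε, hε⟩ := exists_eps k
  exact (h.bas_of_frame Fr hε).imp fun _ e => e.1

variable {b : Basis (Fin (2 * k)) F V} (hb : Bas P b) {i j : Fin (2 * k)} {l : ℕ} {s : S}
include hb

theorem bas_rank : finrank F V = 2 * k ∧ 2 ≤ k := by
  have _ := hb
  have h1 : finrank F V = 2 * k := by rw [finrank_eq_card_basis b, Fintype.card_fin]
  have := h.d4
  exact ⟨h1, by omega⟩

theorem perp_flag {r : ℕ} (hr : r ≤ 2 * k) : P.perp (flag b r) = flag b (2 * k - r) := by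
  have _ := h
  ext v
  rw [flag, P.mem_perp_span, UN.mem_flag]
  refine ⟨fun h1 j hj => ?_, ?_⟩
  · rw [← j.rev_rev, ← UN.SB.B_bas hb]
    exact h1 _ ⟨j.rev, by have := j.2; simp only [Set.mem_ofPred_eq, Fin.val_rev]; omega, rfl⟩
  · rintro h1 _ ⟨j, hj, rfl⟩
    have hj' : (j : ℕ) < r := hj
    rw [UN.SB.B_bas hb]
    exact h1 _ (by rw [Fin.val_rev]; omega)

theorem rank_flag {r : ℕ} (hr : r ≤ 2 * k) : finrank F (flag b r) = r := by
  have _ := h
  have _ := hb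
  have e : b '' {j | (j : ℕ) < r} = Set.range (b ∘ Fin.castLE hr) := by
    ext v
    exact ⟨fun ⟨j, hj, e⟩ => ⟨⟨j, hj⟩, e⟩, fun ⟨j, e⟩ => ⟨_, j.2, e⟩⟩
  rw [flag, e, finrank_span_eq_card (b.linearIndependent.comp _ (Fin.castLE_injective hr)), Fintype.card_fin]

theorem ti_flag {r : ℕ} (hr : r ≤ k) : TI P (flag b r) :=
  (UN.flag_mono b (by omega)).trans (h.perp_flag hb (by omega)).ge

theorem lag_flag : Lag P (flag b k) := by
  rw [Lag, h.perp_flag hb (by omega), show 2 * k - k = k by omega]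

theorem exists_flag : ∃ e f e' f', HH P e f e' f' ∧ flag b 1 = span F {e} ∧ flag b 2 = span F {e, e'} := by
  have := (h.bas_rank hb).2
  have k1 : ∀ (i j : ℕ) (hi : i < 2 * k) (hj : j < 2 * k), P.B (b ⟨i, hi⟩) (b ⟨j, hj⟩) =
      if i + j + 1 = 2 * k then 1 else 0 := fun i j hi hj => by
    rw [hb]
    exact if_congr (by rw [Fin.ext_iff, Fin.val_rev]; dsimp only; omega) rfl rfl
  refine ⟨b ⟨0, by omega⟩, b ⟨2 * k - 1, by omega⟩, b ⟨1, by omega⟩, b ⟨2 * k - 2, by omega⟩,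
    ⟨h.hp_iff.2 ?_, h.hp_iff.2 ?_, ?_, ?_, ?_, ?_⟩, ?_, ?_⟩
  any_goals rw [k1]; split_ifs <;> first | rfl | omega
  · rw [flag, ← Set.image_singleton]
    congr 2
    ext j
    simp [Fin.ext_iff]
  · rw [flag, ← Set.image_pair]
    congr 2
    ext j
    simp only [Set.mem_ofPred_eq, Set.mem_insert_iff, Set.mem_singleton_iff, Fin.ext_iff]
    omega

theorem Ub_two : IsPGroup 2 (Ub C b) := by
  have _ := hb
  exact UN.uni_two h.two (UN.flag_zero b) (UN.flag_top b le_rfl)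

theorem Ub_le_stb (r : ℕ) : Ub C b ≤ Stb C (flag b r) := by
  have _ := h
  have _ := hb
  exact fun s hs => (hs r).1

theorem rad_le_Ub {r : ℕ} (hr : r ≤ k) : Rad C (flag b r) ≤ Ub C b := fun s hs =>
  (UN.mem_Ub b).2 ((UN.mem_Nh b).2 fun i v hv => by
    change C.act s v - v ∈ _
    by_cases h1 : i ≤ r
    · rw [hs.1 v (UN.flag_mono b h1 hv), sub_self]
      exact zero_mem _
    by_cases h2 : i ≤ 2 * k - r
    · exact UN.flag_mono b (by omega) (hs.2 v (h.perp_flag hb (r := r) (by omega) ▸ UN.flag_mono b h2 hv))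
    · refine UN.flag_mono b (by omega) ((h.perp_flag hb (r := r) (by omega)).le (P.mem_perp.2 fun w hw => ?_))
      rw [map_sub, ← hs.1 w hw, C.B_act, hs.1 w hw, sub_self])

theorem E_le_Ub : C.fixG (P.perp (flag b k)) ≤ Ub C b :=
  (h.E_le_rad (h.ti_flag hb le_rfl)).trans (h.rad_le_Ub hb le_rfl)

end Mod

end CfsgLib.SP4
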