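import Cfsg.Agent.Lib.SP4.ASyl
import Cfsg.Agent.Lib.SLF.NUX

/-! The Frattini quotient of the Sylow subgroup -/

set_option autoImplicit false
set_option linter.unusedSectionVars false

namespace CfsgLib.SP4

open Subgroup Module CfsgLib.Forms CfsgLib.LieMult
open CfsgLib.HX (Std CO Two Mv M2 QA)
open CfsgLib.UN (AV SI TI HH Rad Stb Yg Rg Eg Act nu Bas Nh flag Ub Uni TD Od)
open CfsgLib.UN.SB (D)
open CfsgLib.ClSys (II)
open Submodule (span)
open scoped commutatorElement Pointwise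

universe u

variable {F : Type} [Field F] [Finite F] {V : Type} [AddCommGroup V] [Module F V]
  [FiniteDimensional F V] {P : PQ (RingHom.id F) V} {S : Type} [Group S] [Finite S] {G : Type u}
  [Group G] [Finite G] {C : CG P S} {φ : S →* G} {t : G}

section
variable {m : ℕ} {b : Basis (Fin m) F V} {s s' : S}

theorem asb_ent {i : ℕ} (hi : i + 1 < m) (s : S) :
    ent C b s i = b.repr (nu C s (b ⟨i + 1, hi⟩)) ⟨i, by omega⟩ := dif_pos hi

theorem asb_rep {k l : ℕ} {n n' : V →ₗ[F] V} (hn : n ∈ Nh b k) (hn' : n' ∈ Nh b l) {p q r : Fin m}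
    (e1 : (r : ℕ) = p + k) (e2 : (q : ℕ) = r + l) :
    b.repr (n (n' (b q))) p = b.repr (n (b r)) p * b.repr (n' (b q)) r := by
  have h1 : n' (b q) ∈ flag b (r + 1) := by
    have := (UN.mem_Nh b).1 hn' _ _ (UN.SB.b_mem (b := b) (j := q) (Nat.lt_succ_self _))
    rwa [show (q : ℕ).succ - l = r + 1 by omega] at this
  have h2 := (UN.mem_flag b).1 ((UN.mem_Nh b).1 hn _ _ (UN.sub_mem_flag b h1)) p (by omega)
  rw [map_sub, map_sub, map_smul, map_smul, Finsupp.sub_apply, Finsupp.smul_apply, smul_eq_mul,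
    sub_eq_zero] at h2
  rw [h2, mul_comm]

theorem asb_Nh0 (hs : ∀ r, s ∈ Stb C (flag b r)) : (C.act s).toLinearMap ∈ Nh b 0 :=
  (UN.mem_Nh b).2 fun r v hv => (hs r v).2 hv

theorem asb_conj (hs : ∀ r, s ∈ Stb C (flag b r)) {u : S} (hu : u ∈ Ub C b) {i : ℕ} (hi : i + 1 < m) :
    ent C b (s * u * s⁻¹) i = b.repr (C.act s (b ⟨i, by omega⟩)) ⟨i, by omega⟩ *
      b.repr (C.act s⁻¹ (b ⟨i + 1, hi⟩)) ⟨i + 1, hi⟩ * ent C b u i := by
  have h1 := asb_Nh0 hs
  have h2 := asb_Nh0 (s := s⁻¹) fun r => inv_mem (hs r)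
  have h3 := (UN.mem_Ub b).1 hu
  have e : ∀ v, nu C (s * u * s⁻¹) v = (C.act s).toLinearMap ((nu C u * (C.act s⁻¹).toLinearMap) v) :=
    fun v => by
      simp only [UN.SB.nu_apply, C.mul_apply, Module.End.mul_apply, LinearEquiv.coe_coe, map_sub,
        C.apply_inv]
  rw [asb_ent hi, asb_ent hi, e, asb_rep h1 (UN.Nh_mul b h3 h2) (r := ⟨i, by omega⟩) rfl rfl,
    Module.End.mul_apply, asb_rep h3 h2 (r := ⟨i + 1, hi⟩) rfl rfl]
  simp only [LinearEquiv.coe_coe]
  ring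

end

theorem ent_mul {m : ℕ} {b : Basis (Fin m) F V} {s s' : S} (hs : s ∈ Ub C b) (hs' : s' ∈ Ub C b) (i : ℕ) :
    ent C b (s * s') i = ent C b s i + ent C b s' i := by
  by_cases hi : i + 1 < m
  · rw [asb_ent hi, asb_ent hi, asb_ent hi]
    exact UN.SB.ent_mul one_pos ((UN.mem_Ub b).1 hs) ((UN.mem_Ub b).1 hs') rfl
  · simp [ent, hi]

/-- the entries of commuting elements -/
theorem ent_comm {m : ℕ} {b : Basis (Fin m) F V} {s s' : S} (hs : s ∈ Ub C b) (hs' : s' ∈ Ub C b)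
    (e : s * s' = s' * s) {i : ℕ} (hi : i + 2 < m) :
    ent C b s i * ent C b s' (i + 1) = ent C b s' i * ent C b s (i + 1) := by
  have h1 := (UN.mem_Ub b).1 hs
  have h2 := (UN.mem_Ub b).1 hs'
  have e1 := congrArg (nu C) e
  rw [UN.SB.nu_mul, UN.SB.nu_mul, add_comm (nu C s'), add_right_inj] at e1
  have e2 := LinearMap.congr_fun e1 (b ⟨i + 1 + 1, hi⟩)
  rw [Module.End.mul_apply, Module.End.mul_apply] at e2
  rw [asb_ent (by omega : i + 1 < m), asb_ent (by omega : i + 1 < m), asb_ent (by omega : i + 1 + 1 < m),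
    asb_ent (by omega : i + 1 + 1 < m), ← asb_rep h1 h2 rfl rfl, ← asb_rep h2 h1 rfl rfl, e2]

theorem asb_one {m : ℕ} {b : Basis (Fin m) F V} (i : ℕ) : ent C b (1 : S) i = 0 := by
  simp [ent, UN.SB.nu_one]

theorem asb_inv {m : ℕ} {b : Basis (Fin m) F V} {s : S} (hs : s ∈ Ub C b) (i : ℕ) :
    ent C b s⁻¹ i = -ent C b s i := by
  rw [eq_neg_iff_add_eq_zero, ← ent_mul (inv_mem hs) hs, inv_mul_cancel, asb_one]

/-- a linear condition on two entries -/
def asbK (C : CG P S) {m : ℕ} (b : Basis (Fin m) F V) (i j : ℕ) (α β : F) : Subgroup S where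
  carrier := {u | u ∈ Ub C b ∧ α * ent C b u j = ent C b u i * β}
  one_mem' := ⟨one_mem _, by rw [asb_one, asb_one, mul_zero, zero_mul]⟩
  mul_mem' := fun h1 h2 => ⟨mul_mem h1.1 h2.1, by
    rw [ent_mul h1.1 h2.1, ent_mul h1.1 h2.1]; linear_combination h1.2 + h2.2⟩
  inv_mem' := fun h1 => ⟨inv_mem h1.1, by rw [asb_inv h1.1, asb_inv h1.1]; linear_combination -h1.2⟩

theorem Side4_map {U : Subgroup S} (h : SLF.Side4 U) (hφ : Function.Injective φ) : SLF.Side4 (U.map φ) := by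
  have hc : ∀ {A B : Subgroup S}, A.map φ ≤ centralizer (B.map φ : Set G) ↔ A ≤ centralizer (B : Set S) := by
    intro A B
    refine ⟨fun k a ha => mem_centralizer_iff.2 fun c hc => hφ ?_, ?_⟩
    · rw [map_mul, map_mul]
      exact mem_centralizer_iff.1 (k ⟨a, ha, rfl⟩) _ ⟨c, hc, rfl⟩
    · rintro k _ ⟨a, ha, rfl⟩
      refine mem_centralizer_iff.2 ?_
      rintro _ ⟨c, hc, rfl⟩
      rw [← map_mul, ← map_mul, mem_centralizer_iff.1 (k ha) c hc]
  have ml : ∀ {H K : Subgroup S}, H.map φ ≤ K.map φ ↔ H ≤ K := map_le_map_iff_of_injective hφ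
  refine ⟨?_, fun B hB C hC h1 h2 => ?_, ?_⟩
  · obtain ⟨a, ha, b, hb, hab⟩ := h.nab
    exact ⟨φ a, ⟨a, ha, rfl⟩, φ b, ⟨b, hb, rfl⟩, fun e => hab (hφ (by simpa using e))⟩
  · obtain ⟨B, rfl⟩ : ∃ J : Subgroup S, J.map φ = B :=
      ⟨B.comap φ, map_comap_eq_self (hB.trans (map_le_range _ _))⟩
    obtain ⟨C, rfl⟩ : ∃ J : Subgroup S, J.map φ = C :=
      ⟨C.comap φ, map_comap_eq_self (hC.trans (map_le_range _ _))⟩
    rw [← Subgroup.map_sup, ml] at h2
    rw [hc, hc]
    exact h.ci B (ml.1 hB) C (ml.1 hC) (hc.1 h1) h2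
  · rintro _ ⟨⟨u, hu, rfl⟩, k⟩
    rw [← map_commutator]
    refine ⟨u, h.zc ⟨hu, mem_centralizer_iff.2 fun c hc => hφ ?_⟩, rfl⟩
    rw [map_mul, map_mul]
    exact mem_centralizer_iff.1 k _ ⟨c, hc, rfl⟩

theorem asb_frat {U H : Subgroup S} (hU : IsPGroup 2 U) (hH : H ≤ U) (h : U ≤ H ⊔ ⁅U, U⁆) : U ≤ H := by
  haveI : Fact (Nat.Prime 2) := ⟨Nat.prime_two⟩
  haveI := hU.isNilpotent
  refine subgroupOf_eq_top.1 (Core.eq_top_of_sup_commutator_eq_top ?_)
  apply map_injective U.subtype_injective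
  rw [Subgroup.map_sup, map_subtype_commutator, map_subgroupOf_eq_of_le hH, ← MonoidHom.range_eq_map,
    range_subtype]
  exact le_antisymm (sup_le hH (map_subtype_commutator U ▸ map_subtype_le _)) h

namespace Mod

variable (h : Mod C) {k : ℕ} {b : Basis (Fin (2 * k)) F V} (hb : Bas P b) {s : S}
include h hb

theorem asb_orth {a c : ℕ} (e : a + c ≤ 2 * k) {v w : V} (hv : v ∈ flag b a) (hw : w ∈ flag b c) :
    P.B v w = 0 :=
  (P.mem_perp_span.2 (by
    rintro _ ⟨j, hj, rfl⟩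
    rw [UN.SB.B_bas hb]
    exact (UN.mem_flag b).1 hw _ (by have : (j : ℕ) < a := hj; rw [Fin.val_rev]; omega)) :
      w ∈ P.perp (flag b a)) v hv

theorem ent_symm (hs : s ∈ Ub C b) {i j : ℕ} (e : i + j + 2 = 2 * k) : ent C b s i = ent C b s j := by
  have hn := (UN.mem_Nh b).1 ((UN.mem_Ub b).1 hs)
  have h1 := C.B_act s (b ⟨j + 1, by omega⟩) (b ⟨i + 1, by omega⟩)
  rw [UN.SB.act_eq, UN.SB.act_eq s (b ⟨i + 1, _⟩), P.B_add_left, P.B_add_right, P.B_add_right, add_assoc,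
    add_eq_left, asb_orth h hb (a := j + 2 - 1) (c := i + 2 - 1) (by omega)
      (hn _ _ (UN.SB.b_mem (Nat.lt_succ_self _))) (hn _ _ (UN.SB.b_mem (Nat.lt_succ_self _))),
    add_zero, UN.SB.B_bas hb, h.B_comm, UN.SB.B_bas hb,
    show Fin.rev ⟨j + 1, _⟩ = (⟨i, by omega⟩ : Fin (2 * k)) from Fin.ext (by rw [Fin.val_rev]; simp only; omega),
    show Fin.rev ⟨i + 1, _⟩ = (⟨j, by omega⟩ : Fin (2 * k)) from Fin.ext (by rw [Fin.val_rev]; simp only; omega)]
    at h1
  rw [asb_ent (by omega), asb_ent (by omega)]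
  exact h.eq_of_add h1

theorem mem_D2 (hs : s ∈ Ub C b) : s ∈ D C b 2 ↔ ∀ i < k, ent C b s i = 0 := by
  have k3 := (h.bas_rank hb).2
  rw [UN.SB.mem_D two_pos]
  refine ⟨fun H i hi => ?_, fun H p q e => ?_⟩
  · rw [asb_ent (by omega)]
    exact H _ _ (by simp)
  · by_cases e' : (q : ℕ) < p + 1
    · exact (UN.mem_Ub b).1 hs p q e'
    have hq := q.2
    have h1 : ent C b s p = 0 := by
      by_cases hp : (p : ℕ) < k
      · exact H p hp
      · rw [h.ent_symm hb hs (j := 2 * k - 2 - p) (by omega)]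
        exact H _ (by omega)
    rw [asb_ent (by omega)] at h1
    rw [show q = ⟨p + 1, by omega⟩ from Fin.ext (show (q : ℕ) = p + 1 by omega)]
    exact h1

/-- the simple root elements -/
theorem ent_rta {i j : Fin (2 * k)} (e : (i : ℕ) + j + 2 = 2 * k) (hi : (i : ℕ) < k) (c : F) {l : ℕ}
    (hl : l < k) : ent C b (rta C b i j c) l = if l = i then c else 0 := by
  have k3 := (h.bas_rank hb).2
  have ri := Fin.val_rev i
  have rj := Fin.val_rev j
  rw [asb_ent (by omega), h.rta_app hb fun k => by have := congrArg Fin.val k; omega]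
  by_cases e1 : i = j
  · subst e1
    rw [if_pos rfl]
    simp only [map_smul, Basis.repr_self, Finsupp.smul_apply, Finsupp.single_apply, smul_eq_mul, Fin.ext_iff, ri]
    split_ifs <;> first | omega | simp
  · have e2 : (i : ℕ) ≠ j := fun k => e1 (Fin.ext k)
    rw [if_neg e1]
    simp only [map_add, map_smul, Basis.repr_self, Finsupp.add_apply, Finsupp.smul_apply, Finsupp.single_apply,
      smul_eq_mul, Fin.ext_iff, ri, rj]
    split_ifs <;> first | omega | simp

theorem exists_ent {i : ℕ} (hi : i < k) (c : F) :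
    ∃ s ∈ Ub C b, ∀ l < k, ent C b s l = if l = i then c else 0 :=
  ⟨rta C b ⟨i, by omega⟩ ⟨2 * k - 2 - i, by omega⟩ c,
    (h.rta_mem_D hb one_pos (by simp only; omega) c).1,
    fun _ hl => h.ent_rta hb (by simp only; omega) hi c hl⟩

theorem ent_conj (hs : s ∈ normalizer (Ub C b : Set S)) :
    ∃ μ : ℕ → F, ∀ u ∈ Ub C b, ∀ i, ent C b (s * u * s⁻¹) i = μ i * ent C b u i := by
  refine ⟨fun i => if hi : i + 1 < 2 * k then b.repr (C.act s (b ⟨i, by omega⟩)) ⟨i, by omega⟩ *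
    b.repr (C.act s⁻¹ (b ⟨i + 1, hi⟩)) ⟨i + 1, hi⟩ else 0, fun u hu i => ?_⟩
  by_cases hi : i + 1 < 2 * k
  · rw [asb_conj (h.norm_flag hb hs) hu hi]
    simp only [dif_pos hi]
  · simp [ent, hi]

theorem exists_torB {μ : ℕ → F} (hμ : ∀ i < k, μ i ≠ 0) : ∃ s ∈ normalizer (Ub C b : Set S),
    ∀ u ∈ Ub C b, ∀ i < k, ent C b (s * u * s⁻¹) i = μ i * ent C b u i := by
  have k3 := (h.bas_rank hb).2
  obtain ⟨r, hr⟩ := h.exists_sqrt (μ (k - 1))
  have r0 : r ≠ 0 := fun e => hμ (k - 1) (by omega) (by rw [← hr, e, mul_zero])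
  obtain ⟨ν, hν⟩ : ∃ ν : ℕ → F, ∀ i, ν i = r * ∏ j ∈ Finset.Ico i (k - 1), μ j := ⟨_, fun _ => rfl⟩
  have ν0 : ∀ i, ν i ≠ 0 := fun i => by
    rw [hν]
    exact mul_ne_zero r0 (Finset.prod_ne_zero_iff.2 fun j hj => hμ j (by
      have := (Finset.mem_Ico.1 hj).2; omega))
  obtain ⟨lam, hl⟩ : ∃ lam : ℕ → F, ∀ i, lam i = if i < k then ν i else (ν (2 * k - (i + 1)))⁻¹ :=
    ⟨_, fun _ => rfl⟩
  have l0 : ∀ i, lam i ≠ 0 := fun i => by
    rw [hl]
    split_ifs
    exacts [ν0 _, inv_ne_zero (ν0 _)]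
  obtain ⟨s, hs, e⟩ := h.exists_diag_bas hb (μ := fun i => lam i) fun i => by
    have := i.2
    rw [Fin.val_rev, hl, hl]
    by_cases hi : (i : ℕ) < k
    · rw [if_pos hi, if_neg (by omega), show 2 * k - (2 * k - (i + 1) + 1) = i by omega,
        mul_inv_cancel₀ (ν0 _)]
    · rw [if_neg hi, if_pos (by omega), inv_mul_cancel₀ (ν0 _)]
  refine ⟨s, hs, fun u hu i hi => ?_⟩
  rw [asb_conj (h.norm_flag hb hs) hu (by omega), e,
    C.inv_apply_eq (x := (lam (i + 1))⁻¹ • b ⟨i + 1, by omega⟩) (by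
      rw [map_smul, e, smul_smul, inv_mul_cancel₀ (l0 _), one_smul])]
  simp only [map_smul, Basis.repr_self, Finsupp.smul_apply, Finsupp.single_eq_same, smul_eq_mul, mul_one]
  congr 1
  rw [hl, hl, if_pos hi]
  by_cases e' : i + 1 < k
  · rw [if_pos e', mul_inv_eq_iff_eq_mul₀ (ν0 _), hν, hν, Finset.prod_eq_prod_Ico_succ_bot (by omega)]
    ring
  · obtain rfl : i = k - 1 := by omega
    rw [if_neg e', inv_inv, show 2 * k - (k - 1 + 1 + 1) = k - 1 by omega, hν, Finset.Ico_self,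
      Finset.prod_empty, mul_one, hr]

theorem asb_perp {i j : Fin (2 * k)} (e : (i : ℕ) + j + 1 ≠ 2 * k) : P.B (b i) (b j) = 0 := by
  rw [hb, if_neg fun k => e (by have := congrArg Fin.val k; have := Fin.val_rev i; omega)]

theorem asb_key {i j : Fin (2 * k)} (lt : (i : ℕ) < j) (e : (i : ℕ) + j + 2 < 2 * k) (r c : F) :
    C.T (b i) ((r * c) • b j) (if (j : ℕ) = i + 1 then r * r * c else 0) ∈ ⁅Ub C b, Ub C b⁆ := by
  obtain ⟨p, hp⟩ : ∃ p : Fin (2 * k), (p : ℕ) = i + 1 := ⟨⟨i + 1, by omega⟩, rfl⟩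
  have rp := Fin.val_rev p
  have rj := Fin.val_rev j
  have ne : j ≠ p.rev := fun k => by have := congrArg Fin.val k; omega
  have hg := (h.rta_mem_D hb (i := p) (j := j) one_pos (by omega) c).1
  have hx := (h.rta_mem_D hb (i := i) (j := p.rev) one_pos (by omega) r).1
  rw [rta, if_neg fun k => by have := congrArg Fin.val k; omega] at hx
  have k1 : P.B (b i) (r • b p.rev) = 0 := by rw [P.B_smul_right, h.asb_perp hb (by omega), mul_zero]
  have k2 : P.B (b i) ((r * c) • b j) = 0 := by rw [P.B_smul_right, h.asb_perp hb (by omega), mul_zero]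
  have g1 : C.act (rta C b p j c) (b i) = b i := by
    rw [UN.SB.act_eq, h.rta_app hb ne, Basis.repr_self, Finsupp.single_eq_of_ne (fun k => by
      have := congrArg Fin.val k; omega), Finsupp.single_eq_of_ne fun k => by
      have := congrArg Fin.val k; omega]
    simp
  have g2 : C.act (rta C b p j c) (r • b p.rev) = r • b p.rev + (r * c) • b j := by
    rw [map_smul, UN.SB.act_eq, h.rta_app hb ne, Basis.repr_self, Finsupp.single_eq_same]
    split_ifs with e1
    · rw [← e1]; module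
    · rw [Finsupp.single_eq_of_ne fun k => e1 (Fin.rev_injective k).symm]
      module
  have := commutator_mem_commutator hg hx
  rw [commutatorElement_def, h.T_conj _ k1, g1, g2, inv_eq_of_mul_eq_one_right (h.T_sq k1 0),
    h.T_mul (by rw [P.B_add_right, k1, k2, add_zero]) k1, add_right_comm, h.vadd_self, zero_add,
    P.B_add_left, h.B_self, h.B_smul_left, P.B_smul_right, hb] at this
  convert this using 2
  by_cases e1 : (j : ℕ) = i + 1
  · rw [if_pos e1, if_pos (Fin.ext (by omega))]; ring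
  · rw [if_neg e1, if_neg fun k => by have := congrArg Fin.val k; omega]; ring

theorem der (hq : ¬ Small F) : ⁅Ub C b, Ub C b⁆ = D C b 2 := by
  refine le_antisymm (commutator_le.2 fun a ha a' ha' => D_comm_succ ha (UN.SB.D_one.ge ha')) ?_
  obtain ⟨l, l0, l1⟩ := h.exists_big hq
  have l2 : 1 + l ≠ 0 := fun e => l1 (h.eq_of_add e).symm
  have hz : ∀ i : Fin (2 * k), (i : ℕ) + i + 2 < 2 * k → ∀ c, C.T (b i) 0 c ∈ ⁅Ub C b, Ub C b⁆ :=
    fun i e c => by
      obtain ⟨j, hj⟩ : ∃ j : Fin (2 * k), (j : ℕ) = i + 1 := ⟨⟨i + 1, by omega⟩, rfl⟩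
      have k1 : ∀ d : F, P.B (b i) (d • b j) = 0 := fun d => by
        rw [P.B_smul_right, h.asb_perp hb (by omega), mul_zero]
      have := mul_mem (h.asb_key hb (i := i) (j := j) (by omega) (by omega) 1 (c / (1 + l)))
        (h.asb_key hb (i := i) (j := j) (by omega) (by omega) l (c / (1 + l) / l))
      rw [if_pos hj, if_pos hj, mul_div_cancel₀ _ l0, one_mul, h.T_mul (k1 _) (k1 _), h.vadd_self,
        h.B_self] at this
      convert this using 2
      field_simp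
      ring
  have hx : ∀ i j : Fin (2 * k), (i : ℕ) < j → (i : ℕ) + j + 2 < 2 * k → ∀ c,
      rta C b i j c ∈ ⁅Ub C b, Ub C b⁆ := fun i j lt e c => by
    rw [rta, if_neg fun k => by have := congrArg Fin.val k; omega]
    have := h.asb_key hb lt e 1 c
    rw [one_mul, one_mul, one_mul] at this
    split_ifs at this with e1
    · have := mul_mem this (hz i (by omega) c)
      rwa [h.T_mul (by rw [P.B_smul_right, h.asb_perp hb (by omega), mul_zero]) (map_zero _), add_zero,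
        map_zero, add_zero, h.add_self] at this
    · exact this
  refine h.gen_D hb two_pos fun i j e c => ?_
  rcases lt_trichotomy (i : ℕ) j with lt | e1 | lt
  · exact hx i j lt e c
  · obtain rfl : i = j := Fin.ext e1
    rw [rta, if_pos rfl]
    exact hz i e c
  · rw [h.rta_symm hb fun k => by have := congrArg Fin.val k; have := Fin.val_rev i; omega]
    exact hx j i lt (by omega) c

theorem fpf (hq : ¬ Small F) {H : Subgroup S}
    (hH : ∀ l ∈ normalizer (Ub C b : Set S), ∀ u ∈ Ub C b, l * u * l⁻¹ * u⁻¹ ∈ H) : Ub C b ≤ H := by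
  obtain ⟨l, l0, l1⟩ := h.exists_big hq
  refine UN.SB.D_one.ge.trans (h.gen_D hb one_pos fun i j e c => ?_)
  have ri := Fin.val_rev i
  have ne : j ≠ i.rev := fun k => by have := congrArg Fin.val k; omega
  have ni : i.rev ≠ i := fun k => by have := congrArg Fin.val k; omega
  obtain ⟨μ, hμ⟩ : ∃ μ : Fin (2 * k) → F, ∀ p, μ p = if p = i then l else if p = i.rev then l⁻¹ else 1 :=
    ⟨_, fun _ => rfl⟩
  obtain ⟨s, hs, e1⟩ := h.exists_diag_bas hb (μ := μ) fun p => by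
    rw [hμ, hμ]
    by_cases a1 : p = i
    · rw [if_pos a1, a1, if_neg ni, if_pos rfl, mul_inv_cancel₀ l0]
    by_cases a2 : p = i.rev
    · rw [if_neg a1, if_pos a2, a2, Fin.rev_rev, if_pos rfl, inv_mul_cancel₀ l0]
    · rw [if_neg a1, if_neg a2, if_neg fun k => a2 (by rw [← k, Fin.rev_rev]),
        if_neg fun k => a1 (Fin.rev_injective k), mul_one]
  have m1 : μ i * μ j - 1 ≠ 0 := by
    rw [hμ, hμ, if_pos rfl, if_neg ne, sub_ne_zero]
    split_ifs
    · exact fun k => l1 (h.sq_inj (k.trans (mul_one 1).symm))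
    · rwa [mul_one]
  have := hH s hs _ (h.rta_mem_D hb one_pos e (c / (μ i * μ j - 1))).1
  rwa [h.diag_rta hb e1 ne, show μ i * μ j * (c / (μ i * μ j - 1)) = c + c / (μ i * μ j - 1) by
    field_simp; ring, h.rta_add hb ne, mul_inv_cancel_right] at this

theorem asb_K {i j : ℕ} (hi : i < k) (hj : j < k) (e : i ≠ j) {α β : F} (H : Ub C b ≤ asbK C b i j α β) :
    α = 0 ∧ β = 0 := by
  obtain ⟨r, hr, e1⟩ := h.exists_ent hb hi 1
  obtain ⟨r', hr', e2⟩ := h.exists_ent hb hj 1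
  have a1 := (H hr).2
  have a2 := (H hr').2
  rw [e1 i hi, e1 j hj, if_pos rfl, if_neg e.symm] at a1
  rw [e2 i hi, e2 j hj, if_pos rfl, if_neg e] at a2
  exact ⟨by linear_combination a2, by linear_combination -a1⟩

theorem asb_step {B B' : Subgroup S} (hB : B ≤ Ub C b) (hB' : B' ≤ Ub C b)
    (h1 : B ≤ centralizer (B' : Set S)) (h2 : Ub C b ≤ B ⊔ B') {i : ℕ} (hi : i + 1 < k) :
    (∀ u ∈ B, ent C b u i = 0 ∧ ent C b u (i + 1) = 0) ∨
      ∀ u ∈ B', ent C b u i = 0 ∧ ent C b u (i + 1) = 0 := by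
  have cm : ∀ u ∈ B, ∀ v ∈ B', ent C b u i * ent C b v (i + 1) = ent C b v i * ent C b u (i + 1) :=
    fun u hu v hv => ent_comm (hB hu) (hB' hv) (mem_centralizer_iff.1 (h1 hu) v hv).symm (by omega)
  refine or_iff_not_imp_right.2 fun k1 u hu => ?_
  push Not at k1
  obtain ⟨v, hv, k1⟩ := k1
  refine h.asb_K hb (by omega) hi (Nat.succ_ne_self i).symm (h2.trans (sup_le (fun w hw => ⟨hB hw, ?_⟩)
    fun w hw => ⟨hB' hw, cm u hu w hw⟩))
  have a1 := cm u hu v hv
  have a2 := cm w hw v hv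
  by_cases a3 : ent C b v i = 0
  · refine mul_right_cancel₀ (k1 a3) ?_
    rw [a3] at a1 a2
    linear_combination ent C b w (i + 1) * a1 - ent C b u (i + 1) * a2
  · refine mul_right_cancel₀ a3 ?_
    linear_combination ent C b w i * a1 - ent C b u i * a2

theorem asb_ci (hq : ¬ Small F) {B B' : Subgroup S} (hB : B ≤ Ub C b) (hB' : B' ≤ Ub C b)
    (h1 : B ≤ centralizer (B' : Set S)) (h2 : Ub C b ≤ B ⊔ B') (h0 : ∀ u ∈ B, ent C b u 0 = 0) :
    B ≤ centralizer (Ub C b : Set S) := by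
  have key : ∀ i < k, ∀ u ∈ B, ent C b u i = 0 := fun i => by
    induction i with
    | zero => exact fun _ => h0
    | succ i ih =>
      intro hi
      rcases h.asb_step hb hB hB' h1 h2 hi with k1 | k1
      · exact fun u hu => (k1 u hu).2
      · refine absurd (h.asb_K hb (by omega) hi (Nat.succ_ne_self i).symm (α := 0) (β := 1)
          (h2.trans (sup_le (fun w hw => ⟨hB hw, ?_⟩) fun w hw => ⟨hB' hw, ?_⟩))).2 one_ne_zero
        · rw [ih (by omega) w hw, zero_mul, zero_mul]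
        · rw [(k1 w hw).1, zero_mul, zero_mul]
  have h3 : B ≤ ⁅Ub C b, Ub C b⁆ := fun u hu =>
    (h.der hb hq).ge ((h.mem_D2 hb (hB hu)).2 fun i hi => key i hi u hu)
  exact h1.trans (centralizer_le (asb_frat (h.Ub_two hb) hB'
    (h2.trans (sup_le (h3.trans le_sup_right) le_sup_left))))

theorem side4 (hq : ¬ Small F) : SLF.Side4 (Ub C b) := by
  have k3 := (h.bas_rank hb).2
  refine ⟨?_, fun B hB B' hB' h1 h2 => ?_, fun s hs => ?_⟩
  · obtain ⟨r, hr, e1⟩ := h.exists_ent hb (i := 0) (by omega) 1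
    obtain ⟨r', hr', e2⟩ := h.exists_ent hb (i := 1) (by omega) 1
    refine ⟨r, hr, r', hr', fun e => ?_⟩
    have := ent_comm hr hr' e (i := 0) (by omega)
    rw [e1 _ (by omega), e1 _ (by omega), e2 _ (by omega), e2 _ (by omega)] at this
    simp at this
  · refine (h.asb_step hb hB hB' h1 h2 (i := 0) (by omega)).imp (fun k1 => ?_) fun k1 => ?_
    · exact h.asb_ci hb hq hB hB' h1 h2 fun u hu => (k1 u hu).1
    · exact h.asb_ci hb hq hB' hB (le_centralizer_iff.1 h1) (h2.trans (sup_comm _ _).le)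
        fun u hu => (k1 u hu).1
  · refine (h.der hb hq).ge ((h.mem_D2 hb hs.1).2 fun i hi => ?_)
    by_cases e : i + 1 < k
    · obtain ⟨r, hr, e1⟩ := h.exists_ent hb e 1
      have := ent_comm hr hs.1 (mem_centralizer_iff.1 hs.2 r hr) (i := i) (by omega)
      rw [e1 _ hi, e1 _ e] at this
      simpa using this.symm
    · obtain ⟨j, rfl⟩ : ∃ j, i = j + 1 := ⟨i - 1, by omega⟩
      obtain ⟨r, hr, e1⟩ := h.exists_ent hb (i := j) (by omega) 1
      have := ent_comm hr hs.1 (mem_centralizer_iff.1 hs.2 r hr) (i := j) (by omega)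
      rw [e1 _ hi, e1 _ (by omega)] at this
      simpa using this

end Mod

end CfsgLib.SP4
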