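import Cfsg.Agent.Lib.SP4.AYwB

/-! The hat of Q_e is self-centralising in the strong sense -/

set_option autoImplicit false
set_option linter.unusedSectionVars false

namespace CfsgLib.SP4

open Subgroup Module CfsgLib.Forms CfsgLib.LieMult
open CfsgLib.HX (Std CO Two Mv M2)
open CfsgLib.UN (AV SI TI HH Rad Stb Yg Rg Eg Act nu)
open CfsgLib.ClSys (II)
open Submodule (span)
open scoped commutatorElement Pointwise
open CfsgLib.HX (QA)

universe u

variable {F : Type} [Field F] [Finite F] {V : Type} [AddCommGroup V] [Module F V]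
  [FiniteDimensional F V] {P : PQ (RingHom.id F) V} {S : Type} [Group S] [Finite S] {G : Type u}
  [Group G] [Finite G] {C : CG P S} {φ : S →* G} {t : G}

namespace HA

variable {w : V → V → G} {y : V → F → G} {δ : F} (h : HA C φ t w y δ) {e : V} {g : G}
include h

theorem aywc_one (e : V) : ab0N C φ w y e 0 0 0 0 = 1 := by rw [← h.ab0_z, h.z_zero]

theorem aywc_sq {a b : V} (k : P.B e a = 0) (k' : P.B e b = 0) (r s : F) :
    ab0N C φ w y e a b r s * ab0N C φ w y e a b r s = 1 := by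
  rw [h.ab0_mul k k' k k', h.vadd_self, h.vadd_self, h.B_self, h.B_self, h.add_self r, h.add_self s, mul_zero,
    add_zero, add_zero, h.aywc_one]

theorem mem_QH : g ∈ QH C φ w y e ↔ ∃ a b r s, P.B e a = 0 ∧ P.B e b = 0 ∧ g = ab0N C φ w y e a b r s := by
  refine ⟨fun hg => ?_, fun hg => subset_closure hg⟩
  induction hg using closure_induction with
  | mem x hx => exact hx
  | one => exact ⟨0, 0, 0, 0, by simp, by simp, (h.aywc_one e).symm⟩
  | mul x x' _ _ hx hx' =>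
    obtain ⟨a, b, r, s, k1, k2, rfl⟩ := hx
    obtain ⟨a', b', r', s', k3, k4, rfl⟩ := hx'
    exact ⟨_, _, _, _, by simp [k1, k3], by simp [k2, k4], h.ab0_mul k1 k2 k3 k4 r s r' s'⟩
  | inv x _ hx =>
    obtain ⟨a, b, r, s, k1, k2, rfl⟩ := hx
    exact ⟨a, b, r, s, k1, k2, ab0_inv (h.aywc_sq k1 k2 r s)⟩

theorem mem_ZA' : g ∈ ZA C φ y e ↔ ∃ s r, g = z C φ e s * y e r := by
  refine ⟨fun hg => ?_, fun ⟨s, r, e1⟩ => e1 ▸ mul_mem (subset_closure ⟨s, Or.inl rfl⟩) (subset_closure ⟨r, Or.inr rfl⟩)⟩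
  induction hg using closure_induction with
  | mem x hx =>
    obtain ⟨s, rfl | rfl⟩ := hx
    · exact ⟨s, 0, by rw [h.y_zero, mul_one]⟩
    · exact ⟨0, s, by rw [h.z_zero, one_mul]⟩
  | one => exact ⟨0, 0, by rw [h.y_zero, h.z_zero, mul_one]⟩
  | mul x x' _ _ hx hx' =>
    obtain ⟨s, r, rfl⟩ := hx
    obtain ⟨s', r', rfl⟩ := hx'
    exact ⟨s + s', r + r', by rw [(h.zy (h.B_self e) s' r).symm.mul_mul_mul_comm, h.z_add, h.yadd]⟩
  | inv x _ hx =>
    obtain ⟨s, r, rfl⟩ := hx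
    exact ⟨s, r, inv_eq_of_mul_eq_one_right (by
      rw [(h.zy (h.B_self e) s r).symm.mul_mul_mul_comm, h.z_sq, h.y_sq, mul_one])⟩

theorem aywc_zy (e : V) (r s : F) : z C φ e r * y e s = ab0N C φ w y e 0 0 r s := by
  rw [ab0N, h.w_zero, mul_one]; rfl

theorem aywc_xw (e a b : V) : x C φ e a * w e b = ab0N C φ w y e a b 0 0 := by
  rw [ab0N, h.y_zero, mul_one]; rfl

/-- conjugation by `t` -/
theorem aywc_t {a b : V} (k : P.B e a = 0) (k' : P.B e b = 0) (r s : F) :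
    t * ab0N C φ w y e a b r s * t⁻¹ = τ C φ e b s * ab0N C φ w y e a b r s := by
  have e1 : t * τ C φ e a r * t⁻¹ = τ C φ e a r := by
    rw [← h.toSit.tL (g := τ C φ e a r) ⟨_, rfl⟩, mul_inv_cancel_right]
  have c1 : Commute (z C φ e s) (w e b) := h.τw k' (b := 0) (by simp) s
  have c2 : Commute (τ C φ e a r) (τ C φ e b s) := h.τ_comm k k' r s
  unfold ab0N
  rw [← conj_mul, ← conj_mul, e1, h.t_w k', h.t_y]
  calc _ = τ C φ e a r * x C φ e b * (w e b * z C φ e s) * y e s := by group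
    _ = τ C φ e a r * (x C φ e b * z C φ e s) * w e b * y e s := by rw [← c1.eq]; group
    _ = _ := by rw [← h.τ_eq k', c2.eq]; group

theorem triv (h0 : e ≠ 0) (h1 : ∀ r s, Commute g (z C φ e r * y e s))
    (h2 : ∀ a b, P.B e a = 0 → P.B e b = 0 →
      ∃ r s, g * (x C φ e a * w e b) * g⁻¹ = x C φ e a * w e b * (z C φ e r * y e s))
    {a b : V} (k : P.B e a = 0) (k' : P.B e b = 0) : Commute g (x C φ e a * w e b) := by
  -- `triv_abs` with W = QH e, Z = ZA e (`t_w`, `t_y`). hat: t ε t⁻¹ = ε gives τ e b s = 1, and w e b * y e s' moves t to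
  -- t τ e b s' (ε = τ e a r w e b y e s with b ∈ ⟨e⟩, s = 0 lies in Q_e; HA2.hat_Q). loc: g ∈ C(t) normalises L, centralises Z_e, so
  -- g = y₀ c (`cz`) normalises Y_e; [g, q] ∈ ZA ∩ L = Z_e (z y s commutes with t only for s = 0); `Sit.cQ_of`, `cQ`:
  -- g = ε c, c = tⁱ o (`Sit.dec`), o is a power of the 2-element g times elements commuting with it, so o = 1
  have mW : ∀ {a b : V} (r s : F), P.B e a = 0 → P.B e b = 0 → ab0N C φ w y e a b r s ∈ QH C φ w y e :=
    fun r s k k' => h.mem_QH.2 ⟨_, _, r, s, k, k', rfl⟩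
  have mτ : ∀ {a : V} (r : F), P.B e a = 0 → τ C φ e a r ∈ QH C φ w y e :=
    fun r k => h.ab0_τ e _ r ▸ mW r 0 k (by simp)
  have mZ : ∀ r s, z C φ e r * y e s ∈ ZA C φ y e := fun r s => h.mem_ZA'.2 ⟨r, s, rfl⟩
  have tz : ∀ r s, t * (z C φ e r * y e s) * t⁻¹ = z C φ e s * (z C φ e r * y e s) := fun r s => by
    rw [h.aywc_zy]; exact h.aywc_t (by simp) (by simp) r s
  have tz0 : ∀ r s, Commute t (z C φ e r * y e s) → s = 0 := fun r s c => by
    have := tz r s
    rw [c.eq, mul_inv_cancel_right, right_eq_mul, h.z_eq_one] at this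
    exact this.resolve_left h0
  have key := triv_abs (W := QH C φ w y e) (Z := ZA C φ y e) (g := g) h.t2 (fun q hq => ?_) (fun q hq => ?_)
    (mem_normalizer_fintype fun q hq => ?_) (mem_normalizer_fintype fun q hq => ?_) (fun hc => ?_)
    (fun ε hε c => ?_) (fun g gt g2 gZ gW => ?_) (fun q hq => ?_) (fun q hq => ?_)
  · rw [h.aywc_xw]
    exact (key _ (mW 0 0 k k')).symm
  · obtain ⟨a, b, r, s, k, k', rfl⟩ := h.mem_QH.1 hq
    exact h.aywc_sq k k' r s
  · obtain ⟨r, s, rfl⟩ := h.mem_ZA'.1 hq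
    exact h.aywc_zy e r s ▸ mW r s (by simp) (by simp)
  · obtain ⟨a, b, r, s, k, k', rfl⟩ := h.mem_QH.1 hq
    rw [h.aywc_t k k']
    exact mul_mem (mτ s k') (mW r s k k')
  · obtain ⟨r, s, rfl⟩ := h.mem_ZA'.1 hq
    rw [tz, ← mul_assoc, ← h.z_add]
    exact mZ _ _
  · exact one_ne_zero (tz0 0 1 (hc _ (mZ 0 1)).symm)
  · obtain ⟨a, b, r, s, k, k', rfl⟩ := h.mem_QH.1 hε
    have e1 := h.aywc_t k k' r s
    rw [c.eq, mul_inv_cancel_right, right_eq_mul, h.τ_eq_one h0 k'] at e1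
    obtain ⟨μ, rfl⟩ := Submodule.mem_span_singleton.1 e1.1
    have e2 := h.aywc_t (a := 0) (by simp) k 0 r
    refine ⟨_, mW 0 r (a := 0) (by simp) k, ?_⟩
    have e3 : ab0N C φ w y e a (μ • e) r s = τ C φ e a r := by
      rw [ab0N, h.w_self, e1.2, h.y_zero, mul_one, mul_one]
    rw [e3, mul_inv_eq_iff_eq_mul, mul_assoc, ← e2, ← mul_assoc, ← mul_assoc, h.t2, one_mul, ab0_inv h.t2]
  · have hg := h.toSit.norm_of gt
    have cz : ∀ r, Commute g (z C φ e r) := fun r => by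
      have := gZ _ (mZ r 0)
      rw [h.y_zero, mul_one] at this
      exact this.symm
    obtain ⟨y₀, hy, c₀, hc₀, e0⟩ := h.toEmb.cz (W := span F {e}) (by simpa using h0) hg fun u hu c => by
      obtain ⟨μ, rfl⟩ := Submodule.mem_span_singleton.1 hu
      rw [h.z_smul]
      exact cz _
    have nY : g ∈ normalizer (Yg C φ (span F {e}) : Set G) := e0 ▸ mul_mem (le_normalizer hy)
      (centralizer_le_normalizer _ (centralizer_le h.toEmb.Y_le_L hc₀))
    have cQ := h.toSit.cQ_of h0 nY fun q hq => by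
      obtain ⟨a, r, k, rfl⟩ := (h.mem_Q h0).1 hq
      obtain ⟨r', s, e1⟩ := h.mem_ZA'.1 (gW _ (mτ r k))
      have m : τ C φ e a r ∈ φ.range := ⟨_, rfl⟩
      have := tz0 r' s (e1 ▸ (h.toSit.tL (mul_mem (UFP.conj_mem hg m) (inv_mem m))).symm)
      rw [e1, this, h.y_zero, mul_one]
      exact h.mem_Z.2 ⟨r', rfl⟩
    obtain ⟨ε, hε, c, hc, rfl⟩ := h.toEmb.cQ h0 hg cQ
    obtain ⟨a, r, k, rfl⟩ := (h.mem_Q h0).1 hε
    have m : τ C φ e a r ∈ φ.range := ⟨_, rfl⟩
    have c1 : Commute (τ C φ e a r) c := hc _ m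
    obtain ⟨n, hn⟩ := UN.two_iff.1 g2
    have c2 : c ^ 2 ^ (n + 1) = 1 := by
      have : (τ C φ e a r * c) ^ 2 ^ (n + 1) = 1 := by rw [pow_succ, pow_mul, hn, one_pow]
      rwa [c1.mul_pow, pow_succ', pow_mul, pow_two, h.τ_sq k, one_pow, one_mul, ← pow_succ'] at this
    rcases h.two' c hc (h.toSit.ct_of m gt) (UN.two_iff.2 ⟨_, c2⟩) with rfl | rfl
    · rw [mul_one]; exact mem_sup_left (mτ r k)
    · exact mul_mem_sup (mτ r k) (mem_zpowers _)
  · obtain ⟨r, s, rfl⟩ := h.mem_ZA'.1 hq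
    exact (h1 r s).symm
  · obtain ⟨a, b, r, s, k, k', rfl⟩ := h.mem_QH.1 hq
    obtain ⟨r', s', e1⟩ := h2 a b k k'
    have e2 : ab0N C φ w y e a b r s = x C φ e a * w e b * (z C φ e r * y e s) := by
      rw [h.aywc_xw, h.aywc_zy, h.ab0_mul k k' (by simp) (by simp)]
      exact ab0_congr (by simp) (by simp) (by simp) (by simp)
    have c1 : Commute (ab0N C φ w y e a b r s) (z C φ e r' * y e s') := by
      change _ = _
      rw [h.aywc_zy, h.ab0_mul k k' (by simp) (by simp), h.ab0_mul (by simp) (by simp) k k']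
      exact ab0_congr (by simp) (by simp) (by simp [add_comm]) (by simp [add_comm])
    have c2 : Commute (z C φ e r' * y e s') (z C φ e r * y e s) := by
      change _ = _
      rw [h.aywc_zy, h.aywc_zy, h.ab0_mul (by simp) (by simp) (by simp) (by simp),
        h.ab0_mul (by simp) (by simp) (by simp) (by simp)]
      exact ab0_congr (by simp) (by simp) (by simp [add_comm]) (by simp [add_comm])
    have e3 : g * ab0N C φ w y e a b r s * g⁻¹ = ab0N C φ w y e a b r s * (z C φ e r' * y e s') := by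
      rw [e2, ← conj_mul, e1, (h1 r s).eq, mul_inv_cancel_right, mul_assoc, c2.eq, ← mul_assoc]
    rw [e3, c1.eq, mul_inv_cancel_right]
    exact mZ _ _

end HA

end CfsgLib.SP4
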