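import Cfsg.Agent.Lib.SP4.AYw0

/-! Coordinates -/

set_option autoImplicit false
set_option linter.unusedSectionVars false

namespace CfsgLib.SP4

open Subgroup Module CfsgLib.Forms CfsgLib.LieMult
open CfsgLib.HX (Std CO Two Mv M2)
open CfsgLib.UN (AV SI TI HH Rad Stb Yg Rg Eg Act nu)
open CfsgLib.ClSys (II)
open Submodule (span)
open scoped commutatorElement Pointwise
open CfsgLib.HX (QA)

universe u

variable {F : Type} [Field F] [Finite F] {V : Type} [AddCommGroup V] [Module F V]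
  [FiniteDimensional F V] {P : PQ (RingHom.id F) V} {S : Type} [Group S] [Finite S] {G : Type u}
  [Group G] [Finite G] {C : CG P S} {φ : S →* G} {t : G}

namespace HA

variable {w : V → V → G} {y : V → F → G} {δ v₀ r₀ : F} (h : HA C φ t w y δ) {e a c : V}
include h

theorem qa_two : (2 : QA F v₀) = 0 := by
  rw [← map_ofNat (algebraMap F (QA F v₀)) 2, h.two, map_zero]

theorem ywd_X (e a : V) (β : QA F v₀) :
    XH C φ w v₀ e a β = ab0N C φ w y e (β.re • a) (β.im • a) 0 0 := by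
  rw [ab0N, h.y_zero, mul_one]; rfl

theorem ywd_Z (e : V) (s : QA F v₀) : ZH C φ y v₀ e s = ab0N C φ w y e 0 0 s.re s.im := by
  rw [ab0N, h.w_zero, mul_one]; rfl

theorem ywd_symm (k : P.B e a = 0) (β : QA F v₀) : XH C φ w v₀ e a β = XH C φ w v₀ a e β := by
  have k' : P.B a e = 0 := by rw [h.B_comm, k]
  rw [XH, XH, h.ab0_wsm k, h.x_symm (e := e) (by simp [k]), h.x_smul k']

theorem XH_add (k : P.B e a = 0) (β β' : QA F v₀) :
    XH C φ w v₀ e a (β + β') = XH C φ w v₀ e a β * XH C φ w v₀ e a β' := by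
  rw [h.ywd_X, h.ywd_X, h.ywd_X, h.ab0_mul]
  · exact ab0_congr (by simp [add_smul]) (by simp [add_smul]) (by simp [h.B_self]) (by simp [h.B_self])
  all_goals simp [k]

theorem ZH_add (e : V) (s s' : QA F v₀) : ZH C φ y v₀ e (s + s') = ZH C φ y v₀ e s * ZH C φ y v₀ e s' := by
  rw [h.ywd_Z, h.ywd_Z, h.ywd_Z, h.ab0_mul]
  · exact ab0_congr (by simp) (by simp) (by simp) (by simp)
  all_goals simp

theorem ZH_sq (e : V) (s : QA F v₀) : ZH C φ y v₀ e s * ZH C φ y v₀ e s = 1 := by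
  rw [ZH, (h.zy (h.B_self e) _ _).symm.mul_mul_mul_comm, h.z_sq, h.y_sq, mul_one]

theorem ZH_inj (h0 : e ≠ 0) {s : QA F v₀} (e1 : ZH C φ y v₀ e s = 1) : s = 0 := by
  have c4 : Commute (z C φ e s.re) t := h.tC _ ⟨_, rfl⟩
  have e2 : t * ZH C φ y v₀ e s * t⁻¹ = z C φ e s.im * ZH C φ y v₀ e s := by
    rw [ZH, ← conj_mul, h.t_y, ← c4.eq, mul_inv_cancel_right, ← mul_assoc, ← mul_assoc,
      (h.z_comm (h.B_self e) _ _).eq]
  rw [e1, mul_one, mul_inv_cancel, mul_one] at e2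
  have e3 : s.im = 0 := (h.z_eq_one.1 e2.symm).resolve_left h0
  rw [ZH, e3, h.y_zero, mul_one] at e1
  exact QuadraticAlgebra.ext ((h.z_eq_one.1 e1).resolve_left h0) e3

theorem XX (k : P.B e a = 0) (k' : P.B e c = 0) (β β' : QA F v₀) :
    Commute (XH C φ w v₀ e a β) (XH C φ w v₀ e c β') := by
  change _ = _
  rw [h.ywd_X, h.ywd_X, h.ab0_mul, h.ab0_mul]
  · exact ab0_congr (add_comm _ _) (add_comm _ _) (by rw [h.B_comm (β.re • a), h.B_comm (β.im • a)])
      (by rw [h.B_comm (β.im • a)])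
  all_goals simp [k, k']

theorem ZX (k : P.B e a = 0) (s β : QA F v₀) : Commute (ZH C φ y v₀ e s) (XH C φ w v₀ e a β) := by
  change _ = _
  rw [h.ywd_X, h.ywd_Z, h.ab0_mul, h.ab0_mul]
  · exact ab0_congr (by simp) (by simp) (by simp) (by simp)
  all_goals simp [k]

theorem ZX' (k : P.B e a = 0) (s β : QA F v₀) : Commute (ZH C φ y v₀ a s) (XH C φ w v₀ e a β) := by
  rw [h.ywd_symm k]
  exact h.ZX (by rw [h.B_comm, k]) s β

theorem ZZ (k : P.B e a = 0) (s s' : QA F v₀) : Commute (ZH C φ y v₀ a s) (ZH C φ y v₀ e s') := by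
  have k' : P.B a e = 0 := by rw [h.B_comm, k]
  exact ((h.z_comm k' _ _).mul_right (h.zy k' _ _)).mul_left ((h.zy k _ _).symm.mul_right (h.yy k' _ _))

theorem RA (H : YwR C φ w y δ v₀ r₀) (k1 : P.B e a = 0) (k2 : P.B e c = 0) (k3 : P.B c a = 1) (s β : QA F v₀) :
    ZH C φ y v₀ a s * XH C φ w v₀ e c β * ZH C φ y v₀ a s = XH C φ w v₀ e c β * XH C φ w v₀ e a (s * β) *
      ZH C φ y v₀ e (s * β * β + (β.im * β.im) • eta δ v₀ r₀ s) := by
  -- `Yx`, H, `Zw`, `z_τ`; normal form ab0N (`ab0_mul`, `ab0_cz`); template: rel_mide in Lib/SP4/ARel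
  have k4 : P.B a c = 1 := by rw [h.B_comm, k3]
  have e1 := h.Yx k1 (c := β.re • c) (by simp [k2]) s.im
  have e2 := H e a (β.im • c) s.im k1 (by simp [k2])
  have e3 : y a s.im * XH C φ w v₀ e c β * y a s.im =
      ab0N C φ w y e (β.re • c + (v₀ * β.im * s.im) • a) (β.im • c + (β.re * s.im + β.im * s.im) • a)
        (δ * β.re * s.im * β.im + δ * β.im * β.im * s.im + β.re * v₀ * β.im * s.im + r₀ * β.im * β.im * s.im)
        (β.re * β.re * s.im + β.re * s.im * β.im + δ * β.im * β.im * s.im) := by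
    rw [XH, ab0_conj (h.y_sq a _), e1, e2, h.ab0_x e (β.re • c), h.ab0_w e (β.im • c), h.ab0_w e (_ • a),
      h.ab0_w e (_ • a), h.ab0_x e (_ • a), h.ab0_y e, h.ab0_y e, h.ab0_z e, h.ab0_mul, h.ab0_mul, h.ab0_mul,
      h.ab0_mul, h.ab0_mul, h.ab0_mul, h.ab0_mul]
    · refine ab0_congr (by simp [k3]) ?_ ?_ ?_
      · simp [k3]
        module
      · simp [k3, k4, h.B_self]
        ring
      · simp [k3, k4, h.B_self]
        linear_combination (β.im * β.im * s.im) * h.two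
    all_goals simp [k1, k2]
  have e4 : ZH C φ y v₀ a s * XH C φ w v₀ e c β * ZH C φ y v₀ a s =
      z C φ a s.re * (y a s.im * XH C φ w v₀ e c β * y a s.im) * z C φ a s.re := by
    conv_lhs => rw [ZH]; enter [2]; rw [(h.zy (h.B_self a) _ _).eq]
    simp only [mul_assoc]
  rw [e4, e3, h.ab0_cz k1, h.ywd_X, h.ywd_X, h.ywd_Z, h.ab0_mul, h.ab0_mul]
  · refine ab0_congr ?_ ?_ ?_ ?_
    · simp [k4, h.B_self]
      module
    · simp [k4, h.B_self]
      module
    · simp [k3, eta]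
      linear_combination (-(s.re * β.re * β.re + v₀ * s.im * β.im * β.re + δ * s.re * β.im * β.im +
        v₀ * s.re * β.im * β.im + v₀ * s.im * β.im * β.im)) * h.two
    · simp [k3, eta]
      linear_combination (-(s.re * β.im * β.im + s.im * β.re * β.im + s.im * β.im * β.im + s.re * β.re * β.im +
        v₀ * s.im * β.im * β.im)) * h.two
  all_goals simp [k1, k2]

/-- every `x e a' * w e b'` in coordinates -/
theorem coord (h0 : e ≠ 0) (k1 : P.B e a = 0) (k2 : P.B e c = 0) (k3 : P.B c a = 1) {a' b' : V}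
    (k4 : P.B e a' = 0) (k5 : P.B e b' = 0) : ∃ β₁ β₂ ζ : QA F v₀,
      x C φ e a' * w e b' = XH C φ w v₀ e a β₁ * XH C φ w v₀ e c β₂ * ZH C φ y v₀ e ζ := by
  -- a' = α a + γ c + ν e (`Mod.wf_hh`, `hh_eq`), `ab0_mul`, `w_shift`, `T_shift`
  obtain ⟨f, hh⟩ := h.toMod.wf_hh h0 k1 k2 (by rw [h.B_comm, k3])
  have key : ∀ v, P.B e v = 0 → ∃ α γ ν : F, v = α • a + γ • c + ν • e := fun v hv =>
    ⟨P.B c v, P.B a v, P.B f v, by
      have := h.hh_eq hh v
      rw [hv, zero_smul, add_zero] at this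
      rw [add_comm, ← add_assoc]; exact this⟩
  obtain ⟨α, γ, ν, rfl⟩ := key a' k4
  obtain ⟨α', γ', ν', rfl⟩ := key b' k5
  have k6 : P.B a c = 1 := by rw [h.B_comm, k3]
  refine ⟨⟨α, α'⟩, ⟨γ, γ'⟩, ⟨α * γ + δ * (α' * γ'), α' * γ'⟩, ?_⟩
  rw [h.x_shift (by simp [k1, k2]), h.w_shift (by simp [k1, k2]), h.ab0_x e, h.ab0_w e, h.ywd_X, h.ywd_X,
    h.ywd_Z, h.ab0_mul, h.ab0_mul, h.ab0_mul]
  · refine ab0_congr (by simp) (by simp) ?_ ?_
    · simp [k6]
      linear_combination (-(α * γ + δ * (α' * γ'))) * h.two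
    · simp [k6]
      linear_combination (-(α' * γ')) * h.two
  all_goals simp [k1, k2]

end HA

end CfsgLib.SP4
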