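import Cfsg.Agent.Lib.SP4.AYwA
import Cfsg.Agent.Lib.SP4.AYwC
import Cfsg.Agent.Lib.SP4.AYwD

/-! The relation (Yw) -/

set_option autoImplicit false
set_option Elab.async false
set_option linter.unusedSectionVars false

namespace CfsgLib.SP4

open Subgroup Module CfsgLib.Forms CfsgLib.LieMult
open CfsgLib.HX (Std CO Two Mv M2)
open CfsgLib.UN (AV SI TI HH Rad Stb Yg Rg Eg Act nu)
open CfsgLib.ClSys (II)
open Submodule (span)
open scoped commutatorElement Pointwise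
open CfsgLib.HX (QA)

universe u

variable {F : Type} [Field F] [Finite F] {V : Type} [AddCommGroup V] [Module F V]
  [FiniteDimensional F V] {P : PQ (RingHom.id F) V} {S : Type} [Group S] [Finite S] {G : Type u}
  [Group G] [Finite G] {C : CG P S} {φ : S →* G} {t : G}

namespace HA

variable {w : V → V → G} {y : V → F → G} {δ v₀ r₀ : F} (h : HA C φ t w y δ) {e a c : V}
include h

/-- conjugation in coordinates -/
theorem RA3 (H : YwR C φ w y δ v₀ r₀) (k1 : P.B e a = 0) (k2 : P.B e c = 0) (k3 : P.B c a = 1)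
    (s β₁ β₂ ζ : QA F v₀) :
    ZH C φ y v₀ a s * (XH C φ w v₀ e a β₁ * XH C φ w v₀ e c β₂ * ZH C φ y v₀ e ζ) * (ZH C φ y v₀ a s)⁻¹ =
      XH C φ w v₀ e a (β₁ + s * β₂) * XH C φ w v₀ e c β₂ *
        ZH C φ y v₀ e (ζ + s * β₂ * β₂ + (β₂.im * β₂.im) • eta δ v₀ r₀ s) ∧
    ZH C φ y v₀ c s * (XH C φ w v₀ e a β₁ * XH C φ w v₀ e c β₂ * ZH C φ y v₀ e ζ) * (ZH C φ y v₀ c s)⁻¹ =
      XH C φ w v₀ e a β₁ * XH C φ w v₀ e c (β₂ + s * β₁) *
        ZH C φ y v₀ e (ζ + s * β₁ * β₁ + (β₁.im * β₁.im) • eta δ v₀ r₀ s) := by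
  have iv : ∀ (b : V) (s : QA F v₀), (ZH C φ y v₀ b s)⁻¹ = ZH C φ y v₀ b s := fun b s =>
    inv_eq_of_mul_eq_one_right (h.ZH_sq b s)
  have x1 : ∀ {Z A A' B E N : G}, Commute Z A → Commute Z N → Z * B * Z = B * A' * E → Commute A' B →
      Z * (A * B * N) * Z = A * A' * B * (E * N) := fun {Z A A' B E N} c1 c2 r c3 => by
    calc Z * (A * B * N) * Z = Z * A * B * (N * Z) := by group
      _ = A * (Z * B * Z) * N := by rw [c1.eq, ← c2.eq]; group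
      _ = A * (B * A') * (E * N) := by rw [r]; group
      _ = _ := by rw [← c3.eq]; group
  have x2 : ∀ {Z A A' B E N : G}, Commute Z B → Commute Z N → Z * A * Z = A * A' * E → Commute E B →
      Z * (A * B * N) * Z = A * (A' * B) * (E * N) := fun {Z A A' B E N} c1 c2 r c3 => by
    calc Z * (A * B * N) * Z = Z * A * B * (N * Z) := by group
      _ = Z * A * (B * Z) * N := by rw [← c2.eq]; group
      _ = Z * A * Z * B * N := by rw [← c1.eq]; group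
      _ = A * A' * (E * B) * N := by rw [r]; group
      _ = _ := by rw [c3.eq]; group
  constructor
  · rw [iv, add_assoc ζ, add_comm ζ, h.ZH_add _ _ ζ, h.XH_add k1]
    exact x1 (h.ZX' k1 s β₁) (h.ZZ k1 s ζ) (h.RA H k1 k2 k3 s β₂) (h.XX k1 k2 _ _)
  · rw [iv, add_assoc ζ, add_comm ζ, h.ZH_add _ _ ζ, add_comm β₂, h.XH_add k2]
    exact x2 (h.ZX' k2 s β₂) (h.ZZ k2 s ζ) (h.RA H k2 k1 ((h.toMod.B_comm a c).trans k3) s β₁) (h.ZX k2 _ _)

theorem word (H : YwR C φ w y δ v₀ r₀) {u v : QA F v₀} (uv : u * v = 1) :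
    (u.im * u.im) • eta δ v₀ r₀ (v * v) + (v.im * v.im) • eta δ v₀ r₀ u = 0 := by
  -- frame e, a, c; A s = ZH a s, D s = ZH c s, g = A u * D v * A 1 * D v * A u * D (v * v). On (β₁, β₂) (`RA3`, rightmost first):
  -- (β₁, β₂ + v²β₁), (β₁ + uβ₂ + vβ₁, ·), (·, vβ₁), (β₁ + uβ₂, ·), (·, β₂), (β₁, β₂). So `triv` applies (`coord`, `ZZ`).
  -- Evaluate g at (u, 0, 0) (XH e a u = x * w): the ζ-part is v²u² + uv² + v(u+1)² + 1 + vu² = 0 plus the claimed sum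
  -- ((u + 1).im = u.im, (1 : QA).im = 0); `ZH_inj`
  obtain ⟨e, h0⟩ := h.toMod.g2_ne
  obtain ⟨f, hf⟩ := h.toMod.exists_hp h0
  obtain ⟨c, a, hh⟩ := h.toMod.exists_hh hf
  have k1 := hh.ef
  have k2 := hh.ee
  have k3 := h.toMod.hp_iff.1 hh.h₂
  have two := h.qa_two (v₀ := v₀)
  have sA : ∀ (s : QA F v₀) {β₁ β₂ ζ : QA F v₀} (β : QA F v₀) {n : G},
      n = XH C φ w v₀ e a β₁ * XH C φ w v₀ e c β₂ * ZH C φ y v₀ e ζ → β₁ + s * β₂ = β →
      ZH C φ y v₀ a s * n * (ZH C φ y v₀ a s)⁻¹ = XH C φ w v₀ e a β * XH C φ w v₀ e c β₂ *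
        ZH C φ y v₀ e (ζ + s * β₂ * β₂ + (β₂.im * β₂.im) • eta δ v₀ r₀ s) := by
    rintro s β₁ β₂ ζ _ _ rfl rfl
    exact (h.RA3 H k1 k2 k3 s β₁ β₂ ζ).1
  have sD : ∀ (s : QA F v₀) {β₁ β₂ ζ : QA F v₀} (β : QA F v₀) {n : G},
      n = XH C φ w v₀ e a β₁ * XH C φ w v₀ e c β₂ * ZH C φ y v₀ e ζ → β₂ + s * β₁ = β →
      ZH C φ y v₀ c s * n * (ZH C φ y v₀ c s)⁻¹ = XH C φ w v₀ e a β₁ * XH C φ w v₀ e c β *
        ZH C φ y v₀ e (ζ + s * β₁ * β₁ + (β₁.im * β₁.im) • eta δ v₀ r₀ s) := by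
    rintro s β₁ β₂ ζ _ _ rfl rfl
    exact (h.RA3 H k1 k2 k3 s β₁ β₂ ζ).2
  have asc : ∀ g g' n : G, g * (g' * n * g'⁻¹) * g⁻¹ = g * g' * n * (g * g')⁻¹ := fun g g' n => by group
  have key := fun β₁ β₂ ζ : QA F v₀ =>
    sA u β₁ (sD v β₂ (sA 1 (β₁ + u * β₂) (sD v (v * β₁) (sA u (β₁ + u * β₂ + v * β₁)
      (sD (v * v) (β₁ := β₁) (β₂ := β₂) (ζ := ζ) _ rfl rfl) (by linear_combination (v * β₁) * uv))
      (by linear_combination β₂ * uv + (β₂ + v * v * β₁) * two)) (by linear_combination (v * β₁) * two))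
      (by linear_combination (v * β₁) * two + β₂ * uv)) (by linear_combination (u * β₂) * two)
  simp only [asc] at key
  have t1 := h.triv h0 (a := u.re • a) (b := u.im • a) (fun r s => by
      have a1 := fun s' => h.ZZ k1 s' (⟨r, s⟩ : QA F v₀)
      have a2 := fun s' => h.ZZ k2 s' (⟨r, s⟩ : QA F v₀)
      exact (a1 u).mul_left ((a2 v).mul_left ((a1 1).mul_left ((a2 v).mul_left ((a1 u).mul_left (a2 (v * v)))))))
    (fun a' b' k4 k5 => by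
      obtain ⟨β₁, β₂, ζ, e1⟩ := h.coord (v₀ := v₀) h0 k1 k2 k3 k4 k5
      rw [e1, key]
      simp only [add_assoc ζ]
      rw [h.ZH_add, ← mul_assoc]
      exact ⟨_, _, rfl⟩)
    (by rw [P.B_smul_right, k1, mul_zero]) (by rw [P.B_smul_right, k1, mul_zero])
  have x0 : XH C φ w v₀ e c 0 = 1 := by
    have := h.XH_add (v₀ := v₀) k2 0 0
    rw [add_zero] at this
    exact left_eq_mul.1 this
  have z0 : ZH C φ y v₀ e 0 = 1 := by
    have := h.ZH_add (v₀ := v₀) e 0 0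
    rw [add_zero] at this
    exact left_eq_mul.1 this
  have k := key u 0 0
  rw [x0, z0, mul_one, mul_one, show _ * XH C φ w v₀ e a u = _ from t1.eq, mul_inv_cancel_right] at k
  have k' := h.ZH_inj h0 (left_eq_mul.1 k)
  have vu : v * u = 1 := (mul_comm v u).trans uv
  rw [show (0 : QA F v₀) + v * v * u = v by rw [zero_add, mul_assoc, vu, mul_one], mul_zero u, add_zero u, vu,
    QuadraticAlgebra.im_add, QuadraticAlgebra.im_one, QuadraticAlgebra.im_zero, add_zero u.im, mul_zero (0 : F),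
    zero_smul, zero_smul] at k'
  generalize (u.im * u.im) • eta δ v₀ r₀ (v * v) = A at k' ⊢
  generalize (v.im * v.im) • eta δ v₀ r₀ u = B at k' ⊢
  generalize (u.im * u.im) • eta δ v₀ r₀ v = D at k'
  linear_combination k' - (u * v + 3 + v + 2 * u) * uv + u * uv - (D + 2 + v + u) * two

theorem consts (H : YwR C φ w y δ v₀ r₀) : v₀ = δ ∧ r₀ = δ := by
  -- u₁ ∉ {0, 1} (`exists_big'`); u = ⟨0, u₁⟩ if v₀ ≠ 0, ⟨1, u₁⟩ if v₀ = 0; N = u₀² + u₀u₁ + v₀u₁² ≠ 0, v = ⟨(u₀ + u₁) / N, u₁ / N⟩.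
  -- (v * v).im = v.im²; im-part of `word`: (δ + v₀) v₁² u₁ (u₁ + 1) = 0; then the re-part gives r₀ + v₀ = 0
  obtain ⟨u₁, n0, n1⟩ := h.toMod.exists_big'
  have two := h.two
  have n2 : u₁ + 1 ≠ 0 := fun e => n1 (h.toMod.eq_of_add e)
  obtain ⟨u₀, hN⟩ : ∃ u₀, u₀ * u₀ + u₀ * u₁ + v₀ * (u₁ * u₁) ≠ 0 := by
    by_cases hv : v₀ = 0
    · exact ⟨1, by rwa [hv, zero_mul, add_zero, one_mul, one_mul, add_comm]⟩
    · exact ⟨0, by simpa using ⟨hv, n0⟩⟩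
  obtain ⟨m, hm⟩ := (IsUnit.mk0 _ hN).exists_right_inv
  have m0 : m ≠ 0 := right_ne_zero_of_mul_eq_one hm
  have k := h.word H (u := ⟨u₀, u₁⟩) (v := ⟨(u₀ + u₁) * m, u₁ * m⟩) (by
    ext
    · simp only [QuadraticAlgebra.re_mul, QuadraticAlgebra.re_one]
      linear_combination hm
    · simp only [QuadraticAlgebra.im_mul, QuadraticAlgebra.im_one]
      linear_combination (u₀ * u₁ * m + u₁ * u₁ * m) * two)
  have k1 := congrArg QuadraticAlgebra.re k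
  have k2 := congrArg QuadraticAlgebra.im k
  simp only [eta, QuadraticAlgebra.re_add, QuadraticAlgebra.im_add, QuadraticAlgebra.re_smul, QuadraticAlgebra.im_smul,
    QuadraticAlgebra.im_mul, QuadraticAlgebra.re_zero, QuadraticAlgebra.im_zero, smul_eq_mul] at k1 k2
  have nz : u₁ * m * (u₁ * m) * u₁ * (u₁ + 1) ≠ 0 :=
    mul_ne_zero (mul_ne_zero (mul_ne_zero (mul_ne_zero n0 m0) (mul_ne_zero n0 m0)) n0) n2
  have e1 : δ + v₀ = 0 := (mul_eq_zero.1 (show u₁ * m * (u₁ * m) * u₁ * (u₁ + 1) * (δ + v₀) = 0 by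
    linear_combination k2 - (u₁ * u₁ * (δ + v₀) * ((u₀ + u₁) * m) * (u₁ * m)) * two)).resolve_left nz
  rw [e1] at k1
  have e2 : r₀ + v₀ = 0 := (mul_eq_zero.1 (show u₁ * m * (u₁ * m) * u₁ * (u₁ + 1) * (r₀ + v₀) = 0 by
    linear_combination k1 - (u₁ * u₁ * (r₀ + v₀) * ((u₀ + u₁) * m) * (u₁ * m)) * two)).resolve_left nz
  have e3 := h.toMod.eq_of_add e1
  exact ⟨e3.symm, (h.toMod.eq_of_add e2).trans e3.symm⟩

theorem ha2 : HA2 C φ t w y δ := by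
  obtain ⟨v₀, r₀, H⟩ := h.yw1
  obtain ⟨rfl, rfl⟩ := h.consts H
  exact ⟨h, H⟩

end HA

end CfsgLib.SP4
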