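import Cfsg.Agent.Lib.SP4.Nu
import Cfsg.Agent.Lib.SPC.MzA

/-! Elements moving t to t z -/

set_option autoImplicit false
set_option linter.unusedSectionVars false

namespace CfsgLib.SP4

open Subgroup Module CfsgLib.Forms CfsgLib.LieMult
open CfsgLib.HX (Std CO Two Mv M2)
open CfsgLib.UN (AV SI TI HH Rad Stb Yg Rg Eg Act nu)
open CfsgLib.ClSys (II)
open Submodule (span)
open scoped commutatorElement Pointwise

universe u

variable {F : Type} [Field F] [Finite F] {V : Type} [AddCommGroup V] [Module F V]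
  [FiniteDimensional F V] {P : PQ (RingHom.id F) V} {S : Type} [Group S] [Finite S] {G : Type u}
  [Group G] [Finite G] {C : CG P S} {φ : S →* G} {t : G}

theorem Mod.mov_perp (h : Mod C) {e a : V} : a ∈ P.perp (span F {e}) ↔ P.B e a = 0 := by
  rw [h.mem_perp_span]; simp

theorem Mod.mov_B (h : Mod C) {e a u : V} (hu : u ∈ span F {e}) (k : P.B e a = 0) :
    P.B u a = 0 := by
  obtain ⟨c, rfl⟩ := Submodule.mem_span_singleton.1 hu
  rw [h.B_smul_left, k, mul_zero]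

theorem Mod.mov_nmem (h : Mod C) {e a f : V} (k : P.B e f = 0) (k' : P.B a f ≠ 0) :
    a ∉ span F {e} := fun hu => k' (h.mov_B hu k)

theorem Mod.mov_act {s : S} {e a : V} (hs : C.act s e = e) (k : P.B e a = 0) :
    P.B e (C.act s a) = 0 := by rw [← hs, C.B_act, k]

namespace Emb

variable (h : Emb C φ) {e : V} {n : G} {θ : V → V}
include h

theorem mov_congr {a b : V} (k : P.B e a = 0) (H : a + b ∈ span F {e}) (c : F) :
    τ C φ e b c = τ C φ e a c := by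
  obtain ⟨l, hl⟩ := Submodule.mem_span_singleton.1 H
  have : b = a + l • e := by rw [hl, ← add_assoc, h.vadd_self, zero_add]
  rw [this, h.τ_shift k]

theorem mov_Y {s : S} (hs : C.act s e = e) : φ s ∈ Yg C φ (span F {e}) :=
  mem_map_of_mem φ (mem_fix_pt.2 hs)

theorem mov_mem (h0 : e ≠ 0) {a : V} (k : P.B e a = 0) (c : F) :
    τ C φ e a c ∈ Rg C φ (span F {e}) := (h.mem_Q h0).2 ⟨a, c, k, rfl⟩

theorem mov_QL : Rg C φ (span F {e}) ≤ φ.range := h.R_le_Y.trans h.Y_le_L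

theorem mov_conj {s : S} (hs : C.act s e = e) {a : V} (k : P.B e a = 0) (c : F) :
    φ s * τ C φ e a c * (φ s)⁻¹ = τ C φ e (C.act s a) c := by rw [h.τ_conj s k, hs]

theorem mov_exists (h0 : e ≠ 0) (h1 : n ∈ normalizer (Rg C φ (span F {e}) : Set G))
    (h2 : n ∈ normalizer (Eg C φ (span F {e}) : Set G)) : ∃ θ, SPC.MzQ C φ e n θ := by
  have H : ∀ a, ∃ b, P.B e a = 0 → P.B e b = 0 ∧
      ∀ c, ∃ c', n * τ C φ e a c * n⁻¹ = τ C φ e b c' := by
    intro a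
    by_cases k : P.B e a = 0
    · obtain ⟨b, d, k', e1⟩ := (h.mem_Q h0).1 ((mem_normalizer_iff.1 h1 _).1 (h.mov_mem h0 k 0))
      refine ⟨b, fun _ => ⟨k', fun c => ?_⟩⟩
      obtain ⟨r, e2⟩ := h.mem_Z.1 ((mem_normalizer_iff.1 h2 _).1 (h.mem_Z.2 ⟨c, rfl⟩))
      refine ⟨d + r + P.B b 0, ?_⟩
      have e3 := h.τ_mul k' (b := 0) (by simp) d r
      rw [add_zero] at e3
      rw [← e3, ← e1, h.τ_eq k c]
      calc n * (x C φ e a * z C φ e c) * n⁻¹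
          = n * x C φ e a * n⁻¹ * (n * z C φ e c * n⁻¹) := by group
        _ = _ := by rw [e2]; rfl
    · exact ⟨0, fun k' => absurd k' k⟩
  choose θ hθ using H
  exact ⟨θ, fun a k => (hθ a k).1, fun a c k => (hθ a k).2 c⟩

theorem mov_add (h0 : e ≠ 0) (q : SPC.MzQ C φ e n θ) {a b : V} (k : P.B e a = 0) (k' : P.B e b = 0) :
    θ (a + b) + θ a + θ b ∈ span F {e} := by
  have k'' : P.B e (a + b) = 0 := by rw [P.B_add_right, k, k', add_zero]
  obtain ⟨c, e1⟩ := q.act a 0 k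
  obtain ⟨d, e2⟩ := q.act b 0 k'
  obtain ⟨r, e3⟩ := q.act (a + b) (0 + 0 + P.B a b) k''
  rw [← h.τ_mul k k'] at e3
  have e4 : τ C φ e (θ (a + b)) r = τ C φ e (θ a) c * τ C φ e (θ b) d := by
    rw [← e1, ← e2, ← e3]; group
  rw [h.τ_mul (q.perp a k) (q.perp b k'), h.τ_eq_iff h0 (q.perp _ k'')
    (by rw [P.B_add_right, q.perp a k, q.perp b k', add_zero])] at e4
  rw [add_assoc]; exact e4.1

theorem mov_zero (h0 : e ≠ 0) (q : SPC.MzQ C φ e n θ) {a : V} (ha : a ∈ span F {e}) :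
    θ a ∈ span F {e} := by
  have k : P.B e a = 0 := by rw [h.B_comm]; exact h.mov_B ha (h.B_self e)
  obtain ⟨c, e1⟩ := q.act a 0 k
  rw [(h.τ_eq_one h0 k).2 ⟨ha, rfl⟩, mul_one, mul_inv_cancel] at e1
  exact ((h.τ_eq_one h0 (q.perp a k)).1 e1.symm).1

/-- the torus centralising `Y_e / Q_e` -/
theorem mov_diag (h0 : e ≠ 0) {l : F} (hl : l ≠ 0) : ∃ d : S,
    (∀ a c, P.B e a = 0 → φ d * τ C φ e a c * (φ d)⁻¹ = τ C φ e (l • a) (l * l * c)) ∧
      ∀ v, C.act d v ∈ span F {e} ↔ v ∈ span F {e} := by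
  obtain ⟨f, hf⟩ := h.exists_hp h0
  obtain ⟨d, -, d1, -, d3⟩ := h.exists_diag1 hf hl
  refine ⟨d, fun a c k => ?_, fun v => ⟨fun hv => ?_, fun hv => ?_⟩⟩
  · obtain ⟨w, w1, w2, w3⟩ := h.hp_decomp hf a
    rw [k, zero_smul, add_zero] at w3
    have k1 : P.B e (C.act d a) = 0 := by
      have := C.B_act d e a
      rw [d1, h.B_smul_left, k] at this
      exact (mul_eq_zero.1 this).resolve_left hl
    rw [h.τ_conj d k, d1, h.τ_smul k1]
    refine h.mov_congr (by rw [P.B_smul_right, k, mul_zero]) ?_ _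
    have e1 : C.act d a = w + (P.B f a * l) • e := by
      conv_lhs => rw [w3, map_add, map_smul, d3 w w1 w2, d1, smul_smul]
    rw [← smul_add, e1]
    refine Submodule.smul_mem _ _ (Submodule.mem_span_singleton.2 ⟨P.B f a + P.B f a * l, ?_⟩)
    conv_rhs => rw [w3]
    rw [← w3, add_smul]
    conv_rhs => rw [w3]
    rw [← w3]
    calc P.B f a • e + (P.B f a * l) • e = (w + w) + (P.B f a • e + (P.B f a * l) • e) := by
          rw [h.vadd_self, zero_add]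
      _ = (w + P.B f a • e) + (w + (P.B f a * l) • e) := by abel
      _ = _ := by rw [← w3]
  · obtain ⟨c, hc⟩ := Submodule.mem_span_singleton.1 hv
    refine Submodule.mem_span_singleton.2 ⟨c * l⁻¹, (C.act d).injective ?_⟩
    rw [map_smul, d1, smul_smul, ← hc, mul_assoc, inv_mul_cancel₀ hl, mul_one]
  · obtain ⟨c, rfl⟩ := Submodule.mem_span_singleton.1 hv
    rw [map_smul, d1]
    exact Submodule.smul_mem _ _ (Submodule.smul_mem _ _ (Submodule.mem_span_singleton_self e))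

theorem mov_nY (hn : n ∈ normalizer (Yg C φ (span F {e}) : Set G)) {s : S} (hs : C.act s e = e) :
    ∃ s', C.act s' e = e ∧ ∀ g : G,
      n * (φ s * g * (φ s)⁻¹) * n⁻¹ = φ s' * (n * g * n⁻¹) * (φ s')⁻¹ := by
  obtain ⟨s', h1, h2⟩ := (mem_normalizer_iff.1 hn _).1 (h.mov_Y hs)
  exact ⟨s', mem_fix_pt.1 h1, fun g => by rw [h2]; group⟩

theorem mov_normY {U : Submodule F V} {d : S} (hd : ∀ v, C.act d v ∈ U ↔ v ∈ U) :
    φ d ∈ normalizer (Yg C φ U : Set G) :=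
  mem_normalizer_fintype fun _ hg => (h.conj_Y d hd).1.2 hg

end Emb

namespace Sit

variable (h : Sit C φ t) {e : V} {p : G}
include h

theorem mov_norm {U : Submodule F V} {d : S} (hd : ∀ v, C.act d v ∈ U ↔ v ∈ U) :
    φ d ∈ normalizer ((Yg C φ U ⊔ zpowers t : Subgroup G) : Set G) := by
  have hE := h.toEmb
  refine mem_normalizer_fintype fun g hg => ?_
  rcases (h.mem_sup_t hE.Y_le_L).1 hg with k | k
  · exact mem_sup_left ((hE.conj_Y d hd).1.2 k)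
  · refine (h.mem_sup_t hE.Y_le_L).2 (Or.inr ?_)
    have := (hE.conj_Y d hd).1.2 k
    rwa [← mul_assoc, h.tl d, mul_assoc t, mul_assoc t] at this

/-- trivial on `Q_e / Z_e` implies trivial on `Q_e` -/
theorem cQ_of (h0 : e ≠ 0) (hn : p ∈ normalizer (Yg C φ (span F {e}) : Set G))
    (h1 : ∀ r ∈ Rg C φ (span F {e}), p * r * p⁻¹ * r⁻¹ ∈ Eg C φ (span F {e})) :
    p ∈ centralizer (Rg C φ (span F {e}) : Set G) := by
  have hE := h.toEmb
  have T : ∀ a, ∃ c', P.B e a = 0 → p * τ C φ e a 0 * p⁻¹ = τ C φ e a c' := by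
    intro a
    by_cases k : P.B e a = 0
    · obtain ⟨r, hr⟩ := hE.mem_Z.1 (h1 _ (hE.mov_mem h0 k 0))
      refine ⟨r + 0 + P.B 0 a, fun _ => ?_⟩
      have e3 := hE.τ_mul (e := e) (a := 0) (by simp) k r 0
      rw [zero_add] at e3
      rw [← e3, ← mul_inv_eq_iff_eq_mul, hr]; rfl
    · exact ⟨0, fun k' => absurd k' k⟩
  choose f hf using T
  have inv : ∀ s, C.act s e = e → ∀ a, P.B e a = 0 → f (C.act s a) = f a := by
    intro s hs a k
    obtain ⟨s', h2, h3⟩ := hE.mov_nY hn hs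
    have k1 := Mod.mov_act hs k
    have := h3 (τ C φ e a 0)
    rw [hE.mov_conj hs k, hf _ k1, hf a k, hE.mov_conj h2 k,
      hE.τ_eq_iff h0 k1 (Mod.mov_act h2 k)] at this
    exact this.2
  have add : ∀ a b, P.B e a = 0 → P.B e b = 0 → P.B a b = 0 → f (a + b) = f a + f b := by
    intro a b k k' k''
    have k3 : P.B e (a + b) = 0 := by rw [P.B_add_right, k, k', add_zero]
    have e1 := hE.τ_mul k k' 0 0
    rw [k'', add_zero, add_zero] at e1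
    have e2 : τ C φ e (a + b) (f (a + b)) = τ C φ e a (f a) * τ C φ e b (f b) := by
      rw [← hf _ k3, ← hf _ k, ← hf _ k', ← e1]; group
    rw [hE.τ_mul k k', k'', add_zero, hE.τ_eq_iff h0 k3 k3] at e2
    exact e2.2
  obtain ⟨f₀, hf₀⟩ := h.exists_hp h0
  obtain ⟨a, a', kk⟩ := h.exists_hh hf₀
  have ea : P.B e a = 0 := kk.ee
  have ea' : P.B e a' = 0 := kk.ef
  have aa : P.B a a' = 1 := kk.h₂.ef
  have con : ∀ u, P.B e u = 0 → u ∉ span F {e} → f u = f a := by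
    intro u k hu
    obtain ⟨s, s1, s2⟩ := h.trans_Y (h.ti_pt e) (h.mov_perp.2 ea) (h.mov_perp.2 k)
      (h.mov_nmem ea' (by rw [aa]; exact one_ne_zero)) hu
    rw [← s2, inv s (mem_fix_pt.1 s1) a ea]
  have f0 : f a = 0 := by
    obtain ⟨l, l0, l1⟩ := h.exists_big'
    have eb : P.B e (l • a) = 0 := by rw [P.B_smul_right, ea, mul_zero]
    have e1 := add a (l • a) ea eb (by rw [P.B_smul_right, h.B_self, mul_zero])
    rw [con (l • a) eb (h.mov_nmem ea' (by rw [h.B_smul_left, aa, mul_one]; exact l0)),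
      con (a + l • a) (by rw [P.B_add_right, ea, eb, add_zero]) (h.mov_nmem ea' (by
        rw [P.B_add_left, h.B_smul_left, aa, mul_one]
        exact fun k => l1 (h.eq_of_add k).symm)), h.add_self] at e1
    exact e1
  have cx : ∀ u, P.B e u = 0 → p * x C φ e u * p⁻¹ = x C φ e u := by
    intro u k
    by_cases hu : u ∈ span F {e}
    · have : x C φ e u = 1 := (hE.τ_eq_one h0 k).2 ⟨hu, rfl⟩
      rw [this, mul_one, mul_inv_cancel]
    · have := hf u k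
      rwa [con u k hu, f0] at this
  have cz : ∀ c, p * z C φ e c * p⁻¹ = z C φ e c := by
    intro c
    have k1 : P.B e (c • a') = 0 := by rw [P.B_smul_right, ea', mul_zero]
    have k2 : P.B e (a + c • a') = 0 := by rw [P.B_add_right, ea, k1, add_zero]
    have e1 := hE.x_mul ea k1
    rw [P.B_smul_right, aa, mul_one] at e1
    have e2 : z C φ e c = (x C φ e (a + c • a'))⁻¹ * (x C φ e a * x C φ e (c • a')) := by
      rw [e1, inv_mul_cancel_left]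
    rw [e2]
    calc _ = (p * x C φ e (a + c • a') * p⁻¹)⁻¹ *
          (p * x C φ e a * p⁻¹ * (p * x C φ e (c • a') * p⁻¹)) := by group
      _ = _ := by rw [cx _ k2, cx _ ea, cx _ k1]
  refine mem_centralizer_iff.2 fun r hr => ?_
  obtain ⟨u, c, k, rfl⟩ := (hE.mem_Q h0).1 hr
  have : p * τ C φ e u c * p⁻¹ = τ C φ e u c := by
    rw [hE.τ_eq k]
    calc _ = p * x C φ e u * p⁻¹ * (p * z C φ e c * p⁻¹) := by group
      _ = _ := by rw [cx u k, cz c]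
  rw [← mul_inv_eq_iff_eq_mul.1 this]

theorem mov_cQ (h0 : e ≠ 0)
    (hn : p ∈ normalizer (Yg C φ (span F {e}) : Set G))
    (h1 : ∀ a c, P.B e a = 0 → ∃ c', p * τ C φ e a c * p⁻¹ = τ C φ e a c') :
    p ∈ centralizer (Rg C φ (span F {e}) : Set G) := by
  have hE := h.toEmb
  refine h.cQ_of h0 hn fun r hr => ?_
  obtain ⟨a, c, k, rfl⟩ := (hE.mem_Q h0).1 hr
  obtain ⟨c', e1⟩ := h1 a c k
  rw [e1, hE.τ_inv k, hE.τ_mul k k, h.vadd_self]
  exact hE.mem_Z.2 ⟨_, rfl⟩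

theorem mov_cm {n d : G}
    (hn : n ∈ normalizer ((Yg C φ (span F {e}) ⊔ zpowers t : Subgroup G) : Set G))
    (hn' : n ∈ normalizer (Yg C φ (span F {e}) : Set G)) (h0 : e ≠ 0) (k : SPC.MzC C φ e d) :
    SPC.MzC C φ e (n * d * n⁻¹) := by
  have hE := h.toEmb
  intro s hs r hr
  have nQ := (h.norm_Q h0 (inv_mem hn)).1
  obtain ⟨s', h1, h2⟩ := hE.mov_nY (inv_mem hn') hs
  have r1 : n⁻¹ * r * n⁻¹⁻¹ ∈ Rg C φ (span F {e}) := (mem_normalizer_iff.1 nQ _).1 hr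
  have e1 := h2 r
  have e2 := k s' h1 _ r1
  have e3 := h2 (n * (d * (n⁻¹ * r * n⁻¹⁻¹) * d⁻¹) * n⁻¹)
  calc n * d * n⁻¹ * (φ s * r * (φ s)⁻¹) * (n * d * n⁻¹)⁻¹
      = n * (d * (n⁻¹ * (φ s * r * (φ s)⁻¹) * n⁻¹⁻¹) * d⁻¹) * n⁻¹ := by group
    _ = n * (φ s' * (n⁻¹ * (n * (d * (n⁻¹ * r * n⁻¹⁻¹) * d⁻¹) * n⁻¹) * n⁻¹⁻¹) * (φ s')⁻¹) * n⁻¹ := by
        rw [e1, e2]; group
    _ = _ := by rw [← e3]; group

theorem exists_pz (hz : Tz C φ t) (h0 : e ≠ 0) : Two φ.range t ∧ ∃ p, Pz C φ t e p := by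
  have hE := h.toEmb
  obtain ⟨g, hg⟩ := (h.tz_iff h0 one_ne_zero).1 hz
  obtain ⟨n, hn', hn, nt⟩ := h.nuY h0 hg
  refine ⟨h.two_of (h.ti_pt e) hn fun k => ?_, ?_⟩
  · rw [nt, mul_eq_left] at k
    exact (hE.z_eq_one.1 k).elim h0 one_ne_zero
  obtain ⟨l, l0, l1⟩ := h.exists_big'
  obtain ⟨d, d1, d2⟩ := hE.mov_diag h0 l0
  have dn := h.mov_norm d2
  have kn : n * φ d * n⁻¹ ∈ normalizer ((Yg C φ (span F {e}) ⊔ zpowers t : Subgroup G) : Set G) :=
    mul_mem (mul_mem hn dn) (inv_mem hn)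
  have kY : n * φ d * n⁻¹ ∈ normalizer (Yg C φ (span F {e}) : Set G) :=
    mul_mem (mul_mem hn' (hE.mov_normY d2)) (inv_mem hn')
  have kO := h.co_conj (h.ti_pt e) hn (l := φ d) ⟨d, rfl⟩
  have dC : SPC.MzC C φ e (φ d) := by
    intro s hs r hr
    obtain ⟨a, c, k, rfl⟩ := (hE.mem_Q h0).1 hr
    rw [hE.mov_conj hs k, d1 _ _ (Mod.mov_act hs k), d1 _ _ k,
      hE.mov_conj hs (by rw [P.B_smul_right, k, mul_zero]), map_smul]
  have kC := h.mov_cm hn hn' h0 dC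
  have kt : n * φ d * n⁻¹ * (t * z C φ e 1) * (n * φ d * n⁻¹)⁻¹ = t * z C φ e 1 := by
    rw [← nt]
    calc _ = n * (φ d * t * (φ d)⁻¹) * n⁻¹ := by group
      _ = _ := by rw [h.tl d, mul_inv_cancel_right]
  have kz : n * φ d * n⁻¹ * z C φ e 1 * (n * φ d * n⁻¹)⁻¹ ≠ z C φ e 1 := by
    intro e1
    obtain ⟨c, hc⟩ := hE.mem_Z.1 ((mem_normalizer_iff.1 (h.norm_Q h0 (inv_mem hn)).2 _).1
      (hE.mem_Z.2 ⟨1, rfl⟩))
    have e2 : φ d * z C φ e c * (φ d)⁻¹ = z C φ e c := by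
      rw [← hc]
      calc _ = n⁻¹ * (n * φ d * n⁻¹ * z C φ e 1 * (n * φ d * n⁻¹)⁻¹) * n⁻¹⁻¹ := by group
        _ = _ := by rw [e1]
    have e3 := d1 0 c (by simp)
    rw [smul_zero] at e3
    have e4 : l * l * c = c := hE.z_inj h0 (e3.symm.trans e2)
    have c0 : c ≠ 0 := by
      rintro rfl
      rw [hE.z_zero, mul_inv_eq_one, mul_eq_left] at hc
      exact (hE.z_eq_one.1 hc).elim h0 one_ne_zero
    exact l1 (h.sq_inj (by rw [mul_one]; exact mul_right_cancel₀ c0 (by rw [e4, one_mul])))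
  generalize n * φ d * n⁻¹ = k at kn kY kO kC kt kz
  obtain ⟨kQ, kZ⟩ := h.norm_Q h0 kn
  obtain ⟨θ, q⟩ := hE.mov_exists h0 kQ kZ
  obtain ⟨μ, hμ⟩ := h.scalar (h.ti_pt e) (θ := θ)
    (fun a ha => h.mov_perp.2 (q.perp a (h.mov_perp.1 ha)))
    (fun a ha b hb => hE.mov_add h0 q (h.mov_perp.1 ha) (h.mov_perp.1 hb))
    (fun a ha => hE.mov_zero h0 q ha) (fun v hv a ha c => by
      have kv := h.mov_perp.1 hv
      have ka := h.mov_perp.1 ha
      have s1 : C.act (C.T v 0 c) e = e := by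
        rw [h.z_app, h.B_comm v e, kv, mul_zero, zero_smul, add_zero]
      have e1 := kC _ s1 _ (hE.mov_mem h0 ka 0)
      obtain ⟨c1, e2⟩ := q.act a 0 ka
      obtain ⟨c2, e3⟩ := q.act _ 0 (Mod.mov_act s1 ka)
      rw [hE.mov_conj s1 ka, e3, e2, hE.mov_conj s1 (q.perp a ka), hE.τ_eq_iff h0
        (q.perp _ (Mod.mov_act s1 ka)) (Mod.mov_act s1 (q.perp a ka)), h.z_app, h.z_app] at e1
      exact e1.1)
  have act : ∀ a c, P.B e a = 0 → ∃ c', k * τ C φ e a c * k⁻¹ = τ C φ e (μ • a) c' := by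
    intro a c ka
    obtain ⟨c', e1⟩ := q.act a c ka
    exact ⟨c', by rw [e1, hE.mov_congr (q.perp a ka) (hμ a (h.mov_perp.2 ka))]⟩
  have μ0 : μ ≠ 0 := by
    rintro rfl
    obtain ⟨a, ka⟩ := h.exists_ln h0
    obtain ⟨c', e1⟩ := act a 0 ka.perp
    rw [zero_smul] at e1
    obtain ⟨r, hr⟩ := hE.mem_Z.1 ((mem_normalizer_iff.1 kZ _).2 (hE.mem_Z.2 ⟨c', e1⟩))
    have := ((hE.τ_eq_iff h0 ka.perp (b := 0) (by simp)).1 hr).1
    exact ka.nmem (by simpa using this)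
  obtain ⟨d', d1', d2'⟩ := hE.mov_diag h0 (inv_ne_zero μ0)
  have pn := mul_mem (hE.mov_normY d2') kY
  have pO : CO φ.range t (φ d' * k) := fun o o1 o2 o3 => by
    rw [mul_assoc, kO o o1 o2 o3, ← mul_assoc, o1 _ ⟨d', rfl⟩, mul_assoc]
  have pQ := h.mov_cQ h0 pn fun a c ka => by
    obtain ⟨c', e1⟩ := act a c ka
    refine ⟨μ⁻¹ * μ⁻¹ * c', ?_⟩
    calc _ = φ d' * (k * τ C φ e a c * k⁻¹) * (φ d')⁻¹ := by group
      _ = _ := by
        rw [e1, d1' _ _ (by rw [P.B_smul_right, ka, mul_zero]), smul_smul, inv_mul_cancel₀ μ0,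
          one_smul]
  obtain ⟨ψ, hψ⟩ := hE.mem_Z.1 ((mem_normalizer_iff.1 kZ _).1 (hE.mem_Z.2 ⟨1, rfl⟩))
  have ψ1 : 1 + ψ ≠ 0 := fun e1 => kz (by rw [hψ, ← h.eq_of_add e1])
  have kt' : k * t * k⁻¹ = t * z C φ e (1 + ψ) := by
    rw [hE.z_add, ← hψ, ← mul_assoc, ← kt]
    calc k * t * k⁻¹ = k * (t * (z C φ e 1 * z C φ e 1)) * k⁻¹ := by rw [hE.z_sq, mul_one]
      _ = _ := by group
  have dz : ∀ {d : S} {l : F}, (∀ a c, P.B e a = 0 →
      φ d * τ C φ e a c * (φ d)⁻¹ = τ C φ e (l • a) (l * l * c)) → ∀ c,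
      φ d * (t * z C φ e c) * (φ d)⁻¹ = t * z C φ e (l * l * c) := by
    intro d l H c
    have e3 := H 0 c (by simp)
    rw [smul_zero] at e3
    rw [← mul_assoc, h.tl d, mul_assoc t, mul_assoc t]
    exact congrArg _ e3
  have pt : φ d' * k * t * (φ d' * k)⁻¹ = t * z C φ e (μ⁻¹ * μ⁻¹ * (1 + ψ)) := by
    rw [← dz d1', ← kt']; group
  have κ0 : μ⁻¹ * μ⁻¹ * (1 + ψ) ≠ 0 :=
    mul_ne_zero (mul_ne_zero (inv_ne_zero μ0) (inv_ne_zero μ0)) ψ1
  generalize μ⁻¹ * μ⁻¹ * (1 + ψ) = κ at pt κ0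
  generalize φ d' * k = p at pn pO pQ pt
  obtain ⟨ρ, hρ⟩ := h.exists_sqrt κ⁻¹
  have ρ0 : ρ ≠ 0 := by
    rintro rfl
    exact inv_ne_zero κ0 (by rw [← hρ, mul_zero])
  obtain ⟨d, d1, d2⟩ := hE.mov_diag h0 ρ0
  have dn := h.mov_norm d2
  have dY := hE.mov_normY d2
  refine ⟨φ d * p * (φ d)⁻¹, ?_, mul_mem (mul_mem dY pn) (inv_mem dY), ?_, h.co_conj' (h.tl d) pO⟩
  · exact (mem_normalizer_iff.1 (loc_ncent (h.norm_Q h0 dn).1) _).1 pQ
  · have e1 := dz d1 κ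
    rw [hρ, inv_mul_cancel₀ κ0, ← pt] at e1
    rw [← e1]
    calc _ = φ d * (p * ((φ d)⁻¹ * t * φ d) * p⁻¹) * (φ d)⁻¹ := by group
      _ = _ := by rw [mul_assoc (φ d)⁻¹, ← h.tl d, inv_mul_cancel_left]

theorem mz (hz : Tz C φ t) : MZ C φ t := by
  obtain ⟨e, h0, -⟩ := id hz
  exact ⟨h, (h.exists_pz hz h0).1, fun e h0 => (h.exists_pz hz h0).2⟩

theorem ma (ha : Ta C φ t) : MA C φ t := by
  obtain ⟨φ', h', d, d'⟩ := h.toEmb.exists_dual
  exact Dual.ma h.toEmb h' d d'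
    ((Dual.sit h.toEmb h' d d' h).mz ((Dual.tz_iff h.toEmb h' d d').2 ha))

end Sit

theorem MA.fus1 (h : MA C φ t) : Fus1 φ.range t := by
  have hE := h.toEmb
  obtain ⟨e, h0⟩ := h.exists_ne0
  obtain ⟨a, k⟩ := h.exists_ln h0
  obtain ⟨p, p1, -, p2, -⟩ := h.mv e a k
  refine ⟨x C φ e a, ⟨_, rfl⟩, hE.x_sq k.perp, fun e1 => k.nmem ((hE.τ_eq_one h0 k.perp).1 e1).1,
    p, (p1 _ (hE.τ_mem_E (h.ti_pair k.perp) (Submodule.subset_span (by simp))
      (Submodule.subset_span (by simp)) 0)).symm, p2⟩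

end CfsgLib.SP4
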