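import Cfsg.Agent.Lib.SP4.WE

/-! Commuting hats -/

set_option autoImplicit false
set_option linter.unusedSectionVars false

namespace CfsgLib.SP4

open Subgroup Module CfsgLib.Forms CfsgLib.LieMult
open CfsgLib.HX (Std CO Two Mv M2)
open CfsgLib.UN (AV SI TI HH Rad Stb Yg Rg Eg Act nu)
open CfsgLib.ClSys (II)
open Submodule (span)
open scoped commutatorElement Pointwise

universe u

variable {F : Type} [Field F] [Finite F] {V : Type} [AddCommGroup V] [Module F V]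
  [FiniteDimensional F V] {P : PQ (RingHom.id F) V} {S : Type} [Group S] [Finite S] {G : Type u}
  [Group G] [Finite G] {C : CG P S} {φ : S →* G} {t : G}

variable (C φ) in
/-- hats of the transvections `z e ((1 + κ) β)` -/
def Yx (t : G) (w : V → V → G) (κ : F) (y : V → F → G) : Prop := ∀ e β,
  Mv φ.range (Yg C φ (span F {e})) t (z C φ e ((1 + κ) * β)) (y e β) ∧
    y e β * y e β = z C φ e (κ * ((1 + κ) * β)) ∧ ∀ a, P.B e a = 0 → Commute (y e β) (w e a)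

theorem Emb.wf_odd (h : Emb C φ) {o : G} (ho : o ∈ centralizer (φ.range : Set G)) (h1 : Odd (orderOf o))
    (h2 : o * o ∈ φ.range) : o = 1 := by
  have h3 : orderOf o ∣ 2 := orderOf_dvd_of_pow_eq_one (by rw [pow_two]; exact h.eq_one h2 (mul_mem ho ho))
  rcases (Nat.dvd_prime Nat.prime_two).1 h3 with e | e
  · exact orderOf_eq_one_iff.1 e
  · rw [e] at h1; exact absurd h1 (by decide)

theorem Mod.wf_hh (h : Mod C) {e a b : V} (h0 : e ≠ 0) (h1 : P.B e a = 0) (h2 : P.B e b = 0)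
    (h3 : P.B a b = 1) : ∃ f, HH P e f a b := by
  obtain ⟨f, hf⟩ := h.exists_hp h0
  have h4 : P.B b a = 1 := by rw [h.B_comm, h3]
  refine ⟨f + P.B f b • a + P.B f a • b, h.hp_iff.2 ?_, h.hp_iff.2 h3, h1, h2, ?_, ?_⟩
  · simp [h1, h2, hf]
  · rw [h.B_comm]; simp [h.B_self, h3, h.B_comm a f, h.add_self]
  · rw [h.B_comm]; simp [h.B_self, h4, h.B_comm b f, h.add_self]

theorem Mod.wf_zero (h : Mod C) {e a p : V} {c : F} (k : P.B e a = 0) (h1 : P.B a p ≠ 0)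
    (h2 : c • p ∈ span F {e}) : c = 0 := by
  obtain ⟨l, hl⟩ := Submodule.mem_span_singleton.1 h2
  have := congrArg (P.B a) hl
  rw [map_smul, map_smul, h.B_comm a e, k, smul_zero, smul_eq_mul] at this
  exact (mul_eq_zero.1 this.symm).resolve_right h1

theorem Emb.wf_Y (h : Emb C φ) {e d : V} (k : P.B e d = 0) (r : F) : τ C φ e d r ∈ Yg C φ (span F {e}) :=
  h.τ_mem_Y k (h.toMod.mem_perp_span.2 (by rintro _ rfl; exact h.toMod.B_self _))
    (h.toMod.mem_perp_span.2 (by rintro _ rfl; exact k)) r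

namespace W0

variable {w : V → V → G} {κ κ₀ : F} (h : W0 C φ t w κ κ₀) {e a b : V} {y : V → F → G}
include h

theorem yx1 (hκ : κ = 1) : Yx C φ t w κ fun _ _ => 1 := by
  have hE : Emb C φ := h.toEmb
  have k : ∀ β : F, (1 + κ) * β = 0 := fun β => by rw [hκ, hE.toMod.add_self, zero_mul]
  intro e β
  rw [k, mul_zero, hE.z_zero]
  exact ⟨⟨one_mem _, by simp, fun o _ _ _ => by simp⟩, one_mul _, fun a _ => Commute.one_left _⟩

theorem yx0 {κ₁ : F} (hy : Y0 C φ t y κ₁) : Yx C φ t w κ fun e β => y e ((1 + κ) * β) := by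
  have hE : Emb C φ := h.toEmb
  intro e β
  refine ⟨⟨hy.cY _ _, ?_, ?_⟩, (h.k0 hy).2 ▸ hy.sq _ _, fun a k => h.yw1 hy k _⟩
  all_goals by_cases he : e = 0
  · subst he; simp [hy.zero', hE.z_zero']
  · exact (hy.ph _ _ he).1.pt
  · subst he; intro o _ _ _; simp [hy.zero']
  · exact (hy.ph _ _ he).1.co

theorem wf_dec (H : Yx C φ t w κ y) (he : e ≠ 0) (k : P.B e a = 0) (k' : P.B e b = 0) :
    ∃ d r c o, P.B e d = 0 ∧ c ∈ centralizer (φ.range : Set G) ∧ o ∈ centralizer (φ.range : Set G) ∧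
      o * t = t * o ∧ Odd (orderOf o) ∧ (c = o ∨ c = t * o) ∧
      (w e (a + b))⁻¹ * w e a * w e b = y e (P.B a b) * τ C φ e d r * c := by
  have hE : Emb C φ := h.toEmb
  obtain ⟨d1, d2, -⟩ := h.dQ k k' he
  obtain ⟨m, -, -⟩ := H e (P.B a b)
  generalize (w e (a + b))⁻¹ * w e a * w e b = D at *
  generalize y e (P.B a b) = Y at *
  have h1 : Y⁻¹ * D * t = t * (Y⁻¹ * D) := by
    calc Y⁻¹ * D * t = Y⁻¹ * (D * t * D⁻¹) * D := by group
      _ = _ := by rw [d2, ← m.pt]; group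
  obtain ⟨ε, hε, c, hc, e1⟩ := hE.cQ he (h.toSit.norm_of h1)
    (mul_mem (inv_mem fun g hg => m.cY g (hE.R_le_Y hg)) d1)
  rw [e1] at h1
  obtain ⟨o, ho, ot, od, e2⟩ := h.toSit.dec h.two' (hE.Y_le_L (hE.R_le_Y hε)) hc h1
  obtain ⟨d, r, hd, rfl⟩ := (hE.mem_Q he).1 hε
  exact ⟨d, r, c, o, hd, hc, ho, ot, od, e2, by rw [mul_assoc, ← e1]; group⟩

omit h in
theorem wf_conj (hE : Emb C φ) {Y c : G} (hY : Y ∈ centralizer (Yg C φ (span F {e}) : Set G))
    (hc : c ∈ centralizer (φ.range : Set G)) {d p : V} (hd : P.B e d = 0) (hp : P.B e p = 0) (r u : F) :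
    φ (C.T p 0 u) * (Y * τ C φ e d r * c) * (φ (C.T p 0 u))⁻¹ =
      Y * τ C φ e (d + (u * P.B p d) • p) r * c := by
  have hM := hE.toMod
  have h1 : C.act (C.T p 0 u) e = e := by rw [hM.z_app, hM.B_comm, hp]; simp
  have h2 := hE.τ_conj (C.T p 0 u) hd r
  rw [h1, hM.z_app] at h2
  have h3 : φ (C.T p 0 u) * Y = Y * φ (C.T p 0 u) := hY _ ⟨_, mem_fix_pt.2 h1, rfl⟩
  have h4 : φ (C.T p 0 u) * c = c * φ (C.T p 0 u) := hc _ ⟨_, rfl⟩
  rw [← h2, ← mul_assoc, ← mul_assoc, h3, mul_inv_eq_iff_eq_mul, mul_assoc _ c, ← h4]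
  group

theorem wf_swap (k : P.B e a = 0) (k' : P.B e b = 0) (hβ : P.B a b ≠ 0) :
    φ (C.T (a + b) 0 (P.B a b)⁻¹) * w e a * (φ (C.T (a + b) 0 (P.B a b)⁻¹))⁻¹ = w e b ∧
    φ (C.T (a + b) 0 (P.B a b)⁻¹) * w e b * (φ (C.T (a + b) 0 (P.B a b)⁻¹))⁻¹ = w e a ∧
    φ (C.T (a + b) 0 (P.B a b)⁻¹) * w e (a + b) * (φ (C.T (a + b) 0 (P.B a b)⁻¹))⁻¹ = w e (a + b) := by
  have hM : Mod C := h.toMod
  have h1 : C.act (C.T (a + b) 0 (P.B a b)⁻¹) e = e := by
    rw [hM.z_app, hM.B_comm (a + b), map_add, k, k']; simp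
  have h2 : C.act (C.T (a + b) 0 (P.B a b)⁻¹) a = b := by
    rw [hM.z_app, hM.B_comm (a + b), map_add, hM.B_self, zero_add, inv_mul_cancel₀ hβ, one_smul, ← add_assoc,
      hM.vadd_self, zero_add]
  have h3 : C.act (C.T (a + b) 0 (P.B a b)⁻¹) b = a := by
    rw [hM.z_app, hM.B_comm (a + b), map_add, hM.B_self, add_zero, hM.B_comm b, inv_mul_cancel₀ hβ, one_smul,
      add_comm a, ← add_assoc, hM.vadd_self, zero_add]
  exact ⟨by rw [h.eqv _ _ _ k, h1, h2], by rw [h.eqv _ _ _ k', h1, h3],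
    by rw [h.eqv _ _ _ (by rw [map_add, k, k', add_zero]), h1, map_add, h2, h3, add_comm]⟩

theorem com (H : Yx C φ t w κ y) (k : P.B e a = 0) (k' : P.B e b = 0) : Commute (w e a) (w e b) := by
  have hE : Emb C φ := h.toEmb
  by_cases he : e = 0
  · subst he; rw [h.zero]; exact Commute.one_left _
  obtain ⟨ρ, hρ⟩ := h.com0
  have c0 := hρ e a b k k'
  suffices z0 : ρ * P.B a b = 0 by rwa [z0, hE.z_zero, one_mul] at c0
  by_cases hβ : P.B a b = 0
  · rw [hβ, mul_zero]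
  have kk : P.B e (a + b) = 0 := by rw [map_add, k, k', add_zero]
  obtain ⟨d, r, c, o, hd, hc, -, -, -, -, hD⟩ := h.wf_dec H he k k'
  obtain ⟨s1, s2, s3⟩ := h.wf_swap k k' hβ
  have m := (H e (P.B a b)).1.cY
  have h1 := wf_conj hE m hc hd kk r (P.B a b)⁻¹
  have h2 := (h.wz kk (ρ * P.B a b)).inv_left.eq
  have h3 : z C φ e (ρ * P.B a b) * y e (P.B a b) = y e (P.B a b) * z C φ e (ρ * P.B a b) :=
    m _ (hE.wf_Y (map_zero _) _)
  rw [← hD, ← conj_mul, ← conj_mul, ← conj_inv, s1, s2, s3] at h1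
  have c1 := hρ e b a k' k
  rw [hE.toMod.B_comm b a] at c1
  rw [mul_assoc, c1, ← mul_assoc, h2, mul_assoc, ← mul_assoc _ (w e a), hD, ← mul_assoc, ← mul_assoc, h3,
    mul_left_inj, mul_assoc, mul_right_inj] at h1
  have h4 := hE.τ_mul (map_zero (P.B e)) hd (ρ * P.B a b) r
  have h5 := ((hE.τ_eq_iff he (by rw [zero_add, hd]) (by rw [map_add, map_smul, hd, kk, smul_zero, add_zero])).1 (h4.symm.trans h1)).2
  simpa using h5

theorem wf_sq (h0 : κ₀ = 0) (k : P.B e a = 0) : w e a * w e a = 1 := by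
  rw [h.sq e a k, h0, zero_smul, h.toEmb.x_zero]

theorem wf_y0 (H : Yx C φ t w κ y) (he : e ≠ 0) : ∃ r, y e 0 = z C φ e r := by
  have hE : Emb C φ := h.toEmb
  obtain ⟨m, m1, m2⟩ := H e 0
  have h1 := m.pt
  rw [mul_zero, hE.z_zero, mul_one, mul_inv_eq_iff_eq_mul] at h1
  rw [mul_zero, mul_zero, hE.z_zero] at m1
  obtain ⟨ε, hε, c, hc, e1⟩ := hE.cY (hE.toMod.ti_pt e) (h.toSit.norm_of h1) m.cY
  obtain ⟨r, rfl⟩ := hE.mem_Z.1 hε
  rw [e1] at h1 m1 m2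
  obtain ⟨o, ho, ot, od, rfl | rfl⟩ := h.toSit.dec h.two' (ε := z C φ e r) ⟨_, rfl⟩ hc h1
  · rw [e1, hE.wf_odd ho od ((hE.sq_split ⟨_, rfl⟩ hc m1).2 ▸ one_mem _), mul_one]
    exact ⟨r, rfl⟩
  · obtain ⟨a, ha⟩ := hE.toMod.exists_ln he
    have c1 : Commute (w e a) o := h.co ha.perp o ho ot od
    have c2 := ((h.wz ha.perp r).inv_right.mul_right (m2 a ha.perp).symm).mul_right c1.inv_right
    rw [inv_mul_cancel_left, mul_inv_cancel_right] at c2
    have c4 := h.wt ha.perp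
    rw [c2.mul_inv_cancel, left_eq_mul, ← one_smul F a, hE.x_eq_one ha] at c4
    exact absurd c4 one_ne_zero

theorem dform (H : Yx C φ t w κ y) (h0 : κ₀ = 0) (he : e ≠ 0) (k : P.B e a = 0) (k' : P.B e b = 0) :
    ∃ r, w e a * w e b = w e (a + b) * y e (P.B a b) * z C φ e r := by
  have hE : Emb C φ := h.toEmb
  have hM : Mod C := h.toMod
  by_cases hβ : P.B a b = 0
  · obtain ⟨r, hr⟩ := h.wf_y0 H he
    exact ⟨r, by rw [hβ, hr, mul_assoc, hE.z_sq, mul_one, h.add h0 k k' hβ]⟩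
  have kk : P.B e (a + b) = 0 := by rw [map_add, k, k', add_zero]
  obtain ⟨d, r, c, o, hd, hc, ho, ot, od, hco, hD⟩ := h.wf_dec H he k k'
  obtain ⟨m, m1, m2⟩ := H e (P.B a b)
  have ab := h.com H k k'
  have aW := h.com H k kk
  have bW := h.com H k' kk
  have inv : ∀ p, P.B e p = 0 → P.B a p ≠ 0 → φ (C.T p 0 (P.B a b)⁻¹) * ((w e (a + b))⁻¹ * w e a * w e b) *
      (φ (C.T p 0 (P.B a b)⁻¹))⁻¹ = (w e (a + b))⁻¹ * w e a * w e b → P.B p d = 0 := fun p p1 p2 p3 => by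
    rw [hD, wf_conj hE m.cY hc hd p1, mul_left_inj, mul_right_inj,
      hE.τ_eq_iff he (by simp [hd, p1]) hd, add_right_comm, hM.vadd_self, zero_add] at p3
    exact (mul_eq_zero.1 (hM.wf_zero k p2 p3.1)).resolve_left (inv_ne_zero hβ)
  have ab' : P.B a (a + b) = P.B a b := by rw [map_add, hM.B_self, zero_add]
  have d1 : P.B (a + b) d = 0 := inv _ kk (ab' ▸ hβ) (by
    obtain ⟨s1, s2, s3⟩ := h.wf_swap k k' hβ
    rw [← conj_mul, ← conj_mul, ← conj_inv, s1, s2, s3, mul_assoc, ← ab.eq, mul_assoc])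
  have wi : ∀ p, P.B e p = 0 → (w e p)⁻¹ = w e p := fun p hp => inv_eq_of_mul_eq_one_right (h.wf_sq h0 hp)
  have d2 : P.B b d = 0 := inv _ k' hβ (by
    obtain ⟨s1, s2, s3⟩ := h.wf_swap k kk (ab' ▸ hβ)
    rw [ab', ← add_assoc, hM.vadd_self, zero_add] at s1 s2 s3
    rw [wi _ kk, ← conj_mul, ← conj_mul, s1, s2, s3, aW.eq])
  have ln : Ln P e a := ⟨he, fun ha => one_ne_zero (hM.wf_zero k' (hM.B_comm a b ▸ hβ) (by rwa [one_smul])), k⟩
  obtain ⟨l, μ, rfl⟩ := Submodule.mem_span_pair.1 (hM.mem_ln ln hd (by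
    rwa [map_add, LinearMap.add_apply, d2, add_zero] at d1))
  obtain rfl : μ = 0 := by
    rw [map_add, map_smul, map_smul, hM.B_comm b e, k', smul_zero, zero_add, smul_eq_mul, hM.B_comm b] at d2
    exact (mul_eq_zero.1 d2).resolve_right hβ
  rw [add_comm (l • e), hE.τ_shift (by simp), zero_smul] at hD
  change _ = _ * z C φ e r * c at hD
  have Yz : Commute (z C φ e r) (y e (P.B a b)) := m.cY _ (hE.wf_Y (map_zero _) _)
  rcases hco with rfl | rfl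
  · have h1 : (w e (a + b))⁻¹ * w e a * w e b * ((w e (a + b))⁻¹ * w e a * w e b) = 1 := by
      rw [wi _ kk, ← pow_two, (bW.symm.mul_left ab).mul_pow, aW.symm.mul_pow]
      simp only [pow_two, h.wf_sq h0 k, h.wf_sq h0 k', h.wf_sq h0 kk, mul_one]
    have zc : Commute (z C φ e r) c := hc _ ⟨_, rfl⟩
    rw [hD, ← pow_two, (Commute.mul_left (m.co c ho ot od) zc).mul_pow, Yz.symm.mul_pow, pow_two, pow_two, pow_two, m1, hE.z_sq,
      mul_one] at h1
    rw [hE.wf_odd ho od (eq_inv_of_mul_eq_one_right h1 ▸ inv_mem ⟨_, rfl⟩), mul_one, mul_assoc,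
      inv_mul_eq_iff_eq_mul, ← mul_assoc] at hD
    exact ⟨r, hD⟩
  · have c1 : Commute (w e a) o := h.co k o ho ot od
    have c2 := (((m2 a k).symm.mul_right (h.wz k r)).inv_right.mul_right
      ((aW.inv_right.mul_right (Commute.refl _)).mul_right ab)).mul_right c1.inv_right
    rw [hD, inv_mul_cancel_left, mul_inv_cancel_right] at c2
    have c4 := h.wt k
    rw [c2.mul_inv_cancel, left_eq_mul, ← one_smul F a, hE.x_eq_one ln] at c4
    exact absurd c4 one_ne_zero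

omit h in
theorem wf_frame (hM : Mod C) : ∃ e f a b, HH P e f a b := by
  obtain ⟨e, he⟩ := hM.exists_ne0
  obtain ⟨f, hf⟩ := hM.exists_hp he
  exact ⟨e, f, hM.exists_hh hf⟩

theorem kk' (H : Yx C φ t w κ y) (h0 : κ₀ = 0) : κ = 0 ∨ κ = 1 := by
  have hE : Emb C φ := h.toEmb
  have hM : Mod C := h.toMod
  obtain ⟨e, f, a, b, k⟩ := wf_frame hM
  have he := hM.hp_ne (hM.hp_iff.1 k.h₁)
  have kk : P.B e (a + b) = 0 := by rw [map_add, k.ee, k.ef, add_zero]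
  obtain ⟨r, hr⟩ := h.dform H h0 he k.ee k.ef
  obtain ⟨m, m1, m2⟩ := H e (P.B a b)
  have Yz : Commute (z C φ e r) (y e (P.B a b)) := m.cY _ (hE.wf_Y (map_zero _) _)
  have h1 : (w e a * w e b) ^ 2 = 1 := by
    rw [(h.com H k.ee k.ef).mul_pow, pow_two, pow_two, h.wf_sq h0 k.ee, h.wf_sq h0 k.ef, one_mul]
  rw [hr, (Commute.mul_left (h.wz kk r) Yz.symm).mul_pow, (m2 _ kk).symm.mul_pow, pow_two, pow_two, pow_two, h.wf_sq h0 kk,
    m1, hE.z_sq, one_mul, mul_one, hE.z_eq_one, hM.hp_iff.1 k.h₂, mul_one, mul_eq_zero] at h1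
  rcases h1.resolve_left he with e1 | e1
  exacts [.inl e1, .inr (hM.eq_of_add e1).symm]

theorem ww (H : Yx C φ t w κ y) (h0 : κ₀ = 0)
    (eqv : ∀ l e β, φ l * y e β * (φ l)⁻¹ = y (C.act l e) β)
    (smul : ∀ e β (l : F), y (l • e) β = y e (l * l * β)) (zero : ∀ e, y e 0 = 1) :
    ∃ δ : F, ∀ e a b, P.B e a = 0 → P.B e b = 0 →
      w e a * w e b = w e (a + b) * y e (P.B a b) * z C φ e (δ * P.B a b) := by
  have hE : Emb C φ := h.toEmb
  have hM : Mod C := h.toMod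
  obtain ⟨e₀, f₀, a₀, b₀, k₀⟩ := wf_frame hM
  obtain ⟨δ, hδ⟩ := h.dform H h0 (hM.hp_ne (hM.hp_iff.1 k₀.h₁)) k₀.ee k₀.ef
  refine ⟨δ, fun e a b k k' => ?_⟩
  by_cases he : e = 0
  · have := smul e (P.B a b) 0
    rw [zero_smul, zero_mul, zero_mul, zero] at this
    rw [he, h.zero, h.zero, h.zero, this, hE.z_zero', one_mul, one_mul]
  by_cases hβ : P.B a b = 0
  · rw [hβ, zero, mul_zero, hE.z_zero, mul_one, mul_one, h.add h0 k k' hβ]
  obtain ⟨l, hl⟩ := hM.exists_sqrt (P.B a b)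
  have l0 : l ≠ 0 := by rintro rfl; exact hβ (by rw [← hl, zero_mul])
  have p : ∀ v, P.B e v = 0 → P.B e (l⁻¹ • v) = 0 := fun v hv => by rw [map_smul, hv, smul_zero]
  have p' : ∀ v, P.B e v = 0 → P.B (l • e) (l⁻¹ • v) = 0 := fun v hv => by
    rw [hM.B_smul_left, p v hv, mul_zero]
  have q : ∀ v, P.B e v = 0 → w (l • e) (l⁻¹ • v) = w e v := fun v hv => by
    rw [h.smul _ _ _ (p v hv), smul_inv_smul₀ l0]
  obtain ⟨f, k₁⟩ := hM.wf_hh (smul_ne_zero l0 he) (p' a k) (p' b k') (by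
    rw [hM.B_smul_left, map_smul, ← hl, smul_eq_mul]; field_simp)
  obtain ⟨s, s1, -, s2, s3⟩ := hM.trans_hh k₀ k₁
  have := congrArg (fun g => φ s * g * (φ s)⁻¹) hδ
  simp only [← conj_mul] at this
  rwa [h.eqv _ _ _ k₀.ee, h.eqv _ _ _ k₀.ef, h.eqv _ _ _ (by rw [map_add, k₀.ee, k₀.ef, add_zero]), eqv,
    hE.z_conj, map_add, s1, s2, s3, ← smul_add, q _ k, q _ k', q _ (by rw [map_add, k, k', add_zero]),
    hM.hp_iff.1 k₀.h₂, smul, hE.z_smul, hl, mul_one, mul_comm (P.B a b)] at this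

theorem hw1 (h0 : κ₀ = 0) (hc : κ = 1 → ¬ Tz C φ t ∨ CZ C φ t) : HW1 C φ t w κ := by
  have hE : Emb C φ := h.toEmb
  refine { h.toSit with
    two' := h.two', mv := fun e a k => ⟨h.cE k, h.wt k, h.co k⟩, sq := fun e a k => h.wf_sq h0 k
    eqv := h.eqv, dep := h.dep, zero := h.zero, shift := h.shift, smul := h.smul, symm := h.symm
    wQ := fun e a b c k k' => by
      rw [← h.wQ e a b c k k', inv_eq_of_mul_eq_one_right (h.wf_sq h0 k)]
    act := fun hκ g hg => (hE.exists_act' (h.toSit.norm_of hg)).resolve_right fun sw => ?_ }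
  rcases hc hκ with hz | ⟨e, he, p, m⟩
  · obtain ⟨e, he⟩ := hE.toMod.exists_ne0
    obtain ⟨a, ha⟩ := hE.toMod.exists_ln he
    obtain ⟨p, p0, hp⟩ := sw.az e a ha
    exact hz ⟨p, p0, hp ▸ InT.conj ⟨_, h.wt ha.perp⟩ hg⟩
  · obtain ⟨u, v, l, hl⟩ := sw.za e he
    refine one_ne_zero (hκ.symm.trans (h.ca_iff.1 ⟨u, v, l, g * p * g⁻¹, fun q hq => ?_, ?_,
      h.toSit.co_conj' hg m.co⟩))
    · have h1 : g⁻¹ * q * g ∈ Yg C φ (span F {e}) := by
        rw [hE.Y_eq he]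
        refine ⟨by simpa using (mem_normalizer_iff.1 (inv_mem sw.nL) q).1 hq.1,
          mem_centralizer_singleton_iff.2 ?_⟩
        have h2 := mem_centralizer_singleton_iff.1 hq.2
        rw [← hl] at h2
        calc _ = g⁻¹ * (q * (g * z C φ e 1 * g⁻¹)) * g := by group
          _ = _ := by rw [h2]; group
      calc q * (g * p * g⁻¹) = g * (g⁻¹ * q * g * p) * g⁻¹ := by group
        _ = _ := by rw [m.cY _ h1]; group
    · have h1 : g⁻¹ * t * g = t := by rw [mul_assoc, ← hg, inv_mul_cancel_left]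
      calc _ = g * (p * (g⁻¹ * t * g) * p⁻¹) * g⁻¹ := by group
        _ = _ := by rw [h1, m.pt, ← hl, ← mul_assoc, hg]; group

end W0

end CfsgLib.SP4
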