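import Cfsg.Agent.Lib.SP4.FDefs
import Cfsg.Agent.Lib.SPC.ShJ

/-! From HW1 to HW -/

set_option autoImplicit false
set_option linter.unusedSectionVars false

namespace CfsgLib.SP4

open Subgroup Module CfsgLib.Forms CfsgLib.LieMult
open CfsgLib.HX (Std CO Two Mv M2)
open CfsgLib.UN (AV SI TI HH Rad Stb Yg Rg Eg Act nu)
open CfsgLib.ClSys (II)
open Submodule (span)
open CfsgLib.SPC (ShjD ShjT shj_swap shj_comm shj_conj)
open scoped commutatorElement Pointwise

universe u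

variable {F : Type} [Field F] [Finite F] {V : Type} [AddCommGroup V] [Module F V]
  [FiniteDimensional F V] {P : PQ (RingHom.id F) V} {S : Type} [Group S] [Finite S] {G : Type u}
  [Group G] [Finite G] {C : CG P S} {φ : S →* G} {t : G}

theorem Mod.wh_pp (h : Mod C) {e a : V} {p : V} (h1 : P.B e p = 0) (h2 : P.B a p = 0) :
    p ∈ P.perp (span F {e, a}) := by
  rw [h.mem_perp_span]
  rintro v (rfl | rfl)
  · exact h1
  · exact h2


/-- an element of `E(e, a)` centralising the `x(e, ·)` has no `z_a`-part -/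
theorem Emb.wh_eps (h : Emb C φ) {e a : V} (k : Ln P e a) {r r' : F} {v : V}
    (hv : P.B e v = 0)
    (H : ∀ b, P.B e b = 0 → Commute (τ C φ e v r * z C φ a r') (x C φ e b)) : r' = 0 := by
  obtain ⟨f, f', k1⟩ := h.hh_of_ln k
  have hb : P.B e f' = 0 := k1.ef
  have ha : P.B a f' = 1 := h.hp_iff.1 k1.h₂
  have c1 : Commute (τ C φ e v r) (x C φ e f') := h.τ_comm hv hb r 0
  have c2 : Commute (z C φ a r') (x C φ e f') := by
    have := (c1.inv_left).mul_left (H f' hb)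
    rwa [← mul_assoc, inv_mul_cancel, one_mul] at this
  have e1 := h.z_τ (u := a) r' hb 0
  rw [h.B_comm a e, k.perp, ha, mul_zero, zero_smul, add_zero, mul_one] at e1
  have e2 : τ C φ e (f' + r' • a) 0 = τ C φ e f' 0 := by
    rw [← e1]
    change z C φ a r' * x C φ e f' * z C φ a r' = x C φ e f'
    rw [c2.eq, mul_assoc, h.z_sq, mul_one]
  rw [h.τ_eq_iff k.ne (by simp [hb, k.perp]) hb] at e2
  have e3 : r' • a ∈ span F {e} := by
    have := e2.1
    rwa [add_right_comm, h.vadd_self, zero_add] at this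
  by_contra h0
  exact k.nmem ((Submodule.smul_mem_iff _ h0).1 e3)

theorem Mod.wh_Br (h : Mod C) (c : F) (v w : V) : P.B v (c • w) = c * P.B v w := by
  rw [h.B_comm, h.B_smul_left, h.B_comm]

namespace Sit

variable (h : Sit C φ t) {e a : V} {p p' : G}
include h

theorem wh_p0_uniq (k : P.B e a = 0) (hp : P0 C φ t e a p) (hp' : P0 C φ t e a p') :
    ∃ ε ∈ Eg C φ (span F {e, a}), ∃ c ∈ centralizer (φ.range : Set G), c * t = t * c ∧
      p' = p * ε * c := by
  have h1 : p⁻¹ * p' * t = t * (p⁻¹ * p') := by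
    calc p⁻¹ * p' * t = p⁻¹ * (p' * t * p'⁻¹) * p' := by group
      _ = _ := by rw [hp'.pt, ← hp.pt]; group
  obtain ⟨ε, hε, c, hc, e1⟩ := h.cY (h.ti_pair k) (h.norm_of h1) (mul_mem (inv_mem hp.cY) hp'.cY)
  refine ⟨ε, hε, c, hc, h.ct_of (map_le_range _ _ hε) (e1 ▸ h1), ?_⟩
  rw [mul_assoc, ← e1, mul_inv_cancel_left]

/-- a `CO` involution `p ε c` has `c = 1` -/
theorem wh_kill (h2 : Two φ.range t) {y ε c : G} (pt : p * t * p⁻¹ = t * y) (hy : y ∈ φ.range) (y1 : y ≠ 1)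
    (co : CO φ.range t p) (p2 : p * p = 1) (hε : ε ∈ φ.range) (ε2 : ε * ε = 1) (pε : Commute p ε)
    (hc : c ∈ centralizer (φ.range : Set G)) (ct : c * t = t * c)
    (sq : p * ε * c * (p * ε * c) = 1) : c = 1 := by
  obtain ⟨o, ho, ot, oo, e1⟩ := h2.dec hc ct
  have po : Commute p o := co o ho ot oo
  have εo : Commute ε o := ho ε hε
  have εt : Commute ε t := h.tL hε
  have ot' : Commute o t := ot
  rcases e1 with rfl | rfl
  · rw [(po.mul_left εo).symm.mul_mul_mul_comm, pε.symm.mul_mul_mul_comm, p2, ε2, one_mul, one_mul] at sq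
    have h1 := orderOf_dvd_of_pow_eq_one (x := c) (n := 2) (by rw [pow_two, sq])
    rcases (Nat.dvd_prime Nat.prime_two).1 h1 with h3 | h3
    · exact orderOf_eq_one_iff.1 h3
    · rw [h3] at oo; exact absurd oo (by decide)
  · exfalso
    have e2 : p * ε * (t * o) = p * t * (ε * o) := by rw [mul_assoc, mul_assoc, ← mul_assoc ε, εt.eq, mul_assoc]
    have c1 : Commute (ε * o) (p * t) := (pε.symm.mul_right εt).mul_left (po.symm.mul_right ot')
    have e3 : p * t * (p * t) = y := by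
      have : p * t * (p * t) = p * t * p⁻¹ * (p * p) * t := by group
      rw [this, pt, p2, mul_one, mul_assoc, h.tL hy, ← mul_assoc, h.t2, one_mul]
    rw [e2, c1.mul_mul_mul_comm, εo.symm.mul_mul_mul_comm, ε2, one_mul, e3] at sq
    refine y1 (h.eq_one hy ?_)
    rw [eq_inv_of_mul_eq_one_left sq]
    exact inv_mem (mul_mem ho ho)
theorem wh_iv_uniq (h2 : Two φ.range t) (k : Ln P e a) (hp : Iv C φ t e a p) (hp' : Iv C φ t e a p') :
    ∃ ε ∈ Eg C φ (span F {e, a}), p' = p * ε := by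
  obtain ⟨ε, hε, c, hc, ct, e1⟩ := h.wh_p0_uniq k.perp hp.toP0 hp'.toP0
  have hU := h.ti_pair k.perp
  have := h.wh_kill h2 hp.pt ⟨_, rfl⟩ (fun e2 => one_ne_zero ((h.x_eq_one k (c := 1)).1 (by rw [one_smul]; exact e2)))
    hp.co hp.sq (map_le_range _ _ hε) (h.E_sq hU hε) (hp.comm (h.R_le_Y (h.E_le_R hU hε))) hc ct (e1 ▸ hp'.sq)
  exact ⟨ε, hε, by rw [e1, this, mul_one]⟩

end Sit

namespace HW1

variable {w : V → V → G} {κ : F} (h : HW1 C φ t w κ)
include h

section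
variable {e a b : V}

theorem iv (k : P.B e a = 0) : Iv C φ t e a (w e a) := by
  exact ⟨⟨(h.mv e a k).cY, (h.mv e a k).pt⟩, (h.mv e a k).co, h.sq e a k⟩
theorem w_zero (e : V) : w e 0 = 1 := by
  have := h.dep e 0
  rwa [zero_smul, mul_zero, h.z_zero] at this
/-- `w e a` commutes with `τ p q c` if `p, q ⊥ e, a` -/
theorem comm_τ (k : P.B e a = 0) {p q : V} (k' : P.B p q = 0) (h1 : P.B e p = 0) (h2 : P.B e q = 0)
    (h3 : P.B a p = 0) (h4 : P.B a q = 0) (c : F) : Commute (w e a) (τ C φ p q c) := by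
  exact (((h.mv e a k).cY) _ (h.τ_mem_Y k' (h.wh_pp h1 h3) (h.wh_pp h2 h4) c)).symm
theorem comm_x (k : P.B e a = 0) {p q : V} (k' : P.B p q = 0) (h1 : P.B e p = 0) (h2 : P.B e q = 0)
    (h3 : P.B a p = 0) (h4 : P.B a q = 0) : Commute (w e a) (x C φ p q) :=
  h.comm_τ k k' h1 h2 h3 h4 0
theorem comm_z (k : P.B e a = 0) {p : V} (h1 : P.B e p = 0) (h3 : P.B a p = 0) (c : F) :
    Commute (w e a) (z C φ p c) :=
  h.comm_τ k (map_zero _) h1 (map_zero _) h3 (map_zero _) c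
theorem w_inv (k : P.B e a = 0) : (w e a)⁻¹ = w e a := inv_eq_of_mul_eq_one_right (h.sq e a k)
theorem comm_κ (k : P.B e a = 0) : Commute (w e a) (x C φ e (κ • a)) :=
  h.comm_x k (by simp [k]) (h.B_self e) (by simp [k]) (by rw [h.B_comm, k]) (by simp [h.B_self])
theorem symm' (k : P.B e a = 0) : w e a = w a e * x C φ e (κ • a) := by
  rw [h.symm e a k, mul_assoc, h.x_sq (by simp [k]), mul_one]
theorem wQ' (k : P.B e a = 0) (k' : P.B a b = 0) (c : F) :
    w e a * τ C φ a b c * w e a = τ C φ a b (c + κ * P.B e b) := by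
  have ka : P.B a e = 0 := by rw [h.B_comm, k]
  have e1 := h.symm a e ka
  have c1 : Commute (x C φ a (κ • e)) (τ C φ a b c) := h.τ_comm (by simp [ka]) k' 0 c
  calc w e a * τ C φ a b c * w e a
      = w a e * (x C φ a (κ • e) * τ C φ a b c * x C φ a (κ • e)) * w a e := by
        rw [e1]
        conv_lhs => rw [mul_assoc, mul_assoc, (h.comm_κ ka).eq]
        group
    _ = _ := by
        rw [c1.eq, mul_assoc (τ C φ a b c), h.x_sq (by simp [ka]), mul_one, h.wQ a e b c ka k']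
theorem E_comm (k : P.B e a = 0) {ε : G} (hε : ε ∈ Eg C φ (span F {e, a})) : Commute (w e a) ε :=
  ((h.mv e a k).cY _ (h.R_le_Y (h.E_le_R (h.ti_pair k) hε))).symm

/-- characterisation -/
theorem chr (k : Ln P e a) {p : G} (hp : Iv C φ t e a p)
    (h1 : ∀ b, P.B e b = 0 → p * x C φ e b * p = x C φ e b * z C φ e (κ * P.B a b))
    (h2 : ∀ b, P.B a b = 0 → p * x C φ a b * p = x C φ a b * z C φ a (κ * P.B e b)) :
    ∃ μ : F, p = w e a * x C φ e (μ • a) := by
  obtain ⟨ε, hε, rfl⟩ := h.wh_iv_uniq h.two' k (h.iv k.perp) hp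
  have ce := h.E_comm k.perp hε
  have ε2 := h.E_sq (h.ti_pair k.perp) hε
  have key : ∀ y : G, w e a * ε * y * (w e a * ε) = w e a * y * w e a → Commute ε y := by
    intro y hy
    have : ε * y * ε = y := by
      have e2 : w e a * (ε * y * ε) * w e a = w e a * y * w e a := by
        calc _ = w e a * ε * y * (ε * w e a) := by group
          _ = _ := by rw [← ce.eq, hy]
      exact mul_left_cancel (mul_right_cancel e2)
    calc ε * y = ε * y * ε * ε := by rw [mul_assoc _ ε ε, ε2, mul_one]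
      _ = y * ε := by rw [this]
  have ka : P.B a e = 0 := by rw [h.B_comm, k.perp]
  obtain ⟨r, v, r', rfl⟩ := (h.mem_El k).1 hε
  have hv : P.B e (v • a) = 0 := by simp [k.perp]
  have xz : x C φ e (v • a) * z C φ e r = z C φ e r * x C φ e (v • a) :=
    (h.τ_comm hv (map_zero _) 0 r).eq
  have r0 : r' = 0 := by
    refine h.wh_eps k (r := r) hv fun b hb => ?_
    rw [h.τ_eq hv, xz]
    refine key _ ?_
    rw [h1 b hb, ← h.τ_eq hb]
    exact (zero_add (κ * P.B a b)) ▸ (h.wQ e a b 0 k.perp hb).symm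
  subst r0
  have hv' : P.B a (v • e) = 0 := by simp [ka]
  have e3 : x C φ e (v • a) = x C φ a (v • e) := by
    rw [h.x_symm hv, h.x_smul ka]
  have r0 : r = 0 := by
    refine h.wh_eps (h.ln_symm k) (r := 0) hv' fun b hb => ?_
    have := key (x C φ a b) (by
      rw [h2 b hb, ← h.τ_eq hb]
      exact (zero_add (κ * P.B e b)) ▸ (h.wQ' k.perp hb 0).symm)
    rw [h.z_zero, mul_one, ← xz, e3] at this
    exact this
  subst r0
  exact ⟨v, by rw [h.z_zero, h.z_zero, one_mul, mul_one]⟩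

theorem add_left' (add : ∀ e a b, P.B e a = 0 → P.B e b = 0 → P.B a b = 0 → w e (a + b) = w e a * w e b)
    (k : P.B e a = 0) (h1 : P.B e b = 0) (h2 : P.B a b = 0) :
    w (a + b) e = w a e * w b e := by
  have ha : P.B e (κ • a) = 0 := by simp [k]
  have hb' : P.B e (κ • b) = 0 := by simp [h1]
  have c1 : Commute (w e b) (x C φ e (κ • a)) :=
    h.comm_x h1 ha (h.B_self e) ha (by rw [h.B_comm, h1]) (by simp [h.B_comm b a, h2])
  rw [h.symm e _ (by simp [k, h1]), h.symm e a k, h.symm e b h1, add _ _ _ k h1 h2, smul_add,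
    h.x_add ha hb' (by simp [h2])]
  simp only [mul_assoc]
  rw [← c1.left_comm]

theorem cx' (add : ∀ e a b, P.B e a = 0 → P.B e b = 0 → P.B a b = 0 → w e (a + b) = w e a * w e b)
    {u v c : V} (k : P.B u v = 0) (h1 : P.B e u = 0) (h2 : P.B e v = 0) (h3 : P.B e c = 0) :
    w u v * x C φ e c * w u v = x C φ e c * w e (P.B c u • v + P.B c v • u) *
      x C φ e ((κ * P.B c v) • u) * z C φ e (κ * P.B c u * P.B c v) := by
  obtain ⟨α, hα⟩ : ∃ α, α = P.B c u := ⟨_, rfl⟩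
  obtain ⟨β, hβ⟩ : ∃ β, β = P.B c v := ⟨_, rfl⟩
  rw [← hα, ← hβ]
  have ue : P.B u e = 0 := by rw [h.B_comm, h1]
  have ve : P.B v e = 0 := by rw [h.B_comm, h2]
  have vu : P.B v u = 0 := by rw [h.B_comm, k]
  have xi : (φ (C.T e c 0))⁻¹ = x C φ e c := h.τ_inv h3 0
  have e1 : x C φ e c * w u v * x C φ e c = w (u + α • e) (v + β • e) := by
    have := h.eqv (C.T e c 0) u v k
    rw [h.x_app h3, h.x_app h3, h1, h2, ← hα, ← hβ, zero_smul, add_zero, add_zero, xi] at this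
    exact this
  have hm : P.B e (α • v + β • u) = 0 := by simp [h1, h2]
  have e2 : w (u + α • e) (v + β • e) = w u v * (w e (α • v + β • u) *
      x C φ e ((κ * β) • u) * z C φ e (κ * α * β)) := by
    rw [add _ _ _ (by simp [k, h2]) (by simp [ue, h.B_self]) (by simp [ve]),
      h.add_left' add vu (by simp [ve]) (by simp [ue]),
      h.add_left' add (e := β • e) (by simp [h1]) (by simp [h.B_self]) (by simp [ue]),
      h.smul e v α h2, h.smul e (β • e) α (by simp [h.B_self]), smul_smul, h.dep,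
      ← h.smul u e β ue, h.symm e (β • u) (by simp [h1]), smul_smul,
      add _ _ _ (by simp [h2]) (by simp [h1]) (by simp [vu]), mul_assoc κ]
    simp only [mul_assoc]
  obtain ⟨R, hR⟩ : ∃ R, R = w e (α • v + β • u) * x C φ e ((κ * β) • u) * z C φ e (κ * α * β) :=
    ⟨_, rfl⟩
  have cR : Commute (x C φ e c) R := by
    rw [hR]
    refine Commute.mul_right (Commute.mul_right ?_ (h.τ_comm h3 (by simp [h1]) 0 0))
      (h.τ_comm h3 (map_zero _) 0 _)
    have := h.eqv (C.T e c 0) e _ hm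
    rw [h.x_app h3, h.x_app h3, h.B_self, hm, h.B_comm c e, h3] at this
    simp only [map_add, map_smul, smul_eq_mul, ← hα, ← hβ, mul_comm β α, h.add_self, zero_smul,
      add_zero] at this
    exact mul_inv_eq_iff_eq_mul.1 this
  rw [e2, ← hR] at e1
  rw [mul_assoc (x C φ e c), mul_assoc (x C φ e c), ← hR, cR.eq]
  calc _ = w u v * (x C φ e c * w u v * x C φ e c) * x C φ e c := by
        simp only [mul_assoc]; rw [h.x_sq h3, mul_one]
    _ = _ := by rw [e1, ← mul_assoc, h.sq u v k, one_mul]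

end

theorem hw2 (add : ∀ e a b, P.B e a = 0 → P.B e b = 0 → P.B a b = 0 → w e (a + b) = w e a * w e b)
    (com : ∀ e a b, P.B e a = 0 → P.B e b = 0 → Commute (w e a) (w e b)) : HW2 C φ t w κ :=
  { h with
    add := add
    com := com
    cx := fun _ _ _ _ k h1 h2 h3 => h.cx' add k h1 h2 h3 }

end HW1

namespace HW2

variable {w : V → V → G} {κ δ : F} (h : HW2 C φ t w κ)
include h

/-- hats in a totally isotropic plane commute -/
theorem com_pl {e u v m : V} (k : P.B u v = 0) (h1 : P.B e u = 0) (h2 : P.B e v = 0)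
    (hm : m ∈ span F {u, v}) : Commute (w u v) (w e m) := by
  obtain ⟨l, μ, rfl⟩ := Submodule.mem_span_pair.1 hm
  have H := h.toHW1
  have ue : P.B u e = 0 := by rw [h.B_comm, h1]
  have ve : P.B v e = 0 := by rw [h.B_comm, h2]
  have vu : P.B v u = 0 := by rw [h.B_comm, k]
  have key : ∀ {u v : V} (l : F), P.B u v = 0 → P.B e u = 0 → P.B e v = 0 →
      Commute (w u v) (w e (l • u)) := by
    intro u v l k h1 h2
    have ue : P.B u e = 0 := by rw [h.B_comm, h1]
    have ve : P.B v e = 0 := by rw [h.B_comm, h2]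
    have vu : P.B v u = 0 := by rw [h.B_comm, k]
    rw [H.symm' (e := e) (a := l • u) (by simp [h1]), h.smul u e l ue]
    exact (h.com u v _ k (by simp [ue])).mul_right
      (H.comm_x k (by simp [h1]) ue (by simp [h.B_self]) ve (by simp [vu]))
  rw [h.add e _ _ (by simp [h1]) (by simp [h2]) (by simp [k])]
  refine (key l k h1 h2).mul_right ?_
  rw [h.symm v u vu]
  exact (key μ vu h2 h1).mul_left (H.comm_x (by simp [h2]) (by simp [vu]) h2 (by simp [h1])
    (by simp [h.B_self]) (by simp [vu])).symm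

theorem com4 {u v e c : V} (h1 : P.B u v = 0) (h2 : P.B e u = 0) (h3 : P.B e v = 0) (h4 : P.B e c = 0)
    (h5 : P.B c u = 0) (h6 : P.B c v = 0) : Commute (w u v) (w e c) := by
  have uc := (h.B_comm u c).trans h5
  have vc := (h.B_comm v c).trans h6
  by_cases k : Ln P u v
  · exact h.com_pl h1 h2 h3 (h.mem_ln k uc vc)
  by_cases h0 : u = 0
  · rw [h0, h.zero]; exact Commute.one_left _
  obtain ⟨a, rfl⟩ := Submodule.mem_span_singleton.1 (by_contra fun hn => k ⟨h0, hn, h1⟩)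
  rw [h.dep]
  exact (h.toHW1.comm_z h4 h2 h5 _).symm

theorem shj_hE : Emb C φ := h.toHW1.toSit.toEmb

theorem shj_hM : Mod C := h.toHW1.toSit.toEmb.toMod

theorem shj_wz {e a : V} (k : P.B e a = 0) (c : F) : Commute (w e a) (z C φ e c) := by
  refine shj_comm (h.sq e a k) ?_
  have := h.wQ e a 0 c k (by simp)
  rwa [map_zero, mul_zero, add_zero] at this

theorem shj_wQ' {e a b : V} (k : P.B e a = 0) (k' : P.B a b = 0) (c : F) :
    w e a * τ C φ a b c * w e a = τ C φ a b (c + κ * P.B e b) := by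
  have ka : P.B a e = 0 := by rw [h.shj_hM.B_comm, k]
  have kb : P.B a (κ • e) = 0 := by rw [h.shj_hM.wh_Br, ka, mul_zero]
  have e1 := h.symm a e ka
  have e2 := shj_swap (h.sq e a k) (h.sq a e ka) (h.shj_hE.x_sq kb) e1
  have e3 : x C φ a (κ • e) * τ C φ a b c * x C φ a (κ • e) = τ C φ a b c :=
    shj_conj (h.shj_hE.x_sq kb) (h.shj_hE.τ_comm kb k' 0 c)
  calc w e a * τ C φ a b c * w e a
      = (w a e * x C φ a (κ • e)) * τ C φ a b c * (x C φ a (κ • e) * w a e) := by rw [← e1, ← e2]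
    _ = w a e * (x C φ a (κ • e) * τ C φ a b c * x C φ a (κ • e)) * w a e := by group
    _ = _ := by rw [e3, h.wQ a e b c ka k']

theorem shj_exD0 (hκ : κ = 0) (δ' : F) : ShjD C φ w κ δ' := by
  intro e a b _ _
  subst hκ
  rw [zero_smul, add_zero, h.toHW1.w_zero, zero_mul, zero_mul, h.shj_hE.z_zero, mul_one, mul_one]

theorem shj_step {δ' : F} (D : ShjD C φ w κ δ') {W W' : G} {s : S} {e c m n m₀ : V} {r : F}
    (hW : W' = W * φ s) (s2 : s * s = 1) (W2 : W * W = 1) (W2' : W' * W' = 1)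
    (se : C.act s e = e) (sm : C.act s m = m) (sn : C.act s n = n) (sc : C.act s c = c + κ • m₀)
    (kc : P.B e c = 0) (km : P.B e m = 0) (kn : P.B e n = 0) (k0 : P.B e m₀ = 0)
    (k1 : P.B m m₀ = 0) (R : W * w e c * W = w e c * w e m * τ C φ e n r) :
    W' * w e c * W' = w e c * w e (m + κ • m₀) * τ C φ e n (r + κ * δ' * P.B c m₀) := by
  have s2' : φ s * φ s = 1 := by rw [← map_mul, s2, map_one]
  have e1 := shj_swap W2' W2 s2' hW
  have e2 : (φ s)⁻¹ = φ s := inv_eq_of_mul_eq_one_right s2'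
  have k0' : P.B e (κ • m₀) = 0 := by rw [h.shj_hM.wh_Br, k0, mul_zero]
  have k1' : P.B m (κ • m₀) = 0 := by rw [h.shj_hM.wh_Br, k1, mul_zero]
  have a1 := h.eqv s e c kc
  have a2 := h.eqv s e m km
  have a3 := h.shj_hE.τ_conj s kn r
  rw [se, sc, D e c m₀ kc k0] at a1
  rw [se, sm] at a2
  rw [se, sn] at a3
  have a4 : τ C φ e n (r + κ * δ' * P.B c m₀) = z C φ e (κ * δ' * P.B c m₀) * τ C φ e n r := by
    have := h.shj_hE.τ_mul (e := e) (a := 0) (by simp) kn (κ * δ' * P.B c m₀) r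
    rw [zero_add, map_zero, LinearMap.zero_apply, add_zero, add_comm] at this
    exact this.symm
  have a5 := (h.shj_wz km (κ * δ' * P.B c m₀)).eq
  have a6 := (h.com e m _ km k0').eq
  calc W' * w e c * W' = (φ s * W) * w e c * (W * (φ s)⁻¹) := by rw [e2, ← hW, ← e1]
    _ = φ s * (W * w e c * W) * (φ s)⁻¹ := by group
    _ = (φ s * w e c * (φ s)⁻¹) * (φ s * w e m * (φ s)⁻¹) * (φ s * τ C φ e n r * (φ s)⁻¹) := by
      rw [R]; group
    _ = w e c * w e (κ • m₀) * (z C φ e (κ * δ' * P.B c m₀) * w e m) * τ C φ e n r := by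
      rw [a1, a2, a3]; group
    _ = w e c * (w e (κ • m₀) * w e m) * (z C φ e (κ * δ' * P.B c m₀) * τ C φ e n r) := by
      rw [← a5]; group
    _ = _ := by rw [← a6, ← a4, h.add e m _ km k0' k1']

theorem shj_T_shift {δ' : F} (D : ShjD C φ w κ δ') {u v e c : V} (h1 : P.B u v = 0) (h2 : P.B e u = 0)
    (h3 : P.B e v = 0) (h4 : P.B e c = 0) (μ : F) (R : ShjT C φ w κ δ δ' u v e c) :
    ShjT C φ w κ δ δ' u (v + μ • u) e c := by
  have M := h.shj_hM
  have h1' : P.B v u = 0 := by rw [M.B_comm, h1]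
  have h2' : P.B u e = 0 := by rw [M.B_comm, h2]
  have huu := M.B_self u
  have := h.shj_step D (s := C.T u 0 (κ * μ)) (m₀ := (μ * P.B c u) • u) (h.shift u v μ h1)
    (M.T_sq (by simp) _) (h.sq u v h1) (h.sq u _ (by simp [h1, huu]))
    (by rw [M.z_app]; simp [h2']) (by rw [M.z_app]; simp [h1, huu]) (by rw [M.z_app]; simp [h1, huu])
    (by rw [M.z_app, M.B_comm u c, smul_smul, mul_assoc]) h4 (by simp [h2, h3]) (by simp [h2, h3])
    (by simp [h2]) (by simp [h1', huu]) R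
  unfold ShjT
  rw [this]
  have two := M.two
  congr 2
  · congr 1
    simp only [map_add, map_smul, smul_eq_mul]
    linear_combination (norm := module) (two * (-(μ * P.B c u))) • u
  · simp only [map_add, map_smul, smul_eq_mul]
    linear_combination (norm := module) (two * (-(δ * μ * P.B c u))) • u
  · simp only [map_add, map_smul, smul_eq_mul]
    ring

theorem shj_T_swap {δ' : F} (D : ShjD C φ w κ δ') {u v e c : V} (h1 : P.B u v = 0) (h2 : P.B e u = 0)
    (h3 : P.B e v = 0) (h4 : P.B e c = 0) (R : ShjT C φ w κ δ δ' u v e c) :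
    ShjT C φ w κ δ δ' v u e c := by
  have M := h.shj_hM
  have h1' : P.B v u = 0 := by rw [M.B_comm, h1]
  have h2' : P.B u e = 0 := by rw [M.B_comm, h2]
  have h3' : P.B v e = 0 := by rw [M.B_comm, h3]
  have huu := M.B_self u
  have hvv := M.B_self v
  have hk : P.B u (κ • v) = 0 := by simp [h1]
  have := h.shj_step D (s := C.T u (κ • v) 0) (m₀ := P.B c v • u + P.B c u • v) (h.symm u v h1)
    (M.T_sq hk _) (h.sq u v h1) (h.sq v u h1')
    (by rw [M.x_app hk, M.B_smul_left]; simp [h2', h3'])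
    (by rw [M.x_app hk, M.B_smul_left]; simp [h1, h1', huu, hvv])
    (by rw [M.x_app hk, M.B_smul_left]; simp [h1, h1', huu, hvv])
    (by rw [M.x_app hk, M.B_smul_left, M.B_comm u c, M.B_comm v c]; module) h4
    (by simp [h2, h3]) (by simp [h2, h3])
    (by simp [h2, h3]) (by rw [M.B_comm]; simp [h1, h1', huu, hvv]) R
  unfold ShjT
  rw [this]
  have two := M.two
  congr 2
  · congr 1
    linear_combination (norm := module) (two * (κ * P.B c v)) • u
  · rw [add_comm]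
  · simp only [map_add, map_smul, smul_eq_mul]
    linear_combination two * (κ * δ' * P.B c u * P.B c v)

theorem shj_T_smul {δ' : F} {u v e c : V} (h1 : P.B u v = 0) (l : F)
    (R : ShjT C φ w κ δ δ' u (l • v) e c) : ShjT C φ w κ δ δ' (l • u) v e c := by
  unfold ShjT at R ⊢
  rw [h.smul u v l h1, R]
  simp only [map_smul, smul_eq_mul]
  congr 2
  · congr 1
    module
  · module
  · ring

theorem shj_T_nf {δ' : F} (hκ : κ = 0 ∨ κ = 1) {u v e c : V} (h1 : P.B u v = 0)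
    (h2 : P.B e u = 0) (h3 : P.B e v = 0) (h4 : P.B e c = 0) (h5 : P.B c u = 1) (h5' : P.B c v = 0) :
    ShjT C φ w κ δ δ' u v e c := by
  have M := h.shj_hM
  have E := h.shj_hE
  unfold ShjT
  rw [h5, h5', mul_zero, mul_zero, zero_smul, add_zero, one_smul]
  have u0 : u ≠ 0 := by
    rintro rfl
    simp at h5
  by_cases a1 : v ∈ span F {u}
  · obtain ⟨μ, rfl⟩ := Submodule.mem_span_singleton.1 a1
    rw [M.wh_Br, h5, mul_one] at h5'
    subst h5'
    rw [zero_smul, smul_zero, h.toHW1.w_zero, h.toHW1.w_zero, one_mul, mul_one]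
    exact (mul_one _).symm.trans (congrArg _ (E.x_zero e).symm)
  by_cases a2 : e ∈ span F {u, v}
  · obtain ⟨a, b, rfl⟩ := Submodule.mem_span_pair.1 a2
    have a0 : a = 0 := by
      rw [M.B_comm] at h4
      simpa [h5, h5'] using h4
    subst a0
    rw [zero_smul, zero_add] at h2 h3 h4 ⊢
    by_cases b0 : b = 0
    · subst b0
      rw [zero_smul, h.zero, h.zero, mul_one, h.sq u v h1, one_mul, one_mul]
      exact (E.x_zero' _).symm
    obtain ⟨e, he⟩ : ∃ e, e = b • v := ⟨_, rfl⟩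
    have hv : v = b⁻¹ • e := by rw [he, smul_smul, inv_mul_cancel₀ b0, one_smul]
    rw [← he] at h2 h3 h4 ⊢
    subst hv
    have h2' : P.B u e = 0 := by rw [M.B_comm, h2]
    have k1 : P.B e (b⁻¹ • u) = 0 := by simp [h2]
    have k2 : P.B e (κ • b⁻¹ • u) = 0 := by simp [h2]
    have e1 : w u (b⁻¹ • e) = w e (b⁻¹ • u) * x C φ e (κ • b⁻¹ • u) := by
      rw [← h.smul u e _ h2', h.symm e _ k1]
    have e2 := shj_swap (h.sq _ _ h1) (h.sq _ _ k1) (E.x_sq k2) e1
    have e3 := shj_conj (h.sq _ _ k1) (h.com e _ c k1 h4)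
    have e4 := h.wQ e c _ 0 h4 k2
    have e5 := E.τ_mul k2 k2 (0 + κ * P.B c (κ • b⁻¹ • u)) 0
    have e6 : κ * κ = κ := by rcases hκ with rfl | rfl <;> simp
    rw [M.vadd_self, M.B_self, M.wh_Br, M.wh_Br, h5, mul_one, zero_add, add_zero, add_zero,
      ← mul_assoc, e6] at e5
    rw [M.wh_Br, M.wh_Br, h5, mul_one, zero_add, ← mul_assoc, e6] at e4
    have e7 : τ C φ e (δ • b⁻¹ • e) 0 = 1 := by rw [smul_smul]; exact E.x_self e _
    have e8 := h.sq e c h4
    rw [e7, h.dep, mul_one]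
    calc w u (b⁻¹ • e) * w e c * w u (b⁻¹ • e)
        = (x C φ e (κ • b⁻¹ • u) * w e (b⁻¹ • u)) * w e c *
            (w e (b⁻¹ • u) * x C φ e (κ • b⁻¹ • u)) := by rw [← e1, ← e2]
      _ = x C φ e (κ • b⁻¹ • u) * (w e (b⁻¹ • u) * w e c * w e (b⁻¹ • u)) *
            x C φ e (κ • b⁻¹ • u) := by group
      _ = (w e c * w e c) * x C φ e (κ • b⁻¹ • u) * w e c * x C φ e (κ • b⁻¹ • u) := by
        rw [e3, e8, one_mul]
      _ = w e c * ((w e c * τ C φ e (κ • b⁻¹ • u) 0 * w e c) * τ C φ e (κ • b⁻¹ • u) 0) := by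
        simp only [mul_assoc]; rfl
      _ = _ := by rw [e4, e5]; rfl
  · exact absurd (M.mem_ln ⟨u0, a1, h1⟩ ((M.B_comm u e).trans h2) ((M.B_comm v e).trans h3)) a2

theorem shj_T_ne {δ' : F} (D : ShjD C φ w κ δ') (hκ : κ = 0 ∨ κ = 1) {u v e c : V}
    (h1 : P.B u v = 0) (h2 : P.B e u = 0) (h3 : P.B e v = 0) (h4 : P.B e c = 0) (h5 : P.B c u ≠ 0) :
    ShjT C φ w κ δ δ' u v e c := by
  have M := h.shj_hM
  obtain ⟨α, hα⟩ : ∃ α, α = P.B c u := ⟨_, rfl⟩
  rw [← hα] at h5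
  obtain ⟨u₁, hu⟩ : ∃ u₁, u₁ = α⁻¹ • u := ⟨_, rfl⟩
  have k0 : P.B c u₁ = 1 := by rw [hu, M.wh_Br, ← hα, inv_mul_cancel₀ h5]
  have k1 : P.B u₁ v = 0 := by rw [hu, M.B_smul_left, h1, mul_zero]
  have k2 : P.B e u₁ = 0 := by rw [hu, M.wh_Br, h2, mul_zero]
  have e1 : u = α • u₁ := by rw [hu, smul_smul, mul_inv_cancel₀ h5, one_smul]
  rw [e1]
  refine h.shj_T_smul k1 α ?_
  have e2 : α • v = (α • v + (α * P.B c v) • u₁) + (α * P.B c v) • u₁ := by
    rw [add_assoc, M.vadd_self, add_zero]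
  rw [e2]
  have k3 : P.B u₁ (α • v + (α * P.B c v) • u₁) = 0 := by simp [k1, M.B_self]
  have k4 : P.B e (α • v + (α * P.B c v) • u₁) = 0 := by simp [k2, h3]
  refine h.shj_T_shift D k3 k2 k4 h4 _ (h.shj_T_nf hκ k3 k2 k4 h4 k0 ?_)
  simp [k0, M.add_self]

theorem shj_T_all {δ' : F} (D : ShjD C φ w κ δ') (hκ : κ = 0 ∨ κ = 1) {u v e c : V}
    (h1 : P.B u v = 0) (h2 : P.B e u = 0) (h3 : P.B e v = 0) (h4 : P.B e c = 0) :
    ShjT C φ w κ δ δ' u v e c := by
  by_cases a1 : P.B c u = 0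
  · by_cases a2 : P.B c v = 0
    · unfold ShjT
      rw [a1, a2, shj_conj (h.sq u v h1) (h.com4 h1 h2 h3 h4 a1 a2)]
      simp only [mul_zero, zero_smul, add_zero, smul_zero]
      rw [h.toHW1.w_zero, mul_one]
      exact (mul_one _).symm.trans (congrArg _ (h.shj_hE.x_zero e).symm)
    · have h1' : P.B v u = 0 := by rw [h.shj_hM.B_comm, h1]
      exact h.shj_T_swap D h1' h3 h2 h4 (h.shj_T_ne D hκ h1' h3 h2 h4 a2)
  · exact h.shj_T_ne D hκ h1 h2 h3 h4 a1

theorem shj_exD (hκ : κ = 0 ∨ κ = 1) (del : κ = 1 → ∀ e a b, P.B e a = 0 → P.B e b = 0 →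
    w e a * w e b = w e (a + b) * z C φ e (δ * P.B a b)) : ShjD C φ w κ δ := by
  rcases hκ with hκ | hκ
  · exact h.shj_exD0 hκ δ
  · intro e a b k k'
    have := del hκ e a b k k'
    subst hκ
    rw [one_smul, one_mul, this, mul_assoc, h.shj_hE.z_sq, mul_one]

theorem cw (hκ : κ = 0 ∨ κ = 1) (D : ShjD C φ w κ δ) {u v e c : V} (h1 : P.B u v = 0) (h2 : P.B e u = 0)
    (h3 : P.B e v = 0) (h4 : P.B e c = 0) :
    w u v * w e c * w u v = w e c * w e (P.B c u • v + ((1 + κ) * P.B c v) • u) *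
      x C φ e (δ • (P.B c u • v + P.B c v • u)) * z C φ e (κ * δ * P.B c u * P.B c v) := by
  have := h.shj_T_all (δ := δ) D hκ h1 h2 h3 h4
  unfold ShjT at this
  rw [this, h.shj_hE.τ_eq (by simp [h2, h3]), ← mul_assoc]

theorem shj_ct_ln (hκ : κ = 0 ∨ κ = 1) {g : G} {α : RingAut F} {γ : AV V} (hg : g * t = t * g)
    (k : Act C φ g α γ) {e a : V} (l : Ln P e a) :
    ∃ μ : F, g * w e a * g⁻¹ = w (γ e) (γ a) * x C φ (γ e) (μ • γ a) := by
  have M := h.shj_hM
  have E := h.shj_hE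
  have i := h.toHW1.iv l.perp
  have ακ : α κ = κ := by rcases hκ with rfl | rfl <;> simp
  have ka : P.B a e = 0 := by rw [M.B_comm, l.perp]
  have cj : ∀ y, g * w e a * g⁻¹ * (g * y * g⁻¹) * (g * w e a * g⁻¹) =
      g * (w e a * y * w e a) * g⁻¹ := fun y => by group
  have perp : ∀ p q, P.B (γ p) (γ q) = 0 → P.B p q = 0 := fun p q e1 => by
    rw [k.B_eq] at e1
    exact (map_eq_zero_iff α α.injective).1 e1
  refine h.toHW1.chr (SI_ln k.toSI l) ⟨⟨?_, ?_⟩, h.toHW1.toSit.co_conj' hg i.co, ?_⟩ ?_ ?_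
  · rintro _ ⟨s, hs, rfl⟩
    have k' := E.act_inv k
    obtain ⟨s', hs'⟩ := M.exists_conj k'.toSI s
    have e1 := k'.conj s s' hs'
    have e2 : ∀ v, C.act s (γ v) = γ v → C.act s' v = v := fun v e3 => by
      have := hs' (γ v)
      rw [e3] at this
      simpa using this
    have e3 : φ s' ∈ Yg C φ (span F {e, a}) := by
      refine ⟨s', C.mem_fixG.2 fun v hv => ?_, rfl⟩
      obtain ⟨p, q, rfl⟩ := Submodule.mem_span_pair.1 hv
      rw [map_add, map_smul, map_smul,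
        e2 e (C.mem_fixG.1 hs _ (Submodule.subset_span (by simp))),
        e2 a (C.mem_fixG.1 hs _ (Submodule.subset_span (by simp)))]
    have e4 := i.cY _ e3
    have e5 : φ s = g * φ s' * g⁻¹ := by rw [← e1]; group
    rw [e5]
    calc g * φ s' * g⁻¹ * (g * w e a * g⁻¹) = g * (φ s' * w e a) * g⁻¹ := by group
      _ = _ := by rw [e4]; group
  · have e1 : t = g * t * g⁻¹ := by rw [hg, mul_inv_cancel_right]
    calc g * w e a * g⁻¹ * t * (g * w e a * g⁻¹)⁻¹
        = g * w e a * g⁻¹ * (g * t * g⁻¹) * (g * w e a * g⁻¹)⁻¹ := by rw [← e1]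
      _ = g * (w e a * t * (w e a)⁻¹) * g⁻¹ := by group
      _ = (g * t * g⁻¹) * (g * x C φ e a * g⁻¹) := by rw [i.pt]; group
      _ = _ := by rw [← e1, E.act_x k l.perp]
  · calc g * w e a * g⁻¹ * (g * w e a * g⁻¹) = g * (w e a * w e a) * g⁻¹ := by group
      _ = 1 := by rw [i.sq]; group
  · intro b hb
    obtain ⟨b, rfl⟩ := γ.surjective b
    have hb' := perp _ _ hb
    have e1 := h.wQ e a b 0 l.perp hb'
    have e2 : x C φ e b = τ C φ e b 0 := rfl
    rw [← E.τ_eq hb, ← E.act_x k hb', cj, e2, e1, E.act_τ k hb', zero_add, map_mul, ακ, k.B_eq]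
  · intro b hb
    obtain ⟨b, rfl⟩ := γ.surjective b
    have hb' := perp _ _ hb
    have e1 := h.shj_wQ' l.perp hb' 0
    have e2 : x C φ a b = τ C φ a b 0 := rfl
    rw [← E.τ_eq hb, ← E.act_x k hb', cj, e2, e1, E.act_τ k hb', zero_add, map_mul, ακ, k.B_eq]

theorem ct (hκ : κ = 0 ∨ κ = 1) {g : G} {α : RingAut F} {γ : AV V} (hg : g * t = t * g)
    (k : Act C φ g α γ) : ∃ μ : F, ∀ e a, P.B e a = 0 →
      g * w e a * g⁻¹ = w (γ e) (γ a) * x C φ (γ e) (μ • γ a) := by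
  have M := h.shj_hM
  have E := h.shj_hE
  have ακ : α κ = κ := by rcases hκ with rfl | rfl <;> simp
  obtain ⟨e₀, h0⟩ := M.exists_ne0
  obtain ⟨a₀, l₀⟩ := M.exists_ln h0
  obtain ⟨μ, hμ⟩ := h.shj_ct_ln hκ hg k l₀
  refine ⟨μ, fun e a k' => ?_⟩
  by_cases he : e = 0
  · subst he
    rw [map_zero, h.zero, h.zero, E.x_zero']
    group
  by_cases ha : a ∈ span F {e}
  · obtain ⟨l, rfl⟩ := Submodule.mem_span_singleton.1 ha
    rw [k.semi, h.dep, h.dep, smul_smul, E.x_self, mul_one, E.act_z k, map_mul, ακ]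
  obtain ⟨s, s1, s2⟩ := M.trans_ln l₀ ⟨he, ha, k'⟩
  obtain ⟨s', hs'⟩ := M.exists_conj k.toSI s
  have e1 := k.conj s s' hs'
  have l₁ := SI_ln k.toSI l₀
  have e2 := h.eqv s e₀ a₀ l₀.perp
  have e3 := h.eqv s' _ _ l₁.perp
  have e4 := E.x_conj s' (e := γ e₀) (a := μ • γ a₀) (by rw [M.wh_Br, l₁.perp, mul_zero])
  rw [map_smul, hs', hs', s1, s2] at e4
  rw [hs', hs', s1, s2] at e3
  rw [s1, s2] at e2
  calc g * w e a * g⁻¹ = (g * φ s * g⁻¹) * (g * w e₀ a₀ * g⁻¹) * (g * φ s * g⁻¹)⁻¹ := by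
        rw [← e2]; group
    _ = (φ s' * w (γ e₀) (γ a₀) * (φ s')⁻¹) * (φ s' * x C φ (γ e₀) (μ • γ a₀) * (φ s')⁻¹) := by
        rw [e1, hμ]; group
    _ = _ := by rw [e3, e4]

theorem hw (hκ : κ = 0 ∨ κ = 1) (del : κ = 1 → ∀ e a b, P.B e a = 0 → P.B e b = 0 →
    w e a * w e b = w e (a + b) * z C φ e (δ * P.B a b)) : HW C φ t w κ δ :=
  { h.toHW1.toSit with
    two' := h.two'
    kk := hκ
    mv := h.mv
    sq := h.sq
    eqv := h.eqv
    shift := h.shift
    smul := h.smul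
    symm := h.symm
    add := h.add
    wQ := h.wQ
    com := h.com
    cx := h.cx
    cw := fun _ _ _ _ h1 h2 h3 h4 => h.cw hκ (h.shj_exD hκ del) h1 h2 h3 h4
    del := del
    ct := fun _ _ _ hg k => h.ct hκ hg k
    act := h.act }

end HW2

end CfsgLib.SP4
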