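import Cfsg.Agent.Lib.SP4.ABas0
import Cfsg.Agent.Lib.SP4.AEm
import Cfsg.Agent.Lib.SP4.WF
import Cfsg.Agent.Lib.SP4.WH
import Cfsg.Agent.Lib.SP4.Mov

/-! The relation (Yw): definitions -/

set_option autoImplicit false
set_option linter.unusedSectionVars false

namespace CfsgLib.SP4

open Subgroup Module CfsgLib.Forms CfsgLib.LieMult
open CfsgLib.HX (Std CO Two Mv M2)
open CfsgLib.UN (AV SI TI HH Rad Stb Yg Rg Eg Act nu)
open CfsgLib.ClSys (II)
open Submodule (span)
open scoped commutatorElement Pointwise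
open CfsgLib.HX (QA)

universe u

variable {F : Type} [Field F] [Finite F] {V : Type} [AddCommGroup V] [Module F V]
  [FiniteDimensional F V] {P : PQ (RingHom.id F) V} {S : Type} [Group S] [Finite S] {G : Type u}
  [Group G] [Finite G] {C : CG P S} {φ : S →* G} {t : G}

section
variable (C φ)

/-- (Yw) with unknown constants -/
def YwR (w : V → V → G) (y : V → F → G) (δ v₀ r₀ : F) : Prop :=
  ∀ (e u c : V) (β : F), P.B e u = 0 → P.B e c = 0 → y u β * w e c * y u β =
    w e c * w e ((P.B c u * β) • u) * x C φ e ((v₀ * P.B c u * β) • u) *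
      y e ((1 + δ) * P.B c u * P.B c u * β) * z C φ e (r₀ * P.B c u * P.B c u * β)

/-- the hat of `Q_e` -/
def QH (w : V → V → G) (y : V → F → G) (e : V) : Subgroup G :=
  closure {g | ∃ a b r s, P.B e a = 0 ∧ P.B e b = 0 ∧ g = ab0N C φ w y e a b r s}

/-- short root elements over `F[ω]` -/
def XH (w : V → V → G) (v₀ : F) (e a : V) (β : QA F v₀) : G := x C φ e (β.re • a) * w e (β.im • a)

/-- long root elements over `F[ω]` -/
def ZH (y : V → F → G) (v₀ : F) (e : V) (s : QA F v₀) : G := z C φ e s.re * y e s.im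

end

/-- the error term -/
def eta (δ v₀ r₀ : F) (s : QA F v₀) : QA F v₀ := ⟨(δ + v₀) * s.re + (r₀ + v₀) * s.im, (δ + v₀) * s.im⟩

end CfsgLib.SP4
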