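import Cfsg.Agent.Lib.SP4.AYw0

/-! The relation (Yw) up to two constants -/

set_option autoImplicit false
set_option linter.unusedSectionVars false

namespace CfsgLib.SP4

open Subgroup Module CfsgLib.Forms CfsgLib.LieMult
open CfsgLib.HX (Std CO Two Mv M2)
open CfsgLib.UN (AV SI TI HH Rad Stb Yg Rg Eg Act nu)
open CfsgLib.ClSys (II)
open Submodule (span)
open scoped commutatorElement Pointwise
open CfsgLib.HX (QA)

universe u

variable {F : Type} [Field F] [Finite F] {V : Type} [AddCommGroup V] [Module F V]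
  [FiniteDimensional F V] {P : PQ (RingHom.id F) V} {S : Type} [Group S] [Finite S] {G : Type u}
  [Group G] [Finite G] {C : CG P S} {φ : S →* G} {t : G}

namespace HA

variable {w : V → V → G} {y : V → F → G} {δ : F} (h : HA C φ t w y δ) {e a b c : V} {r : F} {p : G}
include h

theorem ya_sq (k : P.B e b = 0) (r : F) : w e b * y e r * (w e b * y e r) = 1 := by
  rw [(h.yw' k r).mul_mul_mul_comm, h.sq e b k, h.y_sq, mul_one]

theorem ya_cQ (h0 : e ≠ 0) (k : P.B e b = 0) (r : F) :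
    w e b * y e r ∈ centralizer (Rg C φ (span F {e}) : Set G) := fun q hq => by
  obtain ⟨d, s, k', rfl⟩ := (h.mem_Q h0).1 hq
  exact (h.τw k k' s).mul_right (h.τy k' s r)

theorem ya_t (k : P.B e b = 0) (r : F) : w e b * y e r * t * (w e b * y e r)⁻¹ = t * τ C φ e b r := by
  have c1 : z C φ e r * w e b = w e b * z C φ e r := (h.τw k (b := 0) (by simp) r).eq
  calc _ = w e b * (y e r * t * (y e r)⁻¹) * (w e b)⁻¹ := by group
    _ = w e b * t * (w e b)⁻¹ * (w e b * z C φ e r) * (w e b)⁻¹ := by rw [(h.ymv e r).pt]; group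
    _ = _ := by rw [← c1, (h.mv e b k).pt, h.τ_eq k]; group

theorem ya_Y (k1 : P.B e a = 0) (k : P.B e b = 0) (s : F) : y a 1 * τ C φ e b s * y a 1 =
    τ C φ e b s * (w e (P.B b a • a) * y e (P.B b a * P.B b a)) := by
  have k4 : P.B e (P.B b a • a) = 0 := by simp [k1]
  have c1 : Commute (z C φ e s) (w e (P.B b a • a) * y e (P.B b a * P.B b a)) :=
    (h.τw k4 (b := 0) (by simp) s).mul_right (h.zy (h.B_self e) _ _)
  rw [h.τ_eq k, ← mul_assoc, mul_assoc _ (z C φ e s), (h.zy k1 s 1).eq, ← mul_assoc, h.Yx k1 k, mul_one, mul_one,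
    mul_assoc (x C φ e b), mul_assoc (x C φ e b), ← c1.eq, mul_assoc (x C φ e b)]

theorem uq (h0 : e ≠ 0) (k : P.B e b = 0) (ne : τ C φ e b r ≠ 1) (p2 : p * p = 1)
    (pQ : p ∈ centralizer (Rg C φ (span F {e}) : Set G)) (pt : p * t * p⁻¹ = t * τ C φ e b r) :
    ∃ d s, P.B e d = 0 ∧ p = w e b * y e r * τ C φ e d s := by
  have ct : Commute ((w e b * y e r)⁻¹ * p) t := ab0_coc (by
    calc _ = (w e b * y e r)⁻¹ * (p * t * p⁻¹) * (w e b * y e r) := by group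
      _ = _ := by rw [pt, ← h.ya_t k]; group)
  obtain ⟨ε, hε, c, hc, e1⟩ := h.cQ h0 (h.norm_of ct) (mul_mem (inv_mem (h.ya_cQ h0 k r)) pQ)
  have εL := h.Y_le_L (h.R_le_Y hε)
  have e2 := h.ct_of εL (e1 ▸ ct.eq)
  rw [inv_mul_eq_iff_eq_mul, ← mul_assoc] at e1
  have c1 := h.wh_kill h.two' (h.ya_t k r) ⟨_, rfl⟩ ne
    (fun o ho ot oo => Commute.mul_left ((h.mv e b k).co o ho ot oo) ((h.ymv e r).co o ho ot oo))
    (h.ya_sq k r) εL (h.Q_sq h0 hε) (h.ya_cQ h0 k r ε hε).symm hc e2 (e1 ▸ p2)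
  obtain ⟨d, s, k', rfl⟩ := (h.mem_Q h0).1 hε
  exact ⟨d, s, k', by rw [e1, c1, mul_one]⟩

theorem yw0 (h0 : e ≠ 0) (k1 : P.B e a = 0) (k2 : P.B e c = 0) (k3 : P.B c a = 1) : ∃ v r : F,
    y a 1 * w e c * y a 1 = w e c * w e a * x C φ e (v • a) * y e (1 + δ) * z C φ e r := by
  have Y2 := h.y_sq a 1
  have W2 := h.sq e c k2
  have k4 : P.B a e = 0 := by rw [h.B_comm, k1]
  have k5 : P.B a c = 1 := by rw [h.B_comm, k3]
  have k6 : P.B e (c + a) = 0 := by simp [k1, k2]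
  have cM : ∀ s, Commute (y a 1) (w e a * y e s) := fun s =>
    (h.yw a e a 1 k4 (h.B_self a) k1).mul_right (h.yy k4 _ _)
  have cj : ∀ {u v : G}, v * v = 1 → Commute v u → v * u * v = u := fun h1 h2 => by
    rw [h2.eq, mul_assoc, h1, mul_one]
  have p2 : y a 1 * w e c * y a 1 * (y a 1 * w e c * y a 1) = 1 := by rw [← ab0_conj Y2, W2, mul_one, Y2]
  have pQ : y a 1 * w e c * y a 1 ∈ centralizer (Rg C φ (span F {e}) : Set G) := fun q hq => by
    obtain ⟨d, s, k', rfl⟩ := (h.mem_Q h0).1 hq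
    have c1 : Commute (y a 1 * τ C φ e d s * y a 1) (w e c) := by
      rw [h.ya_Y k1 k']
      exact (h.τw k2 k' s).mul_left ((h.com e _ _ (by simp [k1]) k2).mul_left (h.yw' k2 _))
    calc _ = y a 1 * y a 1 * τ C φ e d s * (y a 1 * w e c * y a 1) := by rw [Y2, one_mul]
      _ = y a 1 * (y a 1 * τ C φ e d s * y a 1 * w e c) * y a 1 := by group
      _ = y a 1 * w e c * y a 1 * τ C φ e d s * (y a 1 * y a 1) := by rw [c1.eq]; group
      _ = _ := by rw [Y2, mul_one]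
  have e1 : y a 1 * t * y a 1 = t * z C φ a 1 := by rw [← (h.ymv a 1).pt, ab0_inv Y2]
  have e2 : w e c * t * w e c = t * x C φ e c := by rw [← (h.mv e c k2).pt, ab0_inv W2]
  have e3 : w e c * z C φ a 1 * w e c = w e a * y e 1 * z C φ e δ * z C φ a 1 := by
    have := h.Zw k1 k2 1
    simp only [k3, mul_one, one_smul] at this
    calc _ = w e c * (z C φ a 1 * w e c * z C φ a 1) * z C φ a 1 := by
          rw [mul_assoc (w e c) (_ * _), mul_assoc _ (z C φ a 1) (z C φ a 1), h.z_sq, mul_one, mul_assoc]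
      _ = w e c * w e c * (w e a * y e 1 * z C φ e δ) * z C φ a 1 := by rw [this]; group
      _ = _ := by rw [W2, one_mul]
  have e4 := h.Yx k1 k2 1
  simp only [k3, mul_one, one_smul] at e4
  have e5 := h.z_τ (u := a) 1 k2 δ
  rw [k4, k5, mul_zero, zero_smul, add_zero, mul_one, one_smul, h.τ_eq k2] at e5
  have pt : y a 1 * w e c * y a 1 * t * (y a 1 * w e c * y a 1)⁻¹ = t * τ C φ e (c + a) δ := by
    calc _ = y a 1 * (w e c * (y a 1 * t * y a 1) * w e c) * y a 1 := by rw [ab0_inv p2]; group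
      _ = t * z C φ a 1 * (x C φ e c * w e a * y e 1) * (w e a * y e 1 * z C φ e δ * z C φ a 1) := by
          rw [e1, ab0_conj W2, e2, e3, ab0_conj Y2, ab0_conj Y2, e1, e4,
            cj Y2 (((cM 1).mul_right (h.zy k1 δ 1).symm).mul_right (h.zy (h.B_self a) 1 1).symm)]
      _ = t * (z C φ a 1 * (x C φ e c * (w e a * y e 1 * (w e a * y e 1)) * z C φ e δ) * z C φ a 1) := by group
      _ = _ := by rw [h.ya_sq k1, mul_one, e5]
  have ln : Ln P e a := ⟨h0, fun hm => by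
    obtain ⟨l, rfl⟩ := Submodule.mem_span_singleton.1 hm
    rw [map_smul, h.B_comm, k2, smul_zero] at k3
    exact zero_ne_one k3, k1⟩
  obtain ⟨d, s, k', e6⟩ := h.uq h0 k6 (fun e7 => by
    obtain ⟨l, e8⟩ := Submodule.mem_span_singleton.1 ((h.τ_eq_one h0 k6).1 e7).1
    have := congrArg (P.B a) e8
    rw [map_smul, map_add, k4, k5, h.B_self, smul_zero, add_zero] at this
    exact zero_ne_one this) p2 pQ pt
  have e7 : w e (c + a) * y e δ * τ C φ e d s = w e c * (w e a * y e (1 + δ) * τ C φ e d (s + δ)) := by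
    rw [h.ab0_w e, h.ab0_w e c, h.ab0_w e a, h.ab0_y e, h.ab0_y e (1 + δ), h.ab0_τ e, h.ab0_τ e d (s + δ),
      h.ab0_mul, h.ab0_mul, h.ab0_mul, h.ab0_mul, h.ab0_mul]
    · refine ab0_congr (by simp) (by simp) ?_ ?_
      · simp [k3]
        linear_combination (-δ) * h.two
      · simp [k3]
        linear_combination (-1 : F) * h.two
    all_goals simp [k1, k2, k']
  rw [e7] at e6
  have e8 : w e c = y a 1 * (y a 1 * w e c * y a 1) * y a 1 := by
    rw [← mul_assoc, ← mul_assoc, Y2, one_mul, mul_assoc, Y2, mul_one]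
  have c2 : Commute (τ C φ e d (s + δ)) (w e a * y e (1 + δ)) := (h.τw k1 k' _).mul_right (h.τy k' _ _)
  rw [e6, ab0_conj Y2, ab0_conj Y2, e6, cj Y2 (cM _), h.ya_Y k1 k', mul_assoc, left_eq_mul, ← mul_assoc,
    ← mul_assoc, ← c2.eq, mul_assoc (τ C φ e d _), h.ya_sq k1, mul_one, h.τ_sq k', one_mul] at e8
  have k7 : P.B e (P.B d a • a) = 0 := by simp [k1]
  have e9 := h.ya_t k7 (P.B d a * P.B d a)
  rw [e8, one_mul, inv_one, mul_one, left_eq_mul, h.τ_eq_one h0 k7, mul_self_eq_zero] at e9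
  obtain ⟨l, v, rfl⟩ := Submodule.mem_span_pair.1 (h.mem_ln ln k' (by rw [h.B_comm, e9.2]))
  have k8 : P.B e (v • a) = 0 := by simp [k1]
  refine ⟨v, s + δ, ?_⟩
  rw [e6, add_comm (l • e), h.τ_shift k8, h.τ_eq k8, ← mul_assoc, ← mul_assoc, ← mul_assoc, mul_assoc _ (y e _),
    ← (show Commute (x C φ e (v • a)) (y e (1 + δ)) from h.τy k8 0 _).eq, ← mul_assoc]

theorem yw1 : ∃ v₀ r₀, YwR C φ w y δ v₀ r₀ := by
  obtain ⟨e₀, f₀, a₀, c₀, k₀⟩ := W0.wf_frame h.toMod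
  have b1 : P.B c₀ a₀ = 1 := by rw [h.B_comm]; exact h.hp_iff.1 k₀.h₂
  obtain ⟨v₀, r₀, E⟩ := h.yw0 (h.hp_ne (h.hp_iff.1 k₀.h₁)) k₀.ee k₀.ef b1
  have tr : ∀ e a c : V, e ≠ 0 → P.B e a = 0 → P.B e c = 0 → P.B a c = 1 →
      y a 1 * w e c * y a 1 = w e c * w e a * x C φ e (v₀ • a) * y e (1 + δ) * z C φ e r₀ := by
    intro e a c h0 k1 k2 k3
    obtain ⟨f, k⟩ := h.toMod.wf_hh h0 k1 k2 k3
    obtain ⟨s, s1, -, s2, s3⟩ := h.trans_hh k₀ k
    have := congrArg (fun g => φ s * g * (φ s)⁻¹) E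
    simp only [← conj_mul] at this
    rwa [h.yeqv, h.yeqv, h.eqv _ _ _ k₀.ee, h.eqv _ _ _ k₀.ef, h.x_conj _ (by simp [k₀.ee]), h.z_conj, map_smul,
      s1, s2, s3] at this
  refine ⟨v₀, r₀, fun e u c β k1 k2 => ?_⟩
  by_cases h0 : e = 0
  · subst h0
    simp only [h.w_zero', h.x_zero', h.y_zero', h.z_zero', mul_one, h.y_sq]
  by_cases h1 : P.B c u = 0
  · rw [(h.yw u e c β (by rw [h.B_comm, k1]) (by rw [h.B_comm, h1]) k2).eq, mul_assoc, h.y_sq]
    simp only [h1, mul_zero, zero_mul, zero_smul, h.w_zero, h.x_zero, h.y_zero, h.z_zero, mul_one]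
  by_cases h2 : β = 0
  · simp only [h2, mul_zero, zero_smul, h.w_zero, h.x_zero, h.y_zero, h.z_zero, mul_one, one_mul]
  obtain ⟨ρ, rfl⟩ := h.exists_sqrt β
  have l0 : P.B c u * ρ ≠ 0 := mul_ne_zero h1 (left_ne_zero_of_mul h2)
  have := tr ((P.B c u * ρ) • e) (ρ • u) ((P.B c u * ρ)⁻¹ • c) (smul_ne_zero l0 h0)
    (by simp [h.B_smul_left, k1]) (by simp [h.B_smul_left, k2]) (by
      rw [h.B_smul_left, map_smul, h.B_comm u, smul_eq_mul]; field_simp [left_ne_zero_of_mul h2])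
  rw [h.ysmul, h.ysmul, h.smul _ _ _ (by simp [k2]), h.smul _ _ _ (by simp [k1]), h.x_smul (by simp [k1]), h.z_smul,
    smul_smul, smul_smul, smul_smul, smul_smul, mul_inv_cancel₀ l0, one_smul, mul_one] at this
  rw [this, show P.B c u * ρ * ρ = P.B c u * (ρ * ρ) by ring,
    show P.B c u * ρ * v₀ * ρ = v₀ * P.B c u * (ρ * ρ) by ring,
    show P.B c u * ρ * (P.B c u * ρ) * (1 + δ) = (1 + δ) * P.B c u * P.B c u * (ρ * ρ) by ring,
    show P.B c u * ρ * (P.B c u * ρ) * r₀ = r₀ * P.B c u * P.B c u * (ρ * ρ) by ring]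

end HA

end CfsgLib.SP4
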