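import Cfsg.Agent.Lib.SP4.AYw0

/-! Automorphisms trivial on a chain -/

set_option autoImplicit false
set_option linter.unusedSectionVars false

namespace CfsgLib.SP4

open Subgroup Module CfsgLib.Forms CfsgLib.LieMult
open CfsgLib.HX (Std CO Two Mv M2)
open CfsgLib.UN (AV SI TI HH Rad Stb Yg Rg Eg Act nu)
open CfsgLib.ClSys (II)
open Submodule (span)
open scoped commutatorElement Pointwise
open CfsgLib.HX (QA)

universe u

variable {F : Type} [Field F] [Finite F] {V : Type} [AddCommGroup V] [Module F V]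
  [FiniteDimensional F V] {P : PQ (RingHom.id F) V} {S : Type} [Group S] [Finite S] {G : Type u}
  [Group G] [Finite G] {C : CG P S} {φ : S →* G} {t : G}

theorem ywb_mem {N : Subgroup G} (t2 : t * t = 1) (tN : ∀ n ∈ N, t * n * t⁻¹ ∈ N) {x : G} :
    x ∈ N ⊔ zpowers t ↔ x ∈ N ∨ x * t ∈ N := by
  have ti : t⁻¹ = t := inv_eq_of_mul_eq_one_right t2
  have e : ∀ a : G, t * (t * a) = a := fun a => by rw [← mul_assoc, t2, one_mul]
  refine ⟨fun h => ?_, fun h => h.elim (fun h => mem_sup_left h) fun h => ?_⟩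
  · let K : Subgroup G :=
      { carrier := {x | x ∈ N ∨ x * t ∈ N}
        one_mem' := Or.inl N.one_mem
        mul_mem' := by
          rintro a b (ha | ha) (hb | hb)
          · exact Or.inl (N.mul_mem ha hb)
          · exact Or.inr (by rw [mul_assoc]; exact N.mul_mem ha hb)
          · exact Or.inr (by simpa [ti, mul_assoc, e] using N.mul_mem ha (tN _ hb))
          · exact Or.inl (by simpa [ti, mul_assoc, e, t2] using N.mul_mem ha (tN _ hb))
        inv_mem' := by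
          rintro a (ha | ha)
          · exact Or.inl (N.inv_mem ha)
          · exact Or.inr (by simpa [ti, mul_assoc, e, t2] using N.inv_mem (tN _ ha)) }
    have : N ⊔ zpowers t ≤ K := sup_le (fun a ha => Or.inl ha)
      (zpowers_le.2 (Or.inr (by rw [t2]; exact N.one_mem)))
    exact this h
  · have := (N ⊔ zpowers t).mul_mem (mem_sup_left h) (mem_sup_right (mem_zpowers t))
    rwa [mul_assoc, t2, mul_one] at this

/-- The stabiliser of the chain `W ≥ Z ≥ 1`. -/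
def ywbN (W Z : Subgroup G) : Subgroup G where
  carrier := {g | g ∈ centralizer (Z : Set G) ∧ ∀ a ∈ W, g * a * g⁻¹ * a⁻¹ ∈ Z}
  one_mem' := ⟨Subgroup.one_mem _, fun a _ => by simp⟩
  mul_mem' := by
    rintro g h ⟨g1, g2⟩ ⟨h1, h2⟩
    refine ⟨Subgroup.mul_mem _ g1 h1, fun a ha => ?_⟩
    have e := g1 _ (h2 a ha)
    have : g * h * a * (g * h)⁻¹ * a⁻¹ = (h * a * h⁻¹ * a⁻¹) * (g * a * g⁻¹ * a⁻¹) := by
      rw [← mul_assoc, ← mul_assoc, ← mul_assoc, e]; group
    rw [this]; exact Z.mul_mem (h2 a ha) (g2 a ha)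
  inv_mem' := by
    rintro g ⟨g1, g2⟩
    refine ⟨Subgroup.inv_mem _ g1, fun a ha => ?_⟩
    have e := (Subgroup.inv_mem _ g1) _ (Z.inv_mem (g2 a ha))
    have : g⁻¹ * a * g⁻¹⁻¹ * a⁻¹ = (g * a * g⁻¹ * a⁻¹)⁻¹ := by
      calc _ = g⁻¹ * (g * a * g⁻¹ * a⁻¹)⁻¹ * (g * a * g⁻¹) * g * a⁻¹ := by group
        _ = _ := by rw [← e]; group
    rw [this]; exact Z.inv_mem (g2 a ha)

theorem triv_abs {W Z : Subgroup G} (t2 : t * t = 1) (W2 : ∀ a ∈ W, a * a = 1) (ZW : Z ≤ W)
    (tW : t ∈ normalizer (W : Set G)) (tZ : t ∈ normalizer (Z : Set G)) (tc : t ∉ centralizer (Z : Set G))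
    (hat : ∀ ε ∈ W, Commute t ε → ∃ p ∈ W, p * t * p⁻¹ = t * ε)
    (loc : ∀ g, g * t = t * g → IsPGroup 2 (zpowers g) → g ∈ centralizer (Z : Set G) →
      (∀ a ∈ W, g * a * g⁻¹ * a⁻¹ ∈ Z) → g ∈ W ⊔ zpowers t)
    {g : G} (h1 : g ∈ centralizer (Z : Set G)) (h2 : ∀ a ∈ W, g * a * g⁻¹ * a⁻¹ ∈ Z) :
    g ∈ centralizer (W : Set G) := by
  haveI : Fact (Nat.Prime 2) := ⟨Nat.prime_two⟩
  have ti : t⁻¹ = t := inv_eq_of_mul_eq_one_right t2
  have wi : ∀ a ∈ W, a⁻¹ = a := fun a ha => inv_eq_of_mul_eq_one_right (W2 a ha)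
  have wc : ∀ a ∈ W, ∀ b ∈ W, a * b = b * a := fun a ha b hb => by
    rw [← wi _ (W.mul_mem ha hb), mul_inv_rev, wi a ha, wi b hb]
  have tW' : ∀ a ∈ W, t * a * t⁻¹ ∈ W := fun a ha => (mem_normalizer_iff.1 tW a).1 ha
  have tZ' : ∀ a ∈ Z, t * a * t⁻¹ ∈ Z := fun a ha => (mem_normalizer_iff.1 tZ a).1 ha
  set N := ywbN W Z with hN
  have WN : W ≤ N := fun a ha => ⟨fun z hz => wc z (ZW hz) a ha, fun b hb => by
    rw [wc a ha b hb]; simp⟩
  have NW : ∀ n ∈ N, ∀ a ∈ W, n * a * n⁻¹ ∈ W := fun n hn a ha => by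
    simpa using W.mul_mem (ZW (hn.2 a ha)) ha
  have tN : ∀ n ∈ N, t * n * t⁻¹ ∈ N := fun n hn => ⟨fun z hz => by
      have e := hn.1 _ (tZ' z hz)
      rw [ti] at e ⊢
      calc z * (t * n * t) = t * (t * z * t * n) * t := by
            simp only [← mul_assoc, t2, one_mul]
        _ = _ := by rw [e]; simp only [mul_assoc, t2, mul_one], fun a ha => by
      have e := tZ' _ (hn.2 _ (tW' a ha))
      have : t * n * t⁻¹ * a * (t * n * t⁻¹)⁻¹ * a⁻¹ =
          t * (n * (t⁻¹ * a * t⁻¹⁻¹) * n⁻¹ * (t⁻¹ * a * t⁻¹⁻¹)⁻¹) * t⁻¹ := by group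
      rw [this]; rw [ti] at e ⊢; simpa only [ti] using e⟩
  have tN' : t ∉ N := fun h => tc h.1
  have sq : ∀ n ∈ N, n * n ∈ centralizer (W : Set G) := fun n hn a ha => by
    have e := hn.1 _ (hn.2 a ha)
    have e2 := W2 _ (ZW (hn.2 a ha))
    set z := n * a * n⁻¹ * a⁻¹ with hz
    have e3 : n * a = z * a * n := by rw [hz]; group
    calc a * (n * n) = z * z * a * n * n := by rw [e2]; group
      _ = z * (n * a) * n := by rw [e3]; group
      _ = n * (z * a * n) := by rw [← mul_assoc z, e]; group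
      _ = _ := by rw [← e3]; group
  have hW : IsPGroup 2 W := fun a => ⟨1, Subtype.ext (by simpa [pow_two] using W2 a a.2)⟩
  have ht : IsPGroup 2 (zpowers t) := Core.isPGroup_zpowers_iff.2 ⟨1, by simpa [pow_two] using t2⟩
  have hR : IsPGroup 2 (W ⊔ zpowers t :) := by
    rw [sup_comm]; exact ht.to_sup_of_normal_right' hW (zpowers_le.2 tW)
  obtain ⟨T, RT, TH, hT, cj⟩ := SLE.exists_syl hR (sup_le_sup_right WN (zpowers t))
  have RN : ∀ x ∈ W ⊔ zpowers t, x ∈ N → x ∈ W := fun x hx hn => ((ywb_mem t2 tW').1 hx).elim id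
    fun h => absurd (by simpa using N.mul_mem (N.inv_mem hn) (WN h)) tN'
  have tR : t ∈ W ⊔ zpowers t := mem_sup_right (mem_zpowers t)
  have TR : T ≤ W ⊔ zpowers t := by
    by_contra hne
    have lt := Core.lt_inf_normalizer_of_isPGroup hT (lt_of_le_not_ge RT hne)
    have key : ∀ x ∈ T ⊓ normalizer ((W ⊔ zpowers t : Subgroup G) : Set G), x ∈ N → x ∈ W ⊔ zpowers t := by
      intro x hx hn
      have h3 : x * t * x⁻¹ ∈ W ⊔ zpowers t := (mem_normalizer_iff.1 hx.2 t).1 tR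
      have h4 : t * (x * t * x⁻¹) ∈ W := RN _ (Subgroup.mul_mem _ tR h3) (by
        simpa [ti, mul_assoc] using N.mul_mem (tN x hn) (N.inv_mem hn))
      have h5 : Commute t (t * (x * t * x⁻¹)) := by
        have e := wi _ h4
        rw [Commute, SemiconjBy]
        nth_rw 2 [← e]
        simp only [mul_inv_rev, inv_inv, ti, ← mul_assoc, t2, one_mul]
        simp only [mul_assoc, t2, mul_one]
      obtain ⟨p, hp, e⟩ := hat _ h4 h5
      rw [← mul_assoc, t2, one_mul] at e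
      have hn' : p⁻¹ * x ∈ N := N.mul_mem (N.inv_mem (WN hp)) hn
      have h6 := loc (p⁻¹ * x) (by
          calc p⁻¹ * x * t = p⁻¹ * (x * t * x⁻¹) * x := by group
            _ = _ := by rw [← e]; group)
        (hT.to_le (zpowers_le.2 (T.mul_mem (T.inv_mem (RT (mem_sup_left hp))) hx.1))) hn'.1 hn'.2
      simpa using Subgroup.mul_mem _ (mem_sup_left hp) h6
    refine lt.not_ge fun x hx => ((ywb_mem t2 tN).1 (TH hx.1)).elim (key x hx) fun h => ?_
    simpa [mul_assoc, t2] using Subgroup.mul_mem _ (key _ (Subgroup.mul_mem _ hx (lt.le tR)) h) tR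
  have gN : g ∈ N := ⟨h1, h2⟩
  obtain ⟨m, ⟨k, rfl⟩, hm⟩ := UN.odd_pow_odd g
  have gm : g ^ (2 * k + 1) ∈ N := N.pow_mem gN _
  obtain ⟨c, hc, hc'⟩ := cj _ (zpowers_le.2 (mem_sup_left gm)) hm
  have h7 := TR (hc' _ (mem_zpowers _))
  have h8 : g ^ (2 * k + 1) ∈ W := by
    rcases (ywb_mem t2 tN).1 hc with h | h
    · simpa [mul_assoc] using NW _ (N.inv_mem h) _
        (RN _ h7 (N.mul_mem (N.mul_mem h gm) (N.inv_mem h)))
    · have e : c * g ^ (2 * k + 1) * c⁻¹ = c * t * (t * g ^ (2 * k + 1) * t⁻¹) * (c * t)⁻¹ := by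
        simp only [mul_inv_rev, ti, mul_assoc]
        simp only [← mul_assoc, t2, one_mul]
      have h9 := RN _ h7 (by rw [e]; exact N.mul_mem (N.mul_mem h (tN _ gm)) (N.inv_mem h))
      have := tW' _ (NW _ (N.inv_mem h) _ h9)
      rw [e] at this
      simpa [mul_assoc, ti, ← mul_assoc t t, t2] using this
  have h9 : g ^ (2 * k + 1) ∈ centralizer (W : Set G) := fun a ha => wc a ha _ h8
  have h10 := Subgroup.pow_mem _ (sq g gN) k
  rw [← pow_two, ← pow_mul] at h10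
  simpa [pow_succ] using Subgroup.mul_mem _ (Subgroup.inv_mem _ h10) h9

end CfsgLib.SP4
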