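import Cfsg.Agent.Lib.SP4.Rad
import Cfsg.Agent.Lib.SLE.Defs

/-! The copy of the symplectic group in G and its normaliser -/

set_option autoImplicit false
set_option linter.unusedSectionVars false

namespace CfsgLib.SP4

open Subgroup Module CfsgLib.Forms CfsgLib.LieMult
open CfsgLib.HX (Std CO Two Mv M2)
open CfsgLib.UN (AV SI TI HH Rad Stb Yg Rg Eg Act nu)
open CfsgLib.ClSys (II)
open Submodule (span)
open scoped commutatorElement Pointwise

universe u

variable {F : Type} [Field F] [Finite F] {V : Type} [AddCommGroup V] [Module F V]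
  [FiniteDimensional F V] {P : PQ (RingHom.id F) V} {S : Type} [Group S] [Finite S] {G : Type u}
  [Group G] [Finite G] {C : CG P S} {φ : S →* G} {t : G}

theorem SI_mul {α α' : RingAut F} {γ γ' : AV V} (k : SI P α γ) (k' : SI P α' γ') :
    SI P (α * α') (γ * γ') := by
  refine ⟨fun c v => ?_, fun v w => ?_⟩
  · change γ (γ' (c • v)) = α (α' c) • γ (γ' v)
    rw [k'.semi, k.semi]
  · change P.B (γ (γ' v)) (γ (γ' w)) = α (α' _)
    rw [k.B_eq, k'.B_eq]
theorem SI_inv {α : RingAut F} {γ : AV V} (k : SI P α γ) : SI P α⁻¹ γ⁻¹ := by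
  refine ⟨fun c v => γ.injective ?_, fun v w => α.injective ?_⟩
  · change γ (γ.symm (c • v)) = γ (α.symm c • γ.symm v)
    rw [k.semi]; simp
  · change α (P.B (γ.symm v) (γ.symm w)) = α (α.symm _)
    rw [← k.B_eq]; simp
theorem SI_ln {α : RingAut F} {γ : AV V} (k : SI P α γ) {e a : V} (l : Ln P e a) :
    Ln P (γ e) (γ a) := by
  refine ⟨fun e1 => l.ne (γ.injective (e1.trans (map_zero γ).symm)), fun m => l.nmem ?_, by rw [k.B_eq, l.perp, map_zero]⟩
  obtain ⟨c, hc⟩ := Submodule.mem_span_singleton.1 m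
  refine Submodule.mem_span_singleton.2 ⟨α.symm c, γ.injective ?_⟩
  rw [k.semi, RingEquiv.apply_symm_apply, hc]
theorem InT.conj {l g : G} (k : InT t l) (hg : g * t = t * g) : InT t (g * l * g⁻¹) := by
  obtain ⟨k, hk⟩ := k
  refine ⟨g * k, ?_⟩
  calc g * k * t * (g * k)⁻¹ = g * (k * t * k⁻¹) * g⁻¹ := by group
    _ = g * t * l * g⁻¹ := by rw [hk]; group
    _ = _ := by rw [hg]; group
/-- transport along an element moving `t` to `t e` -/
theorem InT.move {l g e : G} (hg : g * t * g⁻¹ = t * e) : InT t l ↔ InT t (e * (g * l * g⁻¹)) := by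
  have e1 : g * (t * l) * g⁻¹ = t * (e * (g * l * g⁻¹)) := by rw [← mul_assoc t, ← hg]; group
  constructor
  · rintro ⟨k, hk⟩
    exact ⟨g * k, by rw [← e1, ← hk]; group⟩
  · rintro ⟨k, hk⟩
    refine ⟨g⁻¹ * k, ?_⟩
    calc g⁻¹ * k * t * (g⁻¹ * k)⁻¹ = g⁻¹ * (k * t * k⁻¹) * g := by group
      _ = _ := by rw [hk, ← e1]; group

namespace Emb

variable (h : Emb C φ) {g g' : G} {α α' : RingAut F} {γ γ' : AV V} {e a b : V} {U : Submodule F V}
include h

theorem cj (g : G) : Emb C ((MulAut.conj g).toMonoidHom.comp φ) := ⟨h.toMod, (MulAut.conj g).injective.comp h.inj⟩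
theorem τ_mul (k : P.B e a = 0) (k' : P.B e b = 0) (c d : F) :
    τ C φ e a c * τ C φ e b d = τ C φ e (a + b) (c + d + P.B a b) := by
  rw [τ, τ, τ, ← map_mul, h.T_mul k k']
theorem τ_sq (k : P.B e a = 0) (c : F) : τ C φ e a c * τ C φ e a c = 1 := by
  rw [τ, ← map_mul, h.T_sq k, map_one]
theorem τ_inv (k : P.B e a = 0) (c : F) : (τ C φ e a c)⁻¹ = τ C φ e a c := inv_eq_of_mul_eq_one_right (h.τ_sq k c)
theorem τ_comm (k : P.B e a = 0) (k' : P.B e b = 0) (c d : F) :
    Commute (τ C φ e a c) (τ C φ e b d) := by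
  change _ = _
  rw [h.τ_mul k k', h.τ_mul k' k, add_comm b, add_comm d, h.B_comm b]
theorem τ_eq (k : P.B e a = 0) (c : F) : τ C φ e a c = x C φ e a * z C φ e c := by
  rw [x, z, ← map_mul, h.T_mul k (map_zero _), map_zero, add_zero, add_zero, zero_add, τ]
theorem τ_shift (k : P.B e a = 0) (l c : F) : τ C φ e (a + l • e) c = τ C φ e a c := congrArg φ (h.T_shift k l c)
theorem τ_smul (k : P.B e a = 0) (l c : F) :
    τ C φ (l • e) a c = τ C φ e (l • a) (l * l * c) := congrArg φ (h.T_smul k l c)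
theorem τ_conj (l : S) (k : P.B e a = 0) (c : F) :
    φ l * τ C φ e a c * (φ l)⁻¹ = τ C φ (C.act l e) (C.act l a) c := by
  rw [τ, τ, ← h.T_conj l k, map_mul, map_mul, map_inv]
theorem τ_eq_iff (h0 : e ≠ 0) (k : P.B e a = 0) (k' : P.B e b = 0) {c d : F} :
    τ C φ e a c = τ C φ e b d ↔ a + b ∈ span F {e} ∧ c = d := h.inj.eq_iff.trans (h.T_eq_iff h0 k k')
theorem τ_eq_one (h0 : e ≠ 0) (k : P.B e a = 0) {c : F} :
    τ C φ e a c = 1 ↔ a ∈ span F {e} ∧ c = 0 := (map_eq_one_iff φ h.inj).trans (h.T_eq_one h0 k)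
theorem x_sq (k : P.B e a = 0) : x C φ e a * x C φ e a = 1 := h.τ_sq k 0
theorem x_symm (k : P.B e a = 0) : x C φ e a = x C φ a e := congrArg φ (h.T_symm k)
theorem x_smul (k : P.B e a = 0) (l : F) : x C φ (l • e) a = x C φ e (l • a) := by
  rw [x, x, h.T_smul k, mul_zero]
theorem x_mul (k : P.B e a = 0) (k' : P.B e b = 0) :
    x C φ e a * x C φ e b = x C φ e (a + b) * z C φ e (P.B a b) := by
  rw [← h.τ_eq (by rw [map_add, k, k', add_zero])]
  have := h.τ_mul k k' 0 0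
  rwa [add_zero, zero_add] at this
theorem x_add (k : P.B e a = 0) (k' : P.B e b = 0) (k'' : P.B a b = 0) :
    x C φ e (a + b) = x C φ e a * x C φ e b := by
  rw [x, x, x, ← map_mul, h.T_mul k k', k'', add_zero, add_zero]
theorem x_shift (k : P.B e a = 0) (l : F) : x C φ e (a + l • e) = x C φ e a := h.τ_shift k l 0
theorem x_self (e : V) (l : F) : x C φ e (l • e) = 1 := by
  rw [x, h.T_symm (by rw [map_smul, h.B_self, smul_zero]), h.T_smul (h.B_self e), mul_zero, ← zero_add (l • e),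
    h.T_shift (map_zero _), h.T_symm (map_zero _), h.T_zero', map_one]
theorem x_zero (e : V) : x C φ e 0 = 1 := by
  rw [x, h.T_symm (map_zero _), h.T_zero', map_one]
theorem x_zero' (a : V) : x C φ 0 a = 1 := by
  rw [x, h.T_zero', map_one]
theorem x_conj (l : S) (k : P.B e a = 0) :
    φ l * x C φ e a * (φ l)⁻¹ = x C φ (C.act l e) (C.act l a) := h.τ_conj l k 0
theorem x_eq_one (k : Ln P e a) {c : F} : x C φ e (c • a) = 1 ↔ c = 0 := by
  refine (h.τ_eq_one k.ne (by rw [map_smul, k.perp, smul_zero])).trans ⟨fun m => ?_, fun m => by simp [m]⟩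
  by_contra c0
  exact k.nmem ((Submodule.smul_mem_iff _ c0).1 m.1)
theorem z_add (e : V) (c d : F) : z C φ e (c + d) = z C φ e c * z C φ e d := by
  rw [z, z, z, ← map_mul, h.T_mul (map_zero _) (map_zero _), map_zero, add_zero, add_zero]
theorem z_sq (e : V) (c : F) : z C φ e c * z C φ e c = 1 := h.τ_sq (map_zero _) c
theorem z_zero (e : V) : z C φ e 0 = 1 := h.x_zero e
theorem z_zero' (c : F) : z C φ 0 c = 1 := by
  rw [z, h.T_zero', map_one]
theorem z_smul (e : V) (l c : F) : z C φ (l • e) c = z C φ e (l * l * c) := by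
  rw [z, z, h.T_smul (map_zero _), smul_zero]
theorem z_line (k : P.B e a = 0) (c : F) :
    z C φ (e + a) c = z C φ e c * z C φ a c * x C φ e (c • a) := by
  rw [z, z, z, x, h.T_line k, map_mul, map_mul]
theorem z_conj (l : S) (e : V) (c : F) : φ l * z C φ e c * (φ l)⁻¹ = z C φ (C.act l e) c := by
  have := h.τ_conj l (map_zero (P.B e)) c
  rwa [map_zero] at this
theorem z_eq_one {c : F} : z C φ e c = 1 ↔ e = 0 ∨ c = 0 := by
  by_cases h0 : e = 0
  · simp [h0, h.z_zero']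
  · exact (h.τ_eq_one h0 (map_zero _)).trans (by simp [h0])
theorem z_inj (h0 : e ≠ 0) {c d : F} (k : z C φ e c = z C φ e d) : c = d := ((h.τ_eq_iff h0 (map_zero _) (map_zero _)).1 k).2
theorem z_one_inj (k : z C φ e 1 = z C φ a 1) : e = a := by
  have H : ∀ v, P.B e v • e = P.B a v • a := fun v => by
    have := congrArg (fun s => C.act s v) (h.inj k)
    simpa only [h.z_app, one_mul, add_right_inj] using this
  refine h.veq_of_add (h.nd fun w => ?_)
  have := congrArg (fun u => P.B u w) (H w)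
  simp only [h.B_smul_left] at this
  rw [map_add, LinearMap.add_apply, h.sq_inj this, h.add_self]
theorem z_comm (k : P.B e a = 0) (c d : F) : Commute (z C φ e c) (z C φ a d) := by
  have := h.T_conj (C.T e 0 c) (map_zero (P.B a)) d
  rw [h.z_app, k, mul_zero, zero_smul, add_zero, map_zero, mul_inv_eq_iff_eq_mul] at this
  exact (show Commute _ _ from this).map φ
/-- conjugation by a transvection -/
theorem z_τ {u : V} (r : F) (k : P.B e a = 0) (c : F) : z C φ u r * τ C φ e a c * z C φ u r =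
    τ C φ (e + (r * P.B u e) • u) (a + (r * P.B u a) • u) c := by
  have := h.τ_conj (C.T u 0 r) k c
  rwa [h.z_app, h.z_app, show (φ (C.T u 0 r))⁻¹ = z C φ u r from h.τ_inv (map_zero _) r] at this
/-- conjugation by a short root element -/
theorem x_τ {u v : V} (k0 : P.B u v = 0) (k : P.B e a = 0) (c : F) :
    x C φ u v * τ C φ e a c * x C φ u v =
      τ C φ (e + P.B v e • u + P.B u e • v) (a + P.B v a • u + P.B u a • v) c := by
  have := h.τ_conj (C.T u v 0) k c
  rwa [h.x_app k0, h.x_app k0, show (φ (C.T u v 0))⁻¹ = x C φ u v from h.τ_inv k0 0] at this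
theorem line_inj (k : Ln P e a) {r v r' s u s' : F}
    (e1 : z C φ e r * x C φ e (v • a) * z C φ a r' = z C φ e s * x C φ e (u • a) * z C φ a s') :
    r = s ∧ v = u ∧ r' = s' := by
  refine h.E_line_inj k (h.inj ?_)
  rw [map_mul, map_mul, map_mul, map_mul]
  exact e1
theorem mem_Z : g ∈ Eg C φ (span F {e}) ↔ ∃ r, g = z C φ e r := by
  constructor
  · rintro ⟨s, hs, rfl⟩
    obtain ⟨r, rfl⟩ := h.mem_E_pt.1 hs
    exact ⟨r, rfl⟩
  · rintro ⟨r, rfl⟩
    exact ⟨_, h.mem_E_pt.2 ⟨r, rfl⟩, rfl⟩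
theorem mem_Q (h0 : e ≠ 0) :
    g ∈ Rg C φ (span F {e}) ↔ ∃ a c, P.B e a = 0 ∧ g = τ C φ e a c := by
  constructor
  · rintro ⟨s, hs, rfl⟩
    obtain ⟨a, c, k, rfl⟩ := (h.mem_rad_pt h0).1 hs
    exact ⟨a, c, k, rfl⟩
  · rintro ⟨a, c, k, rfl⟩
    exact ⟨_, (h.mem_rad_pt h0).2 ⟨a, c, k, rfl⟩, rfl⟩
theorem mem_El (k : Ln P e a) : g ∈ Eg C φ (span F {e, a}) ↔
    ∃ r v r' : F, g = z C φ e r * x C φ e (v • a) * z C φ a r' := by
  constructor
  · rintro ⟨s, hs, rfl⟩
    obtain ⟨r, v, r', rfl⟩ := (h.mem_E_line k).1 hs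
    exact ⟨r, v, r', by rw [map_mul, map_mul]; rfl⟩
  · rintro ⟨r, v, r', rfl⟩
    exact ⟨_, (h.mem_E_line k).2 ⟨r, v, r', rfl⟩, by rw [map_mul, map_mul]; rfl⟩
/-- normal form in `E(π)` for a totally isotropic plane -/
theorem mem_Epl (k : Ln P e a) (hb : b ∉ span F {e, a}) (h1 : P.B e b = 0) (h2 : P.B a b = 0) :
    g ∈ Eg C φ (span F {e, a, b}) ↔
      ∃ ε ∈ Eg C φ (span F {e, a}), ∃ l m r : F, g = ε * τ C φ b (l • e + m • a) r := by
  have sub : span F {e, a} ≤ span F {e, a, b} := Submodule.span_mono (by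
    rintro v (rfl | rfl) <;> simp)
  have hU : TI P (span F {e, a, b}) := ti_span.2 (by
    have h3 := k.perp
    rintro v (rfl | rfl | rfl) w (rfl | rfl | rfl) <;>
      first | exact h.B_self _ | assumption | (rw [h.B_comm]; assumption))
  have me : e ∈ span F {e, a, b} := Submodule.subset_span (by simp)
  have ma : a ∈ span F {e, a, b} := Submodule.subset_span (by simp)
  have mb : b ∈ span F {e, a, b} := Submodule.subset_span (by simp)
  have mT : ∀ l m r : F, C.T b (l • e + m • a) r ∈ C.fixG (P.perp (span F {e, a, b})) := fun l m r =>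
    h.T_mem_E hU mb (add_mem (Submodule.smul_mem _ _ me) (Submodule.smul_mem _ _ ma)) r
  refine ⟨?_, ?_⟩
  swap
  · rintro ⟨ε, hε, l, m, r, rfl⟩
    exact mul_mem (map_mono (fix_anti (U := P.perp (span F {e, a, b})) (W := P.perp (span F {e, a})) fun v hv w hw => hv w (sub hw)) hε)
      (mem_map_of_mem φ (mT l m r))
  rintro ⟨s, hs, rfl⟩
  obtain ⟨f, f1, f2, f3⟩ : ∃ f, P.B e f = 0 ∧ P.B a f = 0 ∧ P.B b f = 1 := by
    have : ¬ P.perp (span F {e, a}) ≤ P.perp (span F {b}) := fun le => hb (by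
      rw [← h.perp_perp (span F {e, a})]
      intro w hw
      rw [h.B_comm]
      exact le hw b (Submodule.mem_span_singleton_self b))
    obtain ⟨f, hf, nf⟩ := SetLike.not_le_iff_exists.1 this
    rw [h.mem_perp_span] at hf nf
    have n0 : P.B b f ≠ 0 := fun e0 => nf (by rintro _ rfl; exact e0)
    exact ⟨(P.B b f)⁻¹ • f, by rw [map_smul, hf e (by simp), smul_zero], by rw [map_smul, hf a (by simp), smul_zero],
      by rw [map_smul, smul_eq_mul, inv_mul_cancel₀ n0]⟩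
  obtain ⟨l, m, r, e1⟩ := Submodule.mem_span_triple.1 (h.E_range hs f)
  have kb : P.B b (l • e + m • a) = 0 := by
    rw [map_add, map_smul, map_smul, h.B_comm b e, h.B_comm b a, h1, h2, smul_zero, smul_zero, add_zero]
  have e2 : C.act (C.T b (l • e + m • a) r) f = C.act s f := by
    rw [h.T_app kb, f3, map_add, LinearMap.add_apply, h.B_smul_left, h.B_smul_left, f1, f2,
      sub_eq_iff_eq_add'.1 e1.symm]
    simp only [mul_zero, add_zero, zero_add, mul_one, one_smul]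
    abel
  refine ⟨φ ((C.T b (l • e + m • a) r)⁻¹ * s), mem_map_of_mem φ fun v hv => ?_, l, m, r, by
    rw [τ, ← map_mul, mul_assoc, h.toMod.E_cent hU (mT l m r) s (rad_le_fix _ (h.E_le_rad hU hs)),
      inv_mul_cancel_left]⟩
  rw [h.mem_perp_span] at hv
  have m1 : v - P.B b v • f ∈ P.perp (span F {e, a, b}) := h.mem_perp_span.2 (by
    rintro w (rfl | rfl | rfl)
    · rw [map_sub, map_smul, f1, hv w (by simp), smul_zero, sub_zero]
    · rw [map_sub, map_smul, f2, hv w (by simp), smul_zero, sub_zero]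
    · rw [map_sub, map_smul, f3, smul_eq_mul, mul_one, sub_self])
  have m2 := mul_mem (inv_mem (mT l m r)) hs _ m1
  have m3 : C.act ((C.T b (l • e + m • a) r)⁻¹ * s) f = f := by
    rw [C.mul_apply, ← e2, C.inv_apply]
  rw [map_sub, map_smul, m3] at m2
  exact sub_left_injective m2
theorem τ_mem_Y {p : V} (k : P.B p a = 0) (hp : p ∈ P.perp U) (ha : a ∈ P.perp U) (c : F) :
    τ C φ p a c ∈ Yg C φ U := mem_map_of_mem φ (h.T_mem_fix k hp ha c)
theorem τ_mem_R (hU : TI P U) {p : V} (hp : p ∈ U) (ha : a ∈ P.perp U) (c : F) :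
    τ C φ p a c ∈ Rg C φ U := mem_map_of_mem φ (h.T_mem_rad hU hp ha c)
theorem τ_mem_E (hU : TI P U) {p : V} (hp : p ∈ U) (ha : a ∈ U) (c : F) :
    τ C φ p a c ∈ Eg C φ U := mem_map_of_mem φ (h.T_mem_E hU hp ha c)
theorem E_le_R (hU : TI P U) : Eg C φ U ≤ Rg C φ U := map_mono (h.E_le_rad hU)
theorem R_le_Y : Rg C φ U ≤ Yg C φ U := map_mono (rad_le_fix U)
theorem Y_le_L : Yg C φ U ≤ φ.range := map_le_range φ _
theorem E_mono {W : Submodule F V} (k : U ≤ W) : Eg C φ U ≤ Eg C φ W := map_mono (fix_anti fun v hv w hw => hv w (k hw))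
theorem Y_anti {W : Submodule F V} (k : U ≤ W) : Yg C φ W ≤ Yg C φ U := map_mono (fix_anti k)
theorem E_le_Y {W : Submodule F V} (k : W ≤ P.perp U) : Eg C φ U ≤ Yg C φ W := map_mono (fix_anti k)
theorem E_sq (hU : TI P U) (hg : g ∈ Eg C φ U) : g * g = 1 := by
  obtain ⟨s, hs, rfl⟩ := hg
  rw [← map_mul, h.toMod.E_sq hU hs, map_one]
theorem E_cent (hU : TI P U) : Eg C φ U ≤ centralizer (Yg C φ U : Set G) := by
  rintro _ ⟨s, hs, rfl⟩ _ ⟨s', hs', rfl⟩
  rw [← map_mul, ← map_mul, h.toMod.E_cent hU hs s' hs']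
theorem R_two (hU : TI P U) : IsPGroup 2 (Rg C φ U) := (h.rad_two hU).map φ
theorem card_map (H : Subgroup S) : Nat.card (H.map φ) = Nat.card H := (Nat.card_congr (H.equivMapOfInjective φ h.inj).toEquiv).symm
/-- to centralise `Y_U` it suffices to centralise the transvections -/
theorem cent_Y (hU : TI P U) (H : ∀ p ∈ P.perp U, ∀ c, Commute g (z C φ p c)) :
    g ∈ centralizer (Yg C φ U : Set G) := by
  rintro _ ⟨s, hs, rfl⟩
  exact mem_centralizer_singleton_iff.1 (h.fix_gen hU (H := (centralizer {g}).comap φ)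
    (fun p hp c => mem_centralizer_singleton_iff.2 (H p hp c).symm.eq) hs)
theorem cent_R (hU : TI P U) (H : ∀ p ∈ U, ∀ a ∈ P.perp U, ∀ c, Commute g (τ C φ p a c)) :
    g ∈ centralizer (Rg C φ U : Set G) := by
  rintro _ ⟨s, hs, rfl⟩
  exact mem_centralizer_singleton_iff.1 (h.rad_gen hU (H := (centralizer {g}).comap φ)
    (fun p hp a ha c => mem_centralizer_singleton_iff.2 (H p hp a ha c).symm.eq) hs)
theorem eq_one (h1 : g ∈ φ.range) (h2 : g ∈ centralizer (φ.range : Set G)) : g = 1 := by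
  obtain ⟨s, rfl⟩ := h1
  have : s ∈ center S := mem_center_iff.2 fun s' => h.inj (by rw [map_mul, map_mul]; exact h2 _ ⟨s', rfl⟩)
  rw [h.center_eq, mem_bot] at this
  rw [this, map_one]
/-- uniqueness of the decomposition in `L × C(L)` -/
theorem dec_inj {l l' c c' : G} (hl : l ∈ φ.range) (hl' : l' ∈ φ.range)
    (hc : c ∈ centralizer (φ.range : Set G)) (hc' : c' ∈ centralizer (φ.range : Set G))
    (k : l * c = l' * c') : l = l' ∧ c = c' := by
  have e1 : l'⁻¹ * l = c' * c⁻¹ := by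
    rw [inv_mul_eq_iff_eq_mul, ← mul_assoc, ← k, mul_inv_cancel_right]
  have e2 := h.eq_one (mul_mem (inv_mem hl') hl) (e1 ▸ mul_mem hc' (inv_mem hc))
  rw [e2] at e1
  exact ⟨(inv_mul_eq_one.1 e2).symm, (mul_inv_eq_one.1 e1.symm).symm⟩
theorem simple : IsSimpleGroup φ.range := by
  have := h.simp
  exact (φ.ofInjective h.inj).symm.isSimpleGroup
theorem perf : φ.range ≤ ⁅φ.range, φ.range⁆ := by
  rw [φ.range_eq_map, ← map_commutator]
  exact map_mono h.toMod.perf
theorem has4 : HX.Has4 φ.range := by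
  obtain ⟨e, h0⟩ : ∃ e : V, e ≠ 0 := by
    have := h.d4
    have : Nontrivial V := Module.nontrivial_of_finrank_pos (R := F) (by omega)
    exact exists_ne 0
  obtain ⟨a, k⟩ := h.exists_ln h0
  refine ⟨z C φ e 1, ⟨_, rfl⟩, z C φ a 1, ⟨_, rfl⟩, h.z_sq e 1, h.z_sq a 1, h.z_comm k.perp 1 1,
    fun e1 => ?_, fun e1 => ?_, fun e1 => ?_⟩
  · exact (h.z_eq_one.1 e1).elim h0 one_ne_zero
  · exact (h.z_eq_one.1 e1).elim (h.ln_symm k).ne one_ne_zero
  · exact k.nmem (h.z_one_inj e1 ▸ Submodule.mem_span_singleton_self e)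
theorem le_of_norm {H : Subgroup G} (h1 : φ.range ≤ normalizer (H : Set G)) (h2 : g ∈ H)
    (h3 : g ∈ φ.range) (h4 : g ≠ 1) : φ.range ≤ H := by
  have hn : (H.comap φ).Normal := ⟨fun a ha b => by
    rw [mem_comap, map_mul, map_mul, map_inv]
    exact (mem_normalizer_iff.1 (h1 ⟨b, rfl⟩) _).1 ha⟩
  have := h.simp
  obtain ⟨s, rfl⟩ := h3
  rcases hn.eq_bot_or_eq_top with e1 | e1
  · exact absurd (by rw [mem_bot.1 (e1.le (show s ∈ H.comap φ from h2)), map_one]) h4
  · rintro _ ⟨s', rfl⟩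
    exact e1.ge (mem_top s')

end Emb

end CfsgLib.SP4
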