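import Cfsg.Agent.Lib.UN.Defs
import Cfsg.Agent.Lib.HX.Base
import Cfsg.Agent.Lib.UFP.Gr

/-!
# Types B and C: the matrix model over the ring `F[ω]`, `ω² = ω + δ` (a field or `F × F`)
-/

set_option autoImplicit false

namespace CfsgLib.SP4.BC

open Subgroup Module Matrix CfsgLib.Forms CfsgLib.LieMult

universe u

variable {F : Type} [Field F] {m : ℕ} {δ : F} {G : Type u} [Group G]

/-- the ring `K = F[ω]` -/
abbrev KK (δ : F) : Type := QuadraticAlgebra F δ 1

abbrev Vk (m : ℕ) (δ : F) : Type := Fin m → KK δ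

abbrev Mt (m : ℕ) (δ : F) : Type := Matrix (Fin m) (Fin m) (KK δ)

instance [Finite F] : Finite (KK δ) := Finite.of_equiv _ (QuadraticAlgebra.equivProd δ 1).symm

/-- `ω` -/
def om (δ : F) : KK δ := ⟨0, 1⟩

/-- `F ⊆ K` -/
abbrev rt (δ : F) : F →+* KK δ := algebraMap F (KK δ)

/-- the reflection in the antidiagonal (`K`-linear) -/
def adj (a : Mt m δ) : Mt m δ := Matrix.of fun i j => a j.rev i.rev

/-- entrywise conjugation -/
def bar (a : Mt m δ) : Mt m δ := a.map star

theorem adj_apply (a : Mt m δ) (i j : Fin m) : adj a i j = a j.rev i.rev := rfl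

theorem bar_apply (a : Mt m δ) (i j : Fin m) : bar a i j = star (a i j) := rfl

theorem adj_mul (a b : Mt m δ) : adj (a * b) = adj b * adj a := by
  ext1 i j
  simp only [adj_apply, mul_apply]
  exact (Equiv.sum_comp Fin.revPerm _).symm.trans (Finset.sum_congr rfl fun k _ => mul_comm _ _)

theorem adj_one : adj (1 : Mt m δ) = 1 := by
  ext1 i j
  simp only [adj_apply, one_apply, Fin.rev_inj, eq_comm]

theorem bar_mul (a b : Mt m δ) : bar (a * b) = bar a * bar b :=
  Matrix.map_mul (f := starRingEnd (KK δ))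

theorem bar_one : bar (1 : Mt m δ) = 1 := Matrix.map_one _ (star_zero _) (star_one _)

variable (m δ) in
/-- `Σ = SU_m(K)` for the antidiagonal form -/
def Sg : Subgroup (SpecialLinearGroup (Fin m) (KK δ)) where
  carrier := {g | adj g.1 * bar g.1 = 1}
  one_mem' := by
    change adj (1 : Mt m δ) * bar 1 = 1
    rw [adj_one, bar_one, mul_one]
  mul_mem' {a b} ha hb := by
    change adj (a.1 * b.1) * bar (a.1 * b.1) = 1
    rw [adj_mul, bar_mul, mul_assoc, ← mul_assoc (adj a.1), ha, one_mul, hb]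
  inv_mem' {a} ha := by
    have e : (a⁻¹).1 * a.1 = 1 := congrArg Subtype.val (inv_mul_cancel a)
    have e' : a.1 * (a⁻¹).1 = 1 := congrArg Subtype.val (mul_inv_cancel a)
    change adj (a⁻¹).1 * bar (a⁻¹).1 = 1
    calc _ = adj (a⁻¹).1 * (adj a.1 * bar a.1) * bar (a⁻¹).1 := by rw [ha, mul_one]
      _ = adj (a.1 * (a⁻¹).1) * bar (a.1 * (a⁻¹).1) := by rw [adj_mul, bar_mul]; simp only [mul_assoc]
      _ = 1 := by rw [e', adj_one, bar_one, mul_one]

instance [Finite F] : Finite (Sg m δ) :=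
  Finite.of_injective (fun s : Sg m δ => s.1.1) fun _ _ e => Subtype.ext (Subtype.ext e)

/-- the matrix of an element of `Σ` -/
def mat (s : Sg m δ) : Mt m δ := s.1.1

theorem mat_mul (s s' : Sg m δ) : mat (s * s') = mat s * mat s' := rfl

theorem mat_one : mat (1 : Sg m δ) = 1 := rfl

theorem mat_inj {s s' : Sg m δ} (e : mat s = mat s') : s = s' := Subtype.ext (Subtype.ext e)

theorem mat_unit (s : Sg m δ) : adj (mat s) * bar (mat s) = 1 := s.2

theorem mat_det (s : Sg m δ) : (mat s).det = 1 := s.1.2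

theorem bar_bar (a : Mt m δ) : bar (bar a) = a := by ext1 i j; simp [bar_apply]

theorem adj_adj (a : Mt m δ) : adj (adj a) = a := by ext1 i j; simp [adj_apply]

theorem bar_adj (a : Mt m δ) : bar (adj a) = adj (bar a) := rfl

theorem mat_inv (s : Sg m δ) : mat s⁻¹ = adj (bar (mat s)) := by
  have e : adj (bar (mat s)) * mat s = 1 := by
    have := congrArg bar (mat_unit s)
    rwa [bar_mul, bar_bar, bar_one, bar_adj] at this
  calc _ = adj (bar (mat s)) * mat s * mat s⁻¹ := by rw [e, one_mul]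
    _ = _ := by rw [mul_assoc, ← mat_mul, mul_inv_cancel, mat_one, mul_one]

/-- the element of `Σ` with the matrix `a` -/
noncomputable def toS (a : Mt m δ) : Sg m δ :=
  @dite _ (∃ s : Sg m δ, mat s = a) (Classical.dec _) (fun h => h.choose) fun _ => 1

theorem mat_toS {a : Mt m δ} (h1 : a.det = 1) (h2 : adj a * bar a = 1) : mat (toS a) = a := by
  have : ∃ s : Sg m δ, mat s = a := ⟨⟨⟨a, h1⟩, h2⟩, rfl⟩
  rw [toS, dif_pos this]
  exact this.choose_spec

/-- the hermitian form, conjugate linear in the first argument -/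
def hf (x y : Vk m δ) : KK δ := ∑ j, star (x j.rev) * y j

/-- `x y† : v ↦ hf y v • x` -/
def ou (x y : Vk m δ) : Mt m δ := Matrix.of fun i j => x i * star (y j.rev)

/-- `v ↦ v + (hf a v + c hf e v) e + hf e v a` -/
def TM (e a : Vk m δ) (c : KK δ) : Mt m δ := 1 + ou e a + ou a e + c • ou e e

structure Ok (e a : Vk m δ) (c : KK δ) : Prop where
  ee : hf e e = 0
  ea : hf e a = 0
  cc : c + star c = hf a a

/-- Eichler elements -/
noncomputable def TS (e a : Vk m δ) (c : KK δ) : Sg m δ := toS (TM e a c)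

variable (δ) in
/-- the standard basis -/
def ee (i : Fin m) : Vk m δ := Pi.single i 1

variable (m δ) in
/-- the middle basis vector (zero if `m` is even) -/
def v0 : Vk m δ := fun i => if i = i.rev then 1 else 0

/-- rational vectors without middle coordinate -/
structure RV (x : Vk m δ) : Prop where
  rat : star x = x
  mid : ∀ i : Fin m, i = i.rev → x i = 0

variable (δ) in
/-- the automorphisms of `K` which commute with the conjugation -/
def Fa : Subgroup (RingAut (KK δ)) where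
  carrier := {a | ∀ x, a (star x) = star (a x)}
  one_mem' _ := rfl
  mul_mem' {a b} ha hb x := by
    change a (b (star x)) = star (a (b x))
    rw [hb, ha]
  inv_mem' {a} ha x := a.injective (by
    change a (a.symm (star x)) = a (star (a.symm x))
    rw [ha, a.apply_symm_apply, a.apply_symm_apply])

variable (δ) in
/-- the conjugation -/
def bA : Fa δ := ⟨starRingAut, fun _ => rfl⟩

/-- the entrywise action on `Σ` -/
def mp (a : Fa δ) : Sg m δ →* Sg m δ :=
  ((SpecialLinearGroup.map (a.1 : KK δ →+* KK δ)).comp (Sg m δ).subtype).codRestrict _ fun s => by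
    have e : adj ((mat s).map a.1) * bar ((mat s).map a.1) = (adj (mat s) * bar (mat s)).map a.1 := by
      rw [Matrix.map_mul]
      congr 1
      ext1 i j
      exact (a.2 _).symm
    rw [mat_unit, Matrix.map_one _ (map_zero _) (map_one _)] at e
    exact e

theorem mat_mp (a : Fa δ) (s : Sg m δ) : mat (mp a s) = (mat s).map a.1 := rfl

/-- the conjugation on `Σ` -/
def sb : Sg m δ →* Sg m δ := mp (bA δ)

theorem mat_sb (s : Sg m δ) : mat (sb s) = bar (mat s) := rfl

variable (m δ) in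
/-- the rational elements -/
def Rat : Subgroup (Sg m δ) := sb.eqLocus (MonoidHom.id _)

variable (m δ) in
/-- the matrices with entries only at height `≥ h` -/
def Nn (h : ℕ) : Submodule (KK δ) (Mt m δ) where
  carrier := {n | ∀ i j : Fin m, (j : ℕ) < i + h → n i j = 0}
  zero_mem' _ _ _ := rfl
  add_mem' h1 h2 i j k := by simp [h1 i j k, h2 i j k]
  smul_mem' c n h1 i j k := by simp [h1 i j k]

theorem Nn_mul {h h' : ℕ} {a b : Mt m δ} (ha : a ∈ Nn m δ h) (hb : b ∈ Nn m δ h') :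
    a * b ∈ Nn m δ (h + h') := fun i j k => by
  rw [mul_apply]
  refine Finset.sum_eq_zero fun l _ => ?_
  by_cases e : (l : ℕ) < i + h
  · rw [ha i l e, zero_mul]
  · rw [hb l j (by omega), mul_zero]

theorem Nn_anti {h h' : ℕ} (e : h ≤ h') : Nn m δ h' ≤ Nn m δ h := fun _ ha i j k => ha i j (by omega)

theorem Nn_adj {h : ℕ} {a : Mt m δ} (ha : a ∈ Nn m δ h) : adj a ∈ Nn m δ h := fun i j k =>
  ha _ _ (by have := i.2; have := j.2; simp only [Fin.val_rev]; omega)

theorem Nn_bar {h : ℕ} {a : Mt m δ} (ha : a ∈ Nn m δ h) : bar a ∈ Nn m δ h := fun i j k => by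
  rw [bar_apply, ha i j k, star_zero]

variable (m δ) in
/-- `1 + Nn (h + 1)`; `Mh 0` is the unitriangular group -/
def Mh (h : ℕ) : Subgroup (Sg m δ) where
  carrier := {s | mat s - 1 ∈ Nn m δ (h + 1)}
  one_mem' := by
    change mat (1 : Sg m δ) - 1 ∈ Nn m δ (h + 1)
    rw [mat_one, sub_self]; exact zero_mem _
  mul_mem' {a b} ha hb := by
    change mat a * mat b - 1 ∈ Nn m δ (h + 1)
    rw [show mat a * mat b - 1 = (mat a - 1) * (mat b - 1) + (mat a - 1) + (mat b - 1) by noncomm_ring]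
    exact add_mem (add_mem (Nn_anti (by omega) (Nn_mul ha hb)) ha) hb
  inv_mem' {a} ha := by
    change mat a⁻¹ - 1 ∈ Nn m δ (h + 1)
    have e : adj (bar (mat a - 1)) = mat a⁻¹ - 1 := by
      rw [mat_inv]
      ext1 i j
      simp only [adj_apply, bar_apply, Matrix.sub_apply, star_sub, one_apply, Fin.rev_inj, eq_comm]
      split_ifs <;> simp
    exact e ▸ Nn_adj (Nn_bar ha)

variable (m δ) in
/-- the elements of the unitriangular group fixed by the conjugation modulo the centre -/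
def U1 : Subgroup (Sg m δ) := closure {s | s ∈ Mh m δ 0 ∧ s * (sb s)⁻¹ ∈ Mh m δ (m - 2)}

/-- `g` acts on `ψ(Σ)` as the automorphism `a` of `K` -/
def Ac (ψ : Sg m δ →* G) (g : G) (a : Fa δ) : Prop := ∀ s, g * ψ s * g⁻¹ = ψ (mp a s)

/-- the group `G₀ = ψ(Σ)`, normalised by `C(t)` -/
structure MM (ψ : Sg m δ →* G) (t : G) : Prop where
  m6 : 4 ≤ m
  t2 : t * t = 1
  ker : ψ.ker ≤ center (Sg m δ)
  tc : ∀ s, t * ψ s * t⁻¹ = ψ (sb s)
  ct : ∀ g, g * t = t * g → ∃ l ∈ Rat m δ, ∃ a, Ac ψ ((ψ l)⁻¹ * g) a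
  odd : Odd (Nat.card (centralizer (ψ.range : Set G)))
  no : ∀ s a, IsConj t s → s * t = t * s → Ac ψ s a → ∀ c : F, a.1 (rt δ c) = rt δ c
  nz : Even m → ∀ d, RV d → d ≠ 0 → ¬ IsConj t (t * ψ (TS d 0 1))

/-- the chain -/
def Mc (ψ : Sg m δ →* G) (i : ℕ) : Subgroup G := (Mh m δ (m - 1 - i)).map ψ

/-- `Û` -/
def Uh (ψ : Sg m δ →* G) : Subgroup G := (Mh m δ 0).map ψ

/-- `U₀ = Û ∩ L` -/
def U0 (ψ : Sg m δ →* G) : Subgroup G := (Mh m δ 0 ⊓ Rat m δ).map ψ

/-- the elements of `C(t)` which act as automorphisms of `K` -/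
def St (ψ : Sg m δ →* G) (t : G) : Subgroup G := closure {g | g * t = t * g ∧ ∃ a, Ac ψ g a}

/-- hats for the radicals of the basis vectors -/
structure YRel (t : G) (X : Fin m → Vk m δ → KK δ → G) : Prop where
  t2 : t * t = 1
  mul : ∀ i a c b d, i ≠ i.rev → Ok (ee δ i) a c → Ok (ee δ i) b d →
    X i a c * X i b d = X i (a + b) (c + d + hf a b)
  self : ∀ i (l : KK δ), i ≠ i.rev → X i (l • ee δ i) (l + star l) = 1
  sym : ∀ i j (l : KK δ), i ≠ i.rev → j ≠ j.rev → j ≠ i → j ≠ i.rev →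
    X i (l • ee δ j) 0 = X j (star l • ee δ i) 0
  conj : ∀ i j a c b d, i ≠ i.rev → j ≠ j.rev → j ≠ i → j ≠ i.rev → Ok (ee δ i) a c → Ok (ee δ j) b d →
    hf a (ee δ j) = 0 → X i a c * X j b d * (X i a c)⁻¹ = X j (TM (ee δ i) a c *ᵥ b) d
  tc : ∀ i a c, i ≠ i.rev → Ok (ee δ i) a c → t * X i a c * t⁻¹ = X i (star a) (star c)

/-- the group generated by the hats -/
def YG (X : Fin m → Vk m δ → KK δ → G) : Subgroup G :=
  closure {g | ∃ i a c, i ≠ i.rev ∧ Ok (ee δ i) a c ∧ g = X i a c}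

variable {V : Type} [AddCommGroup V] [Module F V] {P : PQ (RingHom.id F) V} {S : Type} [Group S]

/-- coordinates -/
structure Crd (P : PQ (RingHom.id F) V) (cv : V →ₗ[F] Vk m δ) : Prop where
  rv : ∀ v, RV (cv v)
  surj : ∀ x, RV x → ∃ v, cv v = x
  form : ∀ v v', hf (cv v) (cv v') = rt δ (P.B v v')

/-- coordinates and the embedding of `S` -/
structure Io (C : CG P S) (cv : V →ₗ[F] Vk m δ) (ι : S →* Sg m δ) : Prop extends Crd P cv where
  act : ∀ s v, mat (ι s) *ᵥ cv v = cv (C.act s v)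
  fix0 : ∀ s, mat (ι s) *ᵥ v0 m δ = v0 m δ
  rng : ι.range = Rat m δ

/-- the dictionary (`u` is only used if `m` is odd) -/
structure Dic (C : CG P S) (φ : S →* G) (t : G) (w : V → V → G) (u : V → G) (cv : V →ₗ[F] Vk m δ)
    (ι : S →* Sg m δ) (ψ : Sg m δ →* G) : Prop extends Io C cv ι where
  ext : ∀ s, ψ (ι s) = φ s
  tc : ∀ s, t * ψ s * t⁻¹ = ψ (sb s)
  hw : ∀ e a, P.B e a = 0 → ψ (TS (cv e) (om δ • cv a) 0) = w e a
  hu : Odd m → ∀ e, ψ (TS (cv e) (v0 m δ) (om δ)) = u e

end CfsgLib.SP4.BC
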