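import Cfsg.Agent.Lib.SP4.BBas
import Cfsg.Agent.Lib.UN.Stein

/-! The split case `K = F × F` -/

set_option autoImplicit false
set_option linter.unusedSectionVars false

namespace CfsgLib.SP4.BC

open Subgroup Module Matrix CfsgLib.UFP
open scoped commutatorElement Pointwise

universe u

variable {F : Type} [Field F] [Finite F] [CharP F 2] [Fact (2 < Nat.card F)] {m : ℕ} {δ : F} {G : Type u} [Group G] [Finite G]

variable {ρ : F}

/-- the projection `ω ↦ u` -/
def spPi {u : F} (hu : u * u + u = δ) : KK δ →+* F where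
  toFun x := x.re + x.im * u
  map_one' := by simp [QuadraticAlgebra.re_one, QuadraticAlgebra.im_one]
  map_mul' x y := by
    simp only [QuadraticAlgebra.re_mul, QuadraticAlgebra.im_mul, ← hu]
    linear_combination (x.im * y.im * u) * (CharTwo.two_eq_zero (R := F))
  map_zero' := by simp
  map_add' x y := by
    simp only [QuadraticAlgebra.re_add, QuadraticAlgebra.im_add]
    ring

theorem sp_rho (hρ : ρ * ρ + ρ = δ) : (ρ + 1) * (ρ + 1) + (ρ + 1) = δ := by
  linear_combination hρ + (ρ + 1) * (CharTwo.two_eq_zero (R := F))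

theorem spPi_rt {u : F} (hu : u * u + u = δ) (c : F) : spPi hu (rt δ c) = c := by
  change (rt δ c).re + (rt δ c).im * u = c
  simp

theorem spPi_om {u : F} (hu : u * u + u = δ) : spPi hu (om δ) = u := by
  change (0 : F) + 1 * u = u
  simp

theorem spPi_star (hρ : ρ * ρ + ρ = δ) (x : KK δ) : spPi (sp_rho hρ) (star x) = spPi hρ x := by
  change (star x).re + (star x).im * (ρ + 1) = x.re + x.im * ρ
  simp only [QuadraticAlgebra.re_star, QuadraticAlgebra.im_star]
  linear_combination (-x.im * ρ) * (CharTwo.two_eq_zero (R := F))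

theorem sp_ext (hρ : ρ * ρ + ρ = δ) {x y : KK δ} (h1 : spPi (sp_rho hρ) x = spPi (sp_rho hρ) y)
    (h2 : spPi hρ x = spPi hρ y) : x = y := by
  change x.re + x.im * (ρ + 1) = y.re + y.im * (ρ + 1) at h1
  change x.re + x.im * ρ = y.re + y.im * ρ at h2
  have e : x.im = y.im := by linear_combination h1 - h2
  exact QuadraticAlgebra.ext (by rw [e] at h2; exact add_right_cancel h2) e

theorem sp_mext (hρ : ρ * ρ + ρ = δ) {x y : Mt m δ} (h1 : x.map (spPi (sp_rho hρ)) = y.map (spPi (sp_rho hρ)))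
    (h2 : x.map (spPi hρ) = y.map (spPi hρ)) : x = y :=
  Matrix.ext fun i j => sp_ext hρ (congrFun (congrFun h1 i) j) (congrFun (congrFun h2 i) j)

variable (δ ρ) in
/-- the idempotent `ε` -/
def spE : KK δ := om δ + rt δ ρ

variable (δ ρ) in
/-- the idempotent `ε̄` -/
def spF : KK δ := om δ + rt δ ρ + 1

theorem sp_star : star (spE δ ρ) = spF δ ρ := by
  rw [spE, spF, star_add, star_om, star_rt, add_right_comm]

theorem sp_star' : star (spF δ ρ) = spE δ ρ := by rw [← sp_star, star_star]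

theorem sp_sum : spE δ ρ + spF δ ρ = 1 := by rw [spE, spF, ← add_assoc, k_two, zero_add]

theorem sp_p1 (hρ : ρ * ρ + ρ = δ) : spPi (sp_rho hρ) (spE δ ρ) = 1 := by
  rw [spE, map_add, spPi_om, spPi_rt]
  linear_combination ρ * (CharTwo.two_eq_zero (R := F))

theorem sp_p2 (hρ : ρ * ρ + ρ = δ) : spPi hρ (spE δ ρ) = 0 := by
  rw [spE, map_add, spPi_om, spPi_rt, CharTwo.add_self_eq_zero]

theorem sp_q1 (hρ : ρ * ρ + ρ = δ) : spPi (sp_rho hρ) (spF δ ρ) = 0 := by
  rw [← sp_star, spPi_star hρ, sp_p2]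

theorem sp_q2 (hρ : ρ * ρ + ρ = δ) : spPi hρ (spF δ ρ) = 1 := by
  rw [← spPi_star hρ, sp_star', sp_p1 hρ]

theorem sp_orth (hρ : ρ * ρ + ρ = δ) : spE δ ρ * spF δ ρ = 0 :=
  sp_ext hρ (by rw [map_mul, sp_q1 hρ, mul_zero, map_zero]) (by rw [map_mul, sp_p2, zero_mul, map_zero])

theorem sp_idem (hρ : ρ * ρ + ρ = δ) : spF δ ρ * spF δ ρ = spF δ ρ := by
  linear_combination spF δ ρ * sp_sum (δ := δ) (ρ := ρ) - sp_orth hρ

theorem sp_dec (hρ : ρ * ρ + ρ = δ) (x : KK δ) : ∃ a b : F, x = spE δ ρ * rt δ a + spF δ ρ * rt δ b :=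
  ⟨spPi (sp_rho hρ) x, spPi hρ x, sp_ext hρ
    (by simp only [map_mul, map_add, sp_p1 hρ, sp_q1 hρ, spPi_rt, zero_mul, one_mul, add_zero])
    (by simp only [map_mul, map_add, sp_p2 hρ, sp_q2 hρ, spPi_rt, zero_mul, one_mul, zero_add])⟩

variable (δ ρ) in
/-- the matrix of a root element -/
def spM (i j : Fin m) (a : F) : Mt m δ :=
  1 + Matrix.single i j (spE δ ρ * rt δ a) + Matrix.single j.rev i.rev (spF δ ρ * rt δ a)

theorem sp_map (f : KK δ →+* F) (i j k l : Fin m) (x y : KK δ) :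
    (1 + Matrix.single i j x + Matrix.single k l y : Mt m δ).map f =
      1 + Matrix.single i j (f x) + Matrix.single k l (f y) := by
  ext1 p q
  simp only [Matrix.map_apply, Matrix.add_apply, map_add, Matrix.one_apply, Matrix.single_apply, apply_ite f,
    map_one, map_zero]

theorem spM_p1 (hρ : ρ * ρ + ρ = δ) (i j : Fin m) (a : F) :
    (spM δ ρ i j a).map (spPi (sp_rho hρ)) = Matrix.transvection i j a := by
  rw [spM, sp_map]
  simp only [map_mul, sp_p1 hρ, sp_q1 hρ, spPi_rt, zero_mul, one_mul, Matrix.single_zero, add_zero,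
    Matrix.transvection]

theorem spM_p2 (hρ : ρ * ρ + ρ = δ) (i j : Fin m) (a : F) :
    (spM δ ρ i j a).map (spPi hρ) = Matrix.transvection j.rev i.rev a := by
  rw [spM, sp_map]
  simp only [map_mul, sp_p2 hρ, sp_q2 hρ, spPi_rt, zero_mul, one_mul, Matrix.single_zero, add_zero,
    Matrix.transvection]

theorem spM_adj (i j : Fin m) (a : F) : adj (spM δ ρ i j a) = bar (spM δ ρ i j a) := by
  ext1 p q
  simp only [adj_apply, bar_apply, spM, Matrix.add_apply, star_add, Matrix.one_apply,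
    Matrix.single_apply, apply_ite star, star_one, star_zero, star_mul', sp_star, sp_star', star_rt,
    Fin.rev_eq_iff, @eq_comm _ q p, and_comm, Fin.rev_rev]
  abel

theorem sp_bar1 (hρ : ρ * ρ + ρ = δ) (x : Mt m δ) : (bar x).map (spPi (sp_rho hρ)) = x.map (spPi hρ) :=
  Matrix.ext fun _ _ => spPi_star hρ _

theorem sp_bar2 (hρ : ρ * ρ + ρ = δ) (x : Mt m δ) : (bar x).map (spPi hρ) = x.map (spPi (sp_rho hρ)) := by
  rw [← sp_bar1 hρ, bar_bar]

theorem spM_mat (hρ : ρ * ρ + ρ = δ) {i j : Fin m} (k : i ≠ j) (a : F) :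
    mat (toS (spM δ ρ i j a)) = spM δ ρ i j a := by
  have k' : j.rev ≠ i.rev := Fin.rev_injective.ne k.symm
  refine mat_toS (sp_ext hρ ?_ ?_) (sp_mext hρ ?_ ?_)
  · rw [RingHom.map_det, RingHom.mapMatrix_apply, spM_p1 hρ, Matrix.det_transvection_of_ne _ _ k, map_one]
  · rw [RingHom.map_det, RingHom.mapMatrix_apply, spM_p2, Matrix.det_transvection_of_ne _ _ k', map_one]
  · rw [spM_adj, Matrix.map_mul, sp_bar1 hρ, spM_p2, Matrix.transvection_mul_transvection_same _ _ k',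
      CharTwo.add_self_eq_zero, Matrix.transvection_zero, Matrix.map_one _ (map_zero _) (map_one _)]
  · rw [spM_adj, Matrix.map_mul, sp_bar2, spM_p1 hρ, Matrix.transvection_mul_transvection_same _ _ k,
      CharTwo.add_self_eq_zero, Matrix.transvection_zero, Matrix.map_one _ (map_zero _) (map_one _)]

theorem split_iso (hρ : ρ * ρ + ρ = δ) : ∃ e : SpecialLinearGroup (Fin m) F ≃* Sg m δ,
    ∀ i j (k : i ≠ j) (a : F), mat (e (SpecialLinearGroup.transvection k a)) =
      1 + Matrix.single i j ((om δ + rt δ ρ) * rt δ a) + Matrix.single j.rev i.rev ((om δ + rt δ ρ + 1) * rt δ a) := by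
  let f : Sg m δ →* SpecialLinearGroup (Fin m) F :=
    (SpecialLinearGroup.map (spPi (sp_rho hρ))).comp (Sg m δ).subtype
  have hf : ∀ s, (f s).1 = (mat s).map (spPi (sp_rho hρ)) := fun _ => rfl
  have ht : ∀ i j (k : i ≠ j) (a : F), f (toS (spM δ ρ i j a)) = SpecialLinearGroup.transvection k a :=
    fun i j k a => Subtype.ext (by rw [hf, spM_mat hρ k, spM_p1 hρ]; rfl)
  have inj : Function.Injective f := (injective_iff_map_eq_one f).2 fun s hs => by
    have h1 : (mat s).map (spPi (sp_rho hρ)) = 1 := by rw [← hf, hs]; rfl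
    have h2 : (adj (mat s)).map (spPi (sp_rho hρ)) = 1 := by
      ext1 p q
      have := congrFun (congrFun h1 q.rev) p.rev
      simpa only [Matrix.map_apply, adj_apply, Matrix.one_apply, Fin.rev_inj, @eq_comm _ q p] using this
    have h3 := congrArg (fun x : Mt m δ => x.map (spPi (sp_rho hρ))) (mat_unit s)
    simp only [Matrix.map_mul, h2, one_mul, sp_bar1 hρ] at h3
    refine mat_inj (sp_mext hρ ?_ ?_)
    · rw [h1, mat_one, Matrix.map_one _ (map_zero _) (map_one _)]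
    · rw [h3, mat_one, Matrix.map_one _ (map_zero _) (map_one _), Matrix.map_one _ (map_zero _) (map_one _)]
  have sur : Function.Surjective f := MonoidHom.range_eq_top.1
    (Classical.sl_eq_top_of_transvection_mem _ fun i j k a => ⟨_, ht i j k a⟩)
  refine ⟨(MulEquiv.ofBijective f ⟨inj, sur⟩).symm, fun i j k a => ?_⟩
  rw [← ht, show f (toS (spM δ ρ i j a)) = MulEquiv.ofBijective f ⟨inj, sur⟩ (toS (spM δ ρ i j a)) from rfl,
    MulEquiv.symm_apply_apply, spM_mat hρ k]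
  rfl

theorem sp_mid {i j : Fin m} (k : i ≠ j) (hi : i = i.rev) : j.rev ≠ j.rev.rev := by
  have := Fin.val_rev i
  have := Fin.val_rev j
  have := Fin.val_rev j.rev
  omega

theorem sp_hf (i j : Fin m) : hf (ee δ i) (ee δ j) = if j = i.rev then 1 else 0 := by
  rw [hf_ee_left, ee, Pi.single_apply]
  simp only [eq_comm]

theorem sp_hf0 {i j : Fin m} (k : j ≠ i.rev) (x y : KK δ) : hf (x • ee δ i) (y • ee δ j) = 0 := by
  rw [hf_smul_left, hf_smul_right, sp_hf, if_neg k, mul_zero, mul_zero]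

theorem sp_hf1 {i j : Fin m} (k : j ≠ i.rev) (y : KK δ) : hf (ee δ i) (y • ee δ j) = 0 := by
  rw [hf_smul_right, sp_hf, if_neg k, mul_zero]

theorem sp_FF (hρ : ρ * ρ + ρ = δ) (a b : F) (x y : Vk m δ) :
    hf ((spF δ ρ * rt δ a) • x) ((spF δ ρ * rt δ b) • y) = 0 := by
  rw [hf_smul_left, hf_smul_right, star_mul', sp_star', star_rt]
  linear_combination (rt δ a * rt δ b * hf x y) * sp_orth hρ

theorem sp_EE (hρ : ρ * ρ + ρ = δ) (a b : F) (x y : Vk m δ) :
    hf ((spE δ ρ * rt δ a) • x) ((spE δ ρ * rt δ b) • y) = 0 := by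
  rw [hf_smul_left, hf_smul_right, star_mul', sp_star, star_rt]
  linear_combination (rt δ a * rt δ b * hf x y) * sp_orth hρ

theorem sp_okF (hρ : ρ * ρ + ρ = δ) {i j : Fin m} (hi : i ≠ i.rev) (k : j ≠ i.rev) (a : F) :
    Ok (ee δ i) ((spF δ ρ * rt δ a) • ee δ j) 0 :=
  ⟨by rw [sp_hf, if_neg hi], sp_hf1 k _, by rw [sp_FF hρ, star_zero, add_zero]⟩

theorem sp_okE (hρ : ρ * ρ + ρ = δ) {i j : Fin m} (hi : i ≠ i.rev) (k : j ≠ i.rev) (a : F) :
    Ok (ee δ i) ((spE δ ρ * rt δ a) • ee δ j) 0 :=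
  ⟨by rw [sp_hf, if_neg hi], sp_hf1 k _, by rw [sp_EE hρ, star_zero, add_zero]⟩

theorem sp_ok0 {i : Fin m} (hi : i ≠ i.rev) (c : F) : Ok (ee δ i) 0 (rt δ c) :=
  ⟨by rw [sp_hf, if_neg hi], hf_zero_right _, by rw [star_rt, k_two, hf_zero_left]⟩

theorem sp_TM (i j : Fin m) (l : KK δ) : TM (ee δ i) (l • ee δ j) 0 =
    1 + Matrix.single i j.rev (star l) + Matrix.single j i.rev l := by
  rw [TM, zero_smul, add_zero]
  ext1 p q
  simp only [ou, Matrix.add_apply, Matrix.of_apply, ee, Pi.smul_apply, Pi.single_apply,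
    Matrix.single_apply, smul_eq_mul, mul_ite, ite_mul, mul_one, mul_zero, one_mul, zero_mul, apply_ite star,
    star_zero, star_one, Fin.rev_eq_iff, ite_and, @eq_comm _ p, @eq_comm _ q]
  split_ifs <;> rfl

theorem split_TS (hρ : ρ * ρ + ρ = δ) : ∃ e : SpecialLinearGroup (Fin m) F ≃* Sg m δ,
    ∀ i j (k : i ≠ j) (a : F),
      (i ≠ i.rev → e (SpecialLinearGroup.transvection k a) = TS (ee δ i) ((spF δ ρ * rt δ a) • ee δ j.rev) 0) ∧
      (j.rev ≠ j.rev.rev →
        e (SpecialLinearGroup.transvection k a) = TS (ee δ j.rev) ((spE δ ρ * rt δ a) • ee δ i) 0) := by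
  obtain ⟨e, he⟩ := split_iso (m := m) hρ
  refine ⟨e, fun i j k a => ⟨fun hi => mat_inj ?_, fun hj => mat_inj ?_⟩⟩
  · rw [he, mat_TS (sp_okF hρ hi (Fin.rev_injective.ne k.symm) a), sp_TM, star_mul', sp_star', star_rt,
      Fin.rev_rev]
    rfl
  · rw [he, mat_TS (sp_okE hρ hj (by rwa [Fin.rev_rev]) a), sp_TM, star_mul', sp_star, star_rt,
      Fin.rev_rev, add_right_comm]
    rfl

theorem gen_split (hm : 4 ≤ m) (hρ : ρ * ρ + ρ = δ) {H : Subgroup (Sg m δ)}
    (h : ∀ i a c, i ≠ i.rev → Ok (ee δ i) a c → TS (ee δ i) a c ∈ H) : H = ⊤ := by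
  obtain ⟨e, he⟩ := split_TS (m := m) hρ
  have := Classical.sl_eq_top_of_transvection_mem (H.comap e.toMonoidHom) fun i j k a => by
    change e _ ∈ H
    by_cases hi : i = i.rev
    · rw [(he i j k a).2 (sp_mid k hi)]
      exact h _ _ _ (sp_mid k hi) (sp_okE hρ (sp_mid k hi) (by rwa [Fin.rev_rev]) a)
    · rw [(he i j k a).1 hi]
      exact h _ _ _ hi (sp_okF hρ hi (Fin.rev_injective.ne k.symm) a)
  refine top_unique fun s _ => ?_
  simpa using this.ge (mem_top (e.symm s))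

theorem psl_split (hρ : ρ * ρ + ρ = δ) :
    Nonempty (Sg m δ ⧸ center (Sg m δ) ≃* ProjectiveSpecialLinearGroup (Fin m) F) := by
  obtain ⟨e, -⟩ := split_iso (m := m) hρ
  refine ⟨QuotientGroup.congr _ _ e.symm ?_⟩
  ext g
  constructor
  · rintro ⟨s, hs, rfl⟩
    exact mem_center_iff.2 fun x => e.injective (by simpa using mem_center_iff.1 hs (e x))
  · exact fun hg => ⟨e g, mem_center_iff.2 fun x => e.symm.injective (by
      simpa using mem_center_iff.1 hg (e.symm x)), e.symm_apply_apply g⟩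

theorem simp_split (hm : 4 ≤ m) (hρ : ρ * ρ + ρ = δ) (N : Subgroup (Sg m δ)) (hN : N.Normal) :
    N ≤ center (Sg m δ) ∨ N = ⊤ := by
  obtain ⟨e, -⟩ := split_iso (m := m) hρ
  obtain ⟨e'⟩ := psl_split (m := m) hρ
  have h3 : 3 ≤ Fintype.card (Fin m) := by rw [Fintype.card_fin]; omega
  have := Classical.psl_isSimpleGroup (F := F) h3
  have := e'.isSimpleGroup
  have : Group.IsPerfect (SpecialLinearGroup (Fin m) F) := ⟨Classical.sl_commutator_eq_top h3⟩
  have pf : Group.IsPerfect (Sg m δ) := Group.IsPerfect.ofSurjective (f := e.toMonoidHom) e.surjective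
  refine ((hN.map (QuotientGroup.mk' (center (Sg m δ))) (QuotientGroup.mk'_surjective _)).eq_bot_or_eq_top).imp
    (fun k => ?_) fun k => ?_
  · rwa [Subgroup.map_eq_bot_iff, QuotientGroup.ker_mk'] at k
  · have := congrArg (comap (QuotientGroup.mk' (center (Sg m δ)))) k
    rw [comap_map_eq, QuotientGroup.ker_mk', comap_top] at this
    exact top_unique (pf.commutator_eq_top ▸ hN.commutator_le_of_self_sup_commutative_eq_top this inferInstance)

namespace YRel

variable {t : G} {X : Fin m → Vk m δ → KK δ → G} (h : YRel t X) {i j k l : Fin m}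
include h

theorem sp_one (hi : i ≠ i.rev) : X i 0 0 = 1 := by simpa using h.self i 0 hi

theorem sp_shift (hi : i ≠ i.rev) {a : Vk m δ} {c : KK δ} (ok : Ok (ee δ i) a c) (x : KK δ) :
    X i (a + x • ee δ i) (c + x + star x) = X i a c := by
  have o2 : Ok (ee δ i) (x • ee δ i) (x + star x) :=
    ⟨ok.ee, sp_hf1 hi _, by rw [sp_hf0 hi, star_add, star_star, add_comm (star x), k_two]⟩
  have := h.mul i _ _ _ _ hi ok o2
  rw [h.self i x hi, mul_one, hf_smul_right, ← star_hf, ok.ea, star_zero, mul_zero, add_zero, ← add_assoc] at this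
  exact this.symm

theorem sp_self (hi : i ≠ i.rev) (x : KK δ) : X i (x • ee δ i) 0 = X i 0 (x + star x) := by
  have := h.sp_shift hi (sp_ok0 hi x.im) x
  rwa [zero_add, ← add_star, add_assoc, k_two] at this

theorem sp_sym (hi : i ≠ i.rev) (hj : j ≠ j.rev) (e : j ≠ i.rev) (x : KK δ) :
    X i (x • ee δ j) 0 = X j (star x • ee δ i) 0 := by
  by_cases e' : j = i
  · subst e'
    rw [h.sp_self hi, h.sp_self hi, star_star, add_comm]
  · exact h.sym i j x hi hj e' e

theorem sp_sq (hi : i ≠ i.rev) {a : Vk m δ} (ok : Ok (ee δ i) a 0) : (X i a 0)⁻¹ = X i a 0 := by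
  refine inv_eq_of_mul_eq_one_right ?_
  rw [h.mul i _ _ _ _ hi ok ok, ← ok.cc, star_zero, show a + a = 0 from funext fun _ => k_two _]
  simpa using h.sp_one hi

/-- conjugation of a hat by an involutory hat -/
theorem sp_nat (hi : i ≠ i.rev) (hk : k ≠ k.rev) (e : k ≠ i.rev) {a b : Vk m δ} (oa : Ok (ee δ i) a 0)
    (ob : Ok (ee δ k) b 0) (e1 : hf a (ee δ k) = 0) :
    X i a 0 * X k b 0 * X i a 0 = X k (b + hf a b • ee δ i + hf (ee δ i) b • a) 0 := by
  by_cases e' : k = i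
  · subst e'
    have aa : hf a a = 0 := by rw [← oa.cc, star_zero, add_zero]
    have := h.sp_shift hk (c := hf a b + star (hf a b)) (a := b)
      ⟨ob.ee, ob.ea, by rw [← ob.cc, star_add, star_star, add_comm (star _), k_two, star_zero, add_zero]⟩ (hf a b)
    rw [add_assoc, k_two] at this
    rw [h.mul k _ _ _ _ hk oa ob, h.mul k _ _ _ _ hk (oa.add ob) oa, ob.ea, zero_smul, add_zero (b + _), this,
      hf_add_left, aa, star_hf, add_right_comm a, show a + a = 0 from funext fun _ => k_two _]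
    simp only [zero_add, add_zero]
  · have := h.conj i k a 0 b 0 hi hk e' e oa ob e1
    rwa [h.sp_sq hi oa, TM_mulVec, zero_mul, add_zero] at this

theorem sp_pre (hm : 4 ≤ m) (hρ : ρ * ρ + ρ = δ) : ∃ Y : Fin m → Fin m → F → G,
    UN.StPre (RingHom.id F) t Y ∧ ∀ i j, i ≠ j → ∀ a,
      (i ≠ i.rev → Y i j a = X i ((spF δ ρ * rt δ a) • ee δ j.rev) 0) ∧
      (j.rev ≠ j.rev.rev → Y i j a = X j.rev ((spE δ ρ * rt δ a) • ee δ i) 0) := by
  let Y : Fin m → Fin m → F → G := fun i j a =>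
    if i = i.rev then X j.rev ((spE δ ρ * rt δ a) • ee δ i) 0 else X i ((spF δ ρ * rt δ a) • ee δ j.rev) 0
  have r : ∀ {i j : Fin m}, i ≠ j → j.rev ≠ i.rev := fun e => Fin.rev_injective.ne e.symm
  have r' : ∀ {i j : Fin m}, i ≠ j → i ≠ j.rev.rev := fun e => by rwa [Fin.rev_rev]
  have x1 : ∀ i j, i ≠ i.rev → ∀ a, Y i j a = X i ((spF δ ρ * rt δ a) • ee δ j.rev) 0 :=
    fun i j e a => if_neg e
  have x2 : ∀ i j, i ≠ j → j.rev ≠ j.rev.rev → ∀ a, Y i j a = X j.rev ((spE δ ρ * rt δ a) • ee δ i) 0 := by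
    intro i j e hj a
    by_cases hi : i = i.rev
    · exact if_pos hi
    · rw [x1 i j hi, h.sp_sym hi hj (r e), star_mul', sp_star', star_rt]
  have ti : t⁻¹ = t := inv_eq_of_mul_eq_one_right h.t2
  have nat : ∀ {i j k l : Fin m}, i ≠ j → k ≠ l → k ≠ k.rev → i ≠ k.rev → j ≠ k → ∀ a u,
      Y i j a * Y k l u * Y i j a = X k ((spF δ ρ * rt δ u) • ee δ l.rev +
        (if l = i then spF δ ρ * rt δ (u * a) else 0) • ee δ j.rev) 0 := by
    intro i j k l e e' e0 e1 e2 a u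
    rw [x1 k l e0]
    by_cases hi : i = i.rev
    · rw [x2 i j e (sp_mid e hi), h.sp_nat (sp_mid e hi) e0 (r' e2.symm) (sp_okE hρ (sp_mid e hi) (r' e) a)
        (sp_okF hρ e0 (r e') u) (by
          rw [hf_smul_left, sp_hf, if_neg (fun k => e1 (by rw [k, Fin.rev_rev])), mul_zero]),
        hf_smul_left, hf_smul_right, hf_smul_right, smul_smul, star_mul', sp_star, star_rt, sp_hf,
        show spF δ ρ * rt δ u * hf (ee δ j.rev) (ee δ l.rev) * (spE δ ρ * rt δ a) = 0 by
          linear_combination (rt δ u * rt δ a * hf (ee δ j.rev) (ee δ l.rev)) * sp_orth hρ,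
        zero_smul, add_zero]
      congr 3
      simp only [Fin.rev_inj, map_mul]
      split_ifs
      · linear_combination (rt δ u * rt δ a) * sp_idem hρ
      · ring
    · rw [x1 i j hi, h.sp_nat hi e0 (fun k => e1 (by rw [k, Fin.rev_rev])) (sp_okF hρ hi (r e) a)
        (sp_okF hρ e0 (r e') u) (by rw [hf_smul_left, sp_hf, if_neg (r' e2.symm), mul_zero]),
        sp_FF hρ, zero_smul, add_zero, hf_smul_right, smul_smul, sp_hf]
      congr 3
      simp only [Fin.rev_inj, map_mul]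
      split_ifs
      · linear_combination (rt δ u * rt δ a) * sp_idem hρ
      · ring
  refine ⟨Y, ⟨by omega, h.t2, fun _ => rfl, CharTwo.add_self_eq_zero, fun {i j} e a b => ?_, fun {i j} e a => ?_,
    fun {i j k l} e e' e0 e1 e2 e3 a u => ?_, fun {i j k} e e' e0 e1 e2 a u => ?_⟩,
    fun i j e a => ⟨fun hi => x1 i j hi a, fun hj => x2 i j e hj a⟩⟩
  · by_cases hi : i = i.rev
    · have hj := sp_mid e hi
      rw [x2 i j e hj, x2 i j e hj, x2 i j e hj, h.mul _ _ _ _ _ hj (sp_okE hρ hj (r' e) a) (sp_okE hρ hj (r' e) b),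
        sp_EE hρ, map_add, mul_add, add_smul, add_zero, add_zero]
    · rw [x1 i j hi, x1 i j hi, x1 i j hi, h.mul _ _ _ _ _ hi (sp_okF hρ hi (r e) a) (sp_okF hρ hi (r e) b),
        sp_FF hρ, map_add, mul_add, add_smul, add_zero, add_zero]
  · by_cases hi : i = i.rev
    · have hj := sp_mid e hi
      have := h.tc _ _ _ hj (sp_okE hρ hj (r' e) a)
      rw [ti, star_smul, star_ee, star_mul', sp_star, star_rt, star_zero] at this
      rw [x2 i j e hj, this, x1 _ _ hj, Fin.rev_rev]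
      rfl
    · have := h.tc _ _ _ hi (sp_okF hρ hi (r e) a)
      rw [ti, star_smul, star_ee, star_mul', sp_star', star_rt, star_zero] at this
      rw [x1 i j hi, this, x2 _ _ (r e) (by rwa [Fin.rev_rev]), Fin.rev_rev]
      rfl
  · rw [nat e e' e0 e1 e2, if_neg e3, zero_smul, add_zero, x1 k l e0]
  · rw [nat e e' e0 e1 e2, if_pos rfl, x1 k i e0, x1 k j e0,
      h.mul _ _ _ _ _ e0 (sp_okF hρ e0 (r e') u) (sp_okF hρ e0 (r e2.symm) _), sp_FF hρ, add_zero, add_zero]

end YRel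

theorem YRel.hom_split (hm : 4 ≤ m) (hρ : ρ * ρ + ρ = δ) {t : G} {X : Fin m → Vk m δ → KK δ → G}
    (h : YRel t X) : ∃ ψ : Sg m δ →* G, ∀ i a c, i ≠ i.rev → Ok (ee δ i) a c → ψ (TS (ee δ i) a c) = X i a c := by
  obtain ⟨Y, hY, hX⟩ := h.sp_pre hm hρ
  obtain ⟨ψ₀, hψ⟩ := hY.relA.exists_hom (by omega)
  obtain ⟨e, he⟩ := split_TS (m := m) hρ
  let ψ := ψ₀.comp e.symm.toMonoidHom
  have k0 : ∀ i j (k : i ≠ j) a, ψ (e (SpecialLinearGroup.transvection k a)) = Y i j a := fun i j k a =>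
    (congrArg ψ₀ (e.symm_apply_apply _)).trans (hψ ⟨(i, j), k⟩ a)
  refine ⟨ψ, fun i a c hi ok => ?_⟩
  let P : Vk m δ → KK δ → Prop := fun a c => Ok (ee δ i) a c ∧ ψ (TS (ee δ i) a c) = X i a c
  have pm : ∀ {a c b d}, P a c → P b d → P (a + b) (c + d + hf a b) := fun h1 h2 =>
    ⟨h1.1.add h2.1, by rw [← TS_mul h1.1 h2.1, map_mul, h1.2, h2.2, h.mul i _ _ _ _ hi h1.1 h2.1]⟩
  have pF : ∀ j, j ≠ i.rev → ∀ u, P ((spF δ ρ * rt δ u) • ee δ j) 0 := fun j k u => by
    have k' : i ≠ j.rev := fun e => k (by rw [e, Fin.rev_rev])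
    have := k0 i j.rev k' u
    rw [(he _ _ k' u).1 hi, (hX _ _ k' u).1 hi, Fin.rev_rev] at this
    exact ⟨sp_okF hρ hi k u, this⟩
  have pE : ∀ j, j ≠ i.rev → ∀ u, P ((spE δ ρ * rt δ u) • ee δ j) 0 := fun j k u => by
    have hi' : i.rev.rev ≠ i.rev.rev.rev := by rwa [Fin.rev_rev]
    have := k0 j i.rev k u
    rw [(he _ _ k u).2 hi', (hX _ _ k u).2 hi', Fin.rev_rev] at this
    exact ⟨sp_okE hρ hi k u, this⟩
  have p0 : ∀ u, P 0 (rt δ u) := fun u => by
    have e1 : spF δ ρ * rt δ u + star (spF δ ρ * rt δ u) = rt δ u := by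
      rw [star_mul', sp_star', star_rt]
      linear_combination rt δ u * sp_sum (δ := δ) (ρ := ρ)
    have := (pF i hi u).2
    rw [h.sp_self hi, e1, ← zero_add (_ • ee δ i), TS_shift, zero_add, e1] at this
    exact ⟨sp_ok0 hi u, this⟩
  have ex : ∃ c', P a c' := by
    rw [show a = ∑ j, a j • ee δ j from (pi_eq_sum_univ' a).trans (by simp only [ee])]
    refine Finset.sum_induction _ (fun a => ∃ c', P a c') (fun _ _ ⟨_, h1⟩ ⟨_, h2⟩ => ⟨_, pm h1 h2⟩)
      ⟨_, p0 0⟩ fun j _ => ?_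
    by_cases k : j = i.rev
    · rw [k, ← hf_ee_left i a, ok.ea, zero_smul]
      exact ⟨_, p0 0⟩
    · obtain ⟨u, v, e⟩ := sp_dec hρ (a j)
      rw [e, add_smul]
      exact ⟨_, pm (pE j k u) (pF j k v)⟩
  obtain ⟨c', hc⟩ := ex
  obtain ⟨u, hu⟩ := (rat_iff (x := c + c')).1 (by
    rw [star_add]
    linear_combination ok.cc - hc.1.cc + k_two (star c') - k_two c)
  have := (pm hc (p0 u)).2
  rwa [add_zero, hf_zero_right, add_zero, ← hu, add_comm c, ← add_assoc, k_two, zero_add] at this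

end CfsgLib.SP4.BC
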