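import Cfsg.Agent.Lib.SPC.Defs
import Cfsg.Agent.Lib.SP4.BSpl
import Cfsg.Agent.Lib.SP4.BFld2

/-! Generation, simplicity, the presentation and the identification (both cases) -/

set_option autoImplicit false
set_option linter.unusedSectionVars false

namespace CfsgLib.SP4.BC

open Subgroup Module Matrix CfsgLib.UFP
open scoped commutatorElement Pointwise

universe u

variable {F : Type} [Field F] [Finite F] [CharP F 2] [Fact (2 < Nat.card F)] {m : ℕ} {δ : F} {G : Type u} [Group G] [Finite G]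

theorem gen (hm : 4 ≤ m) {H : Subgroup (Sg m δ)}
    (h : ∀ i a c, i ≠ i.rev → Ok (ee δ i) a c → TS (ee δ i) a c ∈ H) : H = ⊤ := by
  by_cases e : ∃ ρ : F, ρ * ρ + ρ = δ
  · obtain ⟨ρ, hρ⟩ := e
    exact gen_split hm hρ h
  · exact gen_field hm (fun ρ k => e ⟨ρ, k⟩) h

theorem bg_l (hm : 4 ≤ m) (i : Fin m) : ∃ l : Fin m, l ≠ l.rev ∧ l ≠ i ∧ l ≠ i.rev := by
  by_contra! H
  have h0 := H ⟨0, by omega⟩
  have h1 := H ⟨1, by omega⟩
  simp only [ne_eq, Fin.ext_iff, Fin.val_rev] at h0 h1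
  omega

theorem gen' (hm : 4 ≤ m) {H : Subgroup (Sg m δ)}
    (h1 : ∀ i a c, i ≠ i.rev → star a = a → Ok (ee δ i) a c → TS (ee δ i) a c ∈ H)
    (h2 : ∀ i j : Fin m, i ≠ i.rev → j ≠ j.rev → j ≠ i → j ≠ i.rev → TS (ee δ i) (om δ • ee δ j) 0 ∈ H) :
    H = ⊤ := by
  refine gen hm fun i a c hi ok => ?_
  have hi0 : hf (ee δ i) (ee δ i) = 0 := (RV.ee hi).self
  let Q : Vk m δ → Prop := fun a => ∃ c, Ok (ee δ i) a c ∧ TS (ee δ i) a c ∈ H
  have add : ∀ a b, Q a → Q b → Q (a + b) := by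
    rintro a b ⟨c, k1, k2⟩ ⟨d, k3, k4⟩
    exact ⟨_, k1.add k3, TS_mul k1 k3 ▸ mul_mem k2 k4⟩
  have rat : ∀ a, star a = a → hf (ee δ i) a = 0 → Q a := fun a e1 e2 => by
    obtain ⟨c, k⟩ := exists_ok hi0 e2
    exact ⟨c, k, h1 i a c hi e1 k⟩
  have can : ∀ a b, Q (a + b) → Q b → Q a := fun a b k1 k2 => by
    have := add _ _ k1 k2
    rwa [add_assoc, show b + b = 0 from funext fun _ => k_two _, add_zero] at this
  have step : ∀ (j l : Fin m) (x : F) (c : KK δ), j ≠ i → j ≠ i.rev → l ≠ l.rev → l ≠ i → l ≠ i.rev → l ≠ j →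
      l ≠ j.rev → Ok (ee δ l) (rt δ x • ee δ j) c → Q ((c * om δ) • ee δ l) →
      Q ((om δ * rt δ x) • ee δ j) := by
    intro j l x c n1 n2 n3 n4 n5 n6 n7 k q
    have n8 : l.rev ≠ i := fun e => n5 (by rw [← e, Fin.rev_rev])
    have n9 : l.rev ≠ i.rev := fun e => n4 (Fin.rev_injective e)
    have n10 : l.rev ≠ l.rev.rev := fun e => n3 (Fin.rev_injective e)
    have n11 : j.rev ≠ i := fun e => n2 (by rw [← e, Fin.rev_rev])
    have n12 : j.rev ≠ l.rev := fun e => n6 (Fin.rev_injective e).symm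
    have o : Ok (ee δ i) (om δ • ee δ l.rev) 0 :=
      Ok.w (RV.ee hi) (RV.ee n10) (by rw [hf_ee_left]; simp [ee, n9.symm])
    have w := h2 i l.rev hi n10 n8 n9
    have s := h1 l _ c n3 (by rw [star_smul, star_rt, star_ee]) k
    have e1 : mat (TS (ee δ l) (rt δ x • ee δ j) c) *ᵥ ee δ i = ee δ i := by
      rw [mat_TS k, TM_mulVec, hf_smul_left, hf_ee_left, hf_ee_left]
      simp [ee, n8, n11]
    have e2 : mat (TS (ee δ l) (rt δ x • ee δ j) c) *ᵥ (om δ • ee δ l.rev) =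
        (om δ * rt δ x) • ee δ j + (c * om δ) • ee δ l + om δ • ee δ l.rev := by
      rw [mat_TS k, TM_mulVec, hf_smul_left, hf_ee_left, hf_ee_left, smul_smul]
      simp only [ee, Pi.smul_apply, Pi.single_eq_same, Pi.single_eq_of_ne n12, smul_eq_mul, mul_zero,
        mul_one, zero_add]
      abel
    have o' := o.conj (TS (ee δ l) (rt δ x • ee δ j) c)
    have w' := mul_mem (mul_mem s w) (inv_mem s)
    rw [TS_conj o, e1, e2] at w'
    rw [e1, e2] at o'
    exact can _ _ (can _ _ ⟨_, o', w'⟩ ⟨_, o, w⟩) q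
  have q0 : Q 0 := rat 0 (star_zero _) (hf_zero_right _)
  have nm : ∀ (j : Fin m) (x : F), j ≠ i → j ≠ i.rev → j ≠ j.rev → Q ((om δ * rt δ x) • ee δ j) := by
    intro j x n1 n2 n0
    have n8 : j.rev ≠ i := fun e => n2 (by rw [← e, Fin.rev_rev])
    have n9 : j.rev ≠ i.rev := fun e => n1 (Fin.rev_injective e)
    have n10 : j.rev ≠ j.rev.rev := fun e => n0 (Fin.rev_injective e)
    have o : Ok (ee δ i) (om δ • ee δ j.rev) 0 :=
      Ok.w (RV.ee hi) (RV.ee n10) (by rw [hf_ee_left]; simp [ee, n9.symm])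
    have w := h2 i j.rev hi n10 n8 n9
    have k : Ok (ee δ j) 0 (rt δ x) := ⟨(RV.ee n0).self, hf_zero_right _, by rw [star_rt, hf_zero_right, k_two]⟩
    have s := h1 j _ _ n0 (star_zero _) k
    have e1 : mat (TS (ee δ j) 0 (rt δ x)) *ᵥ ee δ i = ee δ i := by
      rw [mat_TS k, TM_mulVec, hf_zero_left, hf_ee_left]
      simp [ee, n8]
    have e2 : mat (TS (ee δ j) 0 (rt δ x)) *ᵥ (om δ • ee δ j.rev) =
        (om δ * rt δ x) • ee δ j + om δ • ee δ j.rev := by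
      rw [mat_TS k, TM_mulVec, hf_zero_left, hf_ee_left, mul_comm (om δ)]
      simp only [ee, Pi.smul_apply, Pi.single_eq_same, smul_eq_mul, mul_one, zero_add, smul_zero, add_zero]
      abel
    have o' := o.conj (TS (ee δ j) 0 (rt δ x))
    have w' := mul_mem (mul_mem s w) (inv_mem s)
    rw [TS_conj o, e1, e2] at w'
    rw [e1, e2] at o'
    exact can _ _ ⟨_, o', w'⟩ ⟨_, o, w⟩
  have sp : ∀ (j : Fin m) (y : KK δ), j ≠ i.rev → (∀ x, Q ((om δ * rt δ x) • ee δ j)) → Q (y • ee δ j) := by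
    intro j y n k
    rw [k_dec y, add_smul]
    refine add _ _ (rat _ (by rw [star_smul, star_rt, star_ee]) ?_) (k _)
    rw [hf_ee_left]; simp [ee, n.symm]
  have all : ∀ (j : Fin m) (y : KK δ), j ≠ i.rev → Q (y • ee δ j) := by
    intro j y n2
    by_cases n1 : j = i
    · subst n1
      have o : Ok (ee δ j) (y • ee δ j) 0 := ⟨hi0, by rw [hf_smul_right, hi0, mul_zero], by
        rw [hf_smul_right, hf_smul_left, hi0, star_zero, mul_zero, mul_zero, add_zero]⟩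
      refine ⟨0, o, ?_⟩
      rw [← zero_add (y • ee δ j), TS_shift]
      refine h1 j 0 _ hi (star_zero _) ⟨hi0, hf_zero_right _, ?_⟩
      rw [zero_add, star_add, star_star, hf_zero_right, add_comm (star y), k_two]
    refine sp j y n2 fun x => ?_
    by_cases n0 : j ≠ j.rev
    · exact nm j x n1 n2 n0
    obtain ⟨l, n3, n4, n5⟩ := bg_l hm i
    have n6 : l ≠ j := fun e => n0 (e ▸ n3)
    have n7 : l ≠ j.rev := (not_not.1 n0) ▸ n6
    obtain ⟨c, k⟩ := exists_ok (e := ee δ l) (a := rt δ x • ee δ j) (RV.ee n3).self (by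
      rw [hf_ee_left]
      have : l.rev ≠ j := fun e => n7 (by rw [← e, Fin.rev_rev])
      simp [ee, this])
    exact step j l x c n1 n2 n3 n4 n5 n6 n7 k (sp l _ n5 fun x => nm l x n4 n5 n3)
  have qa : Q a := by
    have e : a = ∑ j, a j • ee δ j := by
      funext l
      simp [ee, Finset.sum_apply, Pi.single_apply]
    rw [e]
    refine Finset.sum_induction _ Q add q0 fun j _ => ?_
    by_cases n : j = i.rev
    · have := ok.ea
      rw [hf_ee_left, ← n] at this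
      rwa [this, zero_smul]
    · exact all j _ n
  obtain ⟨d, k1, k2⟩ := qa
  have o : Ok (ee δ i) 0 (d + c) := ⟨hi0, hf_zero_right _, by
    rw [hf_zero_right, star_add, add_add_add_comm, k1.cc, ok.cc, k_two]⟩
  have := mul_mem k2 (h1 i 0 _ hi (star_zero _) o)
  rwa [TS_mul k1 o, add_zero, hf_zero_right, add_zero, ← add_assoc, k_two, zero_add] at this

theorem simp (hm : 4 ≤ m) (N : Subgroup (Sg m δ)) (hN : N.Normal) : N ≤ center (Sg m δ) ∨ N = ⊤ := by
  by_cases e : ∃ ρ : F, ρ * ρ + ρ = δ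
  · obtain ⟨ρ, hρ⟩ := e
    exact simp_split hm hρ N hN
  · exact simp_field hm (fun ρ k => e ⟨ρ, k⟩) N hN

theorem z_not_mem (hm : 4 ≤ m) {d : Vk m δ} (hd : RV d) (d0 : d ≠ 0) : TS d 0 1 ∉ center (Sg m δ) := by
  intro k
  exact d0 (z_inj hd RV.zero ((center_two hm k (TS_pow (Ok.z hd))).trans (TS_zero_left _ _).symm))

theorem perf (hm : 4 ≤ m) (ψ : Sg m δ →* G) : ψ.range ≤ ⁅ψ.range, ψ.range⁆ := by
  have k : ⁅(⊤ : Subgroup (Sg m δ)), (⊤ : Subgroup (Sg m δ))⁆ = ⊤ := by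
    refine (simp hm _ inferInstance).resolve_left fun k => ?_
    obtain ⟨i, hi⟩ : ∃ i : Fin m, (i : ℕ) = 0 := ⟨⟨0, by omega⟩, rfl⟩
    obtain ⟨j, hj⟩ : ∃ j : Fin m, (j : ℕ) = 1 := ⟨⟨1, by omega⟩, rfl⟩
    have n1 : i ≠ i.rev := fun e => by have := congrArg Fin.val e; simp only [Fin.val_rev] at this; omega
    have n2 : j ≠ j.rev := fun e => by have := congrArg Fin.val e; simp only [Fin.val_rev] at this; omega
    have n3 : j ≠ i := fun e => by rw [e] at hj; omega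
    have z : ∀ l : Fin m, ee δ l ≠ 0 := fun l e => by
      have := congrFun e l
      rw [ee, Pi.single_eq_same] at this
      exact one_ne_zero (rt_inj (δ := δ) (c := 1) (d := 0) (by rw [map_one, map_zero]; exact this))
    obtain ⟨l, -, hl⟩ := rat_trans (RV.ee (δ := δ) n1) (RV.ee n2) (z i) (z j)
    have c := k (commutator_mem_commutator (mem_top l) (mem_top (TS (ee δ i) 0 1)))
    rw [commutatorElement_def, TS_conj (Ok.z (RV.ee n1)), hl, mulVec_zero] at c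
    have m1 : TS (ee δ i) 0 1 ∈ Mh m δ 0 := TS_mem (Ok.z (RV.ee n1)) (fun _ _ => rfl) fun e => by
      simp only [Fin.val_rev] at e; omega
    have m2 : TS (ee δ j) 0 1 ∈ Mh m δ 0 := TS_mem (Ok.z (RV.ee n2)) (fun _ _ => rfl) fun e => by
      simp only [Fin.val_rev] at e; omega
    have e := congrFun (z_inj (RV.ee n2) (RV.ee n1)
      (mul_inv_eq_one.1 (center_two hm c (Mh_pow (mul_mem m2 (inv_mem m1)))))) j
    rw [ee, ee, Pi.single_eq_same, Pi.single_eq_of_ne n3] at e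
    exact one_ne_zero (rt_inj (δ := δ) (c := 1) (d := 0) (by rw [map_one, map_zero]; exact e))
  rw [MonoidHom.range_eq_map, ← map_commutator, k]

theorem YRel.hom (hm : 4 ≤ m) {t : G} {X : Fin m → Vk m δ → KK δ → G} (h : YRel t X)
    (ho : Odd (Nat.card (centralizer (YG X : Set G)))) :
    ∃ ψ : Sg m δ →* G, (∀ i a c, i ≠ i.rev → Ok (ee δ i) a c → ψ (TS (ee δ i) a c) = X i a c) ∧
      (∀ s, t * ψ s * t⁻¹ = ψ (sb s)) ∧ ψ.range = YG X := by
  obtain ⟨ψ, hψ⟩ : ∃ ψ : Sg m δ →* G,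
      ∀ i a c, i ≠ i.rev → Ok (ee δ i) a c → ψ (TS (ee δ i) a c) = X i a c := by
    by_cases e : ∃ ρ : F, ρ * ρ + ρ = δ
    · obtain ⟨ρ, hρ⟩ := e
      exact h.hom_split hm hρ
    · exact h.hom_field hm (fun ρ k => e ⟨ρ, k⟩) ho
  refine ⟨ψ, hψ, fun s => ?_, le_antisymm ?_ ((closure_le _).2 ?_)⟩
  · have : ((MulAut.conj t).toMonoidHom.comp ψ).eqLocus (ψ.comp sb) = ⊤ := gen hm fun i a c hi ok => by
      change t * ψ _ * t⁻¹ = ψ (sb _)
      have o : Ok (ee δ i) (star a) (star c) := by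
        have := ok.map (bA δ)
        rwa [show (bA δ).1 ∘ ee δ i = ee δ i from star_ee i] at this
      rw [sb_TS ok, star_ee, hψ i _ _ hi ok, hψ i _ _ hi o, h.tc i a c hi ok]
    exact (this.ge (mem_top s) :)
  · rw [MonoidHom.range_eq_map, map_le_iff_le_comap]
    refine (gen hm fun i a c hi ok => ?_).ge
    exact subset_closure ⟨i, a, c, hi, ok, hψ i a c hi ok⟩
  · rintro _ ⟨i, a, c, hi, ok, rfl⟩
    exact ⟨_, hψ i a c hi ok⟩

theorem pr_of {k : ℕ} (hk : m = 2 * k ∨ m = 2 * k + 1) {ψ : Sg m δ →* G} (h1 : ψ.ker ≤ center (Sg m δ))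
    {Gs : Subgroup G} (h2 : ψ.range = Gs) (h3 : centralizer (Gs : Set G) = ⊥) : CfsgLib.SPC.Pr F k Gs := by
  subst h2
  have e : ψ.ker = center (Sg m δ) := le_antisymm h1 fun s hs => by
    rw [MonoidHom.mem_ker, ← mem_bot, ← h3, mem_centralizer_iff]
    rintro _ ⟨s', rfl⟩
    rw [← map_mul, ← map_mul, mem_center_iff.1 hs]
  have θ : ψ.range ≃* Sg m δ ⧸ center (Sg m δ) :=
    (QuotientGroup.quotientKerEquivRange ψ).symm.trans (QuotientGroup.quotientMulEquivOfEq e)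
  by_cases e : ∃ ρ : F, ρ * ρ + ρ = δ
  · obtain ⟨ρ, hρ⟩ := e
    obtain ⟨η⟩ := psl_split (m := m) hρ
    obtain rfl | rfl := hk
    · exact .inl ⟨θ.trans η⟩
    · exact .inr (.inl ⟨θ.trans η⟩)
  · obtain ⟨K, _, _, hK, ⟨η⟩⟩ := psu_field (m := m) (δ := δ) fun ρ k => e ⟨ρ, k⟩
    refine .inr (.inr (.inl ⟨K, inferInstance, inferInstance, hK, ?_⟩))
    obtain rfl | rfl := hk
    · exact .inl ⟨θ.trans η⟩
    · exact .inr (.inl ⟨θ.trans η⟩)

end CfsgLib.SP4.BC
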