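import Cfsg.Agent.Lib.SP4.Loc

/-! Types B and C: the hats `w e a` (`κ = 1`) and `u e` -/

set_option autoImplicit false
set_option linter.unusedSectionVars false

namespace CfsgLib.SP4

open Subgroup Module CfsgLib.Forms CfsgLib.LieMult
open CfsgLib.HX (Std CO Two Mv M2)
open CfsgLib.UN (AV SI TI HH Rad Stb Yg Rg Eg Act nu)
open CfsgLib.ClSys (II)
open Submodule (span)
open scoped commutatorElement Pointwise

universe u

variable {F : Type} [Field F] [Finite F] {V : Type} [AddCommGroup V] [Module F V]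
  [FiniteDimensional F V] {P : PQ (RingHom.id F) V} {S : Type} [Group S] [Finite S] {G : Type u}
  [Group G] [Finite G] {C : CG P S} {φ : S →* G} {t : G}

/-- type C with the second family of hats: `v e = T (e, ω v₀, δ ω)` in the model -/
structure HV (C : CG P S) (φ : S →* G) (t : G) (w : V → V → G) (u v : V → G) (δ : F) : Prop
    extends HC C φ t w u δ where
  vzero : v 0 = 1
  veqv : ∀ l e, φ l * v e * (φ l)⁻¹ = v (C.act l e)
  vdef : ∀ e e' c, P.B e e' = 0 → P.B e c = 0 → u e' * w e c * (u e')⁻¹ =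
    w e c * v (P.B c e' • e) * w e (P.B c e' • e') * x C φ e ((δ * P.B c e') • e')
  vw : ∀ e a b, P.B e a = 0 → P.B e b = 0 → P.B a b = 0 → Commute (v e) (w a b)
  vt : ∀ e, t * v e * t⁻¹ = v e * u e * z C φ e (δ + 1)
  uv : ∀ e e', P.B e e' = 0 → u e * v e' = v e' * u e * w e e' * x C φ e e'
  vline : ∀ e e', P.B e e' = 0 → v (e + e') = v e * v e' * w e (δ • e')

namespace HW

variable {w : V → V → G} {δ : F} (h : HW C φ t w 1 δ) {e e' a b a' b' p r : V}
include h

theorem bw_zero (e : V) : w e 0 = 1 := by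
  have a := h.add e 0 0 (map_zero _) (map_zero _) (map_zero _)
  rwa [add_zero, h.sq e 0 (map_zero _)] at a

theorem bw_zero' (a : V) : w 0 a = 1 := by
  have a1 := h.smul 0 a 0 (by simp)
  rwa [zero_smul, zero_smul, h.bw_zero] at a1

theorem bw_self (e : V) (μ : F) : w e (μ • e) = z C φ e μ := by
  have a1 := h.shift e 0 μ (map_zero _)
  rwa [zero_add, h.bw_zero, one_mul, one_mul] at a1

theorem bw_t (k : P.B e a = 0) : t * w e a * t⁻¹ = w e a * x C φ e a := by
  have a1 := (h.mv e a k).pt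
  have a2 := h.wQ e a a 0 k k
  rw [h.B_self, mul_zero, add_zero] at a2
  have a3 := h.sq e a k
  have a4 : t⁻¹ = t := inv_eq_of_mul_eq_one_right h.t2
  calc t * w e a * t⁻¹ = t * (w e a * t * (w e a)⁻¹) * w e a := by rw [a4]; group
    _ = (t * t) * (w e a * w e a) * x C φ e a * w e a := by rw [a1, a3]; group
    _ = w e a * (w e a * τ C φ e a 0 * w e a) := by rw [h.t2]; unfold x τ; group
    _ = _ := by rw [a2]; rfl

theorem bw_inv (k : P.B e a = 0) : (w e a)⁻¹ = w e a := inv_eq_of_mul_eq_one_right (h.sq e a k)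

theorem bw_fix (k : P.B e a = 0) {l : S} (h1 : C.act l e = e) (h2 : C.act l a = a) :
    Commute (w e a) (φ l) := by
  have a1 := h.eqv l e a k
  rw [h1, h2, mul_inv_eq_iff_eq_mul] at a1
  exact a1.symm

/-- `w e a` commutes with `τ p r c` if `p, r ⊥ e, a` -/
theorem bw_τ (k : P.B e a = 0) (k' : P.B p r = 0) (h1 : P.B p e = 0) (h2 : P.B p a = 0) (h3 : P.B r e = 0)
    (h4 : P.B r a = 0) (c : F) : Commute (w e a) (τ C φ p r c) := 
  h.bw_fix k (by rw [h.T_app k', h1, h3]; simp) (by rw [h.T_app k', h2, h4]; simp)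

/-- `w e a` commutes with `w p r` if `p, r ⊥ e, a` -/
theorem bw_w (k : P.B e a = 0) (k' : P.B p r = 0) (h1 : P.B p e = 0) (h2 : P.B p a = 0) (h3 : P.B r e = 0)
    (h4 : P.B r a = 0) : Commute (w e a) (w p r) := by
  have a1 := h.cw e a p r k h1 h2 k'
  rw [h3, h4] at a1
  simp only [zero_smul, mul_zero, add_zero, smul_zero, h.bw_zero, h.x_zero, h.z_zero, mul_one] at a1
  calc w e a * w p r = w e a * w p r * w e a * w e a := by rw [mul_assoc, h.sq e a k, mul_one]
    _ = _ := by rw [a1]

theorem bw_line (k : P.B e a = 0) (k' : P.B e' a = 0) (k'' : P.B e e' = 0) :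
    w (e + e') a = w e a * w e' a := by
  have ka : P.B a e = 0 := (h.B_comm a e).trans k
  have ka' : P.B a e' = 0 := (h.B_comm a e').trans k'
  have k1 : P.B (e + e') a = 0 := by rw [P.B_add_left, k, k', add_zero]
  have a1 := h.symm (e + e') a k1
  rw [h.add a e e' ka ka' k'', h.symm e a k, h.symm e' a k', one_smul, h.x_symm k1,
    h.x_add ka ka' k'', ← h.x_symm k, ← h.x_symm k'] at a1
  have c1 : Commute (w e' a) (x C φ e a) := h.bw_τ k' k k'' k ka' (h.B_self a) 0
  rw [mul_assoc (w e a), ← mul_assoc (x C φ e a), ← c1.eq, ← mul_assoc, ← mul_assoc,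
    ← mul_assoc] at a1
  exact (mul_right_cancel (mul_right_cancel a1)).symm

theorem bw_mul (h1 : P.B e a = 0) (h2 : P.B e b = 0) (h3 : P.B e a' = 0) (h4 : P.B e b' = 0) (c c' : F) :
    τ C φ e a c * w e b * (τ C φ e a' c' * w e b') =
      τ C φ e (a + a') (c + c' + P.B a a' + P.B b a' + δ * P.B b b') * w e (b + b') := by
  have k : P.B e (b + b') = 0 := by rw [map_add, h2, h4, add_zero]
  have k' : P.B e (a + a') = 0 := by rw [map_add, h1, h3, add_zero]
  have c1 : Commute (w e (b + b')) (τ C φ e 0 (δ * P.B b b')) :=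
    h.bw_τ k (map_zero _) (h.B_self e) k (by simp) (by simp) _
  calc τ C φ e a c * w e b * (τ C φ e a' c' * w e b')
      = τ C φ e a c * (w e b * τ C φ e a' c' * w e b) * ((w e b)⁻¹ * w e b') := by group
    _ = τ C φ e a c * τ C φ e a' (c' + 1 * P.B b a') * (τ C φ e 0 (δ * P.B b b') * w e (b + b')) := by
      rw [h.wQ e b a' c' h2 h3, h.bw_inv h2, h.del rfl e b b' h2 h4, ← c1.eq]; rfl
    _ = _ := by
      rw [h.τ_mul h1 h3, ← mul_assoc, h.τ_mul k' (map_zero _), add_zero, map_zero]
      congr 2; ring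

theorem bw_conj (k : P.B p r = 0) (h1 : P.B e p = 0) (h2 : P.B e r = 0) (h3 : P.B e a = 0) (h4 : P.B e b = 0)
    (c : F) : w p r * (τ C φ e a c * w e b) * w p r =
      τ C φ e (a + (P.B r a + δ * P.B r b) • p + (δ * P.B p b) • r) c *
        w e (b + P.B r a • p + (P.B p a + P.B p b) • r) := by
  have c1 : Commute (w p r) (z C φ e c) := h.bw_τ k (map_zero _) h1 h2 (by simp) (by simp) c
  have hx : ∀ a, x C φ e a = τ C φ e a 0 * w e 0 := fun a => by rw [h.bw_zero, mul_one]; rfl
  have hz : ∀ c, z C φ e c = τ C φ e 0 c * w e 0 := fun a => by rw [h.bw_zero, mul_one]; rfl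
  have hw : ∀ b, w e b = τ C φ e 0 0 * w e b := fun b => by
    rw [show τ C φ e 0 0 = 1 from h.z_zero e, one_mul]
  have kr : P.B r p = 0 := (h.B_comm r p).trans k
  have a1 : w p r * x C φ e a * w p r =
      τ C φ e (a + P.B a r • p) 0 * w e (P.B a p • r + P.B a r • p) := by
    conv_lhs => rw [h.cx p r e a k h1 h2 h3, hx, hx, hz, hw (P.B a p • r + P.B a r • p),
      h.bw_mul h3 (map_zero _) (map_zero _) (by simp [h1, h2]),
      h.bw_mul (by simp [h3]) (by simp [h1, h2]) (by simp [h1]) (map_zero _),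
      h.bw_mul (by simp [h3, h1]) (by simp [h1, h2]) (map_zero _) (map_zero _)]
    congr 2
    · simp
    · simp only [map_smul, map_add, map_zero, smul_eq_mul, h.B_self, kr,
        zero_add, add_zero, mul_zero, one_mul, LinearMap.add_apply, LinearMap.smul_apply,
        LinearMap.zero_apply]
      linear_combination (P.B a p * P.B a r) * h.two
    · simp
  have a2 : w p r * w e b * w p r =
      τ C φ e (δ • (P.B b p • r + P.B b r • p)) 0 * w e (b + P.B b p • r) := by
    conv_lhs => rw [h.cw p r e b k h1 h2 h4, one_add_one_eq_two, h.two, zero_mul, zero_smul, add_zero, hx, hz,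
      hw (P.B b p • r), hw b,
      h.bw_mul (map_zero _) h4 (map_zero _) (by simp [h2]),
      h.bw_mul (by simp) (by simp [h4, h2]) (by simp [h1, h2]) (map_zero _),
      h.bw_mul (by simp [h1, h2]) (by simp [h4, h2]) (map_zero _) (map_zero _)]
    congr 2
    · simp
    · simp only [map_smul, map_add, map_zero, smul_eq_mul, h.B_self, kr,
        zero_add, add_zero, mul_zero, one_mul, LinearMap.add_apply, LinearMap.smul_apply,
        LinearMap.zero_apply]
      linear_combination (2 * δ * P.B b p * P.B b r) * h.two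
    · simp
  calc w p r * (τ C φ e a c * w e b) * w p r
      = w p r * x C φ e a * (z C φ e c * w p r) * ((w p r)⁻¹ * w e b * w p r) := by
        rw [h.τ_eq h3]; group
    _ = w p r * x C φ e a * w p r * z C φ e c * (w p r * w e b * w p r) := by
        rw [← c1.eq, h.bw_inv k]; group
    _ = _ := by
      rw [a1, a2, hz, h.bw_mul (by simp [h3, h1]) (by simp [h1, h2]) (map_zero _) (map_zero _),
        h.bw_mul (by simp [h3, h1]) (by simp [h1, h2]) (by simp [h1, h2]) (by simp [h4, h2]),
        h.B_comm r a, h.B_comm r b, h.B_comm p b, h.B_comm p a]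
      congr 2
      · module
      · simp only [map_smul, map_add, map_zero, smul_eq_mul, h.B_self,
          kr, k, zero_add, add_zero, mul_zero, h.B_comm r b, h.B_comm p b, LinearMap.add_apply,
          LinearMap.smul_apply]
        linear_combination (δ * P.B b p * P.B a r + δ * P.B b r * P.B a p) * h.two
      · module

end HW

namespace HC

variable {w : V → V → G} {u : V → G} {δ : F} (h : HC C φ t w u δ) {e e' a c : V}
include h

theorem bu_zero : u 0 = 1 := by
  have a1 := h.uline 0 0 (map_zero _)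
  rw [add_zero, h.toHW.bw_zero, mul_one] at a1
  exact (mul_eq_left.1 a1.symm)

theorem bu_t (e : V) : t * u e * t⁻¹ = u e * z C φ e 1 := by
  have a1 := (h.umv e).pt
  have a4 : t⁻¹ = t := inv_eq_of_mul_eq_one_right h.t2
  calc t * u e * t⁻¹ = t * (u e * t * (u e)⁻¹) * u e := by rw [a4]; group
    _ = (t * t) * (u e * (u e * u e)) := by rw [a1, ← h.usq]; group
    _ = _ := by rw [h.t2, h.usq, one_mul]

theorem bu_inv (e : V) : (u e)⁻¹ = u e * z C φ e 1 := 
  inv_eq_of_mul_eq_one_right (by rw [← mul_assoc, h.usq, h.z_sq])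

theorem bu_fix {l : S} (h1 : C.act l e = e) : Commute (u e) (φ l) := by
  have a1 := h.ueqv l e
  rw [h1, mul_inv_eq_iff_eq_mul] at a1
  exact a1.symm

theorem bu_τ (k : P.B a c = 0) (h1 : P.B a e = 0) (h2 : P.B c e = 0) (d : F) :
    Commute (u e) (τ C φ a c d) := 
  h.bu_fix (by rw [h.T_app k, h1, h2]; simp)

theorem bu_u (k : P.B e e' = 0) : u e * u e' = u e' * u e * x C φ e e' := by
  have k' : P.B e' e = 0 := (h.B_comm e' e).trans k
  have a1 := h.uline e e' k
  have c1 : Commute (w e e') (x C φ e e') :=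
    h.toHW.bw_τ k k (h.B_self e) k k' (h.B_self e') 0
  rw [add_comm, h.uline e' e k', h.symm e e' k, one_smul, c1.eq, ← mul_assoc] at a1
  exact (mul_right_cancel a1).symm

theorem bu_add (e : V) (l μ : F) : u (l • e) * u (μ • e) = u ((l + μ) • e) * z C φ e (l * μ) := by
  have a1 := h.uline (l • e) (μ • e) (by rw [h.B_smul_left, map_smul, h.B_self]; simp)
  rw [h.smul e (μ • e) l (by rw [map_smul, h.B_self]; simp), smul_smul, h.toHW.bw_self,
    ← add_smul] at a1
  rw [a1, mul_assoc, h.z_sq, mul_one]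

theorem bu_x (k : P.B e e' = 0) (k' : P.B e c = 0) (d : F) : u e' * τ C φ e c d * (u e')⁻¹ =
    τ C φ e c d * w e (P.B c e' • e') * u (P.B c e' • e) := by
  have k1 : P.B e' e = 0 := (h.B_comm e' e).trans k
  set α := P.B c e' with hα
  have k2 : P.B e' (α • e) = 0 := by rw [map_smul, k1, smul_zero]
  have k3 : P.B e (α • e') = 0 := by rw [map_smul, k, smul_zero]
  have a1 := h.ueqv (C.T e c d) e'
  rw [h.T_app k', k, mul_zero, add_zero, zero_smul, add_zero, ← hα, h.uline e' _ k2,
    h.bu_u k2] at a1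
  have a2 : w e' (α • e) = w e (α • e') * x C φ e (α • e') := by
    rw [← h.smul e' e α k1, h.symm e _ k3, one_smul]
  have a3 : x C φ e' (α • e) = x C φ e (α • e') := by rw [← h.x_smul k1, ← h.x_symm k3]
  have c1 : Commute (u e') (w e' (α • e)) := h.uw e' e' _ (h.B_self _) k2 k2
  have c2 : Commute (u e') (x C φ e' (α • e)) :=
    h.bu_τ k2 (h.B_self _) (by rw [h.B_smul_left, k, mul_zero]) 0
  have c3 : Commute (w e (α • e')) (x C φ e (α • e')) :=
    h.toHW.bw_τ k3 k3 (h.B_self e) k3 (by rw [h.B_smul_left, k1, mul_zero]) (h.B_self _) 0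
  have c4 : Commute (u (α • e)) (w e (α • e')) :=
    h.uw _ e _ (by rw [h.B_smul_left, h.B_self, mul_zero]) (by rw [h.B_smul_left, k3, mul_zero]) k3
  have a4 : (τ C φ e c d)⁻¹ = τ C φ e c d := h.τ_inv k' d
  calc u e' * τ C φ e c d * (u e')⁻¹
      = (τ C φ e c d)⁻¹ * (φ (C.T e c d) * u e' * (φ (C.T e c d))⁻¹) * (u e')⁻¹ := by
        rw [show (φ (C.T e c d))⁻¹ = τ C φ e c d from a4]; unfold τ; group
    _ = τ C φ e c d * (u (α • e) * (u e' * (x C φ e' (α • e) * w e' (α • e)))) * (u e')⁻¹ := by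
        rw [a1, a4]; group
    _ = τ C φ e c d * u (α • e) * (x C φ e' (α • e) * w e' (α • e)) := by
        rw [(c2.mul_right c1).eq]; group
    _ = _ := by
      rw [a2, a3, ← mul_assoc (x C φ e _), ← c3.eq, mul_assoc (w e _), h.x_sq k3, mul_one, mul_assoc,
        c4.eq, mul_assoc]

end HC

end CfsgLib.SP4
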