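import Cfsg.Agent.Lib.SP4.BIo
import Cfsg.Agent.Lib.SP4.BW
import Cfsg.Agent.Lib.SP4.BGen

/-! The dictionary -/

set_option autoImplicit false
set_option linter.unusedSectionVars false

namespace CfsgLib.SP4.BC

open Subgroup Module CfsgLib.Forms CfsgLib.LieMult Matrix
open CfsgLib.HX (Std CO Two Mv M2)
open CfsgLib.UN (AV SI TI HH Rad Stb Yg Rg Eg Act nu)
open CfsgLib.ClSys (II)
open Submodule (span)
open scoped commutatorElement Pointwise

universe u

variable {F : Type} [Field F] [Finite F] [CharP F 2] [Fact (2 < Nat.card F)] {V : Type} [AddCommGroup V] [Module F V]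
  [FiniteDimensional F V] {P : PQ (RingHom.id F) V} {S : Type} [Group S] [Finite S] {G : Type u}
  [Group G] [Finite G] {C : CG P S} {φ : S →* G} {t : G} {m : ℕ} {δ : F}
  {cv : V →ₗ[F] Vk m δ} {ι : S →* Sg m δ} {ψ : Sg m δ →* G} {w : V → V → G} {u v : V → G}

theorem bdic_idx (h6 : 4 ≤ m) : ∃ i : Fin m, i ≠ i.rev :=
  ⟨⟨0, by omega⟩, fun e => by
    have := congrArg Fin.val e
    rw [Fin.val_rev] at this
    simp only at this
    omega⟩

theorem bdic_ok {i : Fin m} {a : Vk m δ} {c : KK δ} (k : Ok (ee δ i) a c) :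
    Ok (ee δ i) (star a) (star c) := by
  refine ⟨k.ee, ?_, ?_⟩
  · rw [← star_ee, hf_star, k.ea, star_zero]
  · rw [hf_star, ← k.cc, star_add]

theorem exists_dic (h : HW C φ t w 1 δ) (hC : Odd m → HC C φ t w u δ) (d : Io C cv ι) (h6 : 4 ≤ m)
    {X : Fin m → Vk m δ → KK δ → G} (hX : YRel t X)
    (h1 : ∀ i e a c, i ≠ i.rev → cv e = ee δ i → P.B e a = 0 → X i (cv a) (rt δ c) = τ C φ e a c)
    (h2 : ∀ i e a, i ≠ i.rev → cv e = ee δ i → P.B e a = 0 → X i (om δ • cv a) 0 = w e a)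
    (h3 : Odd m → ∀ i e, i ≠ i.rev → cv e = ee δ i → X i (v0 m δ) (om δ) = u e) :
    ∃ ψ : Sg m δ →* G, Dic C φ t w u cv ι ψ ∧ Odd (Nat.card (centralizer (ψ.range : Set G))) := by
  have hE : Emb C φ := h.toSit.toEmb
  have hM : Mod C := hE.toMod
  have pe : ∀ {i : Fin m} {e a : V}, cv e = ee δ i → P.B e a = 0 → hf (ee δ i) (cv a) = 0 :=
    fun he k => he ▸ (d.toCrd.perp hM).2 k
  have mem : ∀ i a c, i ≠ i.rev → Ok (ee δ i) a c → X i a c ∈ YG X := fun i a c hi k =>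
    subset_closure ⟨i, a, c, hi, k, rfl⟩
  have hL : ∀ s, φ s ∈ YG X := fun s => by
    have : (YG X).comap φ = ⊤ := d.toCrd.gen hM fun i e a c hi he k => by
      show τ C φ e a c ∈ YG X
      rw [← h1 i e a c hi he k]
      exact mem _ _ _ hi (Ok.rv (RV.ee hi) (d.rv a) (pe he k) c)
    exact (this ▸ mem_top s : s ∈ (YG X).comap φ)
  have t2 : t * t = 1 := hX.t2
  have ti : t⁻¹ = t := inv_eq_of_mul_eq_one_right t2
  have tY : ∀ g ∈ YG X, t * g * t⁻¹ ∈ YG X := fun g hg => by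
    have : YG X ≤ (YG X).comap (MulAut.conj t).toMonoidHom := by
      rw [YG, closure_le]
      rintro _ ⟨i, a, c, hi, k, rfl⟩
      show t * X i a c * t⁻¹ ∈ YG X
      rw [hX.tc i a c hi k]
      exact mem _ _ _ hi (bdic_ok k)
    exact this hg
  have tC : ∀ g ∈ centralizer (YG X : Set G), t * g * t⁻¹ ∈ centralizer (YG X : Set G) :=
    fun g hg y hy => by
      have := hg _ (tY y hy)
      rw [ti] at this ⊢
      calc y * (t * g * t) = t * (t * y * t * g) * t := by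
            simp only [← mul_assoc, t2, one_mul]
        _ = t * g * t * y * (t * t) := by rw [this]; simp only [mul_assoc]
        _ = _ := by rw [t2, mul_one]
  obtain ⟨i, hi⟩ := bdic_idx h6
  obtain ⟨e0, e00, he0⟩ := d.toCrd.exists_ee hM hi
  have ho : Odd (Nat.card (centralizer (YG X : Set G))) := by
    refine SLE.odd_of_inv t2 (mem_normalizer_iff.2 fun g => ⟨tC g, fun hg => ?_⟩) fun c hc c2 ct => ?_
    · have := tC _ hg
      rwa [ti, show t * (t * g * t) * t = t * t * g * (t * t) by simp only [mul_assoc], t2, one_mul,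
        mul_one] at this
    · refine (h.toSit.toStd.invol (fun y ⟨s, hs⟩ => hc y (hs ▸ hL s)) ct c2).resolve_right fun e => ?_
      obtain ⟨a, ha⟩ := hM.exists_ln e00
      have k1 := hc _ (mem i _ 0 hi (Ok.w (RV.ee hi) (d.rv a) (pe he0 ha.perp)))
      rw [h2 i e0 a hi he0 ha.perp, e] at k1
      have k2 := h.bw_t ha.perp
      rw [← k1, mul_inv_cancel_right, left_eq_mul, ← one_smul F a] at k2
      exact one_ne_zero ((hE.x_eq_one ha).1 k2)
  obtain ⟨ψ, hψ, tc, rg⟩ := hX.hom h6 ho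
  have ext : ∀ s, ψ (ι s) = φ s := fun s => by
    have : (ψ.comp ι).eqLocus φ = ⊤ := d.toCrd.gen hM fun i e a c hi he k => by
      show ψ (ι (C.T e a c)) = τ C φ e a c
      rw [d.T hM k, he, hψ i _ _ hi (Ok.rv (RV.ee hi) (d.rv a) (pe he k) c), h1 i e a c hi he k]
    exact (this ▸ mem_top s : s ∈ (ψ.comp ι).eqLocus φ)
  refine ⟨ψ, ⟨d, ext, tc, fun e a k => ?_, fun hm e => ?_⟩, rg ▸ ho⟩
  · by_cases e1 : e = 0
    · rw [e1, map_zero, TS_zero_left, map_one, h.bw_zero']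
    obtain ⟨l, rfl⟩ := hM.trans e00 e1
    obtain ⟨a0, rfl⟩ := (C.act l).surjective a
    rw [C.B_act] at k
    have ok := Ok.w (RV.ee hi) (d.rv a0) (pe he0 k)
    rw [← h.eqv l e0 a0 k, ← h2 i e0 a0 hi he0 k, ← hψ i _ _ hi ok, ← ext, ← map_inv, ← map_mul,
      ← map_mul, TS_conj ok, mulVec_smul, d.act, ← he0, d.act]
  · by_cases e1 : e = 0
    · rw [e1, map_zero, TS_zero_left, map_one, (hC hm).bu_zero]
    obtain ⟨l, rfl⟩ := hM.trans e00 e1
    have ok := Ok.u (δ := δ) hm (RV.ee hi)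
    rw [← (hC hm).ueqv l e0, ← h3 hm i e0 hi he0, ← hψ i _ _ hi ok, ← ext, ← map_inv, ← map_mul,
      ← map_mul, TS_conj ok, d.fix0, ← he0, d.act]

namespace Dic

variable (h : HW C φ t w 1 δ) (d : Dic C φ t w u cv ι ψ) (h6 : 4 ≤ m)
include h d h6

theorem ker_le : ψ.ker ≤ center (Sg m δ) := by
  refine (simp h6 ψ.ker inferInstance).resolve_right fun e => ?_
  have hE : Emb C φ := h.toSit.toEmb
  obtain ⟨v, hv⟩ := hE.toMod.exists_ne0
  have : z C φ v 1 = 1 := by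
    rw [z, ← d.ext]
    exact (e ▸ mem_top _ : ι (C.T v 0 1) ∈ ψ.ker)
  exact (hE.z_eq_one.1 this).elim hv one_ne_zero

theorem act_of {s : G} {a : Fa δ} (k : Ac ψ s a) {α : RingAut F} (e : ∀ c, a.1 (rt δ c) = rt δ (α c)) :
    ∃ γ, Act C φ s α γ := by
  have hM : Mod C := h.toSit.toEmb.toMod
  obtain ⟨γ, h1, h2⟩ := d.toIo.toCrd.exists_semi hM a e
  exact ⟨γ, h1, fun s0 s' k' => by rw [← d.ext, k, d.toIo.mp hM h2 k', d.ext]⟩

end Dic

end CfsgLib.SP4.BC
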