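import Cfsg.Agent.Lib.SP4.BIso

/-! Types B and C: an involution acting as a field automorphism is not conjugate to `t` -/

set_option autoImplicit false
set_option linter.unusedSectionVars false

namespace CfsgLib.SP4.BC

open Subgroup Module Matrix CfsgLib.UFP
open scoped commutatorElement Pointwise

universe u

variable {F : Type} [Field F] [Finite F] [CharP F 2] [Fact (2 < Nat.card F)] {m : ℕ} {δ : F} {G : Type u} [Group G] [Finite G]

/-- the root elements with coordinates fixed by `a` -/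
def NoS (m : ℕ) {δ : F} (a : Fa δ) : Set (Sg m δ) :=
  {s | (∃ i j : Fin m, ∃ l : KK δ, i ≠ i.rev ∧ j ≠ j.rev ∧ j ≠ i ∧ j ≠ i.rev ∧ a.1 l = l ∧
      s = TS (ee δ i) (l • ee δ j) 0) ∨
    ∃ i : Fin m, ∃ c : F, i ≠ i.rev ∧ a.1 (rt δ c) = rt δ c ∧ s = TS (ee δ i) 0 (rt δ c)}

theorem no_ok {i j : Fin m} (hi : i ≠ i.rev) (hj : j ≠ j.rev) (h : j ≠ i.rev) (l : KK δ) :
    Ok (ee δ i) (l • ee δ j) 0 :=
  ⟨(RV.ee hi).self, by rw [hf_smul_right, hf_ee_left, bi_ee_ne h.symm, mul_zero], by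
    rw [hf_smul_left, hf_smul_right, (RV.ee hj).self]; simp⟩

theorem no_mp (a : Fa δ) {i j : Fin m} (hi : i ≠ i.rev) (hj : j ≠ j.rev) (h : j ≠ i.rev) (l : KK δ) :
    mp a (TS (ee δ i) (l • ee δ j) 0) = TS (ee δ i) (a.1 l • ee δ j) 0 := by
  rw [mp_TS (no_ok hi hj h l), bi_map_ee, map_zero]
  congr 1
  funext r
  rw [Function.comp_apply, Pi.smul_apply, Pi.smul_apply, smul_eq_mul, smul_eq_mul, map_mul]
  exact congrArg _ (congrFun (bi_map_ee a j) r)

theorem no_comm {e a b : Vk m δ} {c d : KK δ} (h : Ok e a c) (h' : Ok e b d) :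
    ⁅TS e a c, TS e b d⁆ = TS e 0 (hf a b + hf b a) := by
  have k : Ok e 0 (hf a b + hf b a) := ⟨h.ee, hf_zero_right _, by
    rw [star_add, star_hf, star_hf, hf_zero_left, add_comm (hf b a), k_two]⟩
  rw [commutatorElement_def, mul_inv_eq_iff_eq_mul, mul_inv_eq_iff_eq_mul, mul_assoc, TS_mul h h', TS_mul h' h,
    TS_mul k (h'.add h), hf_zero_left, zero_add, add_comm b a]
  congr 1
  linear_combination -k_two (hf b a)

theorem no_rev {i j : Fin m} (h : j ≠ i) : j.rev ≠ i.rev := fun e => h (Fin.rev_injective e)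

theorem no_rev' {i j : Fin m} (h : j ≠ i.rev) : j.rev ≠ i := fun e => h (by rw [← e, Fin.rev_rev])

theorem no_A {i j : Fin m} (hi : i ≠ i.rev) (hj : j ≠ j.rev) (h1 : j ≠ i) (h2 : j ≠ i.rev) (l k : KK δ) :
    ⁅TS (ee δ i) (l • ee δ j) 0, TS (ee δ i) (k • ee δ j.rev) 0⁆ = TS (ee δ i) 0 (star l * k + star k * l) := by
  rw [no_comm (no_ok hi hj h2 l) (no_ok hi (no_rev hj) (no_rev h1) k)]
  simp only [hf_smul_left, hf_smul_right, hf_ee_left, Fin.rev_rev, bi_ee_self, mul_one]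
  rw [mul_comm k, mul_comm l]

theorem no_B {i j : Fin m} (hi : i ≠ i.rev) (hj : j ≠ j.rev) (h1 : j ≠ i) (h2 : j ≠ i.rev) (l : KK δ) {c : F}
    (hc : star l * l = rt δ c) : ⁅(TS (ee δ i) (l • ee δ j.rev) 0)⁻¹, TS (ee δ j) 0 (rt δ 1)⁆ =
      TS (ee δ i) (l • ee δ j) 0 * TS (ee δ i) 0 (rt δ c) := by
  have k1 := no_ok hi (no_rev hj) (no_rev h1) l
  have k2 := no_ok hi hj h2 l
  have k3 := bi_okz (RV.ee (δ := δ) hj) 1
  rw [commutatorElement_def, inv_inv, mul_assoc, mul_assoc, inv_mul_eq_iff_eq_mul, ← mul_assoc, TS_conj k1,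
    ← mul_assoc, TS_mul k1 k2, TS_mul (k1.add k2) (bi_okz (RV.ee hi) c), mat_TS k3, TM_mulVec, TM_mulVec, ← hc]
  simp only [hf_smul_left, hf_smul_right, hf_ee_left, hf_zero_left, hf_zero_right, Fin.rev_rev, bi_ee_self,
    bi_ee_ne (no_rev' h2), mul_one, map_one, one_mul, zero_add, add_zero, smul_zero, zero_smul, mul_zero, mul_comm l (star l), k_two]

theorem no_j (hm : 4 ≤ m) (i : Fin m) : ∃ j : Fin m, j ≠ j.rev ∧ j ≠ i ∧ j ≠ i.rev := by
  simp only [ne_eq, Fin.ext_iff, Fin.val_rev]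
  by_cases h : (i : ℕ) = 0 ∨ (i : ℕ) = m - 1
  · exact ⟨⟨1, by omega⟩, by simp only; omega⟩
  · exact ⟨⟨0, by omega⟩, by have := i.2; simp only; omega⟩

theorem no_inj (hm : 4 ≤ m) {ψ : Sg m δ →* G} (ker : ψ.ker ≤ center (Sg m δ)) {s s' : Sg m δ} {n n' : ℕ}
    (e : ψ s = ψ s') (h1 : s ^ 2 ^ n = 1) (h2 : s' ^ 2 ^ n' = 1) : s = s' := by
  have hc : s'⁻¹ * s ∈ center (Sg m δ) := ker (by rw [MonoidHom.mem_ker, map_mul, map_inv, e, inv_mul_cancel])
  have c : Commute s' (s'⁻¹ * s) := mem_center_iff.1 hc s'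
  have e1 := c.mul_pow (2 ^ (n + n'))
  rw [mul_inv_cancel_left, pow_add, pow_mul, h1, one_pow, mul_comm (2 ^ n), pow_mul s', h2, one_pow,
    one_mul, ← pow_add] at e1
  exact (inv_mul_eq_one.1 (center_two hm hc e1.symm)).symm

theorem no_r (a : Fa δ) {i j : Fin m} (hi : i ≠ i.rev) (hj : j ≠ j.rev) (h1 : j ≠ i) (h2 : j ≠ i.rev) {l : KK δ}
    (h : a.1 l = l) : TS (ee δ i) (l • ee δ j) 0 ∈ Subgroup.closure (NoS m a) :=
  subset_closure (.inl ⟨i, j, l, hi, hj, h1, h2, h, rfl⟩)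

theorem no_z (a : Fa δ) {i : Fin m} (hi : i ≠ i.rev) {c : F} (h : a.1 (rt δ c) = rt δ c) :
    TS (ee δ i) 0 (rt δ c) ∈ Subgroup.closure (NoS m a) :=
  subset_closure (.inr ⟨i, c, hi, h, rfl⟩)

theorem no_fix (a : Fa δ) {s : Sg m δ} (hs : s ∈ Subgroup.closure (NoS m a)) : mp a s = s := by
  refine (closure_le (K := (mp a).eqLocus (MonoidHom.id _))).2 ?_ hs
  rintro _ (⟨i, j, l, h1, h2, -, h4, h5, rfl⟩ | ⟨i, c, h1, h2, rfl⟩)
  · exact (no_mp a h1 h2 h4 l).trans (by rw [h5]; rfl)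
  · change mp a _ = TS _ _ _
    rw [mp_TS (bi_okz (RV.ee h1) c), bi_map_ee, h2, show a.1 ∘ (0 : Vk m δ) = 0 from funext fun _ => map_zero _]

theorem no_perf (hm : 4 ≤ m) (a : Fa δ) {η : KK δ} (h1 : a.1 η = η) (h2 : η + star η = 1) :
    Subgroup.closure (NoS m a) ≤ ⁅Subgroup.closure (NoS m a), Subgroup.closure (NoS m a)⁆ := by
  have z : ∀ (i : Fin m) (c : F), i ≠ i.rev → a.1 (rt δ c) = rt δ c →
      TS (ee δ i) 0 (rt δ c) ∈ ⁅Subgroup.closure (NoS m a), Subgroup.closure (NoS m a)⁆ := fun i c hi hc => by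
    obtain ⟨j, a1, a2, a3⟩ := no_j hm i
    have := commutator_mem_commutator (no_r a hi a1 a2 a3 h1) (no_r a hi (no_rev a1) (no_rev' a3) (no_rev a2) hc)
    rwa [no_A hi a1 a2 a3, star_rt, mul_comm, ← mul_add, add_comm, h2, mul_one] at this
  refine (closure_le _).2 ?_
  rintro _ (⟨i, j, l, a1, a2, a3, a4, a5, rfl⟩ | ⟨i, c, a1, a2, rfl⟩)
  · obtain ⟨c, hc⟩ := rat_iff.1 (show star (star l * l) = star l * l by rw [star_mul, star_star])
    have := commutator_mem_commutator (inv_mem (no_r a a1 (no_rev a2) (no_rev' a4) (no_rev a3) a5))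
      (no_z a a2 (c := 1) (by rw [map_one, map_one]))
    rw [no_B a1 a2 a3 a4 l hc] at this
    exact (mul_mem_cancel_right (z i c a1 (by rw [← hc, map_mul, a.2, a5]))).1 this
  · exact z i c a1 a2

theorem no_eta (a : Fa δ) (h1 : ∀ l, a.1 (a.1 l) = l) {c : F} (h2 : a.1 (rt δ c) ≠ rt δ c) :
    ∃ η : KK δ, a.1 η = η ∧ η + star η = 1 := by
  obtain ⟨α, hα⟩ := Fa_rt a
  obtain ⟨μ, hμ⟩ := rat_iff.1 (show star (a.1 (om δ) + om δ) = a.1 (om δ) + om δ by
    rw [star_add, ← a.2, star_om, map_add, map_one]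
    linear_combination k_two (1 : KK δ))
  have e1 : a.1 (om δ) = om δ + rt δ μ := by linear_combination hμ - k_two (om δ)
  have e2 : α μ = μ := rt_inj (δ := δ) (by
    have := h1 (om δ)
    rw [e1, map_add, e1, hα] at this
    linear_combination this - k_two (rt δ μ))
  have e3 : α (α c) = c := rt_inj (δ := δ) (by rw [← hα, ← hα, h1])
  have e4 : c + α c ≠ 0 := fun e => h2 (by rw [hα, ← CharTwo.add_eq_zero.1 e])
  have e5 : α (μ * c / (c + α c)) = μ + μ * c / (c + α c) := by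
    rw [map_div₀, map_mul, map_add, e2, e3, add_comm (α c)]
    field_simp
    linear_combination -μ * CharTwo.add_self_eq_zero c
  refine ⟨om δ + rt δ (μ * c / (c + α c)), ?_, ?_⟩
  · rw [map_add, e1, hα, e5, map_add]
    linear_combination k_two (rt δ μ)
  · rw [star_add, star_om, star_rt]
    linear_combination k_two (om δ) + k_two (rt δ (μ * c / (c + α c)))

theorem no_model (hm : 4 ≤ m) {ψ : Sg m δ →* G} (ker : ψ.ker ≤ center (Sg m δ)) {s : G} (s2 : s * s = 1)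
    {a : Fa δ} (ha : Ac ψ s a)
    (cls : ∀ H T : Subgroup G, H ≤ centralizer {s} → H ≤ ⁅H, H⁆ → IsPGroup 2 T →
      ∀ x ∈ H ⊓ T, ∀ y ∈ H ⊓ T, ∀ z ∈ H ⊓ T, Commute ⁅x, y⁆ z) (c : F) : a.1 (rt δ c) = rt δ c := by
  by_contra hc
  obtain ⟨o, ho⟩ : ∃ i : Fin m, (i : ℕ) = 0 := ⟨⟨0, by omega⟩, rfl⟩
  obtain ⟨p, hp⟩ : ∃ j : Fin m, (j : ℕ) = 1 := ⟨⟨1, by omega⟩, rfl⟩
  have n1 : o ≠ o.rev := fun e => by have := congrArg Fin.val e; simp only [Fin.val_rev] at this; omega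
  have n2 : p ≠ p.rev := fun e => by have := congrArg Fin.val e; simp only [Fin.val_rev] at this; omega
  have n3 : p ≠ o := fun e => by rw [e] at hp; omega
  have n4 : p ≠ o.rev := fun e => by have := congrArg Fin.val e; simp only [Fin.val_rev] at this; omega
  have h1 : ∀ l, a.1 (a.1 l) = l := fun l => by
    have e : ψ (mp a (mp a (TS (ee δ o) (l • ee δ p) 0))) = ψ (TS (ee δ o) (l • ee δ p) 0) := by
      rw [← ha, ← ha, show ∀ y : G, s * (s * y * s⁻¹) * s⁻¹ = s * s * y * (s * s)⁻¹ from fun y => by group, s2]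
      simp
    rw [no_mp a n1 n2 n4, no_mp a n1 n2 n4] at e
    have e' := congrArg (fun x => mat x p o.rev)
      (no_inj hm ker e (TS_pow (no_ok n1 n2 n4 _)) (TS_pow (no_ok n1 n2 n4 _)))
    simp only [mat_TS (no_ok n1 n2 n4 _), bi_TM, Fin.rev_rev, bi_ee_self, bi_ee_ne n3, Pi.smul_apply] at e'
    simpa using e'
  obtain ⟨η, e1, e2⟩ := no_eta a h1 hc
  have mr : ∀ l, a.1 l = l → ψ (TS (ee δ o) (l • ee δ p.rev) 0) ∈
      (Subgroup.closure (NoS m a)).map ψ ⊓ (Mh m δ 0).map ψ := fun l hl =>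
    ⟨mem_map_of_mem _ (no_r a n1 (no_rev n2) (no_rev' n4) (no_rev n3) hl),
      mem_map_of_mem _ (TS_mem (no_ok n1 (no_rev n2) (no_rev n3) l) (fun j hj => by
        rw [Pi.smul_apply, bi_ee_ne fun e => by rw [e, Fin.rev_rev] at hj; omega, smul_zero]) fun _ => rfl)⟩
  have k := cls ((Subgroup.closure (NoS m a)).map ψ) ((Mh m δ 0).map ψ) (by
      rintro _ ⟨x, hx, rfl⟩
      refine mem_centralizer_singleton_iff.2 (mul_inv_eq_iff_eq_mul.1 ?_).symm
      rw [ha, no_fix a hx])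
    (by rw [← map_commutator]; exact map_mono (no_perf hm a e1 e2)) (Mh_pg.map ψ)
    _ (inv_mem (mr 1 (map_one _))) (ψ (TS (ee δ p) 0 (rt δ 1)))
    ⟨mem_map_of_mem _ (no_z a n2 (by rw [map_one, map_one])), mem_map_of_mem _ (TS_mem (bi_okz (RV.ee n2) 1)
      (fun _ _ => rfl) fun e => by simp only [Fin.val_rev] at e; omega)⟩ _ (mr η e1)
  have k1 := no_ok n1 n2 n4 (1 : KK δ)
  have k2 := bi_okz (RV.ee (δ := δ) n1) 1
  rw [← map_inv, ← map_commutatorElement, no_B n1 n2 n3 n4 1 (c := 1) (by simp), ← commutatorElement_eq_one_iff_commute,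
    ← map_commutatorElement, TS_mul k1 k2, no_comm (k1.add k2) (no_ok n1 (no_rev n2) (no_rev n3) η)] at k
  simp only [add_zero, one_smul, hf_smul_left, hf_smul_right, hf_ee_left, Fin.rev_rev, bi_ee_self, mul_one, e2] at k
  have := congrFun (z_inj (RV.ee n1) RV.zero
    ((center_two hm (ker k) (TS_pow (Ok.z (RV.ee n1)))).trans (TS_zero_left _ _).symm)) o
  rw [bi_ee_self] at this
  exact one_ne_zero (rt_inj (δ := δ) (c := 1) (d := 0) (by rw [map_one, map_zero]; exact this))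

end CfsgLib.SP4.BC
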