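import Cfsg.Agent.Lib.SP4.Aut
import Cfsg.Agent.Lib.UN.Syl

/-! The 2-subgroups of `Sp₄(q)` have class at most two -/

set_option autoImplicit false
set_option Elab.async false
set_option linter.unusedSectionVars false

namespace CfsgLib.SP4

open Subgroup Module CfsgLib.Forms CfsgLib.LieMult
open CfsgLib.HX (Std CO Two Mv M2)
open CfsgLib.UN (AV SI TI HH Rad Stb Yg Rg Eg Act nu)
open CfsgLib.ClSys (II)
open Submodule (span)
open scoped commutatorElement Pointwise

universe u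

variable {F : Type} [Field F] [Finite F] {V : Type} [AddCommGroup V] [Module F V]
  [FiniteDimensional F V] {P : PQ (RingHom.id F) V} {S : Type} [Group S] [Finite S] {G : Type u}
  [Group G] [Finite G] {C : CG P S} {φ : S →* G} {t : G}

private theorem cls_flag (h : Mod C) {H : Subgroup S} (h2 : IsPGroup 2 H) :
    ∃ e f, SPC.Ln P e f ∧ ∀ g ∈ H, C.act g e = e ∧ ∃ α : F, C.act g f = f + α • e := by
  have h2' := h2.map C.act
  have fx : ∀ (M : Submodule F V), (∀ g ∈ H, ∀ v ∈ M, C.act g v ∈ M) → ∀ x, x ∉ M →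
      ∃ v, v ∉ M ∧ ∀ g ∈ H, C.act g v - v ∈ M := fun M h1 x hx => by
    obtain ⟨v, k1, k2⟩ := UN.exists_fixed_quot h.two h2' (M := M) (by
      rintro _ ⟨g, hg, rfl⟩; exact h1 g hg) hx
    exact ⟨v, k1, fun g hg => k2 _ ⟨g, hg, rfl⟩⟩
  obtain ⟨x, hx⟩ := h.g2_ne
  obtain ⟨e, e0, he⟩ := fx ⊥ (fun g _ v hv => by rw [(Submodule.mem_bot F).1 hv, map_zero]; exact zero_mem _)
    x (by simpa using hx)
  replace e0 : e ≠ 0 := by simpa using e0
  replace he : ∀ g ∈ H, C.act g e = e := fun g hg => sub_eq_zero.1 ((Submodule.mem_bot F).1 (he g hg))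
  obtain ⟨y, hy⟩ := h.exists_ln e0
  obtain ⟨v, v0, hv⟩ := fx (span F {e}) (fun g hg v hv => by
    obtain ⟨c, rfl⟩ := Submodule.mem_span_singleton.1 hv
    rw [map_smul, he g hg]; exact hv) y hy.nmem
  replace hv : ∀ g ∈ H, ∃ α : F, C.act g v = v + α • e := fun g hg => by
    obtain ⟨c, hc⟩ := Submodule.mem_span_singleton.1 (hv g hg)
    exact ⟨c, by rw [hc]; abel⟩
  by_cases k : P.B e v = 0
  · exact ⟨e, v, ⟨e0, v0, k⟩, fun g hg => ⟨he g hg, hv g hg⟩⟩
  obtain ⟨e', f', hh⟩ := h.exists_hh (e := e) (f := (P.B e v)⁻¹ • v) (by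
    rw [P.B_smul_right, inv_mul_cancel₀ k])
  have m1 : e ∈ span F ({e, v} : Set V) := Submodule.subset_span (by simp)
  have m2 : v ∈ span F ({e, v} : Set V) := Submodule.subset_span (by simp)
  obtain ⟨w, w0, hw⟩ := fx (span F {e, v}) (fun g hg u hu => by
    obtain ⟨c, d, rfl⟩ := Submodule.mem_span_pair.1 hu
    obtain ⟨α, hα⟩ := hv g hg
    rw [map_add, map_smul, map_smul, he g hg, hα]
    exact add_mem (Submodule.smul_mem _ _ m1)
      (Submodule.smul_mem _ _ (add_mem m2 (Submodule.smul_mem _ _ m1)))) e' (fun hu => by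
    obtain ⟨c, d, hu⟩ := Submodule.mem_span_pair.1 hu
    have a1 := h.hp_iff.1 hh.h₂
    have a2 := hh.ff
    rw [h.B_smul_left, mul_eq_zero, or_iff_right (inv_ne_zero k)] at a2
    rw [← hu, P.B_add_left, h.B_smul_left, h.B_smul_left, hh.ef, a2] at a1
    simp at a1)
  have kp : P.B e (w - (P.B e w / P.B e v) • v) = 0 := by
    rw [P.B_sub_right, P.B_smul_right, div_mul_cancel₀ _ k, sub_self]
  refine ⟨e, w - (P.B e w / P.B e v) • v, ⟨e0, fun hu => w0 ?_, kp⟩, fun g hg => ⟨he g hg, ?_⟩⟩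
  · obtain ⟨c, hc⟩ := Submodule.mem_span_singleton.1 hu
    rw [show w = c • e + (P.B e w / P.B e v) • v by rw [hc]; abel]
    exact add_mem (Submodule.smul_mem _ _ m1) (Submodule.smul_mem _ _ m2)
  · obtain ⟨c, d, hu⟩ := Submodule.mem_span_pair.1 (hw g hg)
    obtain ⟨α, hα⟩ := hv g hg
    have a1 : P.B e (C.act g w - w) = 0 := by
      rw [P.B_sub_right]
      nth_rw 1 [← he g hg]
      rw [C.B_act, sub_self]
    rw [← hu, P.B_add_right, P.B_smul_right, P.B_smul_right, h.B_self, mul_zero, zero_add, mul_eq_zero,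
      or_iff_left k] at a1
    rw [a1, zero_smul, add_zero, eq_sub_iff_add_eq] at hu
    refine ⟨c - P.B e w / P.B e v * α, ?_⟩
    rw [map_sub, map_smul, hα, ← hu]
    module

theorem Mod.cls2 (h : Mod C) {H : Subgroup S} (h2 : IsPGroup 2 H) {a b c : S} (ha : a ∈ H) (hb : b ∈ H)
    (hc : c ∈ H) : Commute ⁅a, b⁆ c := by
  obtain ⟨e, f, k, hf⟩ := cls_flag h h2
  obtain ⟨e', f', hh⟩ := h.hh_of_ln k
  have b1 : P.B e e' = 1 := h.hp_iff.1 hh.h₁
  have b2 : P.B f f' = 1 := h.hp_iff.1 hh.h₂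
  have b3 := hh.ee
  have b4 := hh.ef
  have b5 := hh.fe
  have b6 := hh.ff
  have c1 := (h.B_comm _ _).trans b1
  have c2 := (h.B_comm _ _).trans b2
  have c3 := (h.B_comm _ _).trans b3
  have c4 := (h.B_comm _ _).trans b4
  have c5 := (h.B_comm _ _).trans b5
  have c6 := (h.B_comm _ _).trans b6
  have par : ∀ g ∈ H, ∃ α d β γ : F, C.act g e = e ∧ C.act g f = f + α • e ∧
      C.act g f' = f' + d • f + β • e ∧ C.act g e' = e' + α • f' + (β + d * α) • f + γ • e := fun g hg => by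
    obtain ⟨a1, α, a2⟩ := hf g hg
    have p1 : ∀ v, P.B e (C.act g v) = P.B e v := fun v => by
      nth_rw 1 [← a1]; rw [C.B_act]
    have p2 : ∀ v, P.B f (C.act g v) = P.B f v + α * P.B e v := fun v => by
      have := C.B_act g f v
      rw [a2, P.B_add_left, h.B_smul_left, p1] at this
      rw [← this, add_assoc, h.add_self, add_zero]
    have q1 := h.hh_eq hh (C.act g f')
    have q2 := h.hh_eq hh (C.act g e')
    rw [p1, p2, b4, b2, mul_zero, add_zero, zero_smul, add_zero, one_smul] at q1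
    rw [p1, p2, b1, c5, mul_one, zero_add, one_smul] at q2
    have q3 := C.B_act g f' e'
    rw [q1, P.B_add_left, P.B_add_left, h.B_smul_left, h.B_smul_left, p1, p2, b1, c5, c6, mul_one,
      mul_one, zero_add] at q3
    refine ⟨α, P.B f' (C.act g f'), P.B e' (C.act g f'), P.B e' (C.act g e'), a1, a2, ?_, ?_⟩
    · exact q1.trans (by abel)
    · rw [h.eq_of_add q3]
      exact q2.trans (by abel)
  have hn : ⁅a, b⁆ ∈ H := by
    rw [commutatorElement_def]
    exact mul_mem (mul_mem (mul_mem ha hb) (inv_mem ha)) (inv_mem hb)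
  have e1 : ⁅a, b⁆ * (b * a) = a * b := by rw [commutatorElement_def]; group
  obtain ⟨α, d, β, γ, n1, n2, n3, n4⟩ := par _ hn
  obtain ⟨αa, da, βa, γa, a1, a2, a3, -⟩ := par _ ha
  obtain ⟨αb, db, βb, γb, d1, d2, d3, -⟩ := par _ hb
  obtain ⟨αc, dc, βc, γc, g1, g2, g3, g4⟩ := par _ hc
  have r1 := congrArg (fun s => P.B e' (C.act s f)) e1
  have r2 := congrArg (fun s => P.B f' (C.act s f')) e1
  simp only [C.mul_apply, map_add, map_smul, n1, n2, n3, a1, a2, a3, d1, d2, d3, smul_eq_mul, c1, c2, c4,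
    b5, h.B_self] at r1 r2
  have z1 : α = 0 := by linear_combination r1
  have z2 : d = 0 := by linear_combination r2
  subst z1 z2
  refine C.ext fun v => ?_
  rw [h.hh_eq hh v]
  simp only [C.mul_apply, map_add, map_smul, n1, n2, n3, n4, g1, g2, g3, g4]
  module

/-- 2-subgroups of perfect subgroups of `C(s)`, `s ~ t` -/
theorem Sit.cls (h : Sit C φ t) {s : G} (hs : IsConj t s) {H T : Subgroup G} (h1 : H ≤ centralizer {s})
    (h2 : H ≤ ⁅H, H⁆) (hT : IsPGroup 2 T) {a b c : G} (ha : a ∈ H ⊓ T) (hb : b ∈ H ⊓ T) (hc : c ∈ H ⊓ T) :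
    Commute ⁅a, b⁆ c := by
  obtain ⟨g, rfl⟩ := isConj_iff.1 hs
  have h' := h.cj g
  have le := h'.le_of_perf h1 h2
  obtain ⟨a, rfl⟩ := le ha.1
  obtain ⟨b, rfl⟩ := le hb.1
  obtain ⟨c, rfl⟩ := le hc.1
  have := (h.toMod.cls2 (hT.comap_of_injective _ h'.inj) ha.2 hb.2 hc.2).map
    ((MulAut.conj g).toMonoidHom.comp φ)
  rwa [map_commutatorElement] at this

end CfsgLib.SP4
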