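import Cfsg.Agent.Lib.SP4.BBas
import Cfsg.Agent.Lib.SPC.PresB

/-! The field case -/

set_option autoImplicit false
set_option linter.unusedSectionVars false

namespace CfsgLib.SP4.BC

open Subgroup Module Matrix CfsgLib.UFP
open CfsgLib.SPC (XRel XG pres_su)
open scoped commutatorElement Pointwise

universe u

variable {F : Type} [Field F] [Finite F] [CharP F 2] [Fact (2 < Nat.card F)] {m : ℕ} {δ : F} {G : Type u} [Group G] [Finite G]

open CfsgLib.Forms CfsgLib.LieMult CfsgLib.Unitary Cfsg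

theorem bf_fact (hδ : ∀ ρ : F, ρ * ρ + ρ ≠ δ) : Fact (∀ r : F, r ^ 2 ≠ δ + 1 * r) :=
  ⟨fun r e => hδ r (by linear_combination e + r * CharTwo.two_eq_zero (R := F))⟩

theorem bf_card : Nat.card (KK δ) = Nat.card F ^ 2 := by
  rw [Nat.card_congr (QuadraticAlgebra.equivProd δ 1), Nat.card_prod, pow_two]

theorem bf_om_ne : star (om δ) ≠ om δ := fun e => by
  rw [star_om, add_eq_left] at e
  exact one_ne_zero e

theorem bf_ext {s s' : Sg m δ} (h : ∀ v, mat s *ᵥ v = mat s' *ᵥ v) : s = s' :=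
  mat_inj (Matrix.ext fun i j => by
    simpa using congrFun (h (Pi.single j 1)) i)

theorem bf_unit {a : Mt m δ} (h : ∀ x y, hf (a *ᵥ x) (a *ᵥ y) = hf x y) : adj a * bar a = 1 := by
  ext1 i j
  have := h (ee δ j) (ee δ i.rev)
  rw [hf_ee_left] at this
  rw [mul_apply, show (1 : Mt m δ) i j = ee δ i.rev j.rev by
    simp [ee, one_apply, Pi.single_apply, eq_comm], ← this, hf]
  refine (Equiv.sum_comp Fin.revPerm _).symm.trans (Finset.sum_congr rfl fun k _ => ?_)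
  simp [adj_apply, bar_apply, ee, mul_comm]

variable (m δ) in
/-- the hermitian form as a sesquilinear map -/
def bfS : Vk m δ →ₛₗ[starRingEnd (KK δ)] Vk m δ →ₗ[KK δ] KK δ :=
  LinearMap.mk₂'ₛₗ (starRingEnd (KK δ)) (RingHom.id _) hf hf_add_left hf_smul_left hf_add_right hf_smul_right

theorem bf_ne_id : starRingEnd (KK δ) ≠ RingHom.id _ := fun e => bf_om_ne (DFunLike.congr_fun e (om δ))

section fld

variable [Fact (∀ r : F, r ^ 2 ≠ δ + 1 * r)]

theorem bf_star (x : KK δ) : star x = x ^ Nat.card F := by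
  obtain ⟨q, h1, -, h2, -⟩ := Tits.PQa.invol (σ := starRingEnd (KK δ)) star_star ⟨om δ, bf_om_ne⟩
  rw [bf_card] at h1
  rw [Nat.pow_left_injective two_ne_zero h1]
  exact h2 x

variable (m δ) in
/-- the hermitian space -/
noncomputable def bfP : PQ (starRingEnd (KK δ)) (Vk m δ) :=
  ofHerm bf_ne_id star_star (bfS m δ) ⟨star_hf⟩

theorem bfP_B (x y : Vk m δ) : (bfP m δ).B x y = hf x y := rfl

theorem bfP_herm : (bfP m δ).IsHerm := ofHerm_isHerm_of_finite _ _ _ _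

theorem bfP_nd : (bfP m δ).Nondeg := fun x hx => funext fun j => by
  have := hx (ee δ j.rev)
  rw [bfP_B, hf_ee_right, Fin.rev_rev] at this
  exact star_eq_zero.1 this

theorem bf_onb : ∃ Q Q' : Mt m δ, Q * Q' = 1 ∧ Q' * Q = 1 ∧
    ∀ x y, hermForm m (KK δ) (Nat.card F) (Q *ᵥ x) (Q *ᵥ y) = hf y x := by
  obtain ⟨b0, hb0⟩ := (bfP_herm (m := m) (δ := δ)).exists_orthonormal_basis bfP_nd
  let b : Basis (Fin m) (KK δ) (Vk m δ) := b0.reindex (finCongr (by simp))
  have hb : ∀ i j, hf (b i) (b j) = if i = j then 1 else 0 := fun i j => by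
    simp only [b, Basis.reindex_apply]
    rw [← bfP_B, hb0]
    simp
  refine ⟨LinearMap.toMatrix' b.equivFun.toLinearMap, LinearMap.toMatrix' b.equivFun.symm.toLinearMap,
    by rw [← LinearMap.toMatrix'_comp]; simp, by rw [← LinearMap.toMatrix'_comp]; simp, fun x y => ?_⟩
  rw [← toLin'_apply, ← toLin'_apply, toLin'_toMatrix', ← bfP_B]
  conv_rhs => rw [← b.sum_repr x, ← b.sum_repr y]
  simp only [map_sum, LinearMap.sum_apply, map_smulₛₗ, LinearMap.smul_apply, bfP_B, hb, hermForm]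
  refine Finset.sum_congr rfl fun i _ => ?_
  simp [← bf_star, mul_comm, starRingEnd_apply]

theorem bf_iso : ∃ (θ : Sg m δ ≃* SU m (KK δ) (Nat.card F)) (Q Q' : Mt m δ), Q * Q' = 1 ∧ Q' * Q = 1 ∧
    (∀ x y, hermForm m (KK δ) (Nat.card F) (Q *ᵥ x) (Q *ᵥ y) = hf y x) ∧
    ∀ s, (θ s).1.1 = Q * mat s * Q' := by
  obtain ⟨Q, Q', h1, h2, h3⟩ := bf_onb (m := m) (δ := δ)
  have d1 : Q.det * Q'.det = 1 := by rw [← det_mul, h1, det_one]
  have v1 : ∀ v, Q *ᵥ (Q' *ᵥ v) = v := fun v => by rw [mulVec_mulVec, h1, one_mulVec]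
  have v2 : ∀ v, Q' *ᵥ (Q *ᵥ v) = v := fun v => by rw [mulVec_mulVec, h2, one_mulVec]
  let f : Sg m δ →* SU m (KK δ) (Nat.card F) := MonoidHom.mk' (fun s => mkSU (Q * mat s * Q')
    (by rw [det_mul, det_mul, mat_det, mul_one, d1]) fun u v => by
      rw [← mulVec_mulVec, ← mulVec_mulVec, ← mulVec_mulVec, ← mulVec_mulVec, h3, hf_mulVec, ← h3, v1, v1])
    fun s s' => Subtype.ext (Subtype.ext (by
      change Q * (mat s * mat s') * Q' = Q * mat s * Q' * (Q * mat s' * Q')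
      calc _ = Q * mat s * (Q' * Q) * mat s' * Q' := by rw [h2]; simp only [mul_assoc, one_mul]
        _ = _ := by simp only [mul_assoc]))
  have hf' : ∀ s, (f s).1.1 = Q * mat s * Q' := fun s => rfl
  refine ⟨MulEquiv.ofBijective f ⟨fun s s' e => mat_inj ?_, fun A => ?_⟩, Q, Q', h1, h2, h3, hf'⟩
  · have := congrArg (fun A : SU m (KK δ) (Nat.card F) => Q' * A.1.1 * Q) e
    simp only [hf', ← mul_assoc, h2, one_mul] at this
    rwa [mul_assoc, mul_assoc, h2, mul_one, mul_one] at this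
  · refine ⟨⟨⟨Q' * A.1.1 * Q, by rw [det_mul, det_mul, A.1.2, mul_one, mul_comm, d1]⟩,
      bf_unit fun x y => ?_⟩, Subtype.ext (Subtype.ext ?_)⟩
    · change hf ((Q' * A.1.1 * Q) *ᵥ x) ((Q' * A.1.1 * Q) *ᵥ y) = _
      rw [← mulVec_mulVec, ← mulVec_mulVec, ← mulVec_mulVec, ← mulVec_mulVec, ← h3, v1, v1, ← h3]
      exact A.2 _ _
    · change Q * (Q' * A.1.1 * Q) * Q' = A.1.1
      calc _ = (Q * Q') * A.1.1 * (Q * Q') := by simp only [mul_assoc]
        _ = _ := by rw [h1, one_mul, mul_one]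

theorem bf_cardF [Fintype (KK δ)] : Fintype.card (KK δ) = Nat.card F ^ 2 := by
  rw [← Nat.card_eq_fintype_card, bf_card]

theorem bf_gen0 (hm : 4 ≤ m) {H : Subgroup (Sg m δ)} (h : ∀ p c, Ok p 0 c → TS p 0 c ∈ H) : H = ⊤ := by
  have := Fintype.ofFinite (KK δ)
  obtain ⟨θ, Q, Q', h1, h2, h3, h4⟩ := bf_iso (m := m) (δ := δ)
  have v1 : ∀ v, Q *ᵥ (Q' *ᵥ v) = v := fun v => by rw [mulVec_mulVec, h1, one_mulVec]
  have := eq_top_of_transSU_mem bf_cardF (.inl hm) (H.map θ.toMonoidHom) fun v hv c hc _ => by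
    have k : Ok (Q' *ᵥ v) 0 c := ⟨by rw [← h3, v1, hv], hf_zero_right _, by rw [bf_star, hc, hf_zero_left]⟩
    refine ⟨_, h _ _ k, su_ext fun w => ?_⟩
    rw [su_smul_def, su_smul_def, coe_transSU, trans_mulVec]
    change (θ _).1.1 *ᵥ w = _
    rw [h4, mat_TS k, ← mulVec_mulVec, ← mulVec_mulVec, TM_mulVec, hf_zero_left, zero_add, smul_zero, add_zero,
      mulVec_add, mulVec_smul, v1, v1, ← h3, v1, v1]
  rw [← comap_map_eq_self_of_injective (f := θ.toMonoidHom) θ.injective H]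
  exact this ▸ comap_top _

theorem bf_perf (hm : 4 ≤ m) : (⊤ : Subgroup (Sg m δ)) ≤ ⁅(⊤ : Subgroup (Sg m δ)), ⊤⁆ := by
  have := Fintype.ofFinite (KK δ)
  obtain ⟨θ, -⟩ := bf_iso (m := m) (δ := δ)
  have h1 := congrArg (Subgroup.map θ.symm.toMonoidHom)
    (su_commutator_eq_top (n := m) (bf_cardF (δ := δ)) (by omega) (by omega))
  rw [_root_.commutator_def, map_commutator, map_top_of_surjective _ θ.symm.surjective] at h1
  exact h1.ge

theorem bf_m2 (hm : 4 ≤ m) : HX.M2 (Sg m δ) := by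
  have := Fintype.ofFinite (KK δ)
  obtain ⟨θ, -⟩ := bf_iso (m := m) (δ := δ)
  have hF := bf_cardF (δ := δ)
  obtain ⟨t⟩ := nonempty_tri hF
  have h1 : MultP (SU m (KK δ) (Nat.card F)) 2 := multP_of_coprime fun E _ _ π hπ hK =>
    (cgSU hF m).su_ker_eq_bot (uPQ_isHerm hF m) (by simp; omega) (cgSU_gen hF m (by omega))
      (fixedSubfield hF).subtype (fun c => ⟨fun h => ⟨⟨c, h⟩, rfl⟩, fun ⟨k, hk⟩ => hk ▸ k.2⟩)
      (cgSU hF 3) (uPQ_isHerm hF 3) t (su_det 3) 2 (multP_SU3 hF 2) hπ hK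
  exact HX.M2.of_equiv h1 θ.symm

end fld

theorem gen_field (hm : 4 ≤ m) (hδ : ∀ ρ : F, ρ * ρ + ρ ≠ δ) {H : Subgroup (Sg m δ)}
    (h : ∀ i a c, i ≠ i.rev → Ok (ee δ i) a c → TS (ee δ i) a c ∈ H) : H = ⊤ := by
  have := bf_fact hδ
  have key : ∀ i : Fin m, i ≠ i.rev → ∀ p c, p i.rev = 1 → Ok p 0 c → TS p 0 c ∈ H := fun i hi p c hp k => by
    have hi' : i.rev ≠ i.rev.rev := by rw [Fin.rev_rev]; exact hi.symm
    have e0 : ∀ j : Fin m, j ≠ j.rev → hf (ee δ j) (ee δ j) = 0 := fun j hj => by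
      rw [hf_ee_left, ee, Pi.single_eq_of_ne hj.symm]
    have e1 : hf (ee δ i) (ee δ i.rev) = 1 := by rw [hf_ee_left, ee, Pi.single_eq_same]
    have k1 : Ok (ee δ i) (p + ee δ i.rev) (star (p i)) := by
      refine ⟨e0 i hi, by rw [hf_add_right, e1, hf_ee_left, hp, k_two], ?_⟩
      rw [hf_add_left, hf_add_right, hf_add_right, k.ee, e0 _ hi', hf_ee_left, hf_ee_right, Fin.rev_rev, star_star]
      ring
    have k2 : Ok (ee δ i.rev) 0 c := ⟨e0 _ hi', hf_zero_right _, by rw [k.cc, hf_zero_left]⟩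
    have e2 : mat (TS (ee δ i) (p + ee δ i.rev) (star (p i))) *ᵥ ee δ i.rev = p := by
      rw [mat_TS k1, TM_mulVec, e1, hf_add_left, e0 _ hi', hf_ee_right, Fin.rev_rev, add_zero, mul_one, k_two,
        zero_smul, add_zero, one_smul, add_comm p, ← add_assoc]
      ext1 j
      simp [k_two]
    have e3 := TS_conj k2 (TS (ee δ i) (p + ee δ i.rev) (star (p i)))
    rw [e2, mulVec_zero] at e3
    rw [← e3]
    exact mul_mem (mul_mem (h _ _ _ hi k1) (h _ _ _ hi' k2)) (inv_mem (h _ _ _ hi k1))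
  refine bf_gen0 (by omega) fun p c k => ?_
  by_cases H1 : ∃ i : Fin m, i ≠ i.rev ∧ p i.rev ≠ 0
  · obtain ⟨i, hi, hp⟩ := H1
    have e : p = p i.rev • ((p i.rev)⁻¹ • p) := by rw [smul_smul, mul_inv_cancel₀ hp, one_smul]
    rw [e, TS_smul, smul_zero]
    refine key i hi _ _ (by simp [hp]) ⟨by rw [hf_smul_left, hf_smul_right, k.ee, mul_zero, mul_zero],
      hf_zero_right _, ?_⟩
    have := k.cc
    rw [hf_zero_left] at this ⊢
    rw [star_mul, star_mul, star_star]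
    linear_combination (p i.rev * star (p i.rev)) * this
  · have a2 : ∀ i : Fin m, i ≠ i.rev → p i = 0 := fun i hi => by
      by_contra H'
      exact H1 ⟨i.rev, by rw [Fin.rev_rev]; exact hi.symm, by rwa [Fin.rev_rev]⟩
    have a3 : p = 0 := funext fun j => by
      by_contra H'
      have hj : j = j.rev := by by_contra H''; exact H' (a2 j H'')
      have pp := k.ee
      rw [hf, Finset.sum_eq_single j, ← hj] at pp
      · exact H' (by simpa using pp)
      · intro i _ hi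
        rw [a2 i fun e => hi ?_, mul_zero]
        have e2 := congrArg Fin.val e
        have e3 := congrArg Fin.val hj
        simp only [Fin.val_rev] at e2 e3
        exact Fin.ext (by omega)
      · simp
    rw [a3, TS_zero_left]
    exact one_mem _

theorem simp_field (hm : 4 ≤ m) (hδ : ∀ ρ : F, ρ * ρ + ρ ≠ δ) (N : Subgroup (Sg m δ)) (hN : N.Normal) :
    N ≤ center (Sg m δ) ∨ N = ⊤ := by
  have := bf_fact hδ
  have := Fintype.ofFinite (KK δ)
  obtain ⟨θ, -⟩ := bf_iso (m := m) (δ := δ)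
  have := hN.map θ.toMonoidHom θ.surjective
  refine (su_le_center_or_eq_top (n := m) (bf_cardF (δ := δ)) (by omega) (by omega) (N.map θ.toMonoidHom)).imp
    (fun h x hx => mem_center_iff.2 fun y => θ.injective ?_) fun h => ?_
  · rw [map_mul, map_mul]
    exact mem_center_iff.1 (h ⟨x, hx, rfl⟩) _
  · rw [← comap_map_eq_self_of_injective (f := θ.toMonoidHom) θ.injective N]
    exact h ▸ comap_top _

theorem psu_field (hδ : ∀ ρ : F, ρ * ρ + ρ ≠ δ) : ∃ (K : Type) (_ : Field K) (_ : Fintype K),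
    Fintype.card K = Nat.card F ^ 2 ∧ Nonempty (Sg m δ ⧸ center (Sg m δ) ≃* Cfsg.PSU m K (Nat.card F)) := by
  have := bf_fact hδ
  have := Fintype.ofFinite (KK δ)
  obtain ⟨θ, -⟩ := bf_iso (m := m) (δ := δ)
  exact ⟨KK δ, inferInstance, inferInstance, bf_cardF, ⟨Classical.centerQuotEquiv θ⟩⟩

end CfsgLib.SP4.BC
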