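import Cfsg.Agent.Lib.SP4.BBas
import Cfsg.Agent.Lib.SP4.Aut

/-! Coordinates -/

set_option autoImplicit false
set_option linter.unusedSectionVars false

namespace CfsgLib.SP4.BC

open Subgroup Module CfsgLib.Forms CfsgLib.LieMult Matrix
open CfsgLib.HX (Std CO Two Mv M2)
open CfsgLib.UN (AV SI TI HH Rad Stb Yg Rg Eg Act nu)
open CfsgLib.ClSys (II)
open Submodule (span)
open scoped commutatorElement Pointwise

universe u

variable {F : Type} [Field F] [Finite F] [CharP F 2] [Fact (2 < Nat.card F)] {V : Type} [AddCommGroup V] [Module F V]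
  [FiniteDimensional F V] {P : PQ (RingHom.id F) V} {S : Type} [Group S] [Finite S] {G : Type u}
  [Group G] [Finite G] {C : CG P S} {φ : S →* G} {t : G} {m : ℕ} {δ : F}
  {cv : V →ₗ[F] Vk m δ} {ι : S →* Sg m δ} {ψ : Sg m δ →* G} {w : V → V → G} {u v : V → G}

namespace Crd

variable (h : Mod C) (d : Crd P cv)
include h d

theorem inj : Function.Injective cv := (injective_iff_map_eq_zero cv).2 fun a e => h.nd fun b =>
  rt_inj (δ := δ) (by rw [← d.form, e, hf_zero_left, map_zero])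

theorem smul (c : F) (a : V) : cv (c • a) = rt δ c • cv a := by rw [map_smul, algebraMap_smul]

theorem perp {a b : V} : hf (cv a) (cv b) = 0 ↔ P.B a b = 0 := by
  rw [d.form]
  exact ⟨fun e => rt_inj (δ := δ) (by rw [e, map_zero]), fun e => by rw [e, map_zero]⟩

theorem exists_ee {i : Fin m} (hi : i ≠ i.rev) : ∃ e, e ≠ 0 ∧ cv e = ee δ i := by
  obtain ⟨e, he⟩ := d.surj _ (RV.ee (δ := δ) hi)
  refine ⟨e, fun e0 => ?_, he⟩
  have := congrFun he i
  rw [e0, map_zero, ee, Pi.single_eq_same, Pi.zero_apply, ← map_zero (rt δ), ← map_one (rt δ)] at this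
  exact zero_ne_one (rt_inj this)

/-- `x = cv a + ω cv b + l v₀` with `l = hf v₀ x` -/
theorem exists_dec : ∃ re im : Vk m δ → V, (∀ x, x = cv (re x) + om δ • cv (im x) + hf (v0 m δ) x • v0 m δ) ∧
    ∀ a b (l : KK δ), re (cv a + om δ • cv b + l • v0 m δ) = a ∧ im (cv a + om δ • cv b + l • v0 m δ) = b := by
  have key : ∀ x : Vk m δ, ∃ a b, x = cv a + om δ • cv b + hf (v0 m δ) x • v0 m δ := fun x => by
    obtain ⟨a, b, l, ha, hb, e⟩ := BC.exists_dec x
    obtain ⟨a, rfl⟩ := d.surj a ha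
    obtain ⟨b, rfl⟩ := d.surj b hb
    refine ⟨a, b, e.trans ?_⟩
    congr 1
    rcases Nat.even_or_odd m with hm | hm
    · rw [v0_even hm, smul_zero, smul_zero]
    · rw [e, hf_add_right, hf_add_right, hf_smul_right, hf_smul_right, ha.v0_left, hb.v0_left, hf_v0 hm,
        mul_zero, add_zero, zero_add, mul_one]
  choose re im H using key
  refine ⟨re, im, H, fun a b l => ?_⟩
  obtain ⟨e1, e2, -⟩ := dec_unique (d.rv _) (d.rv _) (d.rv _) (d.rv _) (H (cv a + om δ • cv b + l • v0 m δ))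
  exact ⟨(d.inj h e1).symm, (d.inj h e2).symm⟩

theorem hf_dec (a b a' b' : V) (l l' : KK δ) :
    hf (cv a + om δ • cv b + l • v0 m δ) (cv a' + om δ • cv b' + l' • v0 m δ) =
      rt δ (P.B a a' + P.B b a' + δ * P.B b b') + om δ * rt δ (P.B a b' + P.B b a') +
        star l * l' * hf (v0 m δ) (v0 m δ) := by
  simp only [hf_add_left, hf_add_right, hf_smul_left, hf_smul_right, d.form, (d.rv _).v0_left,
    (d.rv _).v0_right, star_om, map_add, map_mul]
  linear_combination rt δ (P.B b b') * om_sq (δ := δ) + k_two (om δ * rt δ (P.B b b'))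

theorem mat_ext {a b : Mt m δ} (h1 : ∀ x, a *ᵥ cv x = b *ᵥ cv x) (h2 : a *ᵥ v0 m δ = b *ᵥ v0 m δ) : a = b := by
  obtain ⟨re, im, H, -⟩ := d.exists_dec h
  ext1 i j
  rw [← bb_col a, ← bb_col b, H (ee δ j)]
  simp only [mulVec_add, mulVec_smul, h1, h2]

/-- the coordinatewise action of an automorphism of `K` -/
theorem exists_semi (a : Fa δ) {α : RingAut F} (e : ∀ c, a.1 (rt δ c) = rt δ (α c)) :
    ∃ γ : AV V, SI P α γ ∧ ∀ x, cv (γ x) = a.1 ∘ cv x := by
  choose f hf' using fun (b : Fa δ) (x : V) => d.surj _ ((d.rv x).map b)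
  have inv : ∀ (b : Fa δ) x, f b⁻¹ (f b x) = x := fun b x => d.inj h (by
    rw [hf', hf']
    funext i
    exact b.1.symm_apply_apply _)
  let g : V ≃+ V :=
    { toFun := f a
      invFun := f a⁻¹
      left_inv := inv a
      right_inv := fun x => by simpa only [inv_inv] using inv a⁻¹ x
      map_add' := fun x y => d.inj h (by
        rw [map_add, hf', hf', hf', map_add]
        funext i
        exact map_add a.1 _ _) }
  refine ⟨g.toIntLinearEquiv, ⟨fun c x => d.inj h ?_, fun x y => rt_inj (δ := δ) ?_⟩, hf' a⟩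
  · change cv (f a (c • x)) = cv (α c • f a x)
    rw [d.smul h, hf', hf', d.smul h, ← e]
    funext i
    exact map_mul a.1 _ _
  · change rt δ (P.B (f a x) (f a y)) = _
    rw [← d.form, hf', hf', hf_map, d.form, e]

theorem gen {H : Subgroup S} (hH : ∀ (i : Fin m) e a c, i ≠ i.rev → cv e = ee δ i → P.B e a = 0 → C.T e a c ∈ H) :
    H = ⊤ := by
  refine h.gen fun p c => ?_
  by_cases p0 : p = 0
  · rw [p0, h.T_zero']
    exact H.one_mem
  obtain ⟨j, hj⟩ := Function.ne_iff.1 (fun e => p0 (d.inj h (e.trans (map_zero cv).symm)) : cv p ≠ 0)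
  have j1 : j ≠ j.rev := fun e => hj ((d.rv p).mid j e)
  have j2 : j.rev ≠ j.rev.rev := by rw [Fin.rev_rev]; exact j1.symm
  obtain ⟨e, -, he⟩ := d.exists_ee h j2
  obtain ⟨f, -, hf'⟩ := d.exists_ee h j1
  have b0 : P.B e p ≠ 0 := fun k => hj (by
    rw [← d.perp h, he, hf_ee_left, Fin.rev_rev] at k
    exact k)
  have b1 : P.B e f = 1 := rt_inj (δ := δ) (by
    rw [← d.form, he, hf', hf_ee_left, Fin.rev_rev, ee, Pi.single_eq_same, map_one])
  obtain ⟨q, β, hq, rfl⟩ : ∃ q, ∃ β : F, P.B e q = 1 ∧ p = β • q :=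
    ⟨(P.B e p)⁻¹ • p, P.B e p, by rw [map_smul, smul_eq_mul, inv_mul_cancel₀ b0], by rw [smul_inv_smul₀ b0]⟩
  have k : P.B e (q + f) = 0 := by rw [map_add, hq, b1, h.add_self]
  have k1 : C.act (C.T e (q + f) (P.B (q + f) f)) f = q := by
    rw [h.T_app k, b1, mul_one, h.add_self, zero_smul, add_zero, one_smul, add_comm q, ← add_assoc,
      h.vadd_self, zero_add]
  rw [h.T_smul (map_zero _), smul_zero, ← k1, ← map_zero (C.act (C.T e (q + f) (P.B (q + f) f))),
    ← h.T_conj _ (map_zero _)]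
  have := hH _ e _ (P.B (q + f) f) j2 he k
  exact H.mul_mem (H.mul_mem this (hH _ f 0 _ j1 hf' (map_zero _))) (H.inv_mem this)

theorem bio_T {e a : V} (k : P.B e a = 0) (c : F) (x : V) :
    mat (TS (cv e) (cv a) (rt δ c)) *ᵥ cv x = cv (C.act (C.T e a c) x) := by
  rw [mat_TS (Ok.rv (d.rv e) (d.rv a) ((d.perp h).2 k) c), TM_mulVec, h.T_app k, map_add, map_add,
    d.smul h, d.smul h, d.form, d.form, map_add, map_mul]

theorem bio_io : ∃ ι : S →* Sg m δ, Io C cv ι := by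
  let H : Subgroup S :=
    { carrier := {s | ∃ σ ∈ Rat m δ, ∀ x, mat σ *ᵥ cv x = cv (C.act s x)}
      one_mem' := ⟨1, one_mem _, fun x => by rw [mat_one, one_mulVec, C.one_apply]⟩
      mul_mem' := by
        rintro s s' ⟨σ, h1, h2⟩ ⟨σ', h3, h4⟩
        exact ⟨σ * σ', mul_mem h1 h3, fun x => by rw [mat_mul, ← mulVec_mulVec, h4, h2, C.mul_apply]⟩
      inv_mem' := by
        rintro s ⟨σ, h1, h2⟩
        refine ⟨σ⁻¹, inv_mem h1, fun x => ?_⟩
        conv_lhs => rw [← C.apply_inv s x, ← h2, mulVec_mulVec, ← mat_mul, inv_mul_cancel, mat_one,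
          one_mulVec] }
  have e : H = ⊤ := h.gen fun p c => ⟨TS (cv p) (cv 0) (rt δ c),
    TS_rat (Ok.rv (d.rv p) (d.rv 0) ((d.perp h).2 (map_zero _)) c) (d.rv _).rat (d.rv _).rat (star_rt c),
    d.bio_T h (map_zero _) c⟩
  have key : ∀ s : S, ∃ σ ∈ Rat m δ, ∀ x, mat σ *ᵥ cv x = cv (C.act s x) := fun s =>
    (e ▸ mem_top s : s ∈ H)
  choose f f1 f2 using key
  have u : ∀ s, ∀ σ ∈ Rat m δ, (∀ x, mat σ *ᵥ cv x = cv (C.act s x)) → f s = σ := fun s σ h1 h2 =>
    mat_inj (d.mat_ext h (fun x => by rw [f2, h2]) (by rw [rat_v0 (f1 s), rat_v0 h1]))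
  refine ⟨MonoidHom.mk' f fun s s' => u _ _ (mul_mem (f1 s) (f1 s')) fun x => by
    rw [mat_mul, ← mulVec_mulVec, f2, f2, C.mul_apply], d, f2, fun s => rat_v0 (f1 s), le_antisymm ?_ ?_⟩
  · rintro _ ⟨s, rfl⟩
    exact f1 s
  · intro l hl
    choose g hg using fun x => d.surj _ (RV.mulVec hl (d.rv x))
    obtain ⟨s, hs⟩ := h.full
      { toFun := g
        map_add' := fun x y => d.inj h (by rw [map_add, hg, hg, hg, map_add, mulVec_add])
        map_smul' := fun c x => d.inj h (by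
          rw [RingHom.id_apply, d.smul h, hg, hg, d.smul h, mulVec_smul]) }
      fun x y => rt_inj (δ := δ) (by
        change rt δ (P.B (g x) (g y)) = _
        rw [← d.form, hg, hg, hf_mulVec, d.form])
    exact ⟨s, u s l hl fun x => by rw [hs]; exact (hg x).symm⟩

end Crd

theorem bio_bas (h : Mod C) {k : ℕ} (hk : finrank F V = 2 * k) (hm : m = 2 * k ∨ m = 2 * k + 1) :
    ∃ b : Fin m → V, (∀ i j, P.B (b i) (b j) = if j = i.rev ∧ i ≠ i.rev then 1 else 0) ∧
      ∀ y, (∀ j, P.B (b j) y = 0) → y = 0 := by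
  obtain ⟨Fr⟩ := h.exists_frame hk
  refine ⟨fun i => if e : (i : ℕ) < k then Fr.v (.inl ⟨i, e⟩) else
    if e' : (i.rev : ℕ) < k then Fr.v (.inr ⟨i.rev, e'⟩) else 0, fun i j => ?_, fun y H => ?_⟩
  · have := i.2
    have := j.2
    simp only [ne_eq, Fin.ext_iff, Fin.val_rev]
    split_ifs <;> simp [Fr.B_v] <;> omega
  · have : y ∈ Fr.V0 := Fr.mem_V0.2 fun a => by
      rcases a with a | a
      · have := H ⟨a, by have := a.2; omega⟩
        simpa only [a.2, dif_pos] using this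
      · have := H (Fin.rev ⟨a, by have := a.2; omega⟩)
        have e : ¬ (m - (a + 1) < k) := by have := a.2; omega
        simpa only [Fin.rev_rev, Fin.val_rev, e, a.2, dif_pos, dif_neg, not_false_eq_true] using this
    rwa [h.frame_V0, Submodule.mem_bot] at this

theorem exists_io (h : Mod C) {k : ℕ} (hk : finrank F V = 2 * k) (hm : m = 2 * k ∨ m = 2 * k + 1) (δ : F) :
    ∃ (cv : V →ₗ[F] Vk m δ) (ι : S →* Sg m δ), Io C cv ι := by
  obtain ⟨b, b1, b2⟩ := bio_bas h hk hm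
  have b0 : ∀ i, i = i.rev → b i = 0 := fun i hi => h.nd fun y => by
    by_contra e
    refine e ?_
    rw [b2 (b i) fun j => by
      rw [b1, if_neg]
      rintro ⟨e1, e2⟩
      exact e2 (by rw [← e1, ← Fin.rev_rev j, ← e1, ← hi]), map_zero, LinearMap.zero_apply]
  have b3 : ∀ (c : Fin m → F) j, j ≠ j.rev → P.B (b j.rev) (∑ i, c i • b i) = c j := fun c j hj => by
    rw [map_sum, Finset.sum_eq_single j (fun i _ hi => by
      rw [map_smul, b1, Fin.rev_rev, if_neg (fun e => hi e.1), smul_zero]) (by simp),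
      map_smul, b1, Fin.rev_rev, if_pos ⟨rfl, hj.symm⟩, smul_eq_mul, mul_one]
  have b4 : ∀ x, x = ∑ i, P.B (b i.rev) x • b i := fun x => sub_eq_zero.1 (b2 _ fun j => by
    by_cases hj : j = j.rev
    · rw [b0 j hj, map_zero, LinearMap.zero_apply]
    · have := b3 (fun i => P.B (b i.rev) x) j.rev (by rw [Fin.rev_rev]; exact Ne.symm hj)
      rw [Fin.rev_rev] at this
      rw [map_sub, this, sub_self])
  let cv : V →ₗ[F] Vk m δ := LinearMap.pi fun i => Algebra.linearMap F (KK δ) ∘ₗ P.B (b i.rev)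
  have hc : ∀ x i, cv x i = rt δ (P.B (b i.rev) x) := fun x i => rfl
  have d : Crd P cv := by
    refine ⟨fun x => ⟨funext fun i => by rw [Pi.star_apply, hc, star_rt], fun i hi => ?_⟩, fun x hx => ?_,
      fun x y => ?_⟩
    · rw [hc, ← hi, b0 i hi, map_zero, LinearMap.zero_apply, map_zero]
    · choose c hc' using fun i => rat_iff.1 (hx.bk2_at i)
      refine ⟨∑ i, c i • b i, funext fun j => ?_⟩
      by_cases hj : j = j.rev
      · rw [hc, ← hj, b0 j hj, map_zero, LinearMap.zero_apply, map_zero, hx.mid j hj]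
      · rw [hc, b3 c j hj, hc']
    · conv_rhs => rw [b4 y, map_sum, map_sum]
      refine Finset.sum_congr rfl fun j _ => ?_
      rw [hc, hc, Fin.rev_rev, star_rt, map_smul, smul_eq_mul, map_mul, h.B_comm x, mul_comm]
  obtain ⟨ι, hι⟩ := d.bio_io h
  exact ⟨cv, ι, hι⟩

theorem Io.T (h : Mod C) (d : Io C cv ι) {e a : V} (k : P.B e a = 0) (c : F) :
    ι (C.T e a c) = TS (cv e) (cv a) (rt δ c) :=
  mat_inj (d.toCrd.mat_ext h (fun x => by rw [d.act, d.toCrd.bio_T h k]) (by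
    rw [d.fix0, rat_v0 (TS_rat (Ok.rv (d.rv e) (d.rv a) ((d.toCrd.perp h).2 k) c) (d.rv _).rat (d.rv _).rat
      (star_rt c))]))

theorem Io.mp (h : Mod C) (d : Io C cv ι) {a : Fa δ} {γ : AV V} (e : ∀ x, cv (γ x) = a.1 ∘ cv x) {s s' : S}
    (k : ∀ x, C.act s' (γ x) = γ (C.act s x)) : mp a (ι s) = ι s' := by
  have r : ∀ s, ι s ∈ Rat m δ := fun s => d.rng ▸ ⟨s, rfl⟩
  refine mat_inj (d.toCrd.mat_ext h (fun x => ?_) (by rw [d.fix0, rat_v0 (mp_Rat a (r s))]))
  obtain ⟨y, rfl⟩ := γ.surjective x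
  rw [d.act, k, e, e, ← d.act, mat_mp]
  funext i
  exact (RingHom.map_mulVec (a.1 : KK δ →+* KK δ) _ _ i).symm

end CfsgLib.SP4.BC
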