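import Cfsg.Agent.Lib.SP4.BBas2

/-! Centralisers of the radicals -/

set_option autoImplicit false
set_option linter.unusedSectionVars false

namespace CfsgLib.SP4.BC

open Subgroup Module Matrix CfsgLib.UFP
open scoped commutatorElement Pointwise

universe u

variable {F : Type} [Field F] [Finite F] [CharP F 2] [Fact (2 < Nat.card F)] {m : ℕ} {δ : F} {G : Type u} [Group G] [Finite G]

variable {o p : Fin m}

theorem bi_TM (e a : Vk m δ) (c : KK δ) (r s : Fin m) : TM e a c r s =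
    (1 : Mt m δ) r s + e r * star (a s.rev) + a r * star (e s.rev) + c * (e r * star (e s.rev)) := rfl

theorem bi_mv (D : Mt m δ) (j r : Fin m) : (D *ᵥ ee δ j) r = D r j := by simp [ee]

theorem bi_ee (i r : Fin m) : ee δ i r = (1 : Mt m δ) r i := by
  rw [ee, Pi.single_apply, one_apply]

theorem bi_ee_self (i : Fin m) : ee δ i i = 1 := Pi.single_eq_same _ _

theorem bi_ee_ne {i r : Fin m} (h : r ≠ i) : ee δ i r = 0 := Pi.single_eq_of_ne h _

theorem bi_one (i r : Fin m) : (1 : Mt m δ) i r.rev = (1 : Mt m δ) r i.rev := by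
  have := congrFun (congrFun (adj_one (m := m) (δ := δ)) r) i.rev
  rwa [adj_apply, Fin.rev_rev] at this

theorem bi_eq {x y : KK δ} (h : x + y = 0) : x = y := by
  rw [← add_zero x, ← k_two y, ← add_assoc, h, zero_add]

theorem bi_low {d : Sg m δ} (hd : d ∈ Mh m δ 0) {r s : Fin m} (h : (s : ℕ) ≤ r) :
    mat d r s = (1 : Mt m δ) r s := sub_eq_zero.1 (hd r s (by omega))

theorem bi_fix0 (ho : (o : ℕ) = 0) {d : Sg m δ} (hd : d ∈ Mh m δ 0) : mat d *ᵥ ee δ o = ee δ o :=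
  funext fun r => by rw [bi_mv, bi_low hd (by omega), bi_ee]

theorem bi_conj {d : Sg m δ} {e a : Vk m δ} {c : KK δ} (k : Ok e a c) (hc : d * TS e a c = TS e a c * d) :
    TM (mat d *ᵥ e) (mat d *ᵥ a) c = TM e a c := by
  rw [← mat_TS (k.conj d), ← TS_conj k, hc, mul_inv_cancel_right, mat_TS k]

theorem bi_col {d : Sg m δ} {i : Fin m} (hi : mat d *ᵥ ee δ i = ee δ i) {j : Fin m} {c : KK δ}
    (k : Ok (ee δ i) (ee δ j) c) (hc : d * TS (ee δ i) (ee δ j) c = TS (ee δ i) (ee δ j) c * d)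
    {r : Fin m} (hr : r ≠ i) : mat d r j = (1 : Mt m δ) r j := by
  have e := congrFun (congrFun (bi_conj k hc) r) i.rev
  rw [hi, bi_TM, bi_TM, Fin.rev_rev, bi_ee_ne hr, bi_ee_self, bi_mv _ j r, bi_ee j r] at e
  simpa using e

theorem bi_ok {i j : Fin m} (hi : i ≠ i.rev) (hj : j ≠ i.rev) : ∃ c, Ok (ee δ i) (ee δ j) c :=
  exists_ok (by rw [hf_ee_left, bi_ee_ne hi.symm]) (by rw [hf_ee_left, bi_ee_ne hj.symm])

theorem bi_ok0 {i j : Fin m} (hi : i ≠ i.rev) (hj : j ≠ i.rev) (hj' : j ≠ j.rev) :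
    Ok (ee δ i) (ee δ j) 0 := by
  have := Ok.rv (δ := δ) (RV.ee hi) (RV.ee hj') (by rw [hf_ee_left, bi_ee_ne hj.symm]) 0
  rwa [map_zero] at this

/-- the entries of `d d̄ = 1` -/
theorem bi_unit {d : Sg m δ} (hd' : adj (mat d) = mat d) (r s : Fin m) :
    (mat d - 1) r s + star ((mat d - 1) r s) + ∑ k, (mat d - 1) r k * star ((mat d - 1) k s) = 0 := by
  have e := mat_unit d
  rw [hd'] at e
  have e1 : bar (mat d - 1) = bar (mat d) - 1 := by
    ext1 i j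
    simp only [bar_apply, Matrix.sub_apply, star_sub, one_apply]
    split_ifs <;> simp
  have e2 : (mat d - 1) + bar (mat d - 1) + (mat d - 1) * bar (mat d - 1) = 0 := by
    rw [e1, ← sub_eq_zero.2 e]
    noncomm_ring
  exact congrFun (congrFun e2 r) s

theorem bi_row (hm : 4 ≤ m) (ho : (o : ℕ) = 0) {d : Sg m δ} (hd : d ∈ Mh m δ 0)
    (hd' : adj (mat d) = mat d) (hc : ∀ r j, r ≠ o → j ≠ o.rev → mat d r j = (1 : Mt m δ) r j) :
    ∃ a c, star a = a ∧ Ok (ee δ o) a c ∧ d = TS (ee δ o) a c ∧ a o = 0 ∧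
      ∀ r, r ≠ o → a r = (mat d - 1) r o.rev := by
  have h0 : o ≠ o.rev := fun e => by have := congrArg Fin.val e; rw [Fin.val_rev] at this; omega
  set n := mat d - 1 with hn
  have h1 : ∀ r j, r ≠ o → j ≠ o.rev → n r j = 0 := fun r j a b => sub_eq_zero.2 (hc r j a b)
  have h2 : ∀ s, n o.rev s = 0 := fun s => hd _ _ (by rw [Fin.val_rev]; have := s.2; omega)
  have h3 : ∀ r s, n r s = n s.rev r.rev := fun r s => by
    have e : adj n = n := by
      rw [hn]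
      conv_rhs => rw [← hd', ← adj_one]
      rfl
    exact (congrFun (congrFun e r) s).symm
  let a : Vk m δ := fun r => if r = o then 0 else n r o.rev
  have ha : ∀ r, r ≠ o → a r = n r o.rev := fun r hr => if_neg hr
  have ha0 : a o = 0 := if_pos rfl
  have hs : ∀ r, star (a r) = a r := fun r => by
    by_cases hr : r = o
    · rw [hr, ha0, star_zero]
    · have e := bi_unit hd' r o.rev
      rw [← hn, Finset.sum_eq_zero fun k _ => ?_, add_zero] at e
      · rw [ha r hr, ← bi_eq e]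
      · by_cases hk : k = o.rev
        · rw [hk, h2, star_zero, mul_zero]
        · rw [h1 r k hr hk, zero_mul]
  have k : Ok (ee δ o) a (n o o.rev) := by
    refine ⟨by rw [hf_ee_left, bi_ee_ne h0.symm], by rw [hf_ee_left, ha _ h0.symm, h2], ?_⟩
    have e := bi_unit hd' o o.rev
    rw [← hn] at e
    rw [bi_eq e, hf]
    refine Finset.sum_congr rfl fun j _ => ?_
    by_cases hj : j = o
    · rw [hj, ha0, h3 o o, h2, zero_mul, mul_zero]
    by_cases hj' : j = o.rev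
    · rw [hj', h2, Fin.rev_rev, ha0, star_zero, zero_mul, mul_zero]
    rw [hs, ← ha j hj, hs, ha j.rev fun e => hj' (by rw [← e, Fin.rev_rev]), h3 o j]
  refine ⟨a, n o o.rev, funext hs, k, mat_inj ?_, ha0, ha⟩
  rw [mat_TS k]
  ext1 r s
  have e : mat d r s = (1 : Mt m δ) r s + n r s := by simp [hn]
  rw [e, bi_TM, hs]
  by_cases hr : r = o <;> by_cases hs' : s = o.rev
  · simp [hr, hs', ha0, bi_ee_self]
  · have : s.rev ≠ o := fun e => hs' (by rw [← e, Fin.rev_rev])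
    rw [hr, bi_ee_self, bi_ee_ne this, ha _ this, h3 o s]
    simp
  · rw [hs', Fin.rev_rev, bi_ee_self, bi_ee_ne hr, ha _ hr]
    simp
  · have : s.rev ≠ o := fun e => hs' (by rw [← e, Fin.rev_rev])
    rw [bi_ee_ne this, bi_ee_ne hr, h1 r s hr hs']
    simp

theorem isoQ (hm : 4 ≤ m) (ho : (o : ℕ) = 0) {d : Sg m δ} (hd : d ∈ Mh m δ 0) (hd' : adj (mat d) = mat d)
    (hc : ∀ j c, Ok (ee δ o) (ee δ j) c → Commute d (TS (ee δ o) (ee δ j) c)) :
    ∃ a c, star a = a ∧ Ok (ee δ o) a c ∧ d = TS (ee δ o) a c := by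
  have h0 : o ≠ o.rev := fun e => by have := congrArg Fin.val e; rw [Fin.val_rev] at this; omega
  obtain ⟨a, c, h1, h2, h3, -⟩ := bi_row hm ho hd hd' fun r j hr hj => by
    obtain ⟨c, k⟩ := bi_ok (δ := δ) h0 hj
    exact bi_col (bi_fix0 ho hd) k (hc j c k) hr
  exact ⟨a, c, h1, h2, h3⟩

theorem bi_okz {e : Vk m δ} (he : RV e) (c : F) : Ok e 0 (rt δ c) :=
  Ok.rv he RV.zero (hf_zero_right _) c

theorem bi_z {e : Vk m δ} {c : KK δ} (k : Ok e 0 c) (r s : Fin m) :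
    mat (TS e 0 c) r s = (1 : Mt m δ) r s + c * (e r * star (e s.rev)) := by
  rw [mat_TS k, bi_TM]
  simp

theorem isoL (hm : 4 ≤ m) (ho : (o : ℕ) = 0) (hp : (p : ℕ) = 1) {d : Sg m δ} (hd : d ∈ Mh m δ 0)
    (hd' : adj (mat d) = mat d)
    (h0 : ∀ j c, j ≠ p.rev → Ok (ee δ o) (ee δ j) c → Commute d (TS (ee δ o) (ee δ j) c))
    (h1 : ∀ j, j ≠ o.rev → j ≠ p.rev → j ≠ j.rev → Commute d (TS (ee δ p) (ee δ j) 0))
    (h2 : Commute d (TS (ee δ p) 0 1)) :
    ∃ a l c' : F, ∃ c, Ok (ee δ o) (rt δ a • ee δ p + rt δ l • v0 m δ) c ∧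
      d = TS (ee δ o) (rt δ a • ee δ p + rt δ l • v0 m δ) c * TS (ee δ p) 0 (rt δ c') := by
  have v1 : (o.rev : ℕ) = m - 1 := by rw [Fin.val_rev]; omega
  have v2 : (p.rev : ℕ) = m - 2 := by rw [Fin.val_rev]; omega
  have n1 : o ≠ o.rev := Fin.ne_of_val_ne (by omega)
  have n2 : p ≠ p.rev := Fin.ne_of_val_ne (by omega)
  have n3 : p ≠ o.rev := Fin.ne_of_val_ne (by omega)
  have n4 : p ≠ o := Fin.ne_of_val_ne (by omega)
  have n5 : p.rev ≠ o.rev := Fin.ne_of_val_ne (by omega)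
  have c0 : ∀ r j, r ≠ o → j ≠ o.rev → j ≠ p.rev → mat d r j = (1 : Mt m δ) r j := fun r j hr hj hj' => by
    obtain ⟨c, k⟩ := bi_ok (δ := δ) n1 hj
    exact bi_col (bi_fix0 ho hd) k (h0 j c hj' k) hr
  have sy : ∀ r s, mat d r s = mat d s.rev r.rev := fun r s => (congrFun (congrFun hd' r) s).symm
  have hpp : mat d *ᵥ ee δ p = ee δ p := by
    have e := congrFun (congrFun (bi_conj (Ok.z (RV.ee n2)) h2) o) p.rev
    rw [mulVec_zero, bi_TM, bi_TM, Fin.rev_rev, bi_mv, bi_mv, bi_low hd (r := p) (s := p) le_rfl,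
      one_apply_eq, bi_ee_ne n4.symm] at e
    funext r
    rw [bi_mv, bi_ee]
    by_cases hr : r = o
    · rw [hr, one_apply_ne n4.symm]
      simpa using e
    · exact c0 r p hr n3 n2
  have c1 : ∀ j, j ≠ o.rev → j ≠ p.rev → j ≠ j.rev → mat d o j = (1 : Mt m δ) o j := fun j a b c =>
    bi_col hpp (bi_ok0 n2 b c) (h1 j a b c) n4.symm
  obtain ⟨c', hc'⟩ : ∃ c', mat d p p.rev = rt δ c' := by
    have e := bi_unit hd' p p.rev
    rw [Finset.sum_eq_zero fun k _ => ?_, add_zero, Matrix.sub_apply, one_apply_ne n2, sub_zero] at e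
    · exact rat_iff.1 (bi_eq e).symm
    · by_cases hk : (p.rev : ℕ) ≤ k
      · rw [Matrix.sub_apply _ _ k, bi_low hd hk, sub_self, star_zero, mul_zero]
      · rw [Matrix.sub_apply, c0 p k n4 (Fin.ne_of_val_ne (by omega)) (Fin.ne_of_val_ne (by omega)),
          sub_self, zero_mul]
  have kz := bi_okz (δ := δ) (RV.ee n2) c'
  have hz : ∀ r s, mat (d * TS (ee δ p) 0 (rt δ c')) r s =
      mat d r s + rt δ c' * (ee δ p r * ee δ p s.rev) := fun r s => by
    have e : mat (TS (ee δ p) 0 (rt δ c')) = 1 + rt δ c' • ou (ee δ p) (ee δ p) := by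
      ext1 i j
      exact bi_z kz i j
    have e' : mat d * ou (ee δ p) (ee δ p) = ou (mat d *ᵥ ee δ p) (ee δ p) := by
      ext1 i j
      simp only [mul_apply, ou, of_apply, mulVec, dotProduct, Finset.sum_mul, mul_assoc]
    rw [mat_mul, e, mul_add, mul_one, Matrix.mul_smul, e', hpp, ← congrFun (star_ee p) s.rev]
    rfl
  obtain ⟨a, c, a1, a2, a3, a4, a5⟩ := bi_row hm ho (d := d * TS (ee δ p) 0 (rt δ c'))
    (mul_mem hd (TS_mem kz (fun _ _ => rfl) fun e => by omega))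
    (by
      ext1 r s
      rw [adj_apply, hz, hz, ← sy, Fin.rev_rev, mul_comm (ee δ p r)])
    fun r j hr hj => by
      rw [hz]
      by_cases hj' : j = p.rev
      · by_cases hr' : r = p
        · rw [hr', hj', Fin.rev_rev, bi_ee_self, hc', mul_one, mul_one, k_two, one_apply_ne n2]
        · rw [bi_ee_ne hr', zero_mul, mul_zero, add_zero, hj', sy, Fin.rev_rev,
            c0 p r.rev n4 (fun e => hr (Fin.rev_inj.1 e)) fun e => hr' (Fin.rev_inj.1 e)]
          exact bi_one _ _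
      · rw [bi_ee_ne (r := j.rev) fun e => hj' (by rw [← e, Fin.rev_rev]), mul_zero, mul_zero, add_zero,
          c0 r j hr hj hj']
  have a6 : ∀ r, r ≠ p → r ≠ r.rev → a r = 0 := fun r b1 b2 => by
    by_cases b3 : r = o
    · rw [b3, a4]
    rw [a5 r b3, Matrix.sub_apply, hz, bi_ee_ne b1, zero_mul, mul_zero, add_zero, sy, Fin.rev_rev,
      c1 r.rev (fun e => b3 (Fin.rev_inj.1 e)) (fun e => b1 (Fin.rev_inj.1 e))
        (by rw [Fin.rev_rev]; exact b2.symm), sub_eq_zero]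
    exact bi_one _ _
  obtain ⟨x, hx⟩ := rat_iff.1 (congrFun a1 p)
  obtain ⟨l, hl⟩ : ∃ l : F, ∀ r, r = r.rev → a r = rt δ l := by
    by_cases hh : ∃ i : Fin m, i = i.rev
    · obtain ⟨i, hi⟩ := hh
      obtain ⟨l, hl⟩ := rat_iff.1 (congrFun a1 i)
      refine ⟨l, fun r hr => ?_⟩
      have e1 := congrArg Fin.val hi
      have e2 := congrArg Fin.val hr
      rw [Fin.val_rev] at e1 e2
      rw [show r = i from Fin.ext (by have := i.2; have := r.2; omega)]
      exact hl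
    · exact ⟨0, fun r hr => absurd ⟨r, hr⟩ hh⟩
  have ea : a = rt δ x • ee δ p + rt δ l • v0 m δ := funext fun r => by
    rw [Pi.add_apply, Pi.smul_apply, Pi.smul_apply, v0, smul_eq_mul, smul_eq_mul]
    by_cases b1 : r = p
    · rw [b1, bi_ee_self, if_neg n2, mul_one, mul_zero, add_zero]
      exact hx
    · rw [bi_ee_ne b1, mul_zero, zero_add]
      by_cases b2 : r = r.rev
      · rw [if_pos b2, mul_one, hl r b2]
      · rw [if_neg b2, mul_zero, a6 r b1 b2]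
  refine ⟨x, l, c', c, ea ▸ a2, ?_⟩
  rw [← ea, ← a3, ← mul_inv_eq_iff_eq_mul, TS_inv kz, star_rt]

/-- the generators of the radical `R_ℓ`, `ℓ = ⟨e_o, e_p⟩` -/
def RL (o p : Fin m) : Set (Sg m δ) := {s | ∃ e a, ∃ c : F, (e = ee δ o ∨ e = ee δ p) ∧ RV a ∧
  hf (ee δ o) a = 0 ∧ hf (ee δ p) a = 0 ∧ s = TS e a (rt δ c)}

theorem bi_zRL {e : Vk m δ} (he : e = ee δ o ∨ e = ee δ p) (c : F) : TS e 0 (rt δ c) ∈ RL o p :=
  ⟨e, 0, c, he, RV.zero, hf_zero_right _, hf_zero_right _, rfl⟩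

theorem cenL (ho : (o : ℕ) = 0) (hp : (p : ℕ) = 1) (hm : 4 ≤ m) {l : Sg m δ} (hl : l ∈ Rat m δ)
    (hc : ∀ s ∈ RL o p, l * s = s * l) : l * l = 1 := by
  have v1 : (o.rev : ℕ) = m - 1 := by rw [Fin.val_rev]; omega
  have v2 : (p.rev : ℕ) = m - 2 := by rw [Fin.val_rev]; omega
  have n1 : o ≠ o.rev := Fin.ne_of_val_ne (by omega)
  have n2 : p ≠ p.rev := Fin.ne_of_val_ne (by omega)
  have n4 : o ≠ p := Fin.ne_of_val_ne (by omega)
  have hx : ∀ i : Fin m, i ≠ i.rev → (ee δ i = ee δ o ∨ ee δ i = ee δ p) → mat l *ᵥ ee δ i = ee δ i :=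
    fun i hi he => z_inj ((RV.ee hi).mulVec hl) (RV.ee hi) (by
      have e := hc _ (bi_zRL he 1)
      rw [map_one] at e
      have e' := TS_conj (Ok.z (RV.ee (δ := δ) hi)) l
      rw [mulVec_zero, e, mul_inv_cancel_right] at e'
      exact e'.symm)
  have c1 : ∀ r j, j ≠ o.rev → j ≠ p.rev → mat l r j = (1 : Mt m δ) r j := fun r j a b => by
    by_cases c : j = j.rev
    · rw [rat_mid hl (.inr c), one_apply]
    have hh : ∀ e, (e = ee δ o ∨ e = ee δ p) → TS e (ee δ j) 0 ∈ RL o p := fun e he =>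
      ⟨e, ee δ j, 0, he, RV.ee c, by rw [hf_ee_left, bi_ee_ne a.symm],
        by rw [hf_ee_left, bi_ee_ne b.symm], by rw [map_zero]⟩
    by_cases hr : r = o
    · exact bi_col (hx p n2 (.inr rfl)) (bi_ok0 n2 b c) (hc _ (hh _ (.inr rfl))) (hr ▸ n4)
    · exact bi_col (hx o n1 (.inl rfl)) (bi_ok0 n1 a c) (hc _ (hh _ (.inl rfl))) hr
  have c2 : ∀ r s, r ≠ o → r ≠ p → mat l r s = (1 : Mt m δ) r s := fun r s a b => by
    have e : mat l *ᵥ ee δ r.rev = ee δ r.rev := funext fun i => by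
      rw [bi_mv, bi_ee, c1 i _ (fun e => a (Fin.rev_inj.1 e)) fun e => b (Fin.rev_inj.1 e)]
    have e' := hf_mulVec l (ee δ r.rev) (ee δ s)
    rwa [e, hf_ee_left, hf_ee_left, Fin.rev_rev, bi_mv, bi_ee] at e'
  have e1 : (mat l - 1) * (mat l - 1) = 0 := by
    ext1 r s
    rw [mul_apply, Matrix.zero_apply]
    refine Finset.sum_eq_zero fun k _ => ?_
    by_cases hk : (k : ℕ) < 2
    · rw [Matrix.sub_apply, c1 r k (Fin.ne_of_val_ne (by omega)) (Fin.ne_of_val_ne (by omega)),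
        sub_self, zero_mul]
    · rw [Matrix.sub_apply _ _ k, c2 k s (Fin.ne_of_val_ne (by omega)) (Fin.ne_of_val_ne (by omega)),
        sub_self, mul_zero]
  have e2 : (mat l - 1) + (mat l - 1) = 0 := by
    ext1 r s
    exact k_two _
  refine mat_inj ?_
  rw [mat_mul, mat_one, ← sub_eq_zero, ← add_zero (0 : Mt m δ)]
  nth_rewrite 1 [← e1]
  rw [← e2]
  noncomm_ring

theorem bi_map_ee (a : Fa δ) (i : Fin m) : a.1 ∘ ee δ i = ee δ i := funext fun r => by
  rw [Function.comp_apply, bi_ee, one_apply]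
  split_ifs <;> simp

theorem bi_map_zero (a : Fa δ) : a.1 ∘ (0 : Vk m δ) = 0 := funext fun _ => map_zero _

theorem bi_cpow {s : Sg m δ} {n : ℕ} (h : s ^ n = 1) (a : Fa δ) (l : Sg m δ) :
    (l * mp a s * l⁻¹) ^ n = 1 := by
  rw [conj_pow, ← map_pow, h, map_one, mul_one, mul_inv_cancel]

namespace MM

variable {ψ : Sg m δ →* G} {t : G} (h : MM ψ t)
include h

theorem odd_cent (ho : (o : ℕ) = 0) (hp : (p : ℕ) = 1) {g : G} (h1 : Odd (orderOf g)) (h2 : g * t = t * g)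
    (h3 : ∀ s ∈ RL o p, g * ψ s = ψ s * g) : g ∈ centralizer (ψ.range : Set G) := by
  have hm := h.m6
  have n1 : o ≠ o.rev := Fin.ne_of_val_ne (by rw [Fin.val_rev]; omega)
  have n2 : p ≠ p.rev := Fin.ne_of_val_ne (by rw [Fin.val_rev]; omega)
  obtain ⟨l, hl, a, ha⟩ := h.act h2
  have k1 : ∀ s ∈ RL o p, ∃ e b, ∃ c : F, RV e ∧ RV b ∧ Ok e b (rt δ c) ∧ s = TS e b (rt δ c) := by
    rintro _ ⟨e, b, c, rfl | rfl, e1, e2, e3, rfl⟩
    · exact ⟨_, b, c, RV.ee n1, e1, Ok.rv (RV.ee n1) e1 e2 c, rfl⟩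
    · exact ⟨_, b, c, RV.ee n2, e1, Ok.rv (RV.ee n2) e1 e3 c, rfl⟩
  have k2 : ∀ s ∈ RL o p, l * mp a s * l⁻¹ = s := fun s hs => by
    obtain ⟨e, b, c, -, -, k, rfl⟩ := k1 s hs
    exact h.inj2 (by rw [← ha, h3 _ hs, mul_inv_cancel_right]) (bi_cpow (TS_pow k) a l) (TS_pow k)
  have k3 : ∀ c : F, TS (mat l *ᵥ ee δ o) 0 (a.1 (rt δ c)) = TS (ee δ o) 0 (rt δ c) := fun c => by
    have k := bi_okz (δ := δ) (RV.ee n1) c
    have e := k2 _ (bi_zRL (.inl rfl) c)
    rwa [mp_TS k, TS_conj (k.map a), bi_map_ee, bi_map_zero, mulVec_zero] at e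
  have k4 : mat l *ᵥ ee δ o = ee δ o := z_inj ((RV.ee n1).mulVec hl) (RV.ee n1) (by
    have := k3 1
    rwa [map_one, map_one] at this)
  have k5 : ∀ c : F, a.1 (rt δ c) = rt δ c := fun c => by
    have k := bi_okz (δ := δ) (RV.ee n1) c
    have k' := k.map a
    rw [bi_map_ee, bi_map_zero] at k'
    have e := congrArg (fun s => mat s o o.rev) (k3 c)
    simp only [k4, bi_z k, bi_z k', Fin.rev_rev, bi_ee_self] at e
    simpa using e
  have k6 : (∀ s ∈ Rat m δ, mp a s = s) ∧ a * a = 1 := by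
    rcases Fa_fix k5 with rfl | rfl
    · exact ⟨fun s _ => mp_one s, mul_one _⟩
    · exact ⟨fun s hs => hs, bA_sq⟩
  have k7 : l * l = 1 := cenL ho hp hm hl fun s hs => by
    have e := k2 s hs
    obtain ⟨e', b, c, b1, b2, k, rfl⟩ := k1 s hs
    rwa [k6.1 _ (TS_rat k b1.rat b2.rat (star_rt c)), mul_inv_eq_iff_eq_mul] at e
  have k8 : g ^ 2 ∈ centralizer (ψ.range : Set G) := by
    rintro _ ⟨s, rfl⟩
    have e := ha (l * mp a s * l⁻¹)
    rw [← ha s, map_mul (mp a), map_mul (mp a), map_inv (mp a), k6.1 l hl, ← mp_mul, k6.2, mp_one,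
      show l * (l * s * l⁻¹) * l⁻¹ = l * l * s * (l * l)⁻¹ by group, k7, one_mul, inv_one,
      mul_one] at e
    rw [← e]
    nth_rewrite 2 [e]
    rw [pow_two]
    group
  exact zpowers_le.2 k8 (mem_zpowers_pow_iff.2 (Nat.coprime_two_left.2 h1))

/-- the hypothesis of `SylD.iso_of` in matrix form -/
theorem iso_pre {E : Subgroup G} (ht : t ∈ normalizer (E : Set G)) {g u : G} (hg : g ∈ centralizer (E : Set G))
    (hu : u ∈ Uh ψ) (e : g * t * g⁻¹ = u * t * u⁻¹) : ∃ d ∈ Mh m δ 0, adj (mat d) = mat d ∧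
      ψ d = t⁻¹ * (g * t * g⁻¹) ∧ ∀ s n, s ^ 2 ^ n = 1 → ψ s ∈ E → Commute d s := by
  obtain ⟨u, hu, rfl⟩ := hu
  have ti : t⁻¹ = t := inv_eq_of_mul_eq_one_left h.t2
  have e1 : ψ (sb u * u⁻¹) = t⁻¹ * (g * t * g⁻¹) := by
    rw [e, map_mul, map_inv, ← h.tc, ti]
    simp only [mul_assoc]
  refine ⟨sb u * u⁻¹, mul_mem (mp_Mh _ hu) (inv_mem hu), ?_, e1, fun s n hs hE => h.comm2 hs ?_⟩
  · rw [mat_mul, adj_mul, mat_inv, mat_sb, adj_adj]
  · have e2 := hg _ ((mem_normalizer_iff.1 ht _).1 hE)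
    have e3 := inv_mem hg _ hE
    rw [e1]
    calc _ = t⁻¹ * g * t * (g⁻¹ * ψ s) := by group
      _ = t⁻¹ * (g * (t * ψ s * t⁻¹)) * t * g⁻¹ := by rw [← e3]; group
      _ = _ := by rw [← e2]; group

theorem eq_of_tz (hm : Even m) (ho : (o : ℕ) = 0) {g u : G}
    (h1 : g * (ψ (TS (ee δ o) 0 1) * t) = ψ (TS (ee δ o) 0 1) * t * g) (hu : u ∈ Uh ψ)
    (e : g * t * g⁻¹ = u * t * u⁻¹) : g * t = t * g := by
  obtain ⟨u, hu, rfl⟩ := hu
  have h6 := h.m6
  have n0 : ∀ i : Fin m, i ≠ i.rev := fun i => Fin.ne_of_val_ne (by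
    obtain ⟨k, hk⟩ := hm
    have := i.2
    rw [Fin.val_rev]
    omega)
  have k := Ok.z (RV.ee (δ := δ) (n0 o))
  set z := TS (ee δ o) 0 1 with hz
  obtain ⟨l, hl, a, ha⟩ := h.act (g := (ψ u)⁻¹ * g) (by
    calc _ = (ψ u)⁻¹ * (g * t * g⁻¹) * g := by group
      _ = _ := by rw [e]; group)
  have rp := (RV.ee (δ := δ) (n0 o)).mulVec hl
  set q := mat l *ᵥ ee δ o with hq
  have kq := Ok.z rp
  have z1 : z ∈ Mh m δ (m - 2) := TS_mem k (fun _ _ => rfl) fun e => by rw [Fin.val_rev] at e; omega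
  have z0 : z ∈ Mh m δ 0 := Mh_anti (Nat.zero_le _) z1
  have m0 : u⁻¹ * z * sb u ∈ Mh m δ 0 := mul_mem (mul_mem (inv_mem hu) z0) (mp_Mh _ hu)
  have e1 : TS q 0 1 = u⁻¹ * z * sb u := by
    refine h.inj2 ?_ (TS_pow kq) (Mh_pow m0)
    have e2 := ha z
    rw [hz, mp_TS k, TS_conj (k.map a), bi_map_ee, bi_map_zero, mulVec_zero, map_one, ← hz, ← hq] at e2
    rw [← e2, map_mul, map_mul, map_inv, ← h.tc]
    calc _ = (ψ u)⁻¹ * (g * (ψ z * t)) * g⁻¹ * (g * t * g⁻¹)⁻¹ * ψ u := by group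
      _ = _ := by rw [h1, e]; group
  have e2 : u⁻¹ * z = z * u⁻¹ := by
    have := Mh_comm (inv_mem hu) z1
    rw [show 0 + (m - 2) + 1 = m - 1 by omega, Mh_top, mem_bot] at this
    rwa [mul_inv_eq_one, mul_inv_eq_iff_eq_mul] at this
  have zz : z * z = 1 := by
    rw [hz, TS_mul k k, add_zero, k_two, hf_zero_left, add_zero, TS_zero]
  have e3 : u⁻¹ * sb u = z * TS q 0 1 := by
    rw [e1, e2, ← mul_assoc, ← mul_assoc, zz, one_mul]
  have sq : ∀ i, star (q i) = q i := fun i => congrFun rp.rat i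
  have q0 : q o.rev = 0 := by
    have := bi_low (e1 ▸ m0) (r := o.rev) (s := o) (by omega)
    rw [bi_z kq, sq, one_mul, add_eq_left] at this
    exact k_sq_zero this
  have e4 : ∀ i, q i * q i = ee δ o i := fun i => by
    have e5 := anti_even hm u i
    have m1 : mat z = 1 + ou (ee δ o) (ee δ o) := by
      ext1 r s
      rw [hz, bi_z k, one_mul]
      rfl
    have m2 : mat (TS q 0 1) = 1 + ou q q := by
      ext1 r s
      rw [bi_z kq, one_mul]
      rfl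
    rw [e3, mat_mul, m1, m2, add_mul, one_mul, mul_add, mul_one, ou_mul_ou, hf_ee_left, q0, zero_smul,
      add_zero, Matrix.add_apply, Matrix.add_apply, one_apply_ne (n0 i), zero_add] at e5
    have e6 := bi_eq e5
    simp only [ou, of_apply, Fin.rev_rev, sq] at e6
    rw [e6]
    by_cases hi : i = o
    · rw [hi, bi_ee_self, star_one, mul_one]
    · rw [bi_ee_ne hi, zero_mul]
  have e5 : q = ee δ o := funext fun i => by
    have := e4 i
    by_cases hi : i = o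
    · rw [hi, bi_ee_self] at this ⊢
      exact k_sq_one this
    · rw [bi_ee_ne hi] at this ⊢
      exact k_sq_zero this
  rw [e5, ← hz, zz, inv_mul_eq_one] at e3
  have e6 := h.tc u
  rw [← e3, mul_inv_eq_iff_eq_mul] at e6
  rwa [← e6, mul_inv_cancel_right, mul_inv_eq_iff_eq_mul] at e

end MM

end CfsgLib.SP4.BC
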