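import Cfsg.Agent.Lib.SP4.BK

/-! The calculus of the elements `TS` -/

set_option autoImplicit false
set_option linter.unusedSectionVars false

namespace CfsgLib.SP4.BC

open Subgroup Module Matrix CfsgLib.UFP
open scoped commutatorElement Pointwise

universe u

variable {F : Type} [Field F] [Finite F] [CharP F 2] {m : ℕ} {δ : F} {G : Type u} [Group G] [Finite G]

theorem hf_add_left (x y z : Vk m δ) : hf (x + y) z = hf x z + hf y z := by
  simp only [hf, Pi.add_apply, star_add, add_mul, Finset.sum_add_distrib]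

theorem hf_add_right (x y z : Vk m δ) : hf x (y + z) = hf x y + hf x z := by
  simp only [hf, Pi.add_apply, mul_add, Finset.sum_add_distrib]

theorem hf_smul_left (l : KK δ) (x y : Vk m δ) : hf (l • x) y = star l * hf x y := by
  simp only [hf, Pi.smul_apply, smul_eq_mul, star_mul', Finset.mul_sum, mul_assoc]

theorem hf_smul_right (l : KK δ) (x y : Vk m δ) : hf x (l • y) = l * hf x y := by
  simp only [hf, Pi.smul_apply, smul_eq_mul, Finset.mul_sum, mul_left_comm]

theorem hf_zero_left (x : Vk m δ) : hf 0 x = 0 := by simp [hf]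

theorem hf_zero_right (x : Vk m δ) : hf x 0 = 0 := by simp [hf]

theorem star_hf (x y : Vk m δ) : star (hf x y) = hf y x := by
  simp only [hf, star_sum, star_mul', star_star]
  exact (Equiv.sum_comp Fin.revPerm _).symm.trans
    (Finset.sum_congr rfl fun k _ => by simp [mul_comm])

theorem hf_star (x y : Vk m δ) : hf (star x) (star y) = star (hf x y) := by
  simp only [hf, star_sum, star_mul', Pi.star_apply]

theorem hf_ee_left (i : Fin m) (y : Vk m δ) : hf (ee δ i) y = y i.rev := by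
  rw [hf, Finset.sum_eq_single i.rev]
  · simp [ee]
  · intro j _ hj
    have : j.rev ≠ i := fun e => hj (by rw [← e, Fin.rev_rev])
    simp [ee, this]
  · simp

theorem hf_ee_right (x : Vk m δ) (j : Fin m) : hf x (ee δ j) = star (x j.rev) := by
  rw [← star_hf, hf_ee_left]

theorem bk2_adj (A : Mt m δ) (x y : Vk m δ) : hf (A *ᵥ x) y = hf x (adj (bar A) *ᵥ y) := by
  simp only [hf, mulVec, dotProduct, star_sum, star_mul', Finset.sum_mul, Finset.mul_sum, adj_apply,
    bar_apply]
  rw [Finset.sum_comm]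
  refine (Equiv.sum_comp Fin.revPerm _).symm.trans (Finset.sum_congr rfl fun k _ => ?_)
  exact Finset.sum_congr rfl fun j _ => by simp only [Fin.revPerm_apply]; ring

theorem hf_mulVec (s : Sg m δ) (x y : Vk m δ) : hf (mat s *ᵥ x) (mat s *ᵥ y) = hf x y := by
  rw [bk2_adj, ← mat_inv, mulVec_mulVec, ← mat_mul, inv_mul_cancel, mat_one, one_mulVec]

theorem hf_map (a : Fa δ) (x y : Vk m δ) : hf (a.1 ∘ x) (a.1 ∘ y) = a.1 (hf x y) := by
  simp only [hf, Function.comp, map_sum, map_mul]
  exact Finset.sum_congr rfl fun j _ => by rw [a.2]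

theorem bk2_mid (hm : Odd m) : ∃ i : Fin m, i = i.rev := by
  obtain ⟨k, rfl⟩ := hm
  exact ⟨⟨k, by omega⟩, Fin.ext (by simp only [Fin.val_rev]; omega)⟩

theorem bk2_v0 {i : Fin m} (hi : i = i.rev) : v0 m δ = ee δ i := by
  funext j
  have : j = j.rev ↔ j = i := by
    have := i.2
    have := j.2
    simp only [Fin.ext_iff, Fin.val_rev] at hi ⊢
    omega
  simp only [v0, ee, this, Pi.single_apply]

theorem hf_v0 (hm : Odd m) : hf (v0 m δ) (v0 m δ) = 1 := by
  obtain ⟨i, hi⟩ := bk2_mid hm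
  rw [bk2_v0 hi, hf_ee_left, ← hi]
  simp [ee]

theorem v0_even (hm : Even m) : v0 m δ = 0 := by
  funext j
  obtain ⟨k, rfl⟩ := hm
  have : j ≠ j.rev := fun e => by
    have := j.2
    simp only [Fin.ext_iff, Fin.val_rev] at e
    omega
  simp [v0, this]

theorem star_v0 : star (v0 m δ) = v0 m δ := by
  funext j
  simp only [v0, Pi.star_apply]
  split_ifs <;> simp

theorem star_ee (i : Fin m) : star (ee δ i) = ee δ i := by
  funext j
  simp only [ee, Pi.star_apply, Pi.single_apply]
  split_ifs <;> simp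

theorem v0_eq {i : Fin m} (hi : i = i.rev) : v0 m δ = ee δ i := bk2_v0 hi

theorem RV.ee {i : Fin m} (hi : i ≠ i.rev) : RV (ee δ i) := 
  ⟨star_ee i, fun j hj => Pi.single_eq_of_ne (fun e : j = i => hi (e ▸ hj)) _⟩

theorem RV.zero : RV (0 : Vk m δ) := ⟨star_zero _, fun _ _ => rfl⟩

theorem RV.add {x y : Vk m δ} (hx : RV x) (hy : RV y) : RV (x + y) := 
  ⟨by rw [star_add, hx.rat, hy.rat], fun i hi => by rw [Pi.add_apply, hx.mid i hi, hy.mid i hi, add_zero]⟩

theorem RV.smul {x : Vk m δ} (hx : RV x) (c : F) : RV (rt δ c • x) := 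
  ⟨by rw [star_smul, hx.rat, star_rt], fun i hi => by rw [Pi.smul_apply, hx.mid i hi, smul_zero]⟩

theorem RV.bk2_at {x : Vk m δ} (hx : RV x) (i : Fin m) : star (x i) = x i := congrFun hx.rat i

theorem RV.map {x : Vk m δ} (hx : RV x) (a : Fa δ) : RV (a.1 ∘ x) := 
  ⟨funext fun i => by rw [Pi.star_apply, Function.comp, ← a.2, hx.bk2_at],
    fun i hi => by rw [Function.comp, hx.mid i hi, map_zero]⟩

theorem RV.self {x : Vk m δ} (hx : RV x) : hf x x = 0 := by
  refine Finset.sum_involution (fun j _ => j.rev) (fun j _ => ?_) (fun j _ h e => h ?_)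
    (fun _ _ => Finset.mem_univ _) fun j _ => Fin.rev_rev j
  · rw [hx.bk2_at, hx.bk2_at, Fin.rev_rev, mul_comm, k_two]
  · rw [hx.mid j e.symm, mul_zero]

theorem RV.v0_right {x : Vk m δ} (hx : RV x) : hf x (v0 m δ) = 0 := by
  refine Finset.sum_eq_zero fun j _ => ?_
  by_cases e : j = j.rev
  · rw [← e, hx.mid j e, star_zero, zero_mul]
  · simp [v0, e]

theorem RV.v0_left {x : Vk m δ} (hx : RV x) : hf (v0 m δ) x = 0 := by
  rw [← star_hf, hx.v0_right, star_zero]

theorem RV.symm {x y : Vk m δ} (hx : RV x) (hy : RV y) : hf x y = hf y x := by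
  rw [← star_hf, ← hf_star, hx.rat, hy.rat]

/-- `x = a + ω b + l v₀` -/
theorem exists_dec (x : Vk m δ) : ∃ a b, ∃ l : KK δ, RV a ∧ RV b ∧ x = a + om δ • b + l • v0 m δ := by
  refine ⟨fun i => if i = i.rev then 0 else rt δ (x i).re, fun i => if i = i.rev then 0 else rt δ (x i).im,
    hf (v0 m δ) x, ⟨funext fun i => ?_, fun i hi => if_pos hi⟩, ⟨funext fun i => ?_, fun i hi => if_pos hi⟩,
    funext fun i => ?_⟩
  · simp only [Pi.star_apply]
    split_ifs
    exacts [star_zero _, star_rt _]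
  · simp only [Pi.star_apply]
    split_ifs
    exacts [star_zero _, star_rt _]
  · simp only [Pi.add_apply, Pi.smul_apply, smul_eq_mul]
    by_cases e : i = i.rev
    · rw [if_pos e, if_pos e, bk2_v0 e, hf_ee_left, ← e]
      simp [ee]
    · rw [if_neg e, if_neg e, v0, if_neg e, mul_zero, add_zero]
      exact k_dec _

theorem dec_unique {a b a' b' : Vk m δ} {l l' : KK δ} (ha : RV a) (hb : RV b) (ha' : RV a') (hb' : RV b')
    (e : a + om δ • b + l • v0 m δ = a' + om δ • b' + l' • v0 m δ) :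
    a = a' ∧ b = b' ∧ (Odd m → l = l') := by
  have key : ∀ i, a i = a' i ∧ b i = b' i := fun i => by
    by_cases h : i = i.rev
    · rw [ha.mid i h, hb.mid i h, ha'.mid i h, hb'.mid i h]
      exact ⟨rfl, rfl⟩
    · have e1 := congrFun e i
      simp only [Pi.add_apply, Pi.smul_apply, smul_eq_mul, v0, if_neg h, mul_zero, add_zero] at e1
      have e2 := congrArg star e1
      simp only [star_add, star_mul', ha.bk2_at, hb.bk2_at, ha'.bk2_at, hb'.bk2_at, star_om] at e2
      have e3 : b i = b' i := by linear_combination e2 - e1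
      exact ⟨by linear_combination e1 - om δ * e3, e3⟩
  refine ⟨funext fun i => (key i).1, funext fun i => (key i).2, fun hm => ?_⟩
  obtain ⟨i, h⟩ := bk2_mid hm
  have e1 := congrFun e i
  simpa only [Pi.add_apply, Pi.smul_apply, smul_eq_mul, v0, if_pos h, mul_one, ha.mid i h, hb.mid i h,
    ha'.mid i h, hb'.mid i h, mul_zero, zero_add] using e1

theorem ou_mulVec (x y v : Vk m δ) : ou x y *ᵥ v = hf y v • x := by
  funext i
  simp only [ou, mulVec, dotProduct, of_apply, hf, Pi.smul_apply, smul_eq_mul, Finset.sum_mul]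
  exact Finset.sum_congr rfl fun j _ => by ring

theorem ou_mul_ou (x y z w : Vk m δ) : ou x y * ou z w = hf y z • ou x w := by
  ext1 i j
  simp only [ou, mul_apply, of_apply, hf, Matrix.smul_apply, smul_eq_mul, Finset.sum_mul]
  exact Finset.sum_congr rfl fun j _ => by ring

theorem ou_ee (i j : Fin m) : ou (ee δ i) (ee δ j) = Matrix.single i j.rev 1 := by
  ext1 r s
  have : s.rev = j ↔ j.rev = s := ⟨fun e => by rw [← e, Fin.rev_rev], fun e => by rw [← e, Fin.rev_rev]⟩
  simp only [ou, ee, of_apply, Pi.single_apply, single_apply, this, eq_comm (a := r)]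
  by_cases h1 : i = r <;> by_cases h2 : j.rev = s <;> simp [h1, h2]

theorem TM_mulVec (e a v : Vk m δ) (c : KK δ) :
    TM e a c *ᵥ v = v + (hf a v + c * hf e v) • e + hf e v • a := by
  simp only [TM, add_mulVec, one_mulVec, smul_mulVec, ou_mulVec]
  module

theorem bk2_vtwo (a : Vk m δ) : a + a = 0 := funext fun _ => k_two _

theorem bk2_ou_add_left (x y z : Vk m δ) : ou (x + y) z = ou x z + ou y z := by
  ext1 i j; simp only [ou, of_apply, Pi.add_apply, Matrix.add_apply, add_mul]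

theorem bk2_ou_add_right (x y z : Vk m δ) : ou x (y + z) = ou x y + ou x z := by
  ext1 i j; simp only [ou, of_apply, Pi.add_apply, Matrix.add_apply, star_add, mul_add]

theorem bk2_ou_smul_left (l : KK δ) (x y : Vk m δ) : ou (l • x) y = l • ou x y := by
  ext1 i j; simp only [ou, of_apply, Pi.smul_apply, Matrix.smul_apply, smul_eq_mul, mul_assoc]

theorem bk2_ou_smul_right (l : KK δ) (x y : Vk m δ) : ou x (l • y) = star l • ou x y := by
  ext1 i j
  simp only [ou, of_apply, Pi.smul_apply, Matrix.smul_apply, smul_eq_mul, star_mul', mul_left_comm]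

theorem bk2_ou_zero_left (y : Vk m δ) : ou 0 y = 0 := by ext1 i j; simp [ou]

theorem bk2_ou_zero_right (y : Vk m δ) : ou y 0 = 0 := by ext1 i j; simp [ou]

theorem bk2_zero (e : Vk m δ) : TM e 0 0 = 1 := by
  simp only [TM, bk2_ou_zero_left, bk2_ou_zero_right, zero_smul, add_zero]

theorem bk2_mul {e a b : Vk m δ} {c d : KK δ} (h0 : hf e e = 0) (h1 : hf e a = 0) (h2 : hf e b = 0) :
    TM e a c * TM e b d = TM e (a + b) (c + d + hf a b) := by
  have h3 : hf a e = 0 := by rw [← star_hf, h1, star_zero]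
  simp only [TM, add_mul, mul_add, one_mul, mul_one, smul_mul_assoc, mul_smul_comm, ou_mul_ou, h0, h2, h3,
    zero_smul, smul_zero, add_zero, bk2_ou_add_left, bk2_ou_add_right]
  module

theorem bk2_adjT (e a : Vk m δ) (c : KK δ) : adj (TM e a c) = TM (star e) (star a) c := by
  ext1 i j
  simp only [TM, adj_apply, Matrix.add_apply, Matrix.smul_apply, ou, of_apply, one_apply, Fin.rev_inj,
    Fin.rev_rev, Pi.star_apply, star_star, smul_eq_mul, eq_comm (a := j)]
  ring

theorem bk2_barT (e a : Vk m δ) (c : KK δ) : bar (TM e a c) = TM (star e) (star a) (star c) := by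
  ext1 i j
  simp only [TM, bar_apply, Matrix.add_apply, Matrix.smul_apply, ou, of_apply, one_apply,
    Pi.star_apply, smul_eq_mul, star_add, star_mul', apply_ite star, star_one, star_zero]

theorem mat_TS {e a : Vk m δ} {c : KK δ} (h : Ok e a c) : mat (TS e a c) = TM e a c := by
  have h2 := bk2_mul (c := c) (d := c) h.ee h.ea h.ea
  rw [bk2_vtwo] at h2
  have h4 := bk2_mul (c := c + c + hf a a) (d := c + c + hf a a) h.ee (hf_zero_right e) (hf_zero_right e)
  rw [k_two (c + c + hf a a), hf_zero_left, add_zero, add_zero, bk2_zero, ← h2] at h4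
  refine mat_toS (k_pow_one (n := 2) ?_) ?_
  · have := congrArg det h4
    simp only [det_mul, det_one] at this
    rw [← this]
    ring
  · rw [bk2_adjT, bk2_barT, bk2_mul (by rw [hf_star, h.ee, star_zero]) (by rw [hf_star, h.ea, star_zero])
      (by rw [hf_star, h.ea, star_zero]), bk2_vtwo, h.cc, hf_star, star_hf, k_two, bk2_zero]

theorem Ok.add {e a b : Vk m δ} {c d : KK δ} (h : Ok e a c) (h' : Ok e b d) : Ok e (a + b) (c + d + hf a b) := by
  refine ⟨h.ee, by rw [hf_add_right, h.ea, h'.ea, add_zero], ?_⟩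
  rw [hf_add_left, hf_add_right, hf_add_right, ← h.cc, ← h'.cc, star_add, star_add, star_hf]
  ring

theorem Ok.inv {e a : Vk m δ} {c : KK δ} (h : Ok e a c) : Ok e a (star c) := 
  ⟨h.ee, h.ea, by rw [star_star, add_comm, h.cc]⟩

theorem Ok.conj {e a : Vk m δ} {c : KK δ} (h : Ok e a c) (s : Sg m δ) : Ok (mat s *ᵥ e) (mat s *ᵥ a) c := 
  ⟨by rw [hf_mulVec, h.ee], by rw [hf_mulVec, h.ea], by rw [hf_mulVec, h.cc]⟩

theorem Ok.map {e a : Vk m δ} {c : KK δ} (h : Ok e a c) (b : Fa δ) : Ok (b.1 ∘ e) (b.1 ∘ a) (b.1 c) := 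
  ⟨by rw [hf_map, h.ee, map_zero], by rw [hf_map, h.ea, map_zero], by rw [hf_map, ← h.cc, map_add, b.2]⟩

theorem Ok.rv {e a : Vk m δ} (he : RV e) (ha : RV a) (h : hf e a = 0) (c : F) : Ok e a (rt δ c) := 
  ⟨he.self, h, by rw [star_rt, k_two, ha.self]⟩

theorem Ok.z {e : Vk m δ} (he : RV e) : Ok e 0 1 := 
  ⟨he.self, hf_zero_right _, by rw [star_one, k_two, hf_zero_left]⟩

theorem Ok.w {e a : Vk m δ} (he : RV e) (ha : RV a) (h : hf e a = 0) : Ok e (om δ • a) 0 := 
  ⟨he.self, by rw [hf_smul_right, h, mul_zero],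
    by rw [star_zero, add_zero, hf_smul_right, hf_smul_left, ha.self, mul_zero, mul_zero]⟩

theorem Ok.u (hm : Odd m) {e : Vk m δ} (he : RV e) : Ok e (v0 m δ) (om δ) := 
  ⟨he.self, he.v0_right, by rw [star_om, hf_v0 hm, ← add_assoc, k_two, zero_add]⟩

theorem exists_ok {e a : Vk m δ} (h1 : hf e e = 0) (h2 : hf e a = 0) : ∃ c, Ok e a c := by
  refine ⟨om δ * hf a a, h1, h2, ?_⟩
  rw [star_mul', star_hf, star_om, ← add_mul, ← add_assoc, k_two, zero_add, one_mul]

theorem TS_mul {e a b : Vk m δ} {c d : KK δ} (h : Ok e a c) (h' : Ok e b d) :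
    TS e a c * TS e b d = TS e (a + b) (c + d + hf a b) := 
  mat_inj (by rw [mat_mul, mat_TS h, mat_TS h', mat_TS (h.add h'), bk2_mul h.ee h.ea h'.ea])

theorem bk2_toS : toS (1 : Mt m δ) = 1 :=
  mat_inj (mat_toS det_one (by rw [adj_one, bar_one, mul_one]))

theorem TS_zero (e : Vk m δ) : TS e 0 0 = 1 := by
  rw [TS, bk2_zero, bk2_toS]

theorem TS_zero_left (a : Vk m δ) (c : KK δ) : TS 0 a c = 1 := by
  have : TM 0 a c = 1 := by simp only [TM, bk2_ou_zero_left, bk2_ou_zero_right, smul_zero, add_zero]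
  rw [TS, this, bk2_toS]

theorem TS_inv {e a : Vk m δ} {c : KK δ} (h : Ok e a c) : (TS e a c)⁻¹ = TS e a (star c) := by
  rw [inv_eq_iff_mul_eq_one, TS_mul h h.inv, bk2_vtwo, h.cc, k_two, TS_zero]

theorem TS_pow {e a : Vk m δ} {c : KK δ} (h : Ok e a c) : TS e a c ^ 2 ^ 2 = 1 := by
  have h2 := h.add h
  rw [show TS e a c ^ 2 ^ 2 = TS e a c * TS e a c * (TS e a c * TS e a c) by
    rw [show 2 ^ 2 = 2 + 2 from rfl, pow_add, pow_two], TS_mul h h, TS_mul h2 h2, bk2_vtwo, k_two,
    bk2_vtwo, hf_zero_left, add_zero, TS_zero]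

theorem bk2_ou_conj (s : Sg m δ) (x y : Vk m δ) :
    mat s * ou x y * mat s⁻¹ = ou (mat s *ᵥ x) (mat s *ᵥ y) := by
  refine Matrix.toLin'.injective (LinearMap.ext fun v => ?_)
  simp only [toLin'_apply, ← mulVec_mulVec, ou_mulVec, mulVec_smul, bk2_adj, mat_inv]

theorem TS_conj {e a : Vk m δ} {c : KK δ} (h : Ok e a c) (s : Sg m δ) :
    s * TS e a c * s⁻¹ = TS (mat s *ᵥ e) (mat s *ᵥ a) c := by
  refine mat_inj ?_
  rw [mat_mul, mat_mul, mat_TS h, mat_TS (h.conj s)]
  have e1 : mat s * mat s⁻¹ = 1 := by rw [← mat_mul, mul_inv_cancel, mat_one]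
  simp only [TM, mul_add, add_mul, mul_one, e1, mul_smul_comm, smul_mul_assoc, bk2_ou_conj]

theorem mp_TS {e a : Vk m δ} {c : KK δ} (h : Ok e a c) (b : Fa δ) :
    mp b (TS e a c) = TS (b.1 ∘ e) (b.1 ∘ a) (b.1 c) := by
  refine mat_inj ?_
  rw [mat_mp, mat_TS h, mat_TS (h.map b)]
  ext1 i j
  have := b.2
  simp only [TM, map_apply, Matrix.add_apply, Matrix.smul_apply, ou, of_apply, one_apply, Function.comp,
    smul_eq_mul, map_add, map_mul, apply_ite b.1, map_one, map_zero, b.2 _]

theorem sb_TS {e a : Vk m δ} {c : KK δ} (h : Ok e a c) : sb (TS e a c) = TS (star e) (star a) (star c) := mp_TS h (bA δ)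

theorem TS_smul (l : KK δ) (e a : Vk m δ) (c : KK δ) :
    TS (l • e) a c = TS e (star l • a) (l * star l * c) := by
  rw [TS, TS]
  congr 1
  simp only [TM, bk2_ou_smul_left, bk2_ou_smul_right, star_star]
  module

theorem TS_shift (l : KK δ) (e a : Vk m δ) (c : KK δ) : TS e (a + l • e) c = TS e a (c + l + star l) := by
  rw [TS, TS]
  congr 1
  simp only [TM, bk2_ou_smul_left, bk2_ou_smul_right, bk2_ou_add_left, bk2_ou_add_right]
  module

theorem TS_symm (e a : Vk m δ) : TS e a 0 = TS a e 0 := by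
  rw [TS, TS]
  congr 1
  simp only [TM, zero_smul, add_zero]
  abel

theorem TS_line {e e' a : Vk m δ} {c : KK δ} (h : Ok e a c) (h' : Ok e' a c) (he : hf e e' = 0) :
    TS (e + e') a c = TS e a c * TS e' a c * TS e (c • e') 0 := by
  have he' : hf e' e = 0 := by rw [← star_hf, he, star_zero]
  have ha : hf a e = 0 := by rw [← star_hf, h.ea, star_zero]
  have ha' : hf a e' = 0 := by rw [← star_hf, h'.ea, star_zero]
  have k1 : Ok (e + e') a c :=
    ⟨by rw [hf_add_left, hf_add_right, hf_add_right, h.ee, h'.ee, he, he', add_zero, add_zero],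
      by rw [hf_add_left, h.ea, h'.ea, add_zero], h.cc⟩
  have k2 : Ok e (c • e') 0 :=
    ⟨h.ee, by rw [hf_smul_right, he, mul_zero],
      by rw [star_zero, add_zero, hf_smul_right, hf_smul_left, h'.ee, mul_zero, mul_zero]⟩
  refine mat_inj ?_
  rw [mat_mul, mat_mul, mat_TS h, mat_TS h', mat_TS k1, mat_TS k2]
  simp only [TM, add_mul, mul_add, one_mul, mul_one, smul_mul_assoc, mul_smul_comm, ou_mul_ou, h.ee, h.ea,
    h'.ee, he, he', ha, ha', zero_smul, smul_zero, add_zero, bk2_ou_add_left, bk2_ou_add_right,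
    bk2_ou_smul_left, bk2_ou_smul_right, ← h.cc]
  have : star c • ou e e' + star c • ou e e' = 0 := by rw [← add_smul, k_two, zero_smul]
  rw [← sub_eq_zero, ← neg_zero, ← this]
  module

theorem TS_rat {e a : Vk m δ} {c : KK δ} (h : Ok e a c) (he : star e = e) (ha : star a = a) (hc : star c = c) :
    TS e a c ∈ Rat m δ := by
  change sb (TS e a c) = TS e a c
  rw [sb_TS h, he, ha, hc]

/-- membership in the chain -/
theorem TS_mem {i : Fin m} {a : Vk m δ} {c : KK δ} {h : ℕ} (k : Ok (ee δ i) a c)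
    (h1 : ∀ j : Fin m, (j.rev : ℕ) < i + (h + 1) → a j = 0) (h2 : (i.rev : ℕ) < i + (h + 1) → c = 0) :
    TS (ee δ i) a c ∈ Mh m δ h := by
  change mat (TS (ee δ i) a c) - 1 ∈ Nn m δ (h + 1)
  rw [mat_TS k]
  intro r j hj
  have t1 : ee δ i r * star (a j.rev) = 0 := by
    by_cases e : r = i
    · rw [h1 j.rev (by rw [Fin.rev_rev, ← e]; exact hj), star_zero, mul_zero]
    · rw [ee, Pi.single_eq_of_ne e, zero_mul]
  have t2 : a r * star (ee δ i j.rev) = 0 := by
    by_cases e : j.rev = i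
    · rw [h1 r ?_, zero_mul]
      have := r.2
      have := j.2
      simp only [← e, Fin.val_rev]
      omega
    · rw [ee, Pi.single_eq_of_ne e, star_zero, mul_zero]
  have t3 : c * (ee δ i r * star (ee δ i j.rev)) = 0 := by
    by_cases e : r = i
    · by_cases e' : j.rev = i
      · rw [h2 (by rw [← e', Fin.rev_rev, e', ← e]; exact hj), zero_mul]
      · rw [ee, Pi.single_eq_of_ne e', star_zero, mul_zero, mul_zero]
    · rw [ee, Pi.single_eq_of_ne e, zero_mul, mul_zero]
  simp only [TM, Matrix.sub_apply, Matrix.add_apply, Matrix.smul_apply, ou, of_apply, smul_eq_mul, t1, t2,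
    t3, add_zero, sub_self]

theorem z_inj {e e' : Vk m δ} (he : RV e) (he' : RV e') (k : TS e 0 1 = TS e' 0 1) : e = e' := by
  have k1 := congrArg mat k
  rw [mat_TS (Ok.z he), mat_TS (Ok.z he')] at k1
  simp only [TM, bk2_ou_zero_left, bk2_ou_zero_right, add_zero, one_smul, add_right_inj] at k1
  funext i
  have k2 := congrFun (congrFun k1 i) i.rev
  simp only [ou, of_apply, Fin.rev_rev, he.bk2_at, he'.bk2_at] at k2
  have k3 : e i + e' i = 0 :=
    k_sq_zero (by linear_combination k2 + k_two (e i * e' i) + k_two (e' i * e' i))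
  linear_combination k3 - k_two (e' i)

end CfsgLib.SP4.BC
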