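import Cfsg.Agent.Lib.SP4.BBas2

/-! The linearity conditions of `GrData` -/

set_option autoImplicit false
set_option linter.unusedSectionVars false

namespace CfsgLib.SP4.BC

open Subgroup Module Matrix CfsgLib.UFP
open scoped commutatorElement Pointwise

universe u

variable {F : Type} [Field F] [Finite F] [CharP F 2] [Fact (2 < Nat.card F)] {m : ℕ} {δ : F} {G : Type u} [Group G] [Finite G]

theorem blin_ms (A : Mt m δ) (i j p q : Fin m) :
    (A * Matrix.single i j 1 : Mt m δ) p q = if q = j then A p i else 0 := by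
  split_ifs with e
  · rw [e, mul_single_apply_same, mul_one]
  · exact mul_single_apply_of_ne _ _ _ _ _ e _

theorem blin_sm (A : Mt m δ) (i j p q : Fin m) :
    (Matrix.single i j 1 * A : Mt m δ) p q = if p = i then A j q else 0 := by
  split_ifs with e
  · rw [e, single_mul_apply_same, one_mul]
  · exact single_mul_apply_of_ne _ _ _ _ _ e _

theorem blin_single {h : ℕ} {i j : Fin m} (e : i + h ≤ j) : (Matrix.single i j 1 : Mt m δ) ∈ Nn m δ h :=
  fun p q k => single_apply_of_ne _ _ _ _ _ fun e' => by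
    rw [← e'.1, ← e'.2] at k
    omega

/-- the commutators with `E_ij` and `E_{j* i*}` overlap only on the antidiagonal -/
theorem blin_off {A : Mt m δ} {i j p q : Fin m} (hne : j ≠ i.rev) (hpq : q ≠ p.rev)
    (h : (A * (Matrix.single i j 1 + Matrix.single j.rev i.rev 1) -
      (Matrix.single i j 1 + Matrix.single j.rev i.rev 1) * A : Mt m δ) p q = 0) :
    (A * Matrix.single i j 1 - Matrix.single i j 1 * A : Mt m δ) p q = 0 := by
  rw [mul_add, add_mul, Matrix.sub_apply, Matrix.add_apply, Matrix.add_apply, blin_ms, blin_ms, blin_sm,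
    blin_sm] at h
  rw [Matrix.sub_apply, blin_ms, blin_sm]
  by_cases e : q = j ∨ p = i
  · rwa [if_neg (c := q = i.rev), if_neg (c := p = j.rev), add_zero, add_zero] at h
    · rintro rfl
      rcases e with e | e
      · exact hpq (by rw [e, Fin.rev_rev])
      · exact hne (by rw [← e, Fin.rev_rev])
    · rintro rfl
      rcases e with e | e
      · exact hne e.symm
      · exact hpq (by rw [e])
  · rw [not_or] at e
    rw [if_neg e.1, if_neg e.2, sub_zero]

theorem blin_sum {A N : Mt m δ} {h : ℕ} (hN : N ∈ Nn m δ h) {p q : Fin m}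
    (hs : ∀ i j : Fin m, i + h ≤ j → (A * Matrix.single i j 1 - Matrix.single i j 1 * A : Mt m δ) p q = 0) :
    (A * N - N * A) p q = 0 := by
  rw [matrix_eq_sum_single N]
  simp only [Finset.mul_sum, Finset.sum_mul, ← Finset.sum_sub_distrib, Matrix.sum_apply]
  refine Finset.sum_eq_zero fun i _ => Finset.sum_eq_zero fun j _ => ?_
  by_cases e : (j : ℕ) < i + h
  · simp [hN i j e]
  · rw [show Matrix.single i j (N i j) = N i j • (Matrix.single i j 1 : Mt m δ) by simp, mul_smul_comm,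
      smul_mul_assoc, ← smul_sub, Matrix.smul_apply, hs i j (by omega), smul_zero]

theorem blin_ee (b : Fa δ) (i : Fin m) : b.1 ∘ ee δ i = ee δ i := by
  funext j
  simp only [ee, Function.comp, Pi.single_apply]
  split_ifs <;> simp

/-- the elements `z_r(1)` -/
theorem blin_z {k : ℕ} {r : Fin m} (hr : r + (k + 1) ≤ r.rev) : ∃ y ∈ Mh m δ k, sb y * y⁻¹ ∈ Mh m δ (k + 1) ∧
    ∀ b : Fa δ, mat (mp b y) = 1 + Matrix.single r r.rev 1 := by
  have o : Ok (ee δ r) 0 1 := Ok.z (RV.ee fun e => by have := congrArg Fin.val e; omega)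
  have e : ∀ b : Fa δ, mp b (TS (ee δ r) 0 1) = TS (ee δ r) 0 1 := fun b => by
    rw [mp_TS o, blin_ee, map_one]
    congr 1
    exact funext fun _ => map_zero _
  have e1 : mat (TS (ee δ r) 0 1) = 1 + Matrix.single r r.rev 1 := by
    rw [mat_TS o, TM, bk2_ou_zero_left, bk2_ou_zero_right, add_zero, add_zero, one_smul, ou_ee]
  refine ⟨TS (ee δ r) 0 1, ?_, by rw [sb, e, mul_inv_cancel]; exact one_mem _, fun b => by rw [e, e1]⟩
  change mat _ - 1 ∈ Nn m δ (k + 1)
  rw [e1, add_sub_cancel_left]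
  exact blin_single hr

theorem blin_r0 {k : ℕ} {i j : Fin m} (hij : i + (k + 1) ≤ j) (hi : i ≠ i.rev) :
    ∃ y ∈ Mh m δ k, sb y * y⁻¹ ∈ Mh m δ (k + 1) ∧ ∃ c : KK δ, (c = 0 ∨ i + (k + 1) ≤ i.rev) ∧
      ∀ b : Fa δ, mat (mp b y) = 1 + (Matrix.single i j 1 + Matrix.single j.rev i.rev 1) +
        b.1 c • Matrix.single i i.rev 1 := by
  obtain ⟨c, o, hc⟩ : ∃ c : KK δ, Ok (ee δ i) (ee δ j.rev) c ∧ (c = 0 ∨ i + (k + 1 + 1) ≤ i.rev) := by
    by_cases e : j = j.rev
    · have e1 := congrArg Fin.val e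
      have := j.2
      simp only [Fin.val_rev] at e1
      refine ⟨om δ, ?_, .inr (by simp only [Fin.val_rev]; omega)⟩
      rw [← e, ← v0_eq e]
      exact Ok.u ⟨j, by omega⟩ (RV.ee hi)
    · refine ⟨0, ?_, .inl rfl⟩
      have := Ok.rv (δ := δ) (RV.ee hi) (RV.ee (i := j.rev) fun e' => e (Fin.rev_injective e')) (by
        rw [hf_ee_left, ee, Pi.single_eq_of_ne fun e' => by
          have := congrArg Fin.val (Fin.rev_injective e'); omega]) 0
      rwa [map_zero] at this
  have e : ∀ b : Fa δ, mat (mp b (TS (ee δ i) (ee δ j.rev) c)) =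
      1 + (Matrix.single i j 1 + Matrix.single j.rev i.rev 1) + b.1 c • Matrix.single i i.rev 1 := fun b => by
    have o' := o.map b
    rw [mp_TS o, mat_TS o', blin_ee, blin_ee, TM, ou_ee, ou_ee, ou_ee, Fin.rev_rev, add_assoc 1]
  have e1 := e 1
  rw [mp_one] at e1
  have hy : TS (ee δ i) (ee δ j.rev) c ∈ Mh m δ k := by
    change mat _ - 1 ∈ Nn m δ (k + 1)
    rw [e1, add_assoc, add_sub_cancel_left]
    refine add_mem (add_mem (blin_single hij) (blin_single ?_)) ?_
    · have := i.2; have := j.2; simp only [Fin.val_rev]; omega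
    · rcases hc with hc | hc
      · rw [hc, map_zero, zero_smul]; exact zero_mem _
      · exact Submodule.smul_mem _ _ (blin_single (by omega))
  refine ⟨_, hy, (Mh_iff (Mh_anti (Nat.zero_le _) hy)).2 ?_, c, hc.imp_right fun _ => by omega, e⟩
  rw [sb, e, e1, add_sub_add_left_eq_sub, ← sub_smul]
  rcases hc with hc | hc
  · rw [hc, map_zero, map_zero, sub_zero, zero_smul]; exact zero_mem _
  · exact Submodule.smul_mem _ _ (blin_single hc)

/-- the elements `r_ij(1)` -/
theorem blin_r {k : ℕ} {i j : Fin m} (hij : i + (k + 1) ≤ j) :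
    ∃ y ∈ Mh m δ k, sb y * y⁻¹ ∈ Mh m δ (k + 1) ∧ ∃ (r : Fin m) (c : KK δ), (c = 0 ∨ r + (k + 1) ≤ r.rev) ∧
      ∀ b : Fa δ, mat (mp b y) = 1 + (Matrix.single i j 1 + Matrix.single j.rev i.rev 1) +
        b.1 c • Matrix.single r r.rev 1 := by
  by_cases hi : i = i.rev
  · have e1 := congrArg Fin.val hi
    have := i.2
    have := j.2
    simp only [Fin.val_rev] at e1
    obtain ⟨y, h1, h2, c, h3, h4⟩ := blin_r0 (δ := δ) (k := k) (i := j.rev) (j := i.rev)
      (by simp only [Fin.val_rev]; omega) fun e => by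
        have := congrArg Fin.val e; simp only [Fin.val_rev] at this; omega
    refine ⟨y, h1, h2, j.rev, c, h3, fun b => ?_⟩
    rw [h4, Fin.rev_rev, Fin.rev_rev, add_comm (Matrix.single j.rev i.rev 1)]
  · obtain ⟨y, h1, h2, c, h3, h4⟩ := blin_r0 (δ := δ) hij hi
    exact ⟨y, h1, h2, i, c, h3, h4⟩

/-- `lin` inside `Σ` -/
theorem blin_lin {k k' : ℕ} {x a : Sg m δ} (hx : x ∈ Mh m δ k) (ha : a ∈ Mh m δ 0) (a2 : a * a ∈ Mh m δ k')
    (h1 : ∀ y ∈ Mh m δ k, sb y * y⁻¹ ∈ Mh m δ (k + 1) → mat a * mat y - mat y * mat a ∈ Nn m δ (k' + 1))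
    (h2 : mat a * mat x - mat x * bar (mat a) ∈ Nn m δ (k' + 1)) :
    mat a - bar (mat a) ∈ Nn m δ (k' + 1) := by
  have hz : ∀ r : Fin m, r + (k + 1) ≤ r.rev →
      mat a * Matrix.single r r.rev 1 - Matrix.single r r.rev 1 * mat a ∈ Nn m δ (k' + 1) := fun r hr => by
    obtain ⟨y, y1, y2, y3⟩ := blin_z (δ := δ) hr
    have := h1 y y1 y2
    rw [← mp_one y, y3] at this
    convert this using 1
    noncomm_ring
  have hD : ∀ p q : Fin m, (q : ℕ) < p + (k' + 1) → q ≠ p.rev →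
      (mat a * (mat x - 1) - (mat x - 1) * mat a) p q = 0 := fun p q hq hpq =>
    blin_sum hx fun i j hij => by
      by_cases e : j = i.rev
      · subst e
        exact hz i hij p q hq
      refine blin_off e hpq ?_
      obtain ⟨y, y1, y2, r, c, hc, y3⟩ := blin_r (δ := δ) hij
      have h3 := h1 y y1 y2
      rw [← mp_one y, y3] at h3
      have h4 : (1 : Fa δ).1 c • (mat a * Matrix.single r r.rev 1 - Matrix.single r r.rev 1 * mat a) ∈
          Nn m δ (k' + 1) := by
        rcases hc with hc | hc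
        · rw [hc, map_zero, zero_smul]; exact zero_mem _
        · exact Submodule.smul_mem _ _ (hz r hc)
      refine Eq.trans (congrFun (congrFun ?_ p) q) (sub_mem h3 h4 p q hq)
      simp only [mul_add, add_mul, mul_one, one_mul, smul_sub, mul_smul_comm, smul_mul_assoc]
      abel
  obtain ⟨D, eD⟩ : ∃ D, mat a * (mat x - 1) - (mat x - 1) * mat a = D := ⟨_, rfl⟩
  rw [eD] at hD
  have b1 : bar (mat a) - adj (mat a) ∈ Nn m δ (k' + 1) := by
    have h3 : bar (mat a) * bar (mat a) - 1 ∈ Nn m δ (k' + 1) := by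
      rw [← bar_mul]; exact mp_Mh (bA δ) a2
    have h4 := Nn_mul (Nn_adj (bb_N0 ha)) h3
    rwa [zero_add, mul_sub, ← mul_assoc, mat_unit, one_mul, mul_one] at h4
  have x0 := Mh_anti (Nat.zero_le _) hx
  have b2 : adj (mat a) - mat a - mat x⁻¹ * D ∈ Nn m δ (k' + 1) := by
    have h3 := Nn_mul (bb_N0 (inv_mem x0)) h2
    have h4 : mat x⁻¹ * mat x = 1 := by rw [← mat_mul, inv_mul_cancel, mat_one]
    rw [zero_add] at h3
    convert neg_mem (add_mem h3 b1) using 1
    rw [← eD, show mat a * (mat x - 1) - (mat x - 1) * mat a = mat a * mat x - mat x * mat a by noncomm_ring,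
      mul_sub, mul_sub, ← mul_assoc _ (mat x), ← mul_assoc _ (mat x), h4, one_mul, one_mul]
    abel
  have b3 : D ∈ Nn m δ (k' + 1) := fun p q hq => by
    by_cases e : q = p.rev
    swap
    · exact hD p q hq e
    have h3 := b2 p q hq
    rw [Matrix.sub_apply, Matrix.sub_apply, adj_apply, e, Fin.rev_rev, sub_self, zero_sub, neg_eq_zero,
      mul_apply, Finset.sum_eq_single p] at h3
    · have h4 : (mat x⁻¹ - 1) p p = 0 := inv_mem x0 p p (by omega)
      rw [Matrix.sub_apply, one_apply_eq, sub_eq_zero] at h4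
      rwa [h4, one_mul, ← e] at h3
    · intro l _ hl
      by_cases e' : (l : ℕ) < p
      · rw [bb_N0 (inv_mem x0) p l e', zero_mul]
      · rw [hD l p.rev (by rw [← e]; omega) fun e'' => hl (Fin.rev_injective e'').symm, mul_zero]
    · simp
  have h3 := Nn_mul (bb_N0 (inv_mem x0)) b3
  rw [zero_add] at h3
  convert neg_mem (add_mem (add_mem b2 h3) b1) using 1
  abel

/-- a matrix commuting with `E_{r r*}` -/
theorem blin_diag {A : Mt m δ} {r : Fin m} (e : A * Matrix.single r r.rev 1 = Matrix.single r r.rev 1 * A) :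
    (∀ p, p ≠ r → A p r = 0) ∧ ∀ q, q ≠ r.rev → A r.rev q = 0 := by
  refine ⟨fun p hp => ?_, fun q hq => ?_⟩
  · have := congrFun (congrFun e p) r.rev
    rwa [blin_ms, blin_sm, if_pos rfl, if_neg hp] at this
  · have := congrFun (congrFun e r) q
    rw [blin_ms, blin_sm, if_pos rfl, if_neg hq] at this
    exact this.symm

/-- `lin2` inside `Σ` -/
theorem blin_lin2 {k : ℕ} {M : Sg m δ} {b : Fa δ}
    (h1 : ∀ y ∈ Mh m δ k, sb y * y⁻¹ ∈ Mh m δ (k + 1) → M * mp b y = y * M) {s : Sg m δ}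
    (hs : s ∈ Mh m δ k) : M * s * M⁻¹ ∈ Mh m δ k := by
  have hz : ∀ r : Fin m, r + (k + 1) ≤ r.rev →
      mat M * Matrix.single r r.rev 1 = Matrix.single r r.rev 1 * mat M := fun r hr => by
    obtain ⟨y, y1, y2, y3⟩ := blin_z (δ := δ) hr
    have := congrArg mat (h1 y y1 y2)
    rw [mat_mul, mat_mul, y3, ← mp_one y, y3, mul_add, add_mul, mul_one, one_mul] at this
    exact add_left_cancel this
  have i1 : mat M * mat M⁻¹ = 1 := by rw [← mat_mul, mul_inv_cancel, mat_one]
  have i2 : mat M⁻¹ * mat M = 1 := by rw [← mat_mul, inv_mul_cancel, mat_one]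
  have hD : ∀ p q : Fin m, q ≠ p.rev ∨ (p.rev : ℕ) < p + (k + 1) →
      (mat M * (mat s - 1) - (mat s - 1) * mat M) p q = 0 := fun p q hq =>
    blin_sum hs fun i j hij => by
      by_cases e : j = i.rev
      · subst e
        rw [hz i hij, sub_self, Matrix.zero_apply]
      by_cases hpq : q = p.rev
      · have h2 := hq.resolve_left (not_not.2 hpq)
        have := i.2
        have := j.2
        simp only [Fin.val_rev] at h2
        rw [Matrix.sub_apply, blin_ms, blin_sm]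
        have a1 : (if q = j then mat M p i else 0) = 0 := by
          split_ifs with e1
          · have e2 : (p : ℕ) = m - (j + 1) := by rw [← Fin.val_rev, ← e1, hpq, Fin.rev_rev]
            exact (blin_diag (hz i (by simp only [Fin.val_rev]; omega))).1 p fun e3 =>
              e (by rw [← e1, hpq, e3])
          · rfl
        have a2 : (if p = i then mat M j q else 0) = 0 := by
          split_ifs with e1
          · subst e1
            have := (blin_diag (hz j.rev (by simp only [Fin.val_rev]; omega))).2 q (by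
              rw [Fin.rev_rev, hpq]; exact Ne.symm e)
            rwa [Fin.rev_rev] at this
          · rfl
        rw [a1, a2, sub_zero]
      refine blin_off e hpq ?_
      obtain ⟨y, y1, y2, r, c, hc, y3⟩ := blin_r (δ := δ) hij
      have h3 := congrArg mat (h1 y y1 y2)
      rw [mat_mul, mat_mul, y3, ← mp_one y, y3] at h3
      have h4 : mat M * (Matrix.single i j 1 + Matrix.single j.rev i.rev 1) -
          (Matrix.single i j 1 + Matrix.single j.rev i.rev 1) * mat M =
          (1 : Fa δ).1 c • (Matrix.single r r.rev 1 * mat M) - b.1 c • (mat M * Matrix.single r r.rev 1) := by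
        rw [mul_add, mul_add, add_mul, add_mul, mul_one, one_mul, mul_smul_comm, smul_mul_assoc, add_assoc,
          add_assoc, add_right_inj] at h3
        rw [sub_eq_sub_iff_add_eq_add, h3, add_comm]
      rw [h4]
      rcases hc with hc | hc
      · simp [hc]
      · rw [hz r hc, ← sub_smul, Matrix.smul_apply, blin_sm]
        split_ifs with e1
        · rw [(blin_diag (hz r hc)).2 q (e1 ▸ hpq), smul_zero]
        · rw [smul_zero]
  obtain ⟨D, eD⟩ : ∃ D, mat M * (mat s - 1) - (mat s - 1) * mat M = D := ⟨_, rfl⟩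
  rw [eD] at hD
  change mat M * mat s * mat M⁻¹ - 1 ∈ Nn m δ (k + 1)
  have e1 : mat M * mat s * mat M⁻¹ - 1 = mat s - 1 + D * mat M⁻¹ := by
    rw [← eD, sub_mul, mul_assoc (mat s - 1), i1, mul_one, mul_sub, sub_mul, mul_one, i1]
    abel
  rw [e1]
  refine add_mem hs fun p q hq => ?_
  rw [mul_apply]
  refine Finset.sum_eq_zero fun l _ => ?_
  by_cases e : l ≠ p.rev ∨ (p.rev : ℕ) < p + (k + 1)
  · rw [hD p l e, zero_mul]
  · rw [not_or, not_not, not_lt] at e
    have h2 : mat M⁻¹ * Matrix.single p p.rev 1 = Matrix.single p p.rev 1 * mat M⁻¹ := by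
      rw [← mul_one (mat M⁻¹ * _), ← i1, ← mul_assoc, mul_assoc (mat M⁻¹), ← hz p e.2, ← mul_assoc, i2,
        one_mul]
    rw [e.1, (blin_diag h2).2 q fun e' => by rw [e'] at hq; omega, mul_zero]

namespace MM

variable {ψ : Sg m δ →* G} {t : G} (h : MM ψ t)
include h

theorem lin {i j : ℕ} (hi : i < m - 1) (hj : j ≤ i) {x a : G} (hx : x ∈ Mc ψ (i + 1)) (ha : a ∈ Uh ψ)
    (a2 : a * a ∈ Mc ψ j)
    (h1 : ∀ y ∈ Mc ψ (i + 1), t * y * t⁻¹ * y⁻¹ ∈ Mc ψ i → a * y * a⁻¹ * y⁻¹ ∈ Mc ψ j)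
    (h2 : a * (x * t) * a⁻¹ * (x * t)⁻¹ ∈ Mc ψ j) : a * t * a⁻¹ * t⁻¹ ∈ Mc ψ j := by
  obtain ⟨x, hx, rfl⟩ := hx
  obtain ⟨a, ha, rfl⟩ := ha
  have e0 : m - 1 - i = m - 1 - (i + 1) + 1 := by omega
  have x0 := Mh_anti (Nat.zero_le _) hx
  have sa : sb a ∈ Mh m δ 0 := mp_Mh _ ha
  have key := blin_lin (k' := m - 1 - j) hx ha
    ((h.mem_Mh (Mh_pow (mul_mem ha ha))).1 (by rw [map_mul]; exact a2))
    (fun y hy k => by
      have y0 := Mh_anti (Nat.zero_le _) hy
      rw [← mat_mul, ← mat_mul, ← Mh_iff (mul_mem y0 ha),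
        ← h.mem_Mh (Mh_pow (mul_mem (mul_mem ha y0) (inv_mem (mul_mem y0 ha))))]
      have := h1 _ ⟨y, hy, rfl⟩ ⟨_, e0 ▸ k, by rw [h.tc, map_mul, map_inv]⟩
      simpa only [map_mul, map_inv, _root_.mul_inv_rev, mul_assoc, Mc] using this)
    (by
      rw [← mat_sb, ← mat_mul, ← mat_mul, ← Mh_iff (mul_mem x0 sa),
        ← h.mem_Mh (Mh_pow (mul_mem (mul_mem ha x0) (inv_mem (mul_mem x0 sa))))]
      have e1 : ψ (a * x * (x * sb a)⁻¹) = ψ a * (ψ x * t) * (ψ a)⁻¹ * (ψ x * t)⁻¹ := by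
        simp only [map_mul, map_inv, ← h.tc]
        group
      rw [e1]
      exact h2)
  rw [← mat_sb, ← Mh_iff sa] at key
  refine ⟨_, key, ?_⟩
  simp only [map_mul, map_inv, ← h.tc]
  group

theorem lin2 {i : ℕ} (hi : i < m - 1) {x g u : G} (hx : x ∈ Mc ψ (i + 1)) (hu : u ∈ Uh ψ)
    (h1 : ∀ y ∈ Mc ψ (i + 1), t * y * t⁻¹ * y⁻¹ ∈ Mc ψ i → y * g = g * y) (h2 : x * t * g = g * (x * t))
    (e : g * t * g⁻¹ = u * t * u⁻¹) : t⁻¹ * (g * t * g⁻¹) ∈ Mc ψ (i + 1) := by
  obtain ⟨x, hx, rfl⟩ := hx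
  obtain ⟨u, -, rfl⟩ := hu
  have e0 : m - 1 - i = m - 1 - (i + 1) + 1 := by omega
  obtain ⟨l, -, b, hb⟩ := h.act (g := (ψ u)⁻¹ * g) (by
    calc _ = (ψ u)⁻¹ * (g * t * g⁻¹) * g := by group
      _ = _ := by rw [e]; group)
  have hg : ∀ s, g * ψ s * g⁻¹ = ψ (u * l * mp b s * (u * l)⁻¹) := fun s => by
    have := hb s
    simp only [map_mul, map_inv] at this ⊢
    calc _ = ψ u * ((ψ u)⁻¹ * g * ψ s * ((ψ u)⁻¹ * g)⁻¹) * (ψ u)⁻¹ := by group
      _ = _ := by rw [this]; group
  have key := blin_lin2 (M := u * l) (b := b) (fun y hy k => by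
    have y0 := Mh_pow (Mh_anti (Nat.zero_le _) hy)
    have h3 := h1 _ ⟨y, hy, rfl⟩ ⟨_, e0 ▸ k, by rw [h.tc, map_mul, map_inv]⟩
    rw [← mul_inv_eq_iff_eq_mul]
    refine h.inj2 (n := m) (by rw [← hg, ← h3, mul_inv_cancel_right]) ?_ y0
    rw [conj_pow, ← map_pow, y0, map_one, mul_one, mul_inv_cancel]) (mp_Mh b hx)
  refine ⟨sb ((u * l * mp b x * (u * l)⁻¹)⁻¹ * x), mp_Mh _ (mul_mem (inv_mem key) hx), ?_⟩
  have tt : t⁻¹ = t := inv_eq_of_mul_eq_one_right h.t2
  rw [← h.tc, map_mul, map_inv, ← hg, tt]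
  calc _ = t * (g * (ψ x)⁻¹ * g⁻¹ * (ψ x * t * g) * g⁻¹) := by group
    _ = _ := by rw [h2]; group

end MM

end CfsgLib.SP4.BC
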