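import Cfsg.Agent.Lib.SP4.BIso

/-! Permutation matrices and the normaliser of `R_ℓ` -/

set_option autoImplicit false
set_option linter.unusedSectionVars false

namespace CfsgLib.SP4.BC

open Subgroup Module Matrix CfsgLib.UFP
open scoped commutatorElement Pointwise

universe u

variable {F : Type} [Field F] [Finite F] [CharP F 2] [Fact (2 < Nat.card F)] {m : ℕ} {δ : F} {G : Type u} [Group G] [Finite G]

variable {o p : Fin m}

theorem us_perm {a b : Fin m} (ha : a ≠ a.rev) (hb : b ≠ b.rev) : ∃ π : Equiv.Perm (Fin m),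
    (∀ i, π i.rev = (π i).rev) ∧ π a = b ∧ π b = a ∧
      ∀ c, c ≠ a → c ≠ a.rev → c ≠ b → c ≠ b.rev → π c = c := by
  have e0 : ∀ (x y i : Fin m), Equiv.swap x.rev y.rev i.rev = (Equiv.swap x y i).rev := fun x y i =>
    (Fin.rev_injective.swap_apply x y i)
  by_cases h : b = a.rev
  · refine ⟨Equiv.swap a b, fun i => ?_, Equiv.swap_apply_left _ _, Equiv.swap_apply_right _ _,
      fun c h1 _ h2 _ => Equiv.swap_apply_of_ne_of_ne h1 h2⟩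
    rw [← e0, h, Fin.rev_rev, Equiv.swap_comm]
  have h' : a ≠ b.rev := fun e => h (by rw [e, Fin.rev_rev])
  have hd : (Equiv.swap a b).Disjoint (Equiv.swap a.rev b.rev) := fun i => by
    by_cases h1 : i = a
    · exact .inr (by rw [h1]; exact Equiv.swap_apply_of_ne_of_ne ha h')
    by_cases h2 : i = b
    · exact .inr (by rw [h2]; exact Equiv.swap_apply_of_ne_of_ne h hb)
    · exact .inl (Equiv.swap_apply_of_ne_of_ne h1 h2)
  refine ⟨Equiv.swap a b * Equiv.swap a.rev b.rev, fun i => ?_, ?_, ?_, fun c h1 h2 h3 h4 => ?_⟩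
  · conv_rhs => rw [hd.commute.eq]
    have e1 := e0 a.rev b.rev (Equiv.swap a b i)
    rw [Fin.rev_rev, Fin.rev_rev] at e1
    rw [Equiv.Perm.mul_apply, Equiv.Perm.mul_apply, e0, e1]
  · rw [Equiv.Perm.mul_apply, Equiv.swap_apply_of_ne_of_ne ha h', Equiv.swap_apply_left]
  · rw [Equiv.Perm.mul_apply, Equiv.swap_apply_of_ne_of_ne h hb, Equiv.swap_apply_right]
  · rw [Equiv.Perm.mul_apply, Equiv.swap_apply_of_ne_of_ne h2 h4, Equiv.swap_apply_of_ne_of_ne h1 h3]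

theorem us_pair (n1 : o ≠ o.rev) (n2 : p ≠ p.rev) (n3 : o ≠ p) (n4 : o ≠ p.rev) {i j : Fin m}
    (hi : i ≠ i.rev) (hj : j ≠ j.rev) (h1 : j ≠ i) (h2 : j ≠ i.rev) : ∃ π : Equiv.Perm (Fin m),
    (∀ i, π i.rev = (π i).rev) ∧ π o = i ∧ π p = j := by
  obtain ⟨π, a1, a2, -, -⟩ := us_perm n1 hi
  obtain ⟨k, rfl⟩ := π.surjective j
  obtain ⟨ρ, b1, b2, -, b3⟩ := us_perm n2 (b := k) fun e => hj (by rw [← a1, ← e])
  refine ⟨π * ρ, fun i => by rw [Equiv.Perm.mul_apply, Equiv.Perm.mul_apply, b1, a1], ?_,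
    by rw [Equiv.Perm.mul_apply, b2]⟩
  rw [Equiv.Perm.mul_apply, b3 o n3 n4 (fun e => h1 (by rw [← e, a2])) fun e => h2 (by
    rw [← a2, ← a1, e, Fin.rev_rev]), a2]

theorem us_inv {l : Sg m δ} {x y : Vk m δ} (h : mat l *ᵥ x = y) : mat l⁻¹ *ᵥ y = x := by
  rw [← h, mulVec_mulVec, ← mat_mul, inv_mul_cancel, mat_one, one_mulVec]

theorem us_hf (l : Sg m δ) (x y : Vk m δ) : hf x (mat l *ᵥ y) = hf (mat l⁻¹ *ᵥ x) y := by
  rw [← hf_mulVec l (mat l⁻¹ *ᵥ x), mulVec_mulVec, ← mat_mul, mul_inv_cancel, mat_one, one_mulVec]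

/-- a subgroup containing the rational stabiliser of `e_o` and a swap contains all rational elements
which map `e_o` to a basis vector -/
theorem us_all (n1 : o ≠ o.rev) (n2 : p ≠ p.rev) (n3 : o ≠ p) (n4 : o ≠ p.rev) {H : Subgroup (Sg m δ)}
    (h1 : ∀ l ∈ Rat m δ, mat l *ᵥ ee δ o = ee δ o → l ∈ H)
    (h2 : ∀ l ∈ Rat m δ, mat l *ᵥ ee δ o = ee δ p → mat l *ᵥ ee δ p = ee δ o → l ∈ H)
    {l : Sg m δ} (hl : l ∈ Rat m δ) {i : Fin m} (hi : i ≠ i.rev) (e : mat l *ᵥ ee δ o = ee δ i) :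
    l ∈ H := by
  obtain ⟨π, a1, a2, a3, -⟩ := us_perm n1 n2
  obtain ⟨s, s1, s2⟩ := exists_perm (δ := δ) π a1
  have sH : s ∈ H := h2 s s1 (by rw [s2, a2]) (by rw [s2, a3])
  have k1 : ∀ j : Fin m, j ≠ j.rev → o ≠ j → o ≠ j.rev →
      ∃ n ∈ H ⊓ Rat m δ, mat n *ᵥ ee δ o = ee δ j := fun j b1 b2 b3 => by
    obtain ⟨ρ, c1, c2, -, c3⟩ := us_perm n2 b1
    obtain ⟨r, r1, r2⟩ := exists_perm (δ := δ) ρ c1
    exact ⟨r * s, ⟨mul_mem (h1 r r1 (by rw [r2, c3 o n3 n4 b2 b3])) sH, mul_mem r1 s1⟩,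
      by rw [mat_mul, ← mulVec_mulVec, s2, a2, r2, c2]⟩
  obtain ⟨n, ⟨hn, hn'⟩, e'⟩ : ∃ n ∈ H ⊓ Rat m δ, mat n *ᵥ ee δ o = ee δ i := by
    by_cases b2 : o = i
    · exact ⟨1, one_mem _, by rw [mat_one, one_mulVec, b2]⟩
    by_cases b3 : o = i.rev
    · obtain ⟨n, hn, e'⟩ := k1 p.rev (by rw [Fin.rev_rev]; exact n2.symm) n4 (by rwa [Fin.rev_rev])
      exact ⟨s * n, mul_mem ⟨sH, s1⟩ hn,
        by rw [mat_mul, ← mulVec_mulVec, e', s2, a1, a3, b3, Fin.rev_rev]⟩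
    · exact k1 i hi b2 b3
  have := mul_mem hn (h1 (n⁻¹ * l) (mul_mem (inv_mem hn') hl)
    (by rw [mat_mul, ← mulVec_mulVec, e, us_inv e']))
  rwa [mul_inv_cancel_left] at this

variable (δ) in
/-- the radical `R_ℓ` -/
abbrev RG (o p : Fin m) : Subgroup (Sg m δ) := Subgroup.closure (RL o p)

/-- the rational vectors of `ℓ` -/
def Ln (o p : Fin m) (x : Vk m δ) : Prop := ∃ a b : F, x = rt δ a • ee δ o + rt δ b • ee δ p

theorem Ln.left : Ln o p (ee δ o) := ⟨1, 0, by simp⟩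

theorem Ln.right : Ln o p (ee δ p) := ⟨0, 1, by simp⟩

theorem Ln.hf {x a : Vk m δ} (hx : Ln o p x) (h1 : hf (ee δ o) a = 0) (h2 : hf (ee δ p) a = 0) :
    hf x a = 0 := by
  obtain ⟨b, c, rfl⟩ := hx
  rw [hf_add_left, hf_smul_left, hf_smul_left, h1, h2, mul_zero, mul_zero, add_zero]

theorem us_TS_RL (n1 : o ≠ o.rev) (n2 : p ≠ p.rev) (n4 : o ≠ p.rev) {e a : Vk m δ} (he : Ln o p e)
    (ha : RV a) (h1 : hf (ee δ o) a = 0) (h2 : hf (ee δ p) a = 0) (c : F) :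
    TS e a (rt δ c) ∈ RG δ o p := by
  obtain ⟨x, y, rfl⟩ := he
  have n5 : o.rev ≠ p := fun e => n4 (by rw [← e, Fin.rev_rev])
  have k : ∀ e, (e = ee δ o ∨ e = ee δ p) → ∀ a, RV a → hf (ee δ o) a = 0 → hf (ee δ p) a = 0 →
      ∀ x c : F, TS (rt δ x • e) a (rt δ c) ∈ RG δ o p :=
    fun e he a ha h1 h2 x c => subset_closure ⟨e, rt δ x • a, x * x * c, he, ha.smul x,
      by rw [hf_smul_right, h1, mul_zero], by rw [hf_smul_right, h2, mul_zero],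
      by rw [TS_smul, star_rt, map_mul, map_mul]⟩
  have q1 : hf (ee δ o) (ee δ p) = 0 := by rw [hf_ee_left, bi_ee_ne n5]
  rw [TS_line (Ok.rv ((RV.ee n1).smul x) ha (by rw [hf_smul_left, h1, mul_zero]) c)
    (Ok.rv ((RV.ee n2).smul y) ha (by rw [hf_smul_left, h2, mul_zero]) c)
    (by rw [hf_smul_left, hf_smul_right, q1, mul_zero, mul_zero])]
  refine mul_mem (mul_mem (k _ (.inl rfl) a ha h1 h2 x c) (k _ (.inr rfl) a ha h1 h2 y c)) ?_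
  have := k _ (.inl rfl) _ (((RV.ee n2).smul y).smul c)
    (by rw [hf_smul_right, hf_smul_right, q1, mul_zero, mul_zero])
    (by rw [hf_smul_right, hf_smul_right, (RV.ee n2).self, mul_zero, mul_zero]) x 0
  rwa [map_zero] at this

theorem us_norm {X : Set (Sg m δ)} {l : Sg m δ} (h : ∀ s ∈ X, l * s * l⁻¹ ∈ closure X) :
    l ∈ normalizer (closure X : Set (Sg m δ)) := by
  refine mem_normalizer_fintype fun s hs => ?_
  have : closure X ≤ (closure X).comap (MulAut.conj l).toMonoidHom := (closure_le _).2 h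
  exact this hs

theorem us_RL_ok (n1 : o ≠ o.rev) (n2 : p ≠ p.rev) {s : Sg m δ} (hs : s ∈ RL o p) :
    ∃ e a, ∃ c : F, (e = ee δ o ∨ e = ee δ p) ∧ RV e ∧ RV a ∧ hf (ee δ o) a = 0 ∧ hf (ee δ p) a = 0 ∧
      Ok e a (rt δ c) ∧ s = TS e a (rt δ c) := by
  obtain ⟨e, b, c, rfl | rfl, e1, e2, e3, rfl⟩ := hs
  · exact ⟨_, b, c, .inl rfl, RV.ee n1, e1, e2, e3, Ok.rv (RV.ee n1) e1 e2 c, rfl⟩
  · exact ⟨_, b, c, .inr rfl, RV.ee n2, e1, e2, e3, Ok.rv (RV.ee n2) e1 e3 c, rfl⟩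

/-- the rational stabiliser of `ℓ` normalises `R_ℓ` -/
theorem us_norm_RL (n1 : o ≠ o.rev) (n2 : p ≠ p.rev) (n4 : o ≠ p.rev) {l : Sg m δ} (hl : l ∈ Rat m δ)
    (h1 : Ln o p (mat l *ᵥ ee δ o)) (h2 : Ln o p (mat l *ᵥ ee δ p))
    (h3 : Ln o p (mat l⁻¹ *ᵥ ee δ o)) (h4 : Ln o p (mat l⁻¹ *ᵥ ee δ p)) :
    l ∈ normalizer (RG δ o p : Set (Sg m δ)) := us_norm fun s hs => by
  obtain ⟨e, a, c, he, -, ha, e1, e2, k, rfl⟩ := us_RL_ok n1 n2 hs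
  rw [TS_conj k]
  refine us_TS_RL n1 n2 n4 ?_ (ha.mulVec hl) (by rw [us_hf, h3.hf e1 e2]) (by rw [us_hf, h4.hf e1 e2]) c
  rcases he with rfl | rfl
  exacts [h1, h2]

theorem us_swap_RL (n1 : o ≠ o.rev) (n2 : p ≠ p.rev) (n4 : o ≠ p.rev) {l : Sg m δ} (hl : l ∈ Rat m δ)
    (h1 : mat l *ᵥ ee δ o = ee δ p) (h2 : mat l *ᵥ ee δ p = ee δ o) :
    l ∈ normalizer (RG δ o p : Set (Sg m δ)) :=
  us_norm_RL n1 n2 n4 hl (h1 ▸ Ln.right) (h2 ▸ Ln.left) (us_inv h2 ▸ Ln.right) (us_inv h1 ▸ Ln.left)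

theorem us_Ln_p (ho : (o : ℕ) = 0) (hp : (p : ℕ) = 1) {l : Sg m δ} (hl : l ∈ Mh m δ 0 ⊓ Rat m δ) :
    Ln o p (mat l *ᵥ ee δ p) := by
  obtain ⟨x, hx⟩ := rat_iff.1 (congrFun (congrFun (mem_Rat.1 hl.2) o) p)
  have n : o ≠ p := Fin.ne_of_val_ne (by omega)
  refine ⟨x, 1, funext fun r => ?_⟩
  rw [bi_mv, map_one, one_smul, Pi.add_apply, Pi.smul_apply, smul_eq_mul]
  by_cases hr : r = o
  · rw [hr, bi_ee_self, bi_ee_ne n, mul_one, add_zero, hx]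
  · have : (r : ℕ) ≠ o := fun e => hr (Fin.ext e)
    rw [bi_ee_ne hr, mul_zero, zero_add, bi_low hl.1 (by omega), bi_ee]

theorem us_U_RL (hm : 4 ≤ m) (ho : (o : ℕ) = 0) (hp : (p : ℕ) = 1) :
    Mh m δ 0 ⊓ Rat m δ ≤ normalizer (RG δ o p : Set (Sg m δ)) := fun l hl =>
  us_norm_RL (Fin.ne_of_val_ne (by rw [Fin.val_rev]; omega)) (Fin.ne_of_val_ne (by rw [Fin.val_rev]; omega))
    (Fin.ne_of_val_ne (by rw [Fin.val_rev]; omega)) hl.2 ((bi_fix0 ho hl.1).symm ▸ Ln.left)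
    (us_Ln_p ho hp hl) ((bi_fix0 ho (inv_mem hl.1)).symm ▸ Ln.left) (us_Ln_p ho hp (inv_mem hl))

theorem us_o_mem (hm : 4 ≤ m) (ho : (o : ℕ) = 0) {a : Vk m δ} {c : KK δ} (k : Ok (ee δ o) a c) :
    TS (ee δ o) a c ∈ Mh m δ 0 :=
  TS_mem k (fun j hj => by
    rw [show j = o.rev from Fin.ext (by rw [Fin.val_rev] at hj ⊢; have := j.2; omega)]
    exact (hf_ee_left o a).symm.trans k.ea) fun e => by rw [Fin.val_rev] at e; omega

theorem us_RL_le (hm : 4 ≤ m) (ho : (o : ℕ) = 0) (hp : (p : ℕ) = 1) :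
    RG δ o p ≤ Mh m δ 0 ⊓ Rat m δ := (closure_le _).2 fun s hs => by
  obtain ⟨e, a, c, he, e0, ha, e1, e2, k, rfl⟩ := us_RL_ok (o := o) (p := p)
    (Fin.ne_of_val_ne (by rw [Fin.val_rev]; omega)) (Fin.ne_of_val_ne (by rw [Fin.val_rev]; omega)) hs
  refine ⟨?_, TS_rat k e0.rat ha.rat (star_rt c)⟩
  rcases he with rfl | rfl
  · exact us_o_mem hm ho k
  · refine TS_mem k (fun j hj => ?_) fun e => by rw [Fin.val_rev] at e; omega
    rw [Fin.val_rev] at hj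
    have := j.2
    by_cases h : (j : ℕ) = m - 1
    · rw [show j = o.rev from Fin.ext (by rw [Fin.val_rev]; omega), ← hf_ee_left o a, e1]
    · rw [show j = p.rev from Fin.ext (by rw [Fin.val_rev]; omega), ← hf_ee_left p a, e2]

/-- `TS e b c` with `e ∈ ℓ` and `b ∈ K ℓ + K v₀` centralises `R_ℓ` -/
theorem us_cent_RL (n1 : o ≠ o.rev) (n2 : p ≠ p.rev) {e b : Vk m δ} {c : KK δ} (k : Ok e b c)
    (h : ∀ v, RV v → hf (ee δ o) v = 0 → hf (ee δ p) v = 0 → hf e v = 0 ∧ hf b v = 0)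
    (n4 : o ≠ p.rev) : TS e b c ∈ centralizer (RG δ o p : Set (Sg m δ)) := by
  rw [centralizer_closure]
  intro s hs
  obtain ⟨e', a, c', he, e0, ha, e1, e2, k', rfl⟩ := us_RL_ok n1 n2 hs
  have n5 : o.rev ≠ p := fun e => n4 (by rw [← e, Fin.rev_rev])
  have f : ∀ v, RV v → hf (ee δ o) v = 0 → hf (ee δ p) v = 0 → mat (TS e b c) *ᵥ v = v :=
    fun v a1 a2 a3 => by
      rw [mat_TS k, TM_mulVec, (h v a1 a2 a3).1, (h v a1 a2 a3).2]
      simp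
  have e3 := TS_conj k' (TS e b c)
  rw [f a ha e1 e2, f e' e0 ?_ ?_, mul_inv_eq_iff_eq_mul] at e3
  · exact e3.symm
  · rcases he with rfl | rfl
    · exact e0.self
    · rw [hf_ee_left, bi_ee_ne n5]
  · rcases he with rfl | rfl
    · rw [hf_ee_left, bi_ee_ne n4.symm]
    · exact e0.self

theorem us_w_RL (n1 : o ≠ o.rev) (n2 : p ≠ p.rev) (n4 : o ≠ p.rev) :
    TS (ee δ o) (om δ • ee δ p) 0 ∈ centralizer (RG δ o p : Set (Sg m δ)) :=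
  us_cent_RL n1 n2 (Ok.w (RV.ee n1) (RV.ee n2) (by
    rw [hf_ee_left, bi_ee_ne fun e => n4 (by rw [← e, Fin.rev_rev])]))
    (fun v _ h1 h2 => ⟨h1, by rw [hf_smul_left, h2, mul_zero]⟩) n4

theorem us_map_norm (ψ : Sg m δ →* G) {X : Subgroup (Sg m δ)} {l : Sg m δ}
    (h : l ∈ normalizer (X : Set (Sg m δ))) : ψ l ∈ normalizer (X.map ψ : Set G) :=
  le_normalizer_map ψ ⟨l, h, rfl⟩

end CfsgLib.SP4.BC
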