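import Cfsg.Agent.Lib.SP4.BUw
import Cfsg.Agent.Lib.SP4.BGen
import Cfsg.Agent.Lib.SP4.BUwS

/-! `UW`, `m` even -/

set_option autoImplicit false
set_option linter.unusedSectionVars false

namespace CfsgLib.SP4.BC

open Subgroup Module Matrix CfsgLib.UFP
open scoped commutatorElement Pointwise

universe u

variable {F : Type} [Field F] [Finite F] [CharP F 2] [Fact (2 < Nat.card F)] {m : ℕ} {δ : F} {G : Type u} [Group G] [Finite G]

theorem ub_mid (hm : Even m) (i : Fin m) : i ≠ i.rev := Fin.ne_of_val_ne (by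
  obtain ⟨k, hk⟩ := hm
  have := i.2
  rw [Fin.val_rev]
  omega)

theorem ub_rv (hm : Even m) {a : Vk m δ} (ha : star a = a) : RV a :=
  ⟨ha, fun i hi => absurd hi (ub_mid hm i)⟩

theorem ub_rat {e a : Vk m δ} {c : KK δ} (k : Ok e a c) (ha : RV a) : ∃ x, c = rt δ x :=
  rat_iff.1 (bi_eq (k.cc.trans ha.self)).symm

variable (δ) in
/-- the rational points of the radical of `e_o` -/
def QG (o : Fin m) : Subgroup (Sg m δ) :=
  closure {s | ∃ a, ∃ c : F, RV a ∧ hf (ee δ o) a = 0 ∧ s = TS (ee δ o) a (rt δ c)}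

theorem ub_mem {o : Fin m} {a : Vk m δ} {c : KK δ} (k : Ok (ee δ o) a c) (ha : RV a) :
    TS (ee δ o) a c ∈ QG δ o := by
  obtain ⟨x, rfl⟩ := ub_rat k ha
  exact subset_closure ⟨a, x, ha, k.ea, rfl⟩

theorem ub_norm {o : Fin m} (n1 : o ≠ o.rev) {l : Sg m δ} (hl : l ∈ Rat m δ)
    (e : mat l *ᵥ ee δ o = ee δ o) : l ∈ normalizer (QG δ o : Set (Sg m δ)) := us_norm (by
  rintro _ ⟨a, c, ha, h1, rfl⟩
  have k := Ok.rv (RV.ee n1) ha h1 c
  have k' := k.conj l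
  rw [TS_conj k]
  rw [e] at k' ⊢
  exact ub_mem k' (ha.mulVec hl))

theorem ub_le (hm : 4 ≤ m) {o : Fin m} (ho : (o : ℕ) = 0) : QG δ o ≤ Mh m δ 0 ⊓ Rat m δ :=
  (closure_le _).2 (by
    rintro _ ⟨a, c, ha, h1, rfl⟩
    have e0 : RV (ee δ o) := RV.ee (Fin.ne_of_val_ne (by rw [Fin.val_rev]; omega))
    have k := Ok.rv e0 ha h1 c
    exact ⟨us_o_mem hm ho k, TS_rat k e0.rat ha.rat (star_rt c)⟩)

variable (δ) in
/-- the short root group of the line `ℓ` -/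
def XG (o p : Fin m) : Subgroup (Sg m δ) := closure {s | ∃ l : F, s = TS (ee δ o) (rt δ l • ee δ p) 0}

theorem ub_x {o p : Fin m} {x y : Vk m δ} (hx : Ln o p x) (hy : Ln o p y) : TS x y 0 ∈ XG δ o p := by
  obtain ⟨a, b, rfl⟩ := hx
  obtain ⟨a', b', rfl⟩ := hy
  refine subset_closure ⟨a * b' + a' * b, ?_⟩
  rw [TS, TS]
  congr 1
  ext1 r s
  simp only [bi_TM, Pi.add_apply, Pi.smul_apply, smul_eq_mul, star_add, star_mul', star_rt, map_add, map_mul]
  linear_combination k_two (rt δ a * rt δ a' * ee δ o r * star (ee δ o s.rev)) +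
    k_two (rt δ b * rt δ b' * ee δ p r * star (ee δ p s.rev))

theorem ub_xn {o p : Fin m} (n1 : o ≠ o.rev) (n2 : p ≠ p.rev) (q1 : hf (ee δ o) (ee δ p) = 0) {l : Sg m δ}
    (h1 : Ln o p (mat l *ᵥ ee δ o)) (h2 : Ln o p (mat l *ᵥ ee δ p)) :
    l ∈ normalizer (XG δ o p : Set (Sg m δ)) := us_norm (by
  rintro _ ⟨c, rfl⟩
  have k := Ok.rv (RV.ee n1) ((RV.ee n2).smul c) (by rw [hf_smul_right, q1, mul_zero]) 0
  rw [map_zero] at k
  rw [TS_conj k, mulVec_smul]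
  refine ub_x h1 ?_
  obtain ⟨a, b, e⟩ := h2
  exact ⟨c * a, c * b, by rw [e, smul_add, smul_smul, smul_smul, map_mul, map_mul]⟩)

theorem MM.ub_nz {ψ : Sg m δ →* G} {t : G} (h : MM ψ t) (hm : Even m) {o : Fin m} {a : Vk m δ} (ha : RV a)
    (k : hf (ee δ o) a = 0) {c : F} (hc : IsConj t (t * ψ (TS (ee δ o) a (rt δ c)))) : c = 0 := by
  have he : RV (ee δ o) := RV.ee (ub_mid hm o)
  by_contra c0
  obtain ⟨l, hl⟩ := (frobeniusEquiv F 2).surjective c
  have hl' : l * l = c := by rw [← hl, frobeniusEquiv_apply, frobenius_def, pow_two]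
  have kx : Ok (ee δ o) a 0 := by simpa using Ok.rv he ha k 0
  have kw := Ok.w he ha k
  refine h.nz hm _ (he.smul l) (fun e => c0 ?_) (hc.trans (IsConj.symm (isConj_iff.2
    ⟨ψ (TS (ee δ o) (om δ • a) 0), ?_⟩)))
  · have e1 : rt δ l = rt δ 0 := by simpa [bi_ee_self] using congrFun e o
    rw [← hl', rt_inj e1, mul_zero]
  · have e1 := MM.buw_comm kw (bi_okz he c) he.self (by rw [hf_smul_left, ha.symm he, k, mul_zero])
      (hf_zero_right _) (hf_zero_right _)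
    have e2 : TS (ee δ o) a 0 * TS (ee δ o) 0 (rt δ c) = TS (ee δ o) a (rt δ c) := by
      rw [TS_mul kx (bi_okz he c), hf_zero_right, add_zero, add_zero, zero_add]
    rw [TS_smul, smul_zero, star_rt, mul_one, ← map_mul (rt δ), hl', ← e2, map_mul, ← mul_assoc t,
      ← h.hat_w he ha k]
    have e3 := congrArg ψ e1
    rw [map_mul, map_mul] at e3
    calc _ = ψ (TS (ee δ o) (om δ • a) 0) * t * (ψ (TS (ee δ o) (om δ • a) 0))⁻¹ *
        (ψ (TS (ee δ o) (om δ • a) 0) * ψ (TS (ee δ o) 0 (rt δ c))) * (ψ (TS (ee δ o) (om δ • a) 0))⁻¹ := by group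
      _ = _ := by rw [e3]; group

theorem MM.ub_iso {ψ : Sg m δ →* G} {t : G} (h : MM ψ t) (hm : Even m) (h4 : m ≤ 5) {o p : Fin m}
    (ho : (o : ℕ) = 0) (hp : (p : ℕ) = 1) {g u : G} (hg : g ∈ centralizer ((XG δ o p).map ψ : Set G))
    (hu : u ∈ Uh ψ) (e : g * t * g⁻¹ = u * t * u⁻¹) : t⁻¹ * (g * t * g⁻¹) ∈ (XG δ o p).map ψ := by
  have h6 := h.m6
  have m4 : m = 4 := by obtain ⟨k, hk⟩ := hm; omega
  obtain ⟨u, hu, rfl⟩ := hu
  have ti : t⁻¹ = t := inv_eq_of_mul_eq_one_left h.t2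
  have e1 : ψ (sb u * u⁻¹) = t⁻¹ * (g * t * g⁻¹) := by
    rw [e, map_mul, map_inv, ← h.tc, ti]
    simp only [mul_assoc]
  have d1 : sb u * u⁻¹ ∈ Mh m δ 0 := mul_mem (mp_Mh _ hu) (inv_mem hu)
  have d2 : adj (mat (sb u * u⁻¹)) = mat (sb u * u⁻¹) := by
    rw [mat_mul, adj_mul, mat_inv, mat_sb, adj_adj]
  have d3 : mat (sb u * u⁻¹) p p.rev = 0 := by
    have := anti_even hm (sb u)⁻¹ p
    rwa [inv_inv, map_inv, show sb (sb u) = u from mat_inj (by rw [mat_sb, mat_sb, bar_bar])] at this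
  generalize sb u * u⁻¹ = d at e1 d1 d2 d3
  obtain ⟨a, c, a1, k, rfl, a2, -⟩ := bi_row h6 ho d1 d2 fun r j hr hj => by
    by_cases q : (j : ℕ) ≤ r
    · exact bi_low d1 q
    have q1 : (r : ℕ) ≠ o := fun e => hr (Fin.ext e)
    have q2 : (j : ℕ) ≠ o.rev := fun e => hj (Fin.ext e)
    rw [Fin.val_rev] at q2
    have := j.2
    rw [show r = p from Fin.ext (by omega), show j = p.rev from Fin.ext (by rw [Fin.val_rev]; omega), d3,
      one_apply_ne (ub_mid hm p)]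
  have ra := ub_rv hm a1
  have ro : RV (ee δ o) := RV.ee (ub_mid hm o)
  have rp : RV (ee δ p) := RV.ee (ub_mid hm p)
  have q1 : hf (ee δ o) (ee δ p) = 0 := by
    rw [hf_ee_left, bi_ee_ne (Fin.ne_of_val_ne (by rw [Fin.val_rev]; omega))]
  have kp : Ok (ee δ o) (ee δ p) 0 := by simpa using Ok.rv ro rp q1 0
  obtain ⟨c, rfl⟩ := ub_rat k ra
  have e2 : t * ψ (TS (ee δ o) a (rt δ c)) = g * t * g⁻¹ := by rw [e1, mul_inv_cancel_left]
  obtain rfl := h.ub_nz hm ra k.ea (c := c) (isConj_iff.2 ⟨g, e2.symm⟩)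
  obtain ⟨c', hc'⟩ := rat_iff.1 ((star_hf a (ee δ p)).trans (rp.symm ra))
  have e3 := hg _ (mem_map_of_mem ψ (ub_x (δ := δ) (o := o) (p := p) Ln.left Ln.right))
  have e4 : c' = 0 := by
    refine h.ub_nz hm (ra.add rp) (k.add kp).ea (isConj_iff.2 ⟨g * ψ (TS (ee δ o) (om δ • ee δ p) 0), ?_⟩)
    have := TS_mul k kp
    rw [hc', map_zero, add_zero, zero_add] at this
    rw [← this, map_mul, ← mul_assoc t, ← map_zero (rt δ), e2, map_zero]
    calc _ = g * (ψ (TS (ee δ o) (om δ • ee δ p) 0) * t * (ψ (TS (ee δ o) (om δ • ee δ p) 0))⁻¹) * g⁻¹ := by group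
      _ = g * t * g⁻¹ * (g * ψ (TS (ee δ o) (ee δ p) 0)) * g⁻¹ := by rw [h.hat_w ro rp q1]; group
      _ = _ := by rw [← e3]; group
  rw [e4, map_zero, hf_ee_right, star_eq_zero] at hc'
  obtain ⟨l, hl⟩ := rat_iff.1 (show star (a p) = a p from congrFun a1 p)
  have e5 : a = rt δ l • ee δ p := funext fun i => by
    rw [Pi.smul_apply, smul_eq_mul]
    by_cases q : i = p
    · rw [q, bi_ee_self, mul_one, hl]
    rw [bi_ee_ne q, mul_zero]
    have q' : (i : ℕ) ≠ p := fun e => q (Fin.ext e)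
    have := i.2
    by_cases q0 : (i : ℕ) = 0
    · rwa [show i = o from Fin.ext (by omega)]
    by_cases q2 : (i : ℕ) = 2
    · rwa [show i = p.rev from Fin.ext (by rw [Fin.val_rev]; omega)]
    · rw [show i = o.rev from Fin.ext (by rw [Fin.val_rev]; omega), ← hf_ee_left o a, k.ea]
  exact ⟨_, subset_closure ⟨l, by rw [e5, map_zero]⟩, e1⟩

theorem MM.uw_even {ψ : Sg m δ →* G} {t : G} (h : MM ψ t) (hm : Even m) (h4 : m ≤ 5)
    (d : SylD (normalizer (ψ.range : Set G)) t (Uh ψ) (U0 ψ)) :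
    UW (normalizer (ψ.range : Set G)) t (U0 ψ) := by
  have h6 := h.m6
  obtain ⟨o, ho⟩ : ∃ o : Fin m, (o : ℕ) = 0 := ⟨⟨0, by omega⟩, rfl⟩
  obtain ⟨p, hp⟩ : ∃ p : Fin m, (p : ℕ) = 1 := ⟨⟨1, by omega⟩, rfl⟩
  have n1 := ub_mid hm o
  have n2 := ub_mid hm p
  have n3 : o ≠ p := Fin.ne_of_val_ne (by omega)
  have n4 : o ≠ p.rev := Fin.ne_of_val_ne (by rw [Fin.val_rev]; omega)
  have q1 : hf (ee δ o) (ee δ p) = 0 := by
    rw [hf_ee_left, bi_ee_ne fun e => n4 (by rw [← e, Fin.rev_rev])]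
  let X : Bool → Subgroup (Sg m δ) := fun b => cond b (QG δ o) (XG δ o p)
  have XQ : ∀ b, X b ≤ QG δ o := fun b => by
    cases b
    · refine (closure_le _).2 ?_
      rintro _ ⟨c, rfl⟩
      exact subset_closure ⟨_, 0, (RV.ee n2).smul c, by rw [hf_smul_right, q1, mul_zero], by rw [map_zero]⟩
    · exact le_rfl
  have XR : XG δ o p ≤ RG δ o p := closure_mono (by
    rintro _ ⟨c, rfl⟩
    exact ⟨_, _, 0, .inl rfl, (RV.ee n2).smul c, by rw [hf_smul_right, q1, mul_zero],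
      by rw [hf_smul_right, (RV.ee n2).self, mul_zero], by rw [map_zero]⟩)
  have XU : ∀ b, X b ≤ Mh m δ 0 ⊓ Rat m δ := fun b => (XQ b).trans (ub_le h6 ho)
  have UX : ∀ b, U0 ψ ≤ normalizer ((X b).map ψ : Set G) := by
    rintro b _ ⟨l, hl, rfl⟩
    refine us_map_norm ψ ?_
    cases b
    exacts [ub_xn n1 n2 q1 ((bi_fix0 ho hl.1).symm ▸ Ln.left) (us_Ln_p ho hp hl), ub_norm n1 hl.2 (bi_fix0 ho hl.1)]
  have R0 : ∀ b, (X b).map ψ ≤ U0 ψ := fun b => map_mono (XU b)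
  have tn : ∀ b, t ∈ normalizer ((X b).map ψ : Set G) := fun b =>
    centralizer_le_normalizer _ fun x hx => (mem_cent1.1 (d.U0t (R0 b hx))).symm
  have cW : ∀ b, ∀ W : Subgroup G, Odd (Nat.card W) → t ∈ normalizer (W : Set G) →
      U0 ψ ≤ normalizer (W : Set G) → (X b).map ψ ≤ centralizer (W : Set G) := fun b W w1 w2 w3 => by
    refine (map_mono (XQ b)).trans (map_le_iff_le_comap.2 ((closure_le _).2 ?_))
    rintro _ ⟨a, c, ha, h1, rfl⟩
    exact h.cenQ ho w1 w2 w3 ha h1 c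
  have cO : ∀ b b', (X b).map ψ ≤ centralizer (OC ((X b').map ψ) : Set G) := fun b b' =>
    cW b _ (OC_odd _) (norm_le_norm_OC _ (tn b')) ((UX b').trans (norm_le_norm_OC _))
  refine uw_of d.u (fun b => (X b).map ψ) true (fun b => d.pg.to_le ((R0 b).trans d.U0U)) tn
    (fun b hb => h.t_not_mem (d.U0U (R0 b hb))) (fun b => d.iso_of
      (((R0 b).trans d.U0U).trans le_sup_left) (UX b) (tn b) fun g hg u hu e => ?_)
    (fun b => cO b true) (cO true) (cW true) fun V hV hN => ?_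
  · cases b
    · exact h.ub_iso hm h4 ho hp hg hu e
    obtain ⟨x, x1, x2, x3, x4⟩ := h.iso_pre (tn true) hg hu e
    refine ⟨x, ?_, x3⟩
    obtain ⟨a, c, a1, k, rfl⟩ := isoQ h6 ho x1 x2 fun j c k =>
      x4 _ _ (TS_pow k) (mem_map_of_mem ψ (ub_mem k (RV.ee (ub_mid hm j))))
    exact ub_mem k (ub_rv hm a1)
  have r1 : ∀ b, ∀ l ∈ Rat m δ, l ∈ normalizer (X b : Set (Sg m δ)) →
      l ∈ (normalizer (V : Set G)).comap ψ := fun b l hl hn => hN b _ (us_map_norm ψ hn) (by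
    rw [h.rat_t hl, mul_inv_cancel_right, inv_mul_cancel]
    exact one_mem _)
  have r2 : ∀ l ∈ Rat m δ, ∀ i, mat l *ᵥ ee δ o = ee δ i → ψ l ∈ normalizer (V : Set G) :=
    fun l hl i e => us_all n1 n2 n3 n4 (fun l hl e => r1 true l hl (ub_norm n1 hl e))
      (fun l hl e1 e2 => r1 false l hl (ub_xn n1 n2 q1 (e1 ▸ Ln.right) (e2 ▸ Ln.left))) hl (ub_mid hm i) e
  have r3 : ψ (TS (ee δ o) (om δ • ee δ p) 0) ∈ normalizer (V : Set G) :=
    hN false _ (us_map_norm ψ (centralizer_le_normalizer _ (centralizer_le XR (us_w_RL n1 n2 n4)))) (by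
      rw [h.hat_w (RV.ee n1) (RV.ee n2) q1, inv_mul_cancel_left]
      exact mem_map_of_mem ψ (ub_x Ln.left Ln.right))
  have hT : (normalizer (V : Set G)).comap ψ = ⊤ := by
    refine gen' h6 (fun i a c hi ha k => ?_) fun i j hi hj h1 h2 => ?_
    · obtain ⟨π, a1, a2, -, -⟩ := us_perm n1 hi
      obtain ⟨l, l1, l2⟩ := exists_perm (δ := δ) π a1
      have e : mat l *ᵥ ee δ o = ee δ i := by rw [l2, a2]
      have k' := k.conj l⁻¹
      have e' := TS_conj k l⁻¹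
      rw [us_inv e] at k' e'
      have m1 := centralizer_le_normalizer _
        (hV true (mem_map_of_mem ψ (ub_mem k' ((ub_rv hm ha).mulVec (inv_mem l1)))))
      have m2 := mul_mem (mul_mem (r2 l l1 i e) m1) (inv_mem (r2 l l1 i e))
      rw [← e', ← map_inv, ← map_mul, ← map_mul] at m2
      rwa [mem_comap, show TS (ee δ i) a c = l * (l⁻¹ * TS (ee δ i) a c * l⁻¹⁻¹) * l⁻¹ by group]
    · obtain ⟨π, a1, a2, a3⟩ := us_pair n1 n2 n3 n4 hi hj h1 h2
      obtain ⟨l, l1, l2⟩ := exists_perm (δ := δ) π a1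
      have e : mat l *ᵥ ee δ o = ee δ i := by rw [l2, a2]
      have m2 := mul_mem (mul_mem (r2 l l1 i e) r3) (inv_mem (r2 l l1 i e))
      rwa [← map_inv, ← map_mul, ← map_mul, TS_conj (Ok.w (RV.ee n1) (RV.ee n2) q1), e, mulVec_smul,
        l2, a3] at m2
  have hK : ((centralizer (V : Set G)).comap ψ).Normal := ⟨fun n hn g => by
    have hg : ψ g ∈ normalizer (V : Set G) := (hT ▸ mem_top g : g ∈ (normalizer (V : Set G)).comap ψ)
    rw [mem_comap, map_mul, map_mul, map_inv]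
    exact conj_mem (Core.normalizer_le_normalizer_centralizer _ hg) hn⟩
  rcases simp h6 _ hK with e | e
  · exact absurd (e (hV true (mem_map_of_mem ψ (ub_mem (Ok.z (RV.ee n1)) RV.zero))))
      (z_not_mem h6 (RV.ee n1) fun e => by simpa [bi_ee_self] using congrFun e o)
  · refine le_trans (fun v hv => ?_) (centralizer_le_normalizer _)
    rintro _ ⟨s, rfl⟩
    exact ((e ▸ mem_top s : s ∈ (centralizer (V : Set G)).comap ψ) v hv).symm

end CfsgLib.SP4.BC
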