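import Cfsg.Agent.Lib.SP4.BSyl
import Cfsg.Agent.Lib.SP4.BLin
import Cfsg.Agent.Lib.SP4.BUwB
import Cfsg.Agent.Lib.SP4.BUwC

/-! `G₀ = Gs` -/

set_option autoImplicit false
set_option linter.unusedSectionVars false

namespace CfsgLib.SP4.BC

open Subgroup Module Matrix CfsgLib.UFP
open scoped commutatorElement Pointwise

universe u

variable {F : Type} [Field F] [Finite F] [CharP F 2] [Fact (2 < Nat.card F)] {m : ℕ} {δ : F} {G : Type u} [Group G] [Finite G]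

theorem MM.eq {ψ : Sg m δ →* G} {t : G} (h : MM ψ t) (h5 : m ≤ 5) {Gs : Subgroup G} (hG : SLE.Glob Gs t) :
    ψ.range = Gs := by
  have m6 := h.m6
  have hle : ψ.range ≤ Gs := hG.pf_le (perf m6 ψ)
  obtain ⟨ht, d⟩ := h.sylA.main hG hle
  have := hG.nrm
  have Us : Uh ψ ≤ Gs := (map_le_range _ _).trans hle
  let o : Fin m := ⟨0, by omega⟩
  have ho : (o : ℕ) = 0 := rfl
  have hor : (o.rev : ℕ) = m - 1 := by rw [Fin.val_rev]
  have ho' : o ≠ o.rev := fun e => by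
    have := congrArg Fin.val e
    omega
  have ro : RV (ee δ o) := RV.ee ho'
  have e0 : ee δ o ≠ 0 := fun e => by
    have h1 : (1 : KK δ) = 0 := by simpa [ee] using congrFun e o
    exact one_ne_zero h1
  have zr : ∀ {x : Vk m δ}, RV x → ψ (TS x 0 1) * t = t * ψ (TS x 0 1) := fun hx =>
    h.rat_t (TS_rat (Ok.z hx) hx.rat (star_zero _) (star_one _))
  have zm : TS (ee δ o) 0 1 ∈ Mh m δ (m - 2) := TS_mem (Ok.z ro) (fun _ _ => rfl) (fun e => by omega)
  have z1 : ψ (TS (ee δ o) 0 1) ≠ 1 := fun e => z_not_mem m6 ro e0 (h.ker e)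
  have z2 : ψ (TS (ee δ o) 0 1) * ψ (TS (ee δ o) 0 1) = 1 := by
    rw [← map_mul, TS_mul (Ok.z ro) (Ok.z ro), add_zero, hf_zero_left, add_zero, k_two, TS_zero, map_one]
  have hUx : ∃ Ux : Subgroup G, (∀ a ∈ Ux, a ∈ Uh ψ ∧ a * t * a⁻¹ * t⁻¹ ∈ Mc ψ 1) ∧
      UW (normalizer (ψ.range : Set G)) t Ux := by
    rcases Nat.even_or_odd m with hm | hm
    · refine ⟨U0 ψ, fun a ha => ⟨d.U0U ha, ?_⟩, h.uw_even hm h5 d⟩
      rw [← mem_cent1.1 (d.U0t ha)]
      simp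
    · refine ⟨(U1 m δ).map ψ, ?_, h.uw_odd hm d⟩
      rintro _ ⟨s, hs, rfl⟩
      obtain ⟨h1, h2⟩ := mem_U1.1 hs
      refine ⟨mem_map_of_mem _ h1, s * (sb s)⁻¹, h2, ?_⟩
      rw [map_mul, map_inv, ← h.tc]
      group
  obtain ⟨Ux, hU1, hU2⟩ := hUx
  have D : GrData1 (normalizer (ψ.range : Set G)) Gs t (Uh ψ) (U0 ψ) Ux (m - 1) (Mc ψ) := by
    refine { h.ser, d with
      Us := Us
      fix := fun i hi x hx h1 => ?_
      lin := fun i hi x hx _ j hj a ha a2 h1 h2 => h.lin hi hj hx ha a2 h1 h2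
      lin2 := fun i hi x hx _ g u hu h1 h2 e => h.lin2 hi hx hu h1 h2 e
      U1n := hU1
      uw := hU2 }
    obtain ⟨y, hy, u, hu, c, hc, e⟩ := h.fix0 hi hx h1
    refine ⟨y, hy, ?_⟩
    rw [e]
    rcases Nat.even_or_odd m with hm | hm
    · by_cases c0 : c = 0
      · rw [c0, TS_zero_left, map_one, one_mul]
        exact Or.inl (isConj_iff.2 ⟨u, rfl⟩)
      · have h2 : U (normalizer (ψ.range : Set G)) (ψ (TS (ee δ o) 0 1) * t) := by
          refine d.u_of Us ht (h.uw_even hm h5 d)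
            (mem_map_of_mem _ ⟨Mh_anti (Nat.zero_le _) zm, TS_rat (Ok.z ro) ro.rat (star_zero _) (star_one _)⟩)
            z1 z2 ?_ (fun g h1 u hu e => h.eq_of_tz hm ho h1 hu e) (fun x hx h2 => ?_)
          · rintro _ ⟨s, hs, rfl⟩
            have h3 := Mh_comm hs.1 zm
            rw [show 0 + (m - 2) + 1 = m - 1 by omega, Mh_top, mem_bot, mul_inv_eq_one, mul_inv_eq_iff_eq_mul] at h3
            rw [← map_mul, h3, map_mul]
          · obtain ⟨u, hu, c, hc, -, e⟩ := h.cj0 hx h2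
            refine ⟨u, d.U1 hu, mem_cent1.2 ?_⟩
            rw [e, ← mul_assoc, zr hc]
        obtain ⟨l, hl, hlc⟩ := rat_trans ro hc e0 c0
        have h3 := h2.conj (g := ψ l) (le_normalizer ⟨l, rfl⟩)
        have h4 : ψ l * (ψ (TS (ee δ o) 0 1) * t) * (ψ l)⁻¹ = ψ (TS c 0 1) * t := by
          have h5 := TS_conj (Ok.z ro) l
          rw [hlc, mulVec_zero] at h5
          rw [← h5, map_mul, map_mul, map_inv]
          calc _ = ψ l * ψ (TS (ee δ o) 0 1) * (ψ l)⁻¹ * (ψ l * t) * (ψ l)⁻¹ := by group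
            _ = _ := by rw [h.rat_t hl]; group
        rw [h4] at h3
        exact Or.inr (h3.conj (d.U1 hu))
    · rw [zr hc, ← h.hat_u hm hc]
      exact Or.inl (isConj_iff.2 ⟨u * ψ (TS c (v0 m δ) (om δ)), by group⟩)
  have h1 := le_of_invol hG.simple (hle ⟨_, rfl⟩) z1 z2 fun u hu u2 => D.mem (hG.index ht) ht hu u2
  exact hG.eq_of_norm hle h1 ⟨_, rfl⟩ z1

end CfsgLib.SP4.BC
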