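import Cfsg.Agent.Lib.SP4.Tor

/-! The dual model -/

set_option autoImplicit false
set_option linter.unusedSectionVars false

namespace CfsgLib.SP4

open Subgroup Module CfsgLib.Forms CfsgLib.LieMult
open CfsgLib.HX (Std CO Two Mv M2)
open CfsgLib.UN (AV SI TI HH Rad Stb Yg Rg Eg Act nu)
open CfsgLib.ClSys (II)
open Submodule (span)
open scoped commutatorElement Pointwise

universe u

variable {F : Type} [Field F] [Finite F] {V : Type} [AddCommGroup V] [Module F V]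
  [FiniteDimensional F V] {P : PQ (RingHom.id F) V} {S : Type} [Group S] [Finite S] {G : Type u}
  [Group G] [Finite G] {C : CG P S} {φ : S →* G} {t : G}

theorem Gr.inv (h : Mod C) {θ : MulAut S} (k : Gr C θ) : Gr C θ⁻¹ := by
  have cj : ∀ {s u v w : S}, θ u = v → w = s * v * s⁻¹ → θ⁻¹ w = θ⁻¹ s * u * (θ⁻¹ s)⁻¹ := by
    rintro s u v w rfl rfl
    rw [map_mul, map_mul, map_inv, MulAut.inv_apply_self]
  obtain ⟨e₀, h₀⟩ := h.g2_ne
  refine ⟨fun θ' => ?_, fun e h0 => ?_, fun e a l => ?_⟩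
  · have := k.aut (θ * θ')
    rw [inv_mul_cancel_left] at this
    rw [inv_inv]
    exact this.symm
  · obtain ⟨a₀, l₀⟩ := h.exists_ln h₀
    obtain ⟨p, p0, e1⟩ := k.az e₀ a₀ l₀
    obtain ⟨s, rfl⟩ := h.trans p0 h0
    refine ⟨_, _, h.ln_act l₀ (θ⁻¹ s), ?_⟩
    rw [← h.T_conj _ l₀.perp]
    exact cj e1 (by rw [h.T_conj s (map_zero _), map_zero])
  · obtain ⟨p, b, l₀, e1⟩ := k.za e₀ h₀
    obtain ⟨s, rfl, rfl⟩ := h.trans_ln l₀ l
    refine ⟨C.act (θ⁻¹ s) e₀, fun e2 => h₀ ((C.act _).map_eq_zero_iff.1 e2), ?_⟩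
    rw [cj e1 (h.T_conj s l₀.perp 0).symm, h.T_conj _ (map_zero _), map_zero]

/-- `θ` maps `Q_e` to `E(l)` -/
theorem Gr.map_Q (h : Mod C) {θ : MulAut S} (k : Gr C θ) {e p a : V} (h0 : e ≠ 0) (l : Ln P p a)
    (e1 : θ (C.T e 0 1) = C.T p a 0) :
    (Rad C (span F {e})).map θ.toMonoidHom = C.fixG (P.perp (span F {p, a})) := by
  -- H = θ⁻¹ E(l) is a 2-group inside C(T e 0 1) = Y_e and normalised by it (C(T p a 0) stabilises l):
  -- `o2` gives H ≤ Q_e; both have order q³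
  have hi : Emb C (MonoidHom.id S) := ⟨h, fun _ _ e => e⟩
  set E := C.fixG (P.perp (span F {p, a})) with hE
  have eE : Eg C (MonoidHom.id S) (span F {p, a}) = E := Subgroup.map_id _
  have mY : ∀ s : S, θ s ∈ Yl C (MonoidHom.id S) p a ↔ C.act s e = e := fun s => by
    have e2 : x C (MonoidHom.id S) p a = θ (C.T e 0 1) := e1.symm
    rw [Yl, mem_inf, e2, mem_centralizer_singleton_iff, ← map_mul, ← map_mul, θ.injective.eq_iff]
    refine ⟨fun k => h.fix_of_comm one_ne_zero k.2, fun k => ⟨⟨θ s, rfl⟩, ?_⟩⟩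
    rw [← mul_inv_eq_iff_eq_mul, h.T_conj s (map_zero _), map_zero, k]
  have f1 : ∀ s ∈ E.comap θ.toMonoidHom, C.act s e = e := fun s hs =>
    (mY s).1 (hi.E_le_Yl l (by rw [eE]; exact hs))
  have tl : TI P (span F {p, a}) := h.ti_pair l.perp
  have le : E.comap θ.toMonoidHom ≤ Rad C (span F {e}) := fun s hs =>
    ⟨mem_fix_pt.2 (f1 s hs), fun v hv => h.o2 (h.ti_pt e)
      (((h.rad_two tl).to_le (h.E_le_rad tl)).comap_of_injective _ θ.injective)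
      (fun s hs => fix_le_stb _ (mem_fix_pt.2 (f1 s hs)))
      (fun y hy => le_normalizer_comap _ (by
        have := hi.Yl_norm l ((mY y).2 (mem_fix_pt.1 hy))
        rw [eE] at this
        exact this)) hs hv⟩
  have c1 : Nat.card (E.comap θ.toMonoidHom) = Nat.card F ^ 3 := by
    rw [← hi.card_El l, eE]
    exact Nat.card_congr (θ.toEquiv.subtypeEquiv fun _ => Iff.rfl)
  have c2 : Nat.card (Rad C (span F {e})) = Nat.card F ^ 3 := by rw [h.card_Q h0, h.d4]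
  rw [← eq_of_le_of_card_ge le (c2.trans c1.symm).le]
  exact map_comap_eq_self_of_surjective θ.surjective E

theorem Gr.map_E (h : Mod C) {θ : MulAut S} (k : Gr C θ) {e p a : V} (h0 : p ≠ 0) (l : Ln P e a)
    (e1 : θ (C.T e a 0) = C.T p 0 1) :
    (C.fixG (P.perp (span F {e, a}))).map θ.toMonoidHom = Rad C (span F {p}) := by
  rw [← (k.inv h).map_Q h h0 l (by rw [← e1, MulAut.inv_apply_self]), Subgroup.map_map]
  have : θ.toMonoidHom.comp (θ⁻¹).toMonoidHom = MonoidHom.id S :=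
    MonoidHom.ext fun s => MulAut.apply_inv_self S θ s
  rw [this, Subgroup.map_id]

theorem Gr.dual (h : Mod C) {θ : MulAut S} (k : Gr C θ) {ψ ψ' : S →* G}
    (e0 : ψ = ψ'.comp θ.toMonoidHom) : Dual C ψ ψ' := by
  subst e0
  refine ⟨?_, fun e h0 => ?_, fun e a l => ?_⟩
  · rw [MonoidHom.range_comp, (MonoidHom.range_eq_top (f := θ.toMonoidHom)).2 θ.surjective,
      MonoidHom.range_eq_map]
  · obtain ⟨p, a, l, e1⟩ := k.za e h0
    exact ⟨p, a, l, congrArg ψ' e1, by rw [Rg, Eg, ← k.map_Q h h0 l e1, Subgroup.map_map]⟩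
  · obtain ⟨p, p0, e1⟩ := k.az e a l
    exact ⟨p, p0, congrArg ψ' e1, by rw [Rg, Eg, ← k.map_E h p0 l e1, Subgroup.map_map]⟩

theorem Emb.exists_dual (h : Emb C φ) : ∃ φ', Emb C φ' ∧ Dual C φ φ' ∧ Dual C φ' φ := by
  obtain ⟨θ, k⟩ := h.gr
  exact ⟨φ.comp θ.toMonoidHom, ⟨h.toMod, h.inj.comp θ.injective⟩,
    (k.inv h.toMod).dual h.toMod (MonoidHom.ext fun s => congrArg φ (MulAut.apply_inv_self S θ s).symm),
    k.dual h.toMod rfl⟩

theorem Dual.sw {φ' : S →* G} (d : Dual C φ φ') (d' : Dual C φ' φ) {g : G} (k : Sw C φ' g) :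
    Sw C φ g := by
  refine ⟨d.rng ▸ k.nL, fun e h0 => ?_, fun e a l => ?_⟩
  · obtain ⟨p, a, l, e1, -⟩ := d.pt e h0
    obtain ⟨q, q0, e2⟩ := k.az p a l
    obtain ⟨p', a', l', e3, -⟩ := d'.pt q q0
    exact ⟨p', a', l', by rw [e1, e2, e3]⟩
  · obtain ⟨p, p0, e1, -⟩ := d.ln e a l
    obtain ⟨q, b, l', e2⟩ := k.za p p0
    obtain ⟨p', p0', e3, -⟩ := d'.ln q b l'
    exact ⟨p', p0', by rw [e1, e2, e3]⟩

namespace Dual

variable {φ' : S →* G} (h : Emb C φ) (h' : Emb C φ') (d : Dual C φ φ') (d' : Dual C φ' φ)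
include h h' d d'

theorem sit (k : Sit C φ t) : Sit C φ' t := by
  exact ⟨h', d.rng ▸ k.toStd⟩

theorem ta_iff : Ta C φ' t ↔ Tz C φ t := by
  constructor
  · rintro ⟨e, a, l, k⟩
    obtain ⟨p, p0, e1, -⟩ := d'.ln e a l
    exact ⟨p, p0, e1 ▸ k⟩
  · rintro ⟨e, h0, k⟩
    obtain ⟨p, a, l, e1, -⟩ := d.pt e h0
    exact ⟨p, a, l, e1 ▸ k⟩

theorem tz_iff : Tz C φ' t ↔ Ta C φ t := by
  exact (ta_iff h' h d' d).symm

theorem sw_iff {g : G} : Sw C φ' g ↔ Sw C φ g := by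
  exact ⟨d.sw d', d'.sw d⟩

theorem Y_eq {p e a : V} (p0 : p ≠ 0) (e1 : x C φ e a = z C φ' p 1) :
    Yg C φ' (span F {p}) = Yl C φ e a := by
  rw [h'.Y_eq p0, Yl, e1, d.rng]

theorem cz_iff : CZ C φ' t ↔ CA C φ t := by
  constructor
  · rintro ⟨p, p0, q, k⟩
    obtain ⟨e, a, l, e1, -⟩ := d'.pt p p0
    rw [Y_eq h h' d d' p0 e1.symm, e1, d.rng] at k
    exact ⟨e, a, l, q, k⟩
  · rintro ⟨e, a, l, q, k⟩
    obtain ⟨p, p0, e1, -⟩ := d.ln e a l
    rw [← Y_eq h h' d d' p0 e1, e1, ← d.rng] at k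
    exact ⟨p, p0, q, k⟩

theorem ma (k : MZ C φ' t) : MA C φ t := by
  refine ⟨sit h' h d' d k.toSit, d.rng ▸ k.two', fun e a l => ?_⟩
  obtain ⟨p, p0, e1, e2⟩ := d.ln e a l
  obtain ⟨q, k1, k2, k3, k4⟩ := k.mv p p0
  exact ⟨q, e2 ▸ k1, Y_eq h h' d d' p0 e1 ▸ k2, e1 ▸ k3, d.rng ▸ k4⟩

end Dual

end CfsgLib.SP4
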