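import Cfsg.Agent.Lib.SP4.EAb
import Cfsg.Agent.Lib.SP4.Dual

/-! Large elementary abelian subgroups of C(t) -/

set_option autoImplicit false
set_option linter.unusedSectionVars false

namespace CfsgLib.SP4

open Subgroup Module CfsgLib.Forms CfsgLib.LieMult
open CfsgLib.HX (Std CO Two Mv M2)
open CfsgLib.UN (AV SI TI HH Rad Stb Yg Rg Eg Act nu)
open CfsgLib.ClSys (II)
open Submodule (span)
open scoped commutatorElement Pointwise

universe u

variable {F : Type} [Field F] [Finite F] {V : Type} [AddCommGroup V] [Module F V]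
  [FiniteDimensional F V] {P : PQ (RingHom.id F) V} {S : Type} [Group S] [Finite S] {G : Type u}
  [Group G] [Finite G] {C : CG P S} {φ : S →* G} {t : G}

namespace Sit

variable (h : Sit C φ t) {e a : V} {g : G}
include h

/-- a non-inner involution centralises at most `q²` elements of `E(l)` -/
theorem big_E (k : Ln P e a) (hg : g * t = t * g) (g2 : g * g = 1)
    (hn : ¬ ∃ l, g = φ l ∨ g = t * φ l) {X : Subgroup G} (hX : X ≤ Eg C φ (span F {e, a}))
    (hc : X ≤ centralizer {g}) : Nat.card X ≤ Nat.card F ^ 2 := by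
  have q1 : 1 < Nat.card F := Finite.one_lt_card
  obtain ⟨l, -, hl⟩ | ⟨α, γ, ha, a1, -⟩ | hs := h.invol' hg g2
  · exact absurd ⟨l, hl⟩ hn
  · have c1 := h.toEmb.card_fld (h.toMod.lag_ti (h.toMod.lag_ln k)) ha a1 hX hc
    rw [h.toEmb.card_El k] at c1
    have c2 : Nat.card F ^ 3 ≤ (Nat.card F ^ 2) ^ 2 := by
      rw [← pow_mul]; exact Nat.pow_le_pow_right q1.le (by norm_num)
    exact (Nat.pow_le_pow_iff_left two_ne_zero).1 (c1.trans c2)
  · exact h.toEmb.card_sw k hs hX hc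

theorem big_Q (h0 : e ≠ 0) (hg : g * t = t * g) (g2 : g * g = 1)
    (hn : ¬ ∃ l, g = φ l ∨ g = t * φ l) {X : Subgroup G} (hX : X ≤ Rg C φ (span F {e}))
    (hc : X ≤ centralizer {g}) : Nat.card X ≤ Nat.card F ^ 2 := by
  obtain ⟨φ', h', d, d'⟩ := h.toEmb.exists_dual
  obtain ⟨p, a, k, -, e1⟩ := d.pt e h0
  refine (Dual.sit h.toEmb h' d d' h).big_E k hg g2 ?_ (e1 ▸ hX) hc
  rintro ⟨l, hl⟩
  obtain ⟨l', e'⟩ : φ' l ∈ φ.range := d.rng ▸ ⟨l, rfl⟩
  exact hn ⟨l', by rwa [e']⟩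

/-- two non-inner involutions differ by an inner element -/
theorem big_two {g' : G} (hg : g * t = t * g) (hg' : g' * t = t * g') (g2 : g * g = 1)
    (g2' : g' * g' = 1) (c : Commute g g') (hn : ¬ ∃ l, g = φ l ∨ g = t * φ l)
    (hn' : ¬ ∃ l, g' = φ l ∨ g' = t * φ l) : ∃ l, g * g' = φ l ∨ g * g' = t * φ l := by
  obtain ⟨π, hπ⟩ := h.toEmb.exists_out
  have cyc := h.out
  have : Finite (MulAut S) := Finite.of_injective (fun f : MulAut S => (f : S → S)) DFunLike.coe_injective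
  have : Finite (Cfsg.Out S) := Finite.of_surjective _ QuotientGroup.mk_surjective
  have key : ∀ (y : G) (hy : y * t = t * y), y * y = 1 → π ⟨y, h.norm_of hy⟩ = 1 →
      ∃ l, y = φ l ∨ y = t * φ l := fun y hy y2 e => by
    obtain ⟨l, c, hc, e1⟩ := (hπ _).1 e
    change y = φ l * c at e1
    subst e1
    rcases h.toStd.invol hc (h.ct_of ⟨l, rfl⟩ hy) (h.toEmb.sq_split ⟨l, rfl⟩ hc y2).2 with rfl | rfl
    · exact ⟨l, Or.inl (mul_one _)⟩
    · exact ⟨l, Or.inr (h.tl l)⟩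
  have sq : ∀ (y : G) (hy : y * t = t * y), y * y = 1 →
      π ⟨y, h.norm_of hy⟩ * π ⟨y, h.norm_of hy⟩ = 1 := fun y hy y2 => by
    rw [← map_mul, ← π.map_one]
    exact congrArg π (Subtype.ext y2)
  have gt : g * g' * t = t * (g * g') := by rw [mul_assoc, hg', ← mul_assoc, hg, mul_assoc]
  rcases SPC.mx_two (sq g hg g2) (sq g' hg' g2') with e | e | e
  · exact absurd (key g hg g2 e) hn
  · exact absurd (key g' hg' g2' e) hn'
  · refine key _ gt (by rw [mul_assoc, ← mul_assoc g', ← c.eq, ← mul_assoc, ← mul_assoc, g2, one_mul, g2']) ?_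
    rw [← sq g' hg' g2']
    nth_rewrite 1 [← e]
    rw [← map_mul]
    rfl

/-- **bigA** -/
theorem bigA {B : Subgroup G} (h1 : B ≤ centralizer {t}) (h2 : ∀ b ∈ B, b * b = 1)
    (h3 : 2 * Nat.card F ^ 3 ≤ Nat.card B) :
    (∃ e, e ≠ 0 ∧ B = Rg C φ (span F {e}) ⊔ zpowers t) ∨
      ∃ e a, Ln P e a ∧ B = Eg C φ (span F {e, a}) ⊔ zpowers t := by
  have m := h.toMod
  have em := h.toEmb
  have t2 := h.t2
  have q1 : 1 < Nat.card F := Finite.one_lt_card
  have inv : ∀ b ∈ B, b⁻¹ = b := fun b hb => inv_eq_of_mul_eq_one_right (h2 b hb)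
  have ab : ∀ a ∈ B, ∀ b ∈ B, a * b = b * a := fun a ha b hb => by
    rw [← inv _ (B.mul_mem ha hb), mul_inv_rev, inv a ha, inv b hb]
  have bt : ∀ b ∈ B, b * t = t * b := fun b hb => (h1 hb t rfl).symm
  have tt : ∀ l l', t * φ l * (t * φ l') = φ (l * l') := fun l l' => by
    rw [map_mul, mul_assoc, ← mul_assoc (φ l), h.tl, ← mul_assoc, ← mul_assoc, t2, one_mul]
  obtain ⟨X, mX⟩ : ∃ X : Subgroup S, ∀ l, l ∈ X ↔ φ l ∈ B ∨ t * φ l ∈ B :=
    ⟨{ carrier := {l | φ l ∈ B ∨ t * φ l ∈ B}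
       one_mem' := Or.inl (by rw [map_one]; exact B.one_mem)
       mul_mem' := by
         rintro a b (ha | ha) (hb | hb)
         · exact Or.inl (by rw [map_mul]; exact B.mul_mem ha hb)
         · exact Or.inr (by rw [map_mul, ← mul_assoc, ← h.tl, mul_assoc]; exact B.mul_mem ha hb)
         · exact Or.inr (by rw [map_mul, ← mul_assoc]; exact B.mul_mem ha hb)
         · exact Or.inl (tt a b ▸ B.mul_mem ha hb)
       inv_mem' := by
         rintro a (ha | ha)
         · exact Or.inl (by rw [map_inv]; exact B.inv_mem ha)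
         · refine Or.inr ?_
           have := B.inv_mem ha
           rwa [mul_inv_rev, inv_eq_of_mul_eq_one_right t2, ← map_inv, h.tl] at this }, fun _ => Iff.rfl⟩
  have X2 : ∀ l ∈ X, l * l = 1 := by
    intro l hl
    rcases (mX l).1 hl with hl | hl <;> apply h.inj <;> rw [map_one]
    · rw [map_mul]; exact h2 _ hl
    · rw [← tt]; exact h2 _ hl
  by_cases H : ∀ b ∈ B, ∃ l, b = φ l ∨ b = t * φ l
  · have fin : ∀ Y : Subgroup S, X ≤ Y → Nat.card (Y.map φ) = Nat.card F ^ 3 →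
        B = Y.map φ ⊔ zpowers t := fun Y hX hY => by
      have EL : Y.map φ ≤ φ.range := map_le_range φ _
      refine eq_of_le_of_card_ge (fun b hb => (h.mem_sup_t EL).2 ?_) ?_
      · obtain ⟨l, rfl | rfl⟩ := H b hb
        · exact Or.inl ⟨l, hX ((mX l).2 (Or.inl hb)), rfl⟩
        · exact Or.inr ⟨l, hX ((mX l).2 (Or.inr hb)), by rw [← mul_assoc, t2, one_mul]⟩
      · rwa [h.card_sup_t EL, hY]
    rcases m.eab X2 with ⟨e, h0, hX⟩ | ⟨e, a, k, hX⟩
    · exact Or.inl ⟨e, h0, fin _ hX (em.card_Q h0)⟩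
    · exact Or.inr ⟨e, a, k, fin _ hX (em.card_El k)⟩
  · exfalso
    simp only [not_forall] at H
    obtain ⟨g, hg, H⟩ := H
    obtain ⟨f, ef⟩ : ∃ f : X × Bool → G, ∀ l, f (l, false) = φ l ∧ f (l, true) = t * φ l :=
      ⟨fun p => if p.2 then t * φ p.1 else φ p.1, fun _ => ⟨rfl, rfl⟩⟩
    have hf : ∀ b ∈ B, (∃ l, b = φ l ∨ b = t * φ l) → ∃ i, f i = b := by
      rintro b hb ⟨l, rfl | rfl⟩
      · exact ⟨(⟨l, (mX l).2 (Or.inl hb)⟩, false), (ef _).1⟩
      · exact ⟨(⟨l, (mX l).2 (Or.inr hb)⟩, true), (ef _).2⟩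
    have c1 := SPC.mx_card_le (A := (B : Set G))
      (fun p : (X × Bool) × Bool => if p.2 then g * f p.1 else f p.1) fun b hb => by
        by_cases e : ∃ l, b = φ l ∨ b = t * φ l
        · obtain ⟨i, hi⟩ := hf b hb e
          exact ⟨(i, false), hi⟩
        obtain ⟨i, hi⟩ := hf _ (B.mul_mem hg hb)
          (h.big_two (bt g hg) (bt b hb) (h2 g hg) (h2 b hb) (ab g hg b hb) H e)
        refine ⟨(i, true), ?_⟩
        change g * f i = b
        rw [hi, ← mul_assoc, h2 g hg, one_mul]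
    rw [Nat.card_prod, Nat.card_prod, Nat.card_eq_fintype_card (α := Bool), Fintype.card_bool] at c1
    change Nat.card B ≤ _ at c1
    have hc : X.map φ ≤ centralizer {g} := by
      rintro _ ⟨l, hl, rfl⟩ y rfl
      rcases (mX l).1 hl with hl | hl
      · exact ab _ hg _ hl
      · have := ab _ hg _ hl
        rw [← mul_assoc, bt _ hg, mul_assoc, mul_assoc] at this
        exact mul_left_cancel this
    have c2 : Nat.card (X.map φ) ≤ Nat.card F ^ 2 := by
      rcases m.eab X2 with ⟨e, h0, hX⟩ | ⟨e, a, k, hX⟩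
      · exact h.big_Q h0 (bt g hg) (h2 g hg) H (map_mono hX) hc
      · exact h.big_E k (bt g hg) (h2 g hg) H (map_mono hX) hc
    rw [card_map_of_injective h.inj] at c2
    have q2 : Nat.card F ≠ 2 := fun e => m.big (m.small_iff.2 e)
    have q3 : 3 ≤ Nat.card F := by omega
    have qp : 0 < Nat.card F ^ 2 := pow_pos (by omega) _
    rw [pow_succ] at h3
    nlinarith

/-- **NL**: no conjugate of `t` lies in `L` -/
theorem nL (g : G) : g * t * g⁻¹ ∉ φ.range := by
  rintro ⟨l, hl⟩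
  have m := h.toMod
  have em := h.toEmb
  obtain ⟨e, h0⟩ := m.exists_ne0
  obtain ⟨a, k⟩ := m.exists_ln h0
  have l2 : l * l = 1 := h.inj (by rw [map_mul, hl, map_one, conj_mul, h.t2]; group)
  obtain ⟨s, r, v, es⟩ := em.invol_cls k l2
  have sm : φ s * g * t * (φ s * g)⁻¹ ∈ Rg C φ (span F {e}) ⊓ Eg C φ (span F {e, a}) :=
    (em.mem_QE k).2 ⟨r, v, by rw [← es, hl]; group⟩
  have h' := h.cj (φ s * g)
  generalize (MulAut.conj (φ s * g)).toMonoidHom.comp φ = φ' at h'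
  generalize φ s * g * t * (φ s * g)⁻¹ = u at h' sm
  have key : ∀ H : Subgroup G, H ≤ φ.range → u ∈ H → (∀ y ∈ H, y * y = 1) →
      Nat.card H = Nat.card F ^ 3 → ∃ W ≤ φ'.range, H ≤ W ⊔ zpowers u := fun H HL uH sq hc => by
    have sq' : ∀ b ∈ H ⊔ zpowers t, b * b = 1 := fun b hb => by
      rcases (h.mem_sup_t HL).1 hb with e | e
      · exact sq b e
      · have e1 := sq _ e
        have e2 := h.tL (HL e)
        have e3 : b * t = t * b := by
          rw [mul_assoc] at e2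
          exact mul_left_cancel e2
        rwa [mul_assoc, ← mul_assoc b, e3, ← mul_assoc, ← mul_assoc, h.t2, one_mul] at e1
    have inv : ∀ b ∈ H ⊔ zpowers t, b⁻¹ = b := fun b hb => inv_eq_of_mul_eq_one_right (sq' b hb)
    have um : u ∈ H ⊔ zpowers t := mem_sup_left uH
    rcases h'.bigA (B := H ⊔ zpowers t) (fun b hb y hy => by
        rw [Set.mem_singleton_iff.1 hy, ← inv _ (mul_mem um hb), mul_inv_rev, inv _ um, inv b hb]) sq'
      (by rw [h.card_sup_t HL, hc]) with ⟨p, -, e1⟩ | ⟨p, b, -, e1⟩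
    · exact ⟨_, map_le_range φ' _, le_sup_left.trans e1.le⟩
    · exact ⟨_, map_le_range φ' _, le_sup_left.trans e1.le⟩
  obtain ⟨W₁, a1, b1⟩ := key _ (map_le_range φ _) sm.1 (fun y hy => em.Q_sq h0 hy) (em.card_Q h0)
  obtain ⟨W₂, a2, b2⟩ := key _ (map_le_range φ _) sm.2 (by
    rintro _ ⟨y, hy, rfl⟩
    rw [← map_mul, m.E_sq (m.lag_ti (m.lag_ln k)) hy, map_one]) (em.card_El k)
  have c1 := commutator_mono b1 b2 (em.QE_le_comm k sm)
  rw [h'.loc_comm a1 a2] at c1
  exact h'.t_not_mem (commutator_le.2 (fun x hx y hy =>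
    mul_mem (mul_mem (mul_mem (a1 hx) (a2 hy)) (inv_mem (a1 hx))) (inv_mem (a2 hy))) c1)

end Sit

end CfsgLib.SP4
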