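import Cfsg.Agent.Lib.SP4.CVe

/-! Type C: the action of `w e c` on `v e'` -/

set_option autoImplicit false
set_option linter.unusedSectionVars false

namespace CfsgLib.SP4

open Subgroup Module CfsgLib.Forms CfsgLib.LieMult
open CfsgLib.HX (Std CO Two Mv M2)
open CfsgLib.UN (AV SI TI HH Rad Stb Yg Rg Eg Act nu)
open CfsgLib.ClSys (II)
open Submodule (span)
open scoped commutatorElement Pointwise

universe u

variable {F : Type} [Field F] [Finite F] {V : Type} [AddCommGroup V] [Module F V]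
  [FiniteDimensional F V] {P : PQ (RingHom.id F) V} {S : Type} [Group S] [Finite S] {G : Type u}
  [Group G] [Finite G] {C : CG P S} {φ : S →* G} {t : G}

/-- the elementary abelian group `Ẑ` of the line `⟨e, e'⟩` -/
def cvfZ (C : CG P S) (φ : S →* G) (w : V → V → G) (e e' : V) (a b c d : F) : G :=
  τ C φ e (c • e') a * w e (d • e') * z C φ e' b

theorem cvf_abs {H : Type*} [Group H] {g g₀ U n : H} (h1 : g * U = U * n * g) (h2 : g₀ * U = U * n * g₀)
    (c1 : Commute n g) (c2 : Commute n g₀) : Commute (g * g₀⁻¹) U :=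
  calc g * g₀⁻¹ * U = g * g₀⁻¹ * (U * n * g₀) * g₀⁻¹ * n⁻¹ := by group
    _ = U * (n * (g * g₀⁻¹) * n⁻¹) := by rw [← h2, ← mul_assoc (g * g₀⁻¹), inv_mul_cancel_right, h1]; group
    _ = _ := by rw [cv_conj (c1.mul_right c2.inv_right)]

namespace HW

variable {w : V → V → G} {δ : F} (h : HW C φ t w 1 δ) {e e' c : V} (k : P.B e e' = 0)
include h k

theorem fZ_conj (l : S) (a b c d : F) :
    φ l * cvfZ C φ w e e' a b c d * (φ l)⁻¹ = cvfZ C φ w (C.act l e) (C.act l e') a b c d := by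
  rw [cvfZ, cvfZ, ← map_smul, ← map_smul, ← h.τ_conj l (by simp [k]), ← h.eqv l _ _ (by simp [k]),
    ← h.z_conj]
  group

theorem fZ_mul (a b c d a' b' c' d' : F) : cvfZ C φ w e e' a b c d * cvfZ C φ w e e' a' b' c' d' =
    cvfZ C φ w e e' (a + a') (b + b') (c + c') (d + d') := by
  have k1 := P.B_eq_zero_comm.1 k
  have c1 : Commute (z C φ e' b) (τ C φ e (c' • e') a' * w e (d' • e')) := by
    refine Commute.mul_right (cv_of_conj ?_) (h.bw_τ (by simp [k]) (map_zero _) k1 (by simp [h.B_self])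
      (by simp) (by simp) b).symm
    have := h.τ_conj (C.T e' 0 b) (e := e) (a := c' • e') (by simp [k]) a'
    rw [h.z_app, h.z_app] at this
    simpa [k1, h.B_self] using! this
  rw [cvfZ, cvfZ, cvfZ, ← c1.symm.mul_mul_mul_comm,
    h.bw_mul (by simp [k]) (by simp [k]) (by simp [k]) (by simp [k]), h.z_add, add_smul, add_smul]
  simp [h.B_self]

theorem fZ_mul' (a b c d a' b' c' d' : F) (y : G) :
    cvfZ C φ w e e' a b c d * (cvfZ C φ w e e' a' b' c' d' * y) =
      cvfZ C φ w e e' (a + a') (b + b') (c + c') (d + d') * y := by rw [← mul_assoc, h.fZ_mul k]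

theorem fZ_z (a : F) : z C φ e a = cvfZ C φ w e e' a 0 0 0 := by
  rw [cvfZ, zero_smul, h.bw_zero, h.z_zero, mul_one, mul_one]; rfl

theorem fZ_z' (b : F) : z C φ e' b = cvfZ C φ w e e' 0 b 0 0 := by
  rw [cvfZ, zero_smul, h.bw_zero, show τ C φ e 0 0 = 1 from h.z_zero e, one_mul, one_mul]

theorem fZ_x (c : F) : x C φ e (c • e') = cvfZ C φ w e e' 0 0 c 0 := by
  rw [cvfZ, zero_smul, h.bw_zero, h.z_zero, mul_one, mul_one]; rfl

theorem fZ_w (d : F) : w e (d • e') = cvfZ C φ w e e' 0 0 0 d := by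
  rw [cvfZ, zero_smul, show τ C φ e 0 0 = 1 from h.z_zero e, h.z_zero, mul_one, one_mul]

theorem fZ_x' (c : F) : x C φ e' (c • e) = cvfZ C φ w e e' 0 0 c 0 := by
  rw [← h.x_symm (by simp [k]), h.x_smul k, h.fZ_x k]

theorem fZ_w' (d : F) : w e' (d • e) = cvfZ C φ w e e' 0 0 d d := by
  rw [h.symm _ _ (by simp [k]), h.smul _ _ _ k, h.x_smul (by simp [k]), h.fZ_w k, smul_smul, h.fZ_x k,
    h.fZ_mul k]
  simp

theorem fZ_one : cvfZ C φ w e e' 0 0 0 0 = 1 := by rw [← h.fZ_z k, h.z_zero]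

theorem fZ_sq (a b c d : F) : cvfZ C φ w e e' a b c d * cvfZ C φ w e e' a b c d = 1 := by
  rw [h.fZ_mul k, h.add_self, h.add_self, h.add_self, h.add_self, h.fZ_one k]

theorem fZ_comm (a b c d a' b' c' d' : F) :
    Commute (cvfZ C φ w e e' a b c d) (cvfZ C φ w e e' a' b' c' d') := by
  rw [Commute, SemiconjBy, h.fZ_mul k, h.fZ_mul k, add_comm a, add_comm b, add_comm c, add_comm d]

theorem fZ_W (k' : P.B e c = 0) (k'' : P.B c e' = 1) (a b m d : F) :
    w e c * cvfZ C φ w e e' a b m d * w e c = cvfZ C φ w e e' (a + m + δ * b) b m (d + b) := by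
  have k1 := P.B_eq_zero_comm.1 k
  have e1 : z C φ e' b * w e c * (z C φ e' b)⁻¹ = w e c * w e (b • e') * z C φ e (δ * b) := by
    have := h.eqv (C.T e' 0 b) e c k'
    rw [h.z_app, h.z_app, k1, h.B_comm e' c, k'', mul_zero, zero_smul, add_zero, mul_one] at this
    rw [h.del rfl e c _ k' (by simp [k]), mul_assoc (w e (c + b • e')), map_smul, k'', smul_eq_mul,
      mul_one, h.z_sq, mul_one]
    exact this
  have e2 := h.wQ e c (m • e') a k' (by simp [k])
  have e3 := h.com e c (d • e') k' (by simp [k])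
  have e4 := h.sq e c k'
  calc w e c * cvfZ C φ w e e' a b m d * w e c = w e c * τ C φ e (m • e') a * w e c *
        ((w e c)⁻¹ * w e (d • e')) * (z C φ e' b * w e c * (z C φ e' b)⁻¹) * z C φ e' b := by
        rw [cvfZ]; group
    _ = τ C φ e (m • e') (a + m) * w e (d • e') * (w e c * w e c) * w e (b • e') * z C φ e (δ * b) *
        z C φ e' b := by
        rw [e1, e2, h.bw_inv k', e3.eq, map_smul, k'', smul_eq_mul, mul_one, one_mul]; group
    _ = _ := by
        rw [e4, mul_one, h.τ_eq (by simp [k]), h.fZ_x k, h.fZ_z k, h.fZ_z k, h.fZ_w k, h.fZ_w k, h.fZ_z' k]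
        simp only [h.fZ_mul k, add_zero, zero_add]

theorem fZ_p {p : V} (hp : p ∈ span F {e, e'}) (μ : F) : ∃ a b m, z C φ p μ = cvfZ C φ w e e' a b m 0 := by
  obtain ⟨α, β, rfl⟩ := Submodule.mem_span_pair.1 hp
  refine ⟨α * α * μ, β * β * μ, α * (μ * β), ?_⟩
  rw [h.z_line (by simp [k]), h.z_smul, h.z_smul, h.x_smul (by simp [k]), smul_smul, smul_smul, h.fZ_z k,
    h.fZ_z' k, h.fZ_x k]
  simp only [h.fZ_mul k, add_zero, zero_add, mul_assoc]

end HW

namespace HV0

variable {w : V → V → G} {u v : V → G} {δ : F} (h : HV0 C φ t w u v δ) {e e' c : V}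
include h

theorem fZ_u (k : P.B e e' = 0) {q : V} (h1 : P.B e q = 0) (h2 : P.B e' q = 0) (a b m d : F) :
    Commute (cvfZ C φ w e e' a b m d) (u q) :=
  (((h.bu_τ (by simp [k]) h1 (by simp [h2]) a).mul_right (h.uw q e (d • e') (P.B_eq_zero_comm.1 h1)
    (by simp [P.B_eq_zero_comm.1 h2]) (by simp [k]))).mul_right
      (h.bu_τ (map_zero _) h2 (by simp) b)).symm

theorem cvf_vτ {a b q : V} (k : P.B a b = 0) (h1 : P.B a q = 0) (h2 : P.B b q = 0) (d : F) :
    Commute (τ C φ a b d) (v q) := by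
  have := h.veqv (C.T a b d) q
  rw [h.T_app k, h1, h2] at this
  exact cv_of_conj (by simpa using! this)

theorem fZ_v (k : P.B e e' = 0) {q : V} (h1 : P.B e q = 0) (h2 : P.B e' q = 0) (a b m d : F) :
    Commute (cvfZ C φ w e e' a b m d) (v q) :=
  ((h.cvf_vτ (by simp [k]) h1 (by simp [h2]) a).mul_left (h.vw q e (d • e') (P.B_eq_zero_comm.1 h1)
    (by simp [P.B_eq_zero_comm.1 h2]) (by simp [k])).symm).mul_left
      (h.cvf_vτ (map_zero _) h2 (by simp) b)

/-- `g₀` commutes with `Ẑ` -/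
theorem fZ_g0 (k : P.B e e' = 0) (a b m d : F) : Commute (cvfZ C φ w e e' a b m d)
    (v e' * u (δ • e) * v e * x C φ e ((δ * δ) • e')) := by
  have k1 := P.B_eq_zero_comm.1 k
  rw [h.fZ_x k]
  exact (((h.fZ_v k k (h.B_self _) ..).mul_right (h.fZ_u k (by simp [h.B_self]) (by simp [k1]) ..)).mul_right
    (h.fZ_v k (h.B_self _) k1 ..)).mul_right (h.fZ_comm k ..)

/-- `g` commutes with `Ẑ` -/
theorem fZ_g (k : P.B e e' = 0) (k' : P.B e c = 0) (k'' : P.B c e' = 1) (a b m d : F) :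
    Commute (cvfZ C φ w e e' a b m d) (w e c * v e' * w e c) := by
  have e1 := h.fZ_W k k' k'' a b m d
  have e2 := (h.fZ_v k k (h.B_self _) (a + m + δ * b) b m (d + b)).eq
  rw [← e1] at e2
  calc _ = (w e c)⁻¹ * (w e c * cvfZ C φ w e e' a b m d * w e c * v e') * w e c := by group
    _ = _ := by rw [e2, h.bw_inv k', mul_assoc, mul_assoc, mul_assoc, mul_assoc, h.sq e c k', mul_one]; group

theorem cvf_uu (k : P.B e e' = 0) (l : F) :
    u e' * u (l • e) = u (l • e) * u e' * cvfZ C φ w e e' 0 0 l 0 := by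
  rw [h.bu_u (by simp [P.B_eq_zero_comm.1 k]), h.fZ_x' k]

theorem cvf_uv (k : P.B e e' = 0) : u e' * v e = v e * u e' * cvfZ C φ w e e' 0 0 0 1 := by
  have := h.uv e' ((1 : F) • e) (by simp [P.B_eq_zero_comm.1 k])
  rw [h.fZ_w' k, h.fZ_x' k, one_smul, mul_assoc, h.fZ_mul k, h.add_self 1] at this
  simpa using this

theorem cvf_uv' (k : P.B e e' = 0) : u e' * v e' = v e' * u e' * cvfZ C φ w e e' 0 1 0 0 := by
  have := h.uv e' ((1 : F) • e') (by simp [h.B_self])
  rwa [h.bw_self, h.x_self, one_smul, mul_one, h.fZ_z' k] at this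

theorem cvf_WU (k : P.B e e' = 0) (k' : P.B e c = 0) (k'' : P.B c e' = 1) :
    w e c * u e' * w e c = v e * u e' * cvfZ C φ w e e' 0 0 δ 1 := by
  have := h.vdef e e' c k k'
  rw [k'', h.fZ_w k, h.fZ_x k, one_smul, mul_one, mul_assoc (w e c * v e), h.fZ_mul k] at this
  calc _ = w e c * (u e' * w e c * (u e')⁻¹) * u e' := by group
    _ = w e c * w e c * v e * (cvfZ C φ w e e' 0 0 δ 1 * u e') := by
      rw [this]; simp only [mul_assoc, add_zero, zero_add]
    _ = _ := by rw [h.sq e c k', one_mul, (h.fZ_u k k (h.B_self _) ..).eq, mul_assoc]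

variable {s : F} (hs : ∀ p p', P.B p p' = 0 → v (p + p') = v p * v p' * w p (δ • p') * x C φ p (s • p'))
include hs

theorem cvf_vv (k : P.B e e' = 0) : v e' * v e = v e * v e' * cvfZ C φ w e e' 0 0 δ 0 := by
  have a1 := hs e' e (P.B_eq_zero_comm.1 k)
  rw [add_comm, hs e e' k, h.fZ_w' k, h.fZ_x' k, h.fZ_w k, h.fZ_x k] at a1
  have a2 := mul_right_cancel a1
  calc _ = v e' * v e * cvfZ C φ w e e' 0 0 δ δ * cvfZ C φ w e e' 0 0 δ δ := by
        rw [mul_assoc, h.fZ_sq k, mul_one]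
    _ = _ := by rw [← a2, mul_assoc, h.fZ_mul k, h.add_self δ]; simp

/-- (a) -/
theorem cvf_t (k : P.B e e' = 0) (k' : P.B e c = 0) (k'' : P.B c e' = 1) :
    t * (w e c * v e' * w e c * (v e' * u (δ • e) * v e * x C φ e ((δ * δ) • e'))⁻¹) * t⁻¹ =
      w e c * v e' * w e c * (v e' * u (δ • e) * v e * x C φ e ((δ * δ) • e'))⁻¹ *
        (x C φ e (s • e') * z C φ e s) := by
  have k1 := P.B_eq_zero_comm.1 k
  have ee := h.B_self e
  have c1 := fun a b m d => h.fZ_v k k (h.B_self _) a b m d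
  have c2 := fun a b m d => h.fZ_v k ee k1 a b m d
  have c3 := fun a b m d => h.fZ_u k k (h.B_self _) a b m d
  have c4 := fun a b m d => h.fZ_u k ee k1 a b m d
  have c5 := fun a b m d => h.fZ_u k (q := δ • e) (by simp [ee]) (by simp [k1]) a b m d
  have W2 := h.sq e c k'
  have aX : C.act (C.T e c 0) e' = e' + e := by rw [h.x_app k', k, k'']; simp
  have X1 : x C φ e c * v e' * (x C φ e c)⁻¹ = v e' * v e * cvfZ C φ w e e' 0 0 (δ + s) δ := by
    rw [x, h.veqv, aX, hs e' e k1, h.fZ_w' k, h.fZ_x' k, mul_assoc, h.fZ_mul k]; simp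
  have X2 : x C φ e c * u e' * (x C φ e c)⁻¹ = u e' * u e * cvfZ C φ w e e' 0 0 1 1 := by
    rw [x, h.ueqv, aX, h.uline e' e k1, ← h.fZ_w' k, one_smul]
  have X3 : x C φ e c * z C φ e' (δ + 1) * (x C φ e c)⁻¹ = cvfZ C φ w e e' (δ + 1) (δ + 1) (δ + 1) 0 := by
    rw [x, h.z_conj, aX, h.z_line k1, h.fZ_z k, h.fZ_z' k, h.fZ_x' k, h.fZ_mul k, h.fZ_mul k]; simp
  have X4 : x C φ e c * w e c * x C φ e c = w e c :=
    cv_sw (h.cv_wx k' k' (h.B_self c) 0).symm (h.x_sq k')
  have W1 := cv_sw (h.vw e e c ee k' k').symm W2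
  have W3 := cv_sw (h.uw e e c ee k' k').symm W2
  have tg : t * (w e c * v e' * w e c) * t⁻¹ = w e c * v e' * w e c *
      (u e' * u e * cvfZ C φ w e e' (δ * δ + δ + 1) (δ + 1) δ 1) * cvfZ C φ w e e' s 0 s 0 :=
    calc _ = t * w e c * t⁻¹ * (t * v e' * t⁻¹) * (t * w e c * t⁻¹) := by group
      _ = w e c * ((x C φ e c * v e' * (x C φ e c)⁻¹) * (x C φ e c * u e' * (x C φ e c)⁻¹) *
          (x C φ e c * z C φ e' (δ + 1) * (x C φ e c)⁻¹)) * (x C φ e c * w e c * x C φ e c) := by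
        rw [h.bw_t k', h.vt]; group
      _ = w e c * (v e' * v e * u e' * u e * cvfZ C φ w e e' (δ + 1) (δ + 1) s (δ + 1)) * w e c := by
        rw [X1, X2, X3, X4]
        simp only [mul_assoc, (c3 ..).left_comm, (c4 ..).left_comm, h.fZ_mul' k]
        congr 7
        · ring
        · ring
        · linear_combination (δ + 1) * h.two
        · ring
      _ = w e c * v e' * w e c * (w e c * v e * w e c) * (w e c * u e' * w e c) * (w e c * u e * w e c) *
          (w e c * cvfZ C φ w e e' (δ + 1) (δ + 1) s (δ + 1) * w e c) := by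
        simp only [mul_assoc, ← mul_assoc (w e c) (w e c), W2, one_mul]
      _ = w e c * v e' * w e c * (v e * v e) * (u e' * (cvfZ C φ w e e' 0 0 δ 1 * (u e *
          cvfZ C φ w e e' (δ + 1 + s + δ * (δ + 1)) (δ + 1) s (δ + 1 + (δ + 1))))) := by
        rw [W1, W3, h.cvf_WU k k' k'', h.fZ_W k k' k'']; simp only [mul_assoc]
      _ = _ := by
        rw [h.vsq, h.fZ_z k]
        simp only [mul_assoc, (c3 ..).left_comm, (c4 ..).left_comm, h.fZ_mul k, h.fZ_mul' k]
        congr 6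
        · linear_combination δ * h.two
        · ring
        · ring
        · linear_combination (δ + 1) * h.two
  have tg0 : t * (v e' * u (δ • e) * v e * x C φ e ((δ * δ) • e')) * t⁻¹ =
      v e' * u (δ • e) * v e * x C φ e ((δ * δ) • e') *
        (u e' * u e * cvfZ C φ w e e' (δ * δ + δ + 1) (δ + 1) δ 1) :=
    calc _ = t * v e' * t⁻¹ * (t * u (δ • e) * t⁻¹) * (t * v e * t⁻¹) *
          (t * x C φ e ((δ * δ) • e') * t⁻¹) := by group
      _ = v e' * (u e' * u (δ • e)) * v e * u e *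
          cvfZ C φ w e e' (δ * δ + δ + 1) (δ + 1) (δ * δ) 0 := by
        rw [h.vt, h.vt, h.bu_t, x, cv_conj (h.tl _).symm, ← x, h.z_smul, h.fZ_z k, h.fZ_z k, h.fZ_z' k, h.fZ_x k]
        simp only [mul_assoc, (c2 ..).left_comm, (c4 ..).left_comm, (c5 ..).left_comm, h.fZ_mul k, h.fZ_mul' k]
        congr 6 <;> ring
      _ = v e' * u (δ • e) * (u e' * v e) * u e *
          cvfZ C φ w e e' (δ * δ + δ + 1) (δ + 1) (δ * δ + δ) 0 := by
        rw [h.cvf_uu k]
        simp only [mul_assoc, (c2 ..).left_comm, (c4 ..).left_comm, h.fZ_mul k, h.fZ_mul' k]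
        congr 6 <;> ring
      _ = _ := by
        rw [h.cvf_uv k, h.fZ_x k]
        simp only [mul_assoc, (c3 ..).left_comm, (c4 ..).left_comm, h.fZ_mul k, h.fZ_mul' k]
        congr 6 <;> ring
  rw [h.fZ_x k s, h.fZ_z k s, h.fZ_mul k, add_zero, add_zero, zero_add, mul_assoc _ _ (cvfZ C φ w e e' s 0 s 0),
    ← (h.fZ_g0 k s 0 s 0).inv_right.eq]
  have c6 := ((c3 s 0 s 0).mul_right (c4 s 0 s 0)).mul_right (h.fZ_comm k s 0 s 0 (δ * δ + δ + 1) (δ + 1) δ 1)
  rw [← conj_mul, ← conj_inv, tg, tg0, mul_assoc _ _ (cvfZ C φ w e e' s 0 s 0), ← c6.eq]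
  group

/-- (d) -/
theorem cvf_U (k : P.B e e' = 0) (k' : P.B e c = 0) (k'' : P.B c e' = 1) :
    Commute (w e c * v e' * w e c * (v e' * u (δ • e) * v e * x C φ e ((δ * δ) • e'))⁻¹) (u e') := by
  have k1 := P.B_eq_zero_comm.1 k
  have ee := h.B_self e
  have c1 := fun a b m d => h.fZ_v k k (h.B_self _) a b m d
  have c2 := fun a b m d => h.fZ_v k ee k1 a b m d
  have c3 := fun a b m d => h.fZ_u k k (h.B_self _) a b m d
  have c5 := fun a b m d => h.fZ_u k (q := δ • e) (by simp [ee]) (by simp [k1]) a b m d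
  have W2 := h.sq e c k'
  have fl : ∀ {A B : G} {a b m d : F}, A = B * cvfZ C φ w e e' a b m d → B = A * cvfZ C φ w e e' a b m d :=
    fun e1 => by rw [e1, mul_assoc, h.fZ_sq k, mul_one]
  have r1 := fl (h.cvf_uv' k)
  refine cvf_abs (n := cvfZ C φ w e e' 0 1 δ 1) ?_ ?_ (h.fZ_g k k' k'' ..) (h.fZ_g0 k ..)
  · calc _ = w e c * v e' * (w e c * u e' * w e c) * w e c := by
          simp only [mul_assoc, W2, mul_one]
      _ = w e c * (v e' * v e) * u e' * cvfZ C φ w e e' 0 0 δ 1 * w e c := by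
          rw [h.cvf_WU k k' k'']; simp only [mul_assoc]
      _ = w e c * v e * (v e' * u e') * cvfZ C φ w e e' 0 0 δ 0 * cvfZ C φ w e e' 0 0 δ 1 * w e c := by
          rw [h.cvf_vv hs k]; simp only [mul_assoc, (c3 ..).left_comm]
      _ = w e c * (v e * u e' * cvfZ C φ w e e' 0 0 δ 1) * w e c *
          (w e c * cvfZ C φ w e e' 0 1 δ 0 * w e c) * (w e c * v e' * w e c) := by
          rw [r1]
          simp only [mul_assoc, ← mul_assoc (w e c) (w e c), W2, one_mul, (c1 ..).left_comm, h.fZ_mul' k]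
          congr 6 <;> ring
      _ = _ := by
          rw [← h.cvf_WU k k' k'', h.fZ_W k k' k'', mul_one, zero_add, zero_add, h.add_self]
          simp only [mul_assoc, ← mul_assoc (w e c) (w e c), W2, one_mul]
  · calc _ = v e' * u (δ • e) * (v e * u e') * cvfZ C φ w e e' 0 0 (δ * δ) 0 := by
          rw [h.fZ_x k]; simp only [mul_assoc, (c3 ..).eq]
      _ = v e' * (u (δ • e) * u e') * v e * cvfZ C φ w e e' 0 0 (δ * δ) 1 := by
          rw [fl (h.cvf_uv k)]; simp only [mul_assoc, h.fZ_mul k, add_zero, zero_add]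
      _ = v e' * u e' * u (δ • e) * v e * cvfZ C φ w e e' 0 0 (δ + δ * δ) 1 := by
          rw [fl (h.cvf_uu k δ)]
          simp only [mul_assoc, (c2 ..).left_comm, h.fZ_mul k, add_zero, zero_add]
      _ = _ := by
          rw [r1, h.fZ_x k]
          simp only [mul_assoc, (c1 ..).left_comm, (c2 ..).left_comm, (c5 ..).left_comm, h.fZ_mul k,
            add_zero, zero_add]

omit hs in
/-- (b) -/
theorem cvf_E (k : P.B e e' = 0) (k' : P.B e c = 0) (k'' : P.B c e' = 1) {p : V} (hp : p ∈ span F {e, e'})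
    (μ : F) :
    Commute (w e c * v e' * w e c * (v e' * u (δ • e) * v e * x C φ e ((δ * δ) • e'))⁻¹) (z C φ p μ) := by
  obtain ⟨a, b, m, e1⟩ := h.fZ_p k hp μ
  rw [e1]
  exact ((h.fZ_g k k' k'' ..).mul_right (h.fZ_g0 k ..).inv_right).symm

theorem cvf_ex (e0 : e ≠ 0) (k : P.B e e' = 0) (k' : P.B e c = 0) (k'' : P.B c e' = 1) :
    s = 0 ∧ ∃ r σ r' : F, ∃ o, OO P φ t w u o ∧ w e c * v e' * w e c =
      z C φ e r * x C φ e (σ • e') * z C φ e' r' * o * (v e' * u (δ • e) * v e * x C φ e ((δ * δ) • e')) := by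
  have k1 := P.B_eq_zero_comm.1 k
  have ln := h.cv_ln e0 k k' k''
  obtain ⟨l, rfl⟩ := h.exists_sqrt s
  have a1 := h.cvf_t hs k k' k''
  have a2 := h.cvf_U hs k k' k''
  have a3 : ∀ a b m d, Commute (cvfZ C φ w e e' a b m d) _ := fun a b m d =>
    (h.fZ_g k k' k'' a b m d).mul_right (h.fZ_g0 k a b m d).inv_right
  set g := w e c * v e' * w e c * (v e' * u (δ • e) * v e * x C φ e ((δ * δ) • e'))⁻¹ with hg
  have c3 := fun a b m d => h.fZ_u k k (h.B_self _) a b m d
  have c5 := fun a b m d => h.fZ_u k (q := l • e) (by simp [h.B_self]) (by simp [k1]) a b m d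
  have ty : t * (u (l • e) * w e ((l * l) • e')) * t⁻¹ =
      u (l • e) * w e ((l * l) • e') * (x C φ e ((l * l) • e') * z C φ e (l * l)) := by
    rw [← conj_mul, h.bu_t, h.bw_t (by simp [k]), h.z_smul, mul_one, h.fZ_w k, h.fZ_x k, h.fZ_z k]
    simp only [mul_assoc, h.fZ_mul k, add_zero, zero_add]
  have cy : ∀ a b m d, Commute (cvfZ C φ w e e' a b m d) (u (l • e) * w e ((l * l) • e')) := fun a b m d => by
    rw [h.fZ_w k]; exact (c5 ..).mul_right (h.fZ_comm k ..)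
  have yU : u e' * (u (l • e) * w e ((l * l) • e')) =
      u (l • e) * w e ((l * l) • e') * (u e' * cvfZ C φ w e e' 0 0 l 0) := by
    rw [← mul_assoc, h.cvf_uu k, h.fZ_w k]
    simp only [mul_assoc, (c3 ..).left_comm, h.fZ_mul k, add_zero, zero_add]
  set y := u (l • e) * w e ((l * l) • e') with hy
  obtain ⟨r, σ, r', o, ho, e1⟩ := h.cv_keyL ln (k := g * y⁻¹)
    (cv_of_conj (by rw [← conj_mul, ← conj_inv, a1, ty]; group)).symm fun p hp μ => by
      obtain ⟨a, b, m, e1⟩ := h.fZ_p k hp μ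
      rw [e1]
      exact ((a3 ..).mul_right (cy ..).inv_right).symm
  have a4 : g * y⁻¹ * u e' * (g * y⁻¹)⁻¹ = u e' * cvfZ C φ w e e' 0 0 l 0 :=
    calc _ = g * y⁻¹ * (u e' * y) * g⁻¹ := by group
      _ = g * (u e' * cvfZ C φ w e e' 0 0 l 0) * g⁻¹ := by rw [yU]; group
      _ = _ := cv_conj (a2.mul_right (a3 ..).symm)
  have cε : Commute (z C φ e r * x C φ e (σ • e') * z C φ e' r') (u e') := by
    rw [h.fZ_z k, h.fZ_x k, h.fZ_z' k, h.fZ_mul k, h.fZ_mul k]; exact c3 ..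
  rcases e1 with e1 | e1
  · rw [e1, cv_conj (cε.mul_left (ho.cu e')), left_eq_mul, ← h.fZ_x k, h.x_eq_one ln] at a4
    subst a4
    refine ⟨mul_zero _, r, σ, r', o, ho, ?_⟩
    rw [← e1, hy, mul_zero, zero_smul, zero_smul, h.bu_zero, h.bw_zero, hg]
    group
  · have a5 : g * y⁻¹ * u e' * (g * y⁻¹)⁻¹ = u e' * cvfZ C φ w e e' 0 1 0 0 :=
      calc _ = (z C φ e r * x C φ e (σ • e') * z C φ e' r') * (t * (o * u e' * o⁻¹) * t⁻¹) *
            (z C φ e r * x C φ e (σ • e') * z C φ e' r')⁻¹ := by rw [e1]; group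
        _ = _ := by
          rw [cv_conj (ho.cu e'), h.bu_t, h.fZ_z' k 1]
          refine cv_conj (cε.mul_right ?_)
          rw [h.fZ_z k, h.fZ_x k, h.fZ_z' k, h.fZ_mul k, h.fZ_mul k]; exact h.fZ_comm k ..
    rw [a4, mul_right_inj, ← h.fZ_x k, ← h.fZ_z' k] at a5
    exact absurd (h.line_inj ln (r := 0) (v := l) (r' := 0) (s := 0) (u := 0) (s' := 1) (by
      rw [zero_smul, h.x_zero, h.z_zero, h.z_zero, a5]; simp)).2.2 zero_ne_one

end HV0

end CfsgLib.SP4
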