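import Cfsg.Agent.Lib.SP4.CVd
import Cfsg.Agent.Lib.SP4.CVf

/-! Type C: the hats `v e` -/

set_option autoImplicit false
set_option linter.unusedSectionVars false

namespace CfsgLib.SP4

open Subgroup Module CfsgLib.Forms CfsgLib.LieMult
open CfsgLib.HX (Std CO Two Mv M2)
open CfsgLib.UN (AV SI TI HH Rad Stb Yg Rg Eg Act nu)
open CfsgLib.ClSys (II)
open Submodule (span)
open scoped commutatorElement Pointwise

universe u

variable {F : Type} [Field F] [Finite F] {V : Type} [AddCommGroup V] [Module F V]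
  [FiniteDimensional F V] {P : PQ (RingHom.id F) V} {S : Type} [Group S] [Finite S] {G : Type u}
  [Group G] [Finite G] {C : CG P S} {φ : S →* G} {t : G}

theorem cvr_abs {H : Type*} [Group H] {W y A B X Z ε o : H} (WW : W * W = 1)
    (e : W * y * W = ε * o * (y * A * B * X)) (cA : Commute W A) (cB : Commute W B)
    (wX : W * X * W = X * Z) (xA : Commute X A) (xB : Commute X B) (XX : X * X = 1)
    (AB : A * B * (A * B) = Z) (ZZ : Z * Z = 1) (oW : Commute W o) (oε : Commute o ε) :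
    W * ε * W * ε * (o * o) = 1 := by
  have wi : W⁻¹ = W := inv_eq_of_mul_eq_one_right WW
  have a1 : y * A * B * X * A * B * (X * Z) = y := by
    calc _ = y * (A * B * (X * (A * B))) * X * Z := by group
      _ = y * (A * B * (A * B)) * (X * X) * Z := by rw [(xA.mul_right xB).eq]; group
      _ = y := by rw [AB, XX, mul_one, mul_assoc, ZZ, mul_one]
  have a2 : y = W * ε * W * ε * (o * o) * y := by
    calc y = W⁻¹ * (W * y * W) * W⁻¹ := by group
      _ = W * ε * W⁻¹ * (W * o * W⁻¹) * (W * y * W⁻¹) * (W * A * W⁻¹) * (W * B * W⁻¹) *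
          (W * X * W⁻¹) := by rw [e]; nth_rewrite 1 [wi]; group
      _ = W * ε * W * (o * ε) * o * (y * A * B * X * A * B * (X * Z)) := by
          rw [cv_conj oW, cv_conj cA, cv_conj cB, wi, wX, e]; group
      _ = _ := by rw [a1, oε.eq]; group
  exact mul_right_cancel (a2.symm.trans (one_mul y).symm)

namespace HV0

variable {w : V → V → G} {u v : V → G} {δ : F} (h : HV0 C φ t w u v δ) {e e' c : V}
include h

theorem cvr_τ {a b p : V} (k : P.B a b = 0) (h1 : P.B a p = 0) (h2 : P.B b p = 0) (d : F) :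
    Commute (v p) (τ C φ a b d) := by
  have a1 := h.veqv (C.T a b d) p
  rw [h.T_app k, h1, h2, mul_inv_eq_iff_eq_mul] at a1
  simp only [mul_zero, add_zero, zero_smul] at a1
  exact a1.symm

/-- (e) -/
theorem cv_r {r σ r' : F} {o : G} (ho : OO P φ t w u o) (e0 : e ≠ 0) (k : P.B e e' = 0) (k' : P.B e c = 0)
    (k'' : P.B c e' = 1) (H : w e c * v e' * w e c = z C φ e r * x C φ e (σ • e') * z C φ e' r' * o *
      (v e' * u (δ • e) * v e * x C φ e ((δ * δ) • e'))) :
    w e c * v e' * w e c = v e' * u (δ • e) * v e * x C φ e ((δ * δ) • e') * z C φ e r := by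
  have E := h.toHC.toHW.toSit.toEmb
  have kk : P.B e' e = 0 := (h.B_comm _ _).trans k
  have ee := h.B_self e
  have ks : ∀ μ : F, P.B e (μ • e') = 0 := fun μ => by rw [map_smul, k, smul_zero]
  have WW := h.sq e c k'
  have wτ : ∀ μ ρ : F, w e c * τ C φ e (μ • e') ρ * w e c = τ C φ e (μ • e') (ρ + μ) := fun μ ρ => by
    rw [h.wQ e c _ ρ k' (ks μ), map_smul, k'', smul_eq_mul, mul_one, one_mul]
  have zu : ∀ μ, Commute (u (δ • e)) (z C φ e μ) := fun μ =>
    h.bu_τ (map_zero _) (by simp [ee]) (by simp) μ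
  have zv : ∀ μ p, P.B e p = 0 → Commute (v p) (z C φ e μ) := fun μ p kp =>
    h.cvr_τ (map_zero _) kp (by simp) μ
  have AB : u (δ • e) * v e * (u (δ • e) * v e) = z C φ e (δ * δ) := by
    have a1 := h.uv (δ • e) e (by simp [ee])
    rw [h.smul e e δ ee, h.bw_self, E.x_smul ee, E.x_self, mul_one] at a1
    calc _ = v e * (u (δ • e) * (z C φ e δ * u (δ • e))) * v e := by nth_rewrite 1 [a1]; group
      _ = v e * (z C φ e (δ * δ) * z C φ e δ) * v e := by
        rw [← (zu δ).eq, ← mul_assoc (u _), h.usq, E.z_smul, mul_one]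
      _ = _ := by
        rw [((zv _ e ee).mul_right (zv _ e ee)).eq, mul_assoc, h.vsq, mul_assoc, E.z_sq, mul_one]
  have hT : z C φ e r * x C φ e (σ • e') = τ C φ e (σ • e') r := by
    rw [E.τ_eq (ks σ)]; exact (E.τ_comm (map_zero _) (ks σ) r 0).eq
  rw [hT] at H
  have a1 := cvr_abs WW H (h.uw _ e c (by simp [ee]) (by simp [k']) k').symm (h.vw e e c ee k' k').symm
    ((wτ _ 0).trans (by rw [zero_add, E.τ_eq (ks _)]))
    (h.bu_τ (ks _) (by simp [ee]) (by simp [kk]) 0).symm (h.cvr_τ (ks _) ee (by simp [kk]) 0).symm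
    (E.x_sq (ks _)) AB (E.z_sq _ _) (ho.cw e c k').symm ((ho.cL _).mul_right (ho.cL _))
  have a2 : w e c * z C φ e' r' * w e c = w e (r' • e') * z C φ e (δ * r') * z C φ e' r' := by
    have b1 := h.eqv (C.T e' 0 r') e c k'
    rw [h.z_app, h.z_app, kk, h.B_comm e' c, k'', mul_zero, zero_smul, add_zero, mul_one] at b1
    have b2 := h.del rfl e c (c + r' • e') k' (by rw [map_add, k', ks, add_zero])
    rw [← b1, ← add_assoc, h.vadd_self, zero_add, map_add, h.B_self, map_smul, k'', zero_add,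
      smul_eq_mul, mul_one] at b2
    rw [← b2]; unfold z; group
  have a3 : Commute (z C φ e' r') (τ C φ e (σ • e') r) := by
    have := E.z_τ (u := e') r' (ks σ) r
    rw [kk, map_smul, h.B_self, smul_zero, mul_zero, zero_smul, add_zero, add_zero] at this
    calc _ = z C φ e' r' * τ C φ e (σ • e') r * z C φ e' r' * z C φ e' r' := by
          rw [mul_assoc, E.z_sq, mul_one]
      _ = _ := by rw [this]
  have a4 : τ C φ e (σ • e') (r + σ) * w e (r' • e') * (z C φ e (δ * r') * τ C φ e (σ • e') r * (o * o)) =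
      1 := by
    rw [← a1, ← wτ]
    calc _ = w e c * τ C φ e (σ • e') r * w e c * (w e (r' • e') * z C φ e (δ * r') * z C φ e' r') *
          ((z C φ e' r')⁻¹ * τ C φ e (σ • e') r) * (o * o) := by group
      _ = w e c * τ C φ e (σ • e') r * (w e c * w e c) * z C φ e' r' * w e c *
          (τ C φ e (σ • e') r * z C φ e' r') * (o * o) := by
        rw [← a2, inv_eq_of_mul_eq_one_right (E.z_sq e' r'), a3.eq]; group
      _ = _ := by rw [WW]; group
  have tl : ∀ a μ, Commute t (τ C φ e a μ) := fun a μ => (h.tl _).symm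
  have tz : Commute t (z C φ e (δ * r')) := tl 0 _
  obtain rfl : r' = 0 := (E.x_eq_one (E.cv_ln e0 k k' k'')).1 (by
    have b1 := congrArg (fun g => t * g * t⁻¹) a4
    simp only [mul_one, mul_inv_cancel] at b1
    rw [← conj_mul, ← conj_mul, h.bw_t (ks r'), cv_conj (tl _ _),
      cv_conj ((tz.mul_right (tl _ _)).mul_right (ho.ct.symm.mul_right ho.ct.symm)), ← a4,
      ← mul_assoc (τ C φ e _ _)] at b1
    exact mul_eq_left.1 (mul_right_cancel b1))
  rw [zero_smul, h.bw_zero, mul_zero, E.z_zero, mul_one, one_mul, ← mul_assoc,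
    E.τ_mul (ks σ) (ks σ)] at a4
  obtain ⟨b1, b2⟩ := h.cv_sep (fun s => (ho.cL s).mul_left (ho.cL s)) ⟨_, rfl⟩ a4
  obtain rfl := ho.eq_one b2
  obtain rfl : σ = 0 := by
    have := ((E.τ_eq_one e0 (by rw [map_add, ks, add_zero])).1 b1).2
    rw [h.B_self] at this
    linear_combination this - r * h.two
  rw [H, zero_smul, E.z_zero, mul_one, mul_one]
  exact ((((zv r e' k).mul_left (zu r)).mul_left (zv r e ee)).mul_left
    (E.τ_comm (ks _) (map_zero _) 0 r)).eq.symm

theorem hv1 : ∃ r, HV1 C φ t w u v δ r := by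
  have E := h.toHC.toHW.toSit.toEmb
  obtain ⟨s, hs⟩ := h.line_s
  obtain ⟨e₀, e0⟩ := h.g2_ne
  obtain ⟨d₀, c₀, k3, k1, k2⟩ := E.cv_pair1 e₀
  obtain ⟨rfl, r, σ, r', o, ho, H⟩ := h.cvf_ex hs e0 k1 k2 k3
  have H' := h.cv_r ho e0 k1 k2 k3 H
  have adm : ∀ e e' c, P.B e e' = 0 → P.B e c = 0 → P.B c e' = 1 → w e c * v e' * w e c =
      v e' * u (δ • e) * v e * x C φ e ((δ * δ) • e') * z C φ e r := fun e e' c k k' k'' => by
    by_cases e1 : e = 0
    · rw [e1, h.bw_zero', smul_zero, h.bu_zero, h.vzero, E.x_zero', E.z_zero']; group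
    obtain ⟨l, rfl, rfl, rfl⟩ := E.cv_trans e0 k1 k2 k3 e1 k k' k''
    rw [← map_smul, ← map_smul, ← h.eqv l _ _ k2, ← h.veqv, ← h.veqv, ← h.ueqv,
      ← E.x_conj l (by rw [map_smul, k1, smul_zero]), ← E.z_conj, conj_mul, conj_mul, conj_mul,
      conj_mul, conj_mul, conj_mul, H']
  refine ⟨r, ⟨h.toHC, h.vzero, h.veqv, h.vdef, h.vw, h.vt, h.uv, fun e e' k => ?_⟩, fun e e' c k k' => ?_⟩
  · rw [hs e e' k, zero_smul, E.x_zero, mul_one]
  by_cases b0 : P.B c e' = 0
  · simp only [b0, mul_zero, zero_mul, zero_smul, h.bu_zero, h.vzero, E.x_zero, E.z_zero, mul_one]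
    rw [← (h.vw e' e c ((h.B_comm _ _).trans k) ((h.B_comm _ _).trans b0) k').eq, mul_assoc,
      h.sq e c k', mul_one]
  · have kc : P.B e ((P.B c e')⁻¹ • c) = 0 := by rw [map_smul, k', smul_zero]
    have := adm (P.B c e' • e) e' ((P.B c e')⁻¹ • c) (by simp [k]) (by simp [k'])
      (by rw [h.B_smul_left, inv_mul_cancel₀ b0])
    rwa [h.smul _ _ _ kc, smul_inv_smul₀ b0, smul_smul, E.x_smul (by rw [map_smul, k, smul_zero]),
      smul_smul, mul_comm _ (δ * δ), E.z_smul] at this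

end HV0

theorem HC.exists_v {w : V → V → G} {u : V → G} {δ : F} (h : HC C φ t w u δ) :
    ∃ v r, HV1 C φ t w u v δ r := by
  obtain ⟨v, hv⟩ := h.exists_v0
  exact ⟨v, hv.hv1⟩

end CfsgLib.SP4
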