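import Cfsg.Agent.Lib.SP4.BW

/-! Type C: the hats `v e` -/

set_option autoImplicit false
set_option linter.unusedSectionVars false

namespace CfsgLib.SP4

open Subgroup Module CfsgLib.Forms CfsgLib.LieMult
open CfsgLib.HX (Std CO Two Mv M2)
open CfsgLib.UN (AV SI TI HH Rad Stb Yg Rg Eg Act nu)
open CfsgLib.ClSys (II)
open Submodule (span)
open scoped commutatorElement Pointwise

universe u

variable {F : Type} [Field F] [Finite F] {V : Type} [AddCommGroup V] [Module F V]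
  [FiniteDimensional F V] {P : PQ (RingHom.id F) V} {S : Type} [Group S] [Finite S] {G : Type u}
  [Group G] [Finite G] {C : CG P S} {φ : S →* G} {t : G}

section Abs

variable {H : Type*} [Group H] {A U m y n : H}

/-- `A · U A U⁻¹` -/
def cvK (A U : H) : H := A * (U * A * U⁻¹)

theorem cvK_left (h1 : Commute m A) (h2 : Commute m U) (h3 : m * m = 1) : cvK (A * m) U = cvK A U := by
  have h4 : Commute m (U * A * U⁻¹) := (h2.mul_right h1).mul_right h2.inv_right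
  calc A * m * (U * (A * m) * U⁻¹) = A * (m * (U * A * (m * U⁻¹))) := by simp only [mul_assoc]
    _ = A * (m * (U * A * U⁻¹) * m) := by rw [h2.inv_right.eq]; simp only [mul_assoc]
    _ = _ := by rw [h4.eq, mul_assoc _ m, h3, mul_one, cvK]

theorem cvK_right (h1 : y * A * y⁻¹ = A * n) (h2 : Commute U n) : cvK A (U * y) = cvK A U * n :=
  calc A * (U * y * A * (U * y)⁻¹) = A * (U * (y * A * y⁻¹) * U⁻¹) := by group
    _ = A * (U * A * (n * U⁻¹)) := by rw [h1]; simp only [mul_assoc]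
    _ = _ := by rw [← h2.inv_left.eq, cvK]; simp only [mul_assoc]

theorem cvK_conj (g A U : H) : g * cvK A U * g⁻¹ = cvK (g * A * g⁻¹) (g * U * g⁻¹) := by
  simp only [cvK]; group

theorem cvK_comm {g : H} (h1 : Commute g A) (h2 : Commute g U) : Commute g (cvK A U) :=
  h1.mul_right ((h2.mul_right h1).mul_right h2.inv_right)

theorem cv_conj {g : H} (h : Commute g A) : g * A * g⁻¹ = A := by rw [h.eq, mul_inv_cancel_right]

theorem cv_of_conj {g : H} (h : g * A * g⁻¹ = A) : Commute g A := mul_inv_eq_iff_eq_mul.1 h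

theorem cv_sw (h : Commute A U) (h2 : A * A = 1) : A * U * A = U := by
  rw [h.eq, mul_assoc, h2, mul_one]

theorem cv_sq (h : Commute A U) (h1 : A * A = 1) (h2 : U * U = 1) : A * U * (A * U) = 1 := by
  rw [← mul_assoc, cv_sw h h1, h2]

end Abs

/-- `w(e, b) x(e, δ b)` -/
def cvA (C : CG P S) (φ : S →* G) (w : V → V → G) (δ : F) (e b : V) : G := w e b * x C φ e (δ • b)

/-- the candidate for `v e` -/
def cvD (C : CG P S) (φ : S →* G) (w : V → V → G) (u : V → G) (δ : F) (e e' c : V) : G :=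
  cvK (w e c) (u e') * cvA C φ w δ e e'

theorem Emb.cv_pair1 (h : Emb C φ) (e : V) : ∃ d c, P.B c d = 1 ∧ P.B e d = 0 ∧ P.B e c = 0 := by
  by_cases e0 : e = 0
  · obtain ⟨d, d0⟩ := h.toMod.g2_ne
    obtain ⟨c, hc⟩ := h.exists_hp d0
    exact ⟨c, d, hc, by simp [e0], by simp [e0]⟩
  · obtain ⟨f, hf⟩ := h.exists_hp e0
    obtain ⟨a, b, hh⟩ := h.exists_hh hf
    exact ⟨b, a, h.hp_iff.1 hh.h₂, hh.ef, hh.ee⟩

/-- a hyperbolic pair orthogonal to two dependent vectors -/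
theorem Emb.cv_pair (h : Emb C φ) {e e' : V} (k : ¬ Ln P e e') (k' : P.B e e' = 0) :
    ∃ d c, P.B c d = 1 ∧ P.B e d = 0 ∧ P.B e c = 0 ∧ P.B e' d = 0 ∧ P.B e' c = 0 := by
  by_cases e0 : e = 0
  · obtain ⟨d, c, h1, h2, h3⟩ := h.cv_pair1 e'
    exact ⟨d, c, h1, by simp [e0], by simp [e0], h2, h3⟩
  · obtain ⟨d, c, h1, h2, h3⟩ := h.cv_pair1 e
    obtain ⟨l, rfl⟩ := Submodule.mem_span_singleton.1 (not_not.1 fun q => k ⟨e0, q, k'⟩)
    exact ⟨d, c, h1, h2, h3, by simp [h2], by simp [h3]⟩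

/-- an admissible triple gives a line -/
theorem Emb.cv_ln (h : Emb C φ) {e e' c : V} (e0 : e ≠ 0) (k : P.B e e' = 0) (k' : P.B e c = 0)
    (k'' : P.B c e' = 1) : Ln P e e' := ⟨e0, fun q => by
  obtain ⟨l, rfl⟩ := Submodule.mem_span_singleton.1 q
  rw [map_smul, h.B_comm c e, k', smul_zero] at k''
  exact zero_ne_one k'', k⟩

/-- `L` is transitive on the admissible triples -/
theorem Emb.cv_trans (h : Emb C φ) {e d c e' d' c' : V} (e0 : e ≠ 0) (k1 : P.B e d = 0) (k2 : P.B e c = 0)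
    (k3 : P.B c d = 1) (e0' : e' ≠ 0) (k1' : P.B e' d' = 0) (k2' : P.B e' c' = 0) (k3' : P.B c' d' = 1) :
    ∃ l, C.act l e = e' ∧ C.act l d = d' ∧ C.act l c = c' := by
  have key : ∀ {e d c : V}, e ≠ 0 → P.B e d = 0 → P.B e c = 0 → P.B c d = 1 → ∃ f, HH P e f c d := by
    intro e d c e0 k1 k2 k3
    obtain ⟨f, hf⟩ := h.exists_hp e0
    have j1 := P.B_eq_zero_comm.1 k1
    have j2 := P.B_eq_zero_comm.1 k2
    refine ⟨f + P.B f d • c + P.B f c • d, h.hp_iff.2 (by simp [hf, k1, k2]), h.hp_iff.2 k3, k2, k1, ?_, ?_⟩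
    · simp [h.B_self, h.B_comm d c, k3, h.add_self]
    · simp [h.B_self, k3, h.add_self]
  obtain ⟨f, hf⟩ := key e0 k1 k2 k3
  obtain ⟨f', hf'⟩ := key e0' k1' k2' k3'
  obtain ⟨l, l1, -, l2, l3⟩ := h.trans_hh hf hf'
  exact ⟨l, l1, l3, l2⟩

theorem Emb.cv_xx (h : Emb C φ) {e a p r : V} (k : P.B e a = 0) (k' : P.B p r = 0) (h1 : P.B p e = 0)
    (h2 : P.B p a = 0) (h3 : P.B r e = 0) (h4 : P.B r a = 0) (c : F) :
    Commute (x C φ e a) (τ C φ p r c) := by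
  have := h.τ_conj (C.T p r c) k 0
  rw [h.T_app k', h.T_app k', h1, h2, h3, h4] at this
  exact (cv_of_conj (by simpa using! this)).symm

namespace HW

variable {w : V → V → G} {δ : F} (h : HW C φ t w 1 δ) {e e' b b' c d p r : V} {g : G}
include h

theorem cv_wx (k : P.B e b = 0) (k' : P.B e b' = 0) (k'' : P.B b b' = 0) (c : F) :
    Commute (w e b) (τ C φ e b' c) :=
  h.bw_τ k k' (h.B_self e) k (P.B_eq_zero_comm.1 k') (P.B_eq_zero_comm.1 k'') c

theorem cvA_comm (h1 : Commute g (w e b)) (h2 : Commute g (x C φ e (δ • b))) :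
    Commute g (cvA C φ w δ e b) := h1.mul_right h2

theorem cvA_sq (k : P.B e b = 0) : cvA C φ w δ e b * cvA C φ w δ e b = 1 := by
  have k1 : P.B e (δ • b) = 0 := by simp [k]
  have : Commute (w e b) (x C φ e (δ • b)) := h.cv_wx k k1 (by simp [h.B_self]) 0
  exact cv_sq this (h.sq e b k) (h.x_sq k1)

theorem cvA_add (k : P.B e b = 0) (k' : P.B e b' = 0) (k'' : P.B b b' = 0) :
    cvA C φ w δ e (b + b') = cvA C φ w δ e b * cvA C φ w δ e b' := by
  have k3 := P.B_eq_zero_comm.1 k''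
  have : Commute (w e b') (x C φ e (δ • b)) := h.cv_wx k' (by simp [k]) (by simp [k3]) 0
  rw [cvA, cvA, cvA, h.add e b b' k k' k'', smul_add,
    h.x_add (by simp [k]) (by simp [k']) (by simp [k'']), this.mul_mul_mul_comm]

theorem cvA_line (k : P.B e d = 0) (k' : P.B e' d = 0) (k'' : P.B e e' = 0) :
    cvA C φ w δ (e + e') d = cvA C φ w δ e d * cvA C φ w δ e' d := by
  have k1 := P.B_eq_zero_comm.1 k
  have k2 := P.B_eq_zero_comm.1 k'
  have : Commute (w e' d) (x C φ e (δ • d)) :=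
    h.bw_τ k' (by simp [k]) k'' k (by simp [k2]) (by simp [h.B_self]) 0
  rw [cvA, cvA, cvA, h.bw_line k k' k'', h.x_symm (by simp [k, k']),
    h.x_add (by simp [k1]) (by simp [k2]) k'', ← h.x_symm (e := e) (by simp [k]),
    ← h.x_symm (e := e') (by simp [k']), this.mul_mul_mul_comm]

theorem cvA_smul (k : P.B e b = 0) (l : F) : cvA C φ w δ (l • e) b = cvA C φ w δ e (l • b) := by
  rw [cvA, cvA, h.smul e b l k, h.x_smul (by simp [k]), smul_comm]

theorem cvA_conj (k : P.B e b = 0) (l : S) :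
    φ l * cvA C φ w δ e b * (φ l)⁻¹ = cvA C φ w δ (C.act l e) (C.act l b) := by
  rw [cvA, cvA, ← h.eqv l e b k, ← map_smul, ← h.x_conj l (by simp [k])]; group

/-- `w p r` commutes with `cvA e b` if `p, r ⊥ e, b` -/
theorem cv_wA (k : P.B e b = 0) (k' : P.B p r = 0) (h1 : P.B e p = 0) (h2 : P.B e r = 0)
    (h3 : P.B b p = 0) (h4 : P.B b r = 0) : Commute (w p r) (cvA C φ w δ e b) :=
  h.cvA_comm (h.bw_w k' k h1 h2 h3 h4)
    (h.bw_τ k' (by simp [k]) h1 h2 (by simp [h3]) (by simp [h4]) 0)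

theorem cv_cw (k : P.B p r = 0) (h1 : P.B e p = 0) (h2 : P.B e r = 0) (h3 : P.B e c = 0)
    (h4 : P.B c p = 1) (h5 : P.B c r = 0) :
    w p r * w e c * (w p r)⁻¹ = w e c * cvA C φ w δ e r := by
  rw [h.bw_inv k, h.cw p r e c k h1 h2 h3, h4, h5, cvA]
  simp [h.z_zero, mul_assoc]

end HW

namespace HC

variable {w : V → V → G} {u : V → G} {δ : F} (h : HC C φ t w u δ) {e e' e'' a b c c' d : V}
include h

theorem cv_uA (k : P.B e b = 0) (h1 : P.B e d = 0) (h2 : P.B b d = 0) :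
    Commute (u d) (cvA C φ w δ e b) :=
  h.cvA_comm (h.uw d e b (P.B_eq_zero_comm.1 h1) (P.B_eq_zero_comm.1 h2) k)
    (h.bu_τ (by simp [k]) h1 (by simp [h2]) 0)

theorem cv_c (k : P.B e e' = 0) (k1 : P.B e c = 0) (k2 : P.B e c' = 0) (k3 : P.B c e' = P.B c' e') :
    cvD C φ w u δ e e' c' = cvD C φ w u δ e e' c := by
  have k4 : P.B e (c + c') = 0 := by simp [k1, k2]
  have k5 : P.B (c + c') e' = 0 := by simp [k3, h.add_self]
  have hz : ∀ a μ, P.B e a = 0 → Commute (w e a) (z C φ e μ) := fun a μ ka =>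
    h.cv_wx ka (map_zero _) (map_zero _) μ
  have e1 : w e c' = w e c * (w e (c + c') * z C φ e (δ * P.B c (c + c'))) := by
    rw [← mul_assoc, h.del rfl e c _ k1 k4, mul_assoc, h.z_sq, mul_one, ← add_assoc, h.vadd_self,
      zero_add]
  rw [cvD, cvD, e1, cvK_left ((h.com e _ _ k4 k1).mul_left (hz c _ k1).symm)
    ((h.uw e' e _ (P.B_eq_zero_comm.1 k) (P.B_eq_zero_comm.1 k5) k4).symm.mul_left
      (h.bu_τ (map_zero _) k (by simp) _).symm)]
  exact cv_sq (hz _ _ k4) (h.sq e _ k4) (h.z_sq _ _)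

theorem cv_e (k : P.B e e' = 0) (k' : P.B e e'' = 0) (k'' : P.B e' e'' = 0) (k1 : P.B e c = 0)
    (k2 : P.B c e' = 1) (k3 : P.B c e'' = 1) : cvD C φ w u δ e e'' c = cvD C φ w u δ e e' c := by
  obtain ⟨d, rfl⟩ : ∃ d, e'' = e' + d := ⟨e' + e'', by rw [← add_assoc, h.vadd_self, zero_add]⟩
  have d1 : P.B e d = 0 := by simpa [k] using k'
  have d2 : P.B e' d = 0 := by simpa [h.B_self] using k''
  have d3 : P.B c d = 0 := by simpa [k2] using k3
  have e1 : u d * w e' d * w e c * (u d * w e' d)⁻¹ = w e c * cvA C φ w δ e d := by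
    rw [← cv_conj ((h.uw d e c (P.B_eq_zero_comm.1 d1) (P.B_eq_zero_comm.1 d3) k1).mul_right
      (h.cv_uA d1 d1 (h.B_self d))), ← h.cv_cw d2 k d1 k1 k2 d3]
    group
  rw [cvD, cvD, h.uline e' d d2, mul_assoc, cvK_right e1 (h.cv_uA d1 k (P.B_eq_zero_comm.1 d2)),
    add_comm, h.cvA_add d1 k (P.B_eq_zero_comm.1 d2), mul_assoc, ← mul_assoc (cvA C φ w δ e d),
    h.cvA_sq d1, one_mul]

/-- an element of odd order centralising `L`, `t` and the hats -/
structure _root_.CfsgLib.SP4.OO (P : PQ (RingHom.id F) V) (φ : S →* G) (t : G) (w : V → V → G) (u : V → G)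
    (o : G) : Prop where
  cL : ∀ l, Commute o (φ l)
  ct : Commute o t
  odd : Odd (orderOf o)
  cu : ∀ p, Commute o (u p)
  cw : ∀ p a, P.B p a = 0 → Commute o (w p a)

omit h in
theorem _root_.CfsgLib.SP4.OO.eq_one {o : G} (k : OO P φ t w u o) (h2 : o * o = 1) : o = 1 :=
  orderOf_eq_one_iff.1 (Nat.Coprime.eq_one_of_dvd (Nat.coprime_two_right.2 k.odd)
    (orderOf_dvd_of_pow_eq_one (by rw [pow_two, h2])))

/-- `l o = 1` forces `l = 1` and `o = 1` -/
theorem cv_sep {o l : G} (k : ∀ s, Commute o (φ s)) (hl : l ∈ φ.range) (e1 : l * o = 1) : l = 1 ∧ o = 1 :=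
  h.toEmb.dec_inj hl (one_mem _) (by rintro _ ⟨s, rfl⟩; exact (k s).eq.symm) (one_mem _)
    (e1.trans (mul_one 1).symm)

theorem cv_c0 {ε c₀ : G} (hε : ε ∈ φ.range) (hc : c₀ ∈ centralizer (φ.range : Set G))
    (kt : Commute (ε * c₀) t) : ∃ o, OO P φ t w u o ∧ (c₀ = o ∨ c₀ = t * o) := by
  obtain ⟨o, o1, o2, o3, o4⟩ := h.toSit.dec h.two' hε hc kt.eq
  exact ⟨o, ⟨fun l => (o1 _ ⟨l, rfl⟩).symm, o2, o3, fun p => ((h.umv p).co o o1 o2 o3).symm,
    fun p a k => ((h.mv p a k).co o o1 o2 o3).symm⟩, o4⟩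

/-- `C(t) ∩ C(Q_e) ∩ C(u e)` -/
theorem cv_keyQ (e0 : e ≠ 0) {k : G} (kt : Commute k t)
    (kQ : ∀ a μ, P.B e a = 0 → Commute k (τ C φ e a μ)) (ku : Commute k (u e)) :
    ∃ a μ o, P.B e a = 0 ∧ OO P φ t w u o ∧ k = τ C φ e a μ * o := by
  obtain ⟨ε, hε, c₀, hc, rfl⟩ := h.toEmb.cQ e0 (h.norm_of kt.eq) fun g hg => by
    obtain ⟨a, μ, ka, rfl⟩ := (h.toEmb.mem_Q e0).1 hg
    exact (kQ a μ ka).eq.symm
  obtain ⟨a, μ, ka, rfl⟩ := (h.toEmb.mem_Q e0).1 hε
  obtain ⟨o, ho, rfl | rfl⟩ := h.cv_c0 ⟨_, rfl⟩ hc kt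
  · exact ⟨a, μ, _, ka, ho, rfl⟩
  have c1 : Commute (τ C φ e a μ) (u e) := (h.bu_τ ka (h.B_self e) (P.B_eq_zero_comm.1 ka) μ).symm
  have c2 : Commute t (u e) := by
    simpa using (c1.inv_left.mul_left ku).mul_left (ho.cu e).inv_left
  have := h.bu_t e
  rw [cv_conj c2, left_eq_mul, h.z_eq_one] at this
  exact absurd this (by simp [e0])

/-- `C(t) ∩ C(E_ℓ)` -/
theorem cv_keyL (l : Ln P e e') {k : G} (kt : Commute k t)
    (kE : ∀ p ∈ span F {e, e'}, ∀ μ, Commute k (z C φ p μ)) :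
    ∃ r σ r' : F, ∃ o, OO P φ t w u o ∧ (k = z C φ e r * x C φ e (σ • e') * z C φ e' r' * o ∨
      k = z C φ e r * x C φ e (σ • e') * z C φ e' r' * (t * o)) := by
  obtain ⟨ε, hε, c₀, hc, rfl⟩ := h.toEmb.cz (W := span F {e, e'}) (fun q => l.ne (by
    rw [← Submodule.mem_bot F, ← q]; exact Submodule.subset_span (by simp))) (h.norm_of kt.eq) kE
  have hε' : ε ∈ Eg C φ (span F {e, e'}) := by
    have := h.toMod.lag_ln l
    rw [Eg, show P.perp (span F {e, e'}) = span F {e, e'} from this]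
    exact hε
  obtain ⟨r, σ, r', rfl⟩ := (h.toEmb.mem_El l).1 hε'
  obtain ⟨o, ho, e1⟩ := h.cv_c0 (h.toEmb.Y_le_L hε) hc kt
  exact ⟨r, σ, r', o, ho, e1.imp (fun q => by rw [q]) fun q => by rw [q]⟩

end HC

end CfsgLib.SP4
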