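import Cfsg.Agent.Lib.SP4.CVa

/-! Type C: the candidates `cvD e e' c` -/

set_option autoImplicit false
set_option linter.unusedSectionVars false

namespace CfsgLib.SP4

open Subgroup Module CfsgLib.Forms CfsgLib.LieMult
open CfsgLib.HX (Std CO Two Mv M2)
open CfsgLib.UN (AV SI TI HH Rad Stb Yg Rg Eg Act nu)
open CfsgLib.ClSys (II)
open Submodule (span)
open scoped commutatorElement Pointwise

universe u

variable {F : Type} [Field F] [Finite F] {V : Type} [AddCommGroup V] [Module F V]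
  [FiniteDimensional F V] {P : PQ (RingHom.id F) V} {S : Type} [Group S] [Finite S] {G : Type u}
  [Group G] [Finite G] {C : CG P S} {φ : S →* G} {t : G}

namespace HC

variable {w : V → V → G} {u : V → G} {δ : F} (h : HC C φ t w u δ) {e e' a b c : V}
include h

theorem cvD_eqv (k : P.B e e' = 0) (k' : P.B e c = 0) (l : S) :
    φ l * cvD C φ w u δ e e' c * (φ l)⁻¹ = cvD C φ w u δ (C.act l e) (C.act l e') (C.act l c) := by
  rw [cvD, cvD, ← h.cvA_conj k, ← h.eqv l e c k', ← h.ueqv, ← cvK_conj]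
  group

theorem cvD_τ (k : P.B e e' = 0) (k' : P.B e c = 0) (k'' : P.B c e' = 1) (ka : P.B e a = 0) (μ : F) :
    Commute (cvD C φ w u δ e e' c) (τ C φ e a μ) := by
  have := h.cvD_eqv k k' (C.T e a μ)
  rw [h.T_app ka, h.T_app ka, h.T_app ka, h.B_self, k, k', P.B_eq_zero_comm.1 ka] at this
  simp only [mul_zero, add_zero, zero_smul] at this
  refine (cv_of_conj (this.trans ?_)).symm
  have j := P.B_eq_zero_comm.1 k
  have j' := P.B_eq_zero_comm.1 k'
  rw [h.cv_c (c := c) (by simp [k, h.B_self]) k' (by simp [k', h.B_self]) (by simp [k, j', h.B_self]),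
    h.cv_e k (by simp [k, h.B_self]) (by simp [j, h.B_self]) k' k'' (by simp [k'', j'])]

theorem cvD_z (k : P.B e e' = 0) (k' : P.B e c = 0) (k'' : P.B c e' = 1) (μ : F) :
    Commute (cvD C φ w u δ e e' c) (z C φ e' μ) := by
  have := h.cvD_eqv k k' (C.T e' 0 μ)
  rw [h.z_app, h.z_app, h.z_app, h.B_self, P.B_eq_zero_comm.1 k] at this
  simp only [mul_zero, add_zero, zero_smul] at this
  exact (cv_of_conj (this.trans (h.cv_c k k' (by simp [k, k']) (by simp [h.B_self])))).symm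

theorem cvb_t {d : V} (h2 : P.B e d = 0) (h3 : P.B e c = 0) (h1 : P.B c d = 1) :
    t * cvD C φ w u δ e d c * t⁻¹ = cvD C φ w u δ e d c * u e * z C φ e (δ + 1) := by
  have j2 := P.B_eq_zero_comm.1 h2
  have j3 := P.B_eq_zero_comm.1 h3
  have kδ : P.B e (δ • d) = 0 := by simp [h2]
  have jδ := P.B_eq_zero_comm.1 kδ
  have k0 : P.B e 0 = 0 := map_zero _
  have j0 : P.B 0 e = 0 := by simp
  have ee := h.B_self e
  have e1 : z C φ d 1 * (w e c * x C φ e c) * (z C φ d 1)⁻¹ =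
      w e c * w e d * z C φ e δ * (x C φ e c * x C φ e d * z C φ e 1) := by
    have a1 := h.eqv (C.T d 0 1) e c h3
    have a2 := h.x_conj (C.T d 0 1) h3
    rw [h.z_app, h.z_app, j2, h.B_comm d, h1, mul_zero, zero_smul, add_zero, mul_one, one_smul] at a1 a2
    rw [h.del rfl e c d h3 h2, h.x_mul h3 h2, h1, mul_one, mul_assoc (w e (c + d)), h.z_sq, mul_one,
      mul_assoc (x C φ e (c + d)), h.z_sq, mul_one, ← a1, ← a2, z]
    group
  have e2 : u d * x C φ e c * (u d)⁻¹ = x C φ e c * w e d * u e := by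
    have := h.bu_x h2 h3 0
    rwa [h1, one_smul, one_smul] at this
  have e3 : u d * w e c * (u d)⁻¹ = w e c * cvD C φ w u δ e d c * cvA C φ w δ e d := by
    rw [cvD, cvK, mul_assoc (w e c) (_ * cvA C φ w δ e d), mul_assoc _ (cvA C φ w δ e d), h.cvA_sq h2, mul_one,
      ← mul_assoc (w e c), h.sq e c h3, one_mul]
  have e4 : t * x C φ e (δ • d) * t⁻¹ = x C φ e (δ • d) := cv_conj (h.tl _).symm
  have u1 := cv_conj (h.uw d e d j2 (h.B_self d) h2)
  have u2 : u d * z C φ e δ * (u d)⁻¹ = z C φ e δ := cv_conj (h.bu_τ k0 h2 (by simp) δ)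
  have u3 : u d * z C φ e 1 * (u d)⁻¹ = z C φ e 1 := cv_conj (h.bu_τ k0 h2 (by simp) 1)
  have u4 : u d * x C φ e d * (u d)⁻¹ = x C φ e d := cv_conj (h.bu_τ h2 h2 (h.B_self d) 0)
  have s1 : w e c * x C φ e c * w e c = _ := cv_sw (h.cv_wx h3 h3 (h.B_self c) 0) (h.sq e c h3)
  have s2 : w e d * x C φ e (δ • d) * w e d = _ :=
    cv_sw (h.cv_wx h2 kδ (by simp [h.B_self]) 0) (h.sq e d h2)
  have s3 : w e d * (u e * x C φ e d * z C φ e 1) * w e d = _ :=
    cv_sw (((h.uw e e d ee h2 h2).symm.mul_right (h.cv_wx h2 h2 (h.B_self d) 0)).mul_right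
      (h.cv_wx h2 k0 (map_zero _) 1)) (h.sq e d h2)
  have s4 : x C φ e c * (cvD C φ w u δ e d c * x C φ e (δ • d) * z C φ e δ) * x C φ e c = _ :=
    cv_sw (((h.cvD_τ h2 h3 h1 h3 0).symm.mul_right (h.τ_comm h3 kδ 0 0)).mul_right
      (h.τ_comm h3 k0 0 δ)) (h.x_sq h3)
  have s5 : x C φ e d * z C φ e 1 * x C φ e d = _ := cv_sw (h.τ_comm h2 k0 0 1) (h.x_sq h2)
  have s6 : x C φ e (δ • d) * (z C φ e δ * u e * z C φ e 1) * x C φ e (δ • d) = _ :=
    cv_sw (((h.τ_comm kδ k0 0 δ).mul_right (h.bu_τ kδ ee jδ 0).symm).mul_right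
      (h.τ_comm kδ k0 0 1)) (h.x_sq kδ)
  have s7 : u e * z C φ e δ = z C φ e δ * u e := (h.bu_τ k0 ee j0 δ).eq
  have e5 : t * cvD C φ w u δ e d c * t⁻¹ = cvK (t * w e c * t⁻¹) (t * u d * t⁻¹) *
      (t * w e d * t⁻¹ * (t * x C φ e (δ • d) * t⁻¹)) := by
    rw [← cvK_conj, cvD, cvA]; group
  rw [e5, e4, h.bw_t h3, h.bw_t h2, h.bu_t, h.z_add, cvK]
  rw [cvA] at e3
  simp only [← show ∀ a, τ C φ e a 0 = x C φ e a from fun _ => rfl,
    ← show ∀ μ, τ C φ e 0 μ = z C φ e μ from fun _ => rfl] at *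
  generalize τ C φ e c 0 = X at *
  generalize τ C φ e d 0 = X' at *
  generalize τ C φ e (δ • d) 0 = Y at *
  generalize τ C φ e 0 δ = Z at *
  generalize τ C φ e 0 1 = Z' at *
  generalize cvD C φ w u δ e d c = D at *
  generalize w e c = W at *
  generalize w e d = W' at *
  calc _ = W * X * (u d * (z C φ d 1 * (W * X) * (z C φ d 1)⁻¹) * (u d)⁻¹) * (W' * X' * Y) := by group
    _ = W * X * ((u d * W * (u d)⁻¹) * (u d * W' * (u d)⁻¹) * (u d * Z * (u d)⁻¹) *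
        (u d * X * (u d)⁻¹) * (u d * X' * (u d)⁻¹) * (u d * Z' * (u d)⁻¹)) * (W' * X' * Y) := by
      rw [e1]; group
    _ = (W * X * W) * D * (W' * Y * W') * Z * X * (W' * (u e * X' * Z') * W') * X' * Y := by
      rw [e2, e3, u1, u2, u3, u4]; simp only [mul_assoc]
    _ = (X * (D * Y * Z) * X) * u e * (X' * Z' * X') * Y := by rw [s1, s2, s3]; simp only [mul_assoc]
    _ = D * (Y * (Z * u e * Z') * Y) := by rw [s4, s5]; simp only [mul_assoc]
    _ = _ := by rw [s6, ← s7]; simp only [mul_assoc]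

theorem cvD_t (k : P.B e e' = 0) (k' : P.B e c = 0) (k'' : P.B c e' = 1) :
    t * cvD C φ w u δ e e' c * t⁻¹ = cvD C φ w u δ e e' c * u e * z C φ e (δ + 1) :=
  h.cvb_t k k' k''

theorem cvD_u (k : P.B e e' = 0) (k' : P.B e c = 0) (k'' : P.B c e' = 1) :
    u e * cvD C φ w u δ e e' c = cvD C φ w u δ e e' c * u e * z C φ e 1 := by
  have j := P.B_eq_zero_comm.1 k
  have k0 : P.B e 0 = 0 := map_zero _
  have e1 : u e * u e' * (u e)⁻¹ = u e' * x C φ e e' := by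
    have : Commute (u e) (x C φ e e') := h.bu_τ k (h.B_self e) j 0
    rw [h.bu_u k, mul_assoc (u e'), this.eq, ← mul_assoc, mul_inv_cancel_right]
  have e2 : x C φ e e' * w e c * (x C φ e e')⁻¹ = w e c * z C φ e 1 := by
    have := h.wQ e c e' 0 k' k
    rw [k'', zero_add, one_mul, h.τ_eq k 1] at this
    have c1 : Commute (x C φ e e') (z C φ e 1) := h.τ_comm k k0 0 1
    rw [mul_inv_eq_iff_eq_mul, mul_assoc, ← c1.eq, ← this, ← mul_assoc, ← mul_assoc, h.sq e c k', one_mul]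
    rfl
  have c2 : Commute (u e) (z C φ e 1) := h.bu_τ k0 (h.B_self e) (by simp) 1
  have c3 : Commute (z C φ e 1) (cvA C φ w δ e e') :=
    h.cvA_comm (h.cv_wx k k0 (map_zero _) 1).symm (h.τ_comm k0 (by simp [k]) 1 0)
  have e3 : u e * cvD C φ w u δ e e' c * (u e)⁻¹ = cvD C φ w u δ e e' c * z C φ e 1 := by
    rw [cvD, mul_assoc (cvK _ _) (cvA C φ w δ e e') (z C φ e 1), ← c3.eq, ← mul_assoc (cvK _ _),
      ← cvK_right e2 (h.bu_τ k0 k (by simp) 1), ← e1]
    conv_rhs => rw [← cv_conj (h.uw e e c (h.B_self e) k' k'), ← cvK_conj, ← cv_conj (h.cv_uA k (h.B_self e) j)]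
    group
  rw [mul_inv_eq_iff_eq_mul.1 e3, mul_assoc, ← c2.eq, mul_assoc]

theorem cvD_w (k : P.B e e' = 0) (k' : P.B e c = 0) (kb : P.B e b = 0) (kb' : P.B e' b = 0) :
    Commute (cvD C φ w u δ e e' c) (w e b) :=
  ((cvK_comm (h.com e b c kb k') (h.uw e' e b (P.B_eq_zero_comm.1 k) kb' kb).symm).mul_right
    (h.cv_wA k kb (h.B_self e) kb (P.B_eq_zero_comm.1 k) kb')).symm

theorem cvD_o {o : G} (ho : OO P φ t w u o) (k : P.B e e' = 0) (k' : P.B e c = 0) :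
    Commute o (cvD C φ w u δ e e' c) :=
  (cvK_comm (ho.cw e c k') (ho.cu e')).mul_right (h.cvA_comm (ho.cw e e' k) (ho.cL _))

theorem cvK_U (k : P.B e e' = 0) (k' : P.B e c = 0) (k'' : P.B c e' = 1) :
    u e' * cvK (w e c) (u e') * (u e')⁻¹ = (cvK (w e c) (u e'))⁻¹ * (w e e' * z C φ e δ) := by
  have a1 := h.eqv (C.T e' 0 1) e c k'
  rw [h.z_app, h.z_app, P.B_eq_zero_comm.1 k, h.B_comm e', k'', mul_zero, zero_smul, add_zero, mul_one,
    one_smul] at a1
  have a2 : u e' * u e' * w e c * (u e' * u e')⁻¹ = w e c * (w e e' * z C φ e δ) := by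
    rw [h.usq, ← mul_assoc, h.del rfl e c e' k' k, k'', mul_one, mul_assoc (w e (c + e')), h.z_sq, mul_one, ← a1, z]
  calc _ = u e' * w e c * (u e')⁻¹ * (u e' * u e' * w e c * (u e' * u e')⁻¹) := by rw [cvK]; group
    _ = u e' * (w e c)⁻¹ * (u e')⁻¹ * ((w e c)⁻¹ * (w e e' * z C φ e δ)) := by rw [a2, h.bw_inv k']
    _ = _ := by rw [cvK]; group

/-- two candidates differ by an element of `Q_e O` -/
theorem cvD_key {p r : V} (e0 : e ≠ 0) (k : P.B e e' = 0) (k' : P.B e c = 0) (k'' : P.B c e' = 1)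
    (j : P.B e p = 0) (j' : P.B e r = 0) (j'' : P.B r p = 1) : ∃ a μ o, P.B e a = 0 ∧ OO P φ t w u o ∧
      cvD C φ w u δ e p r = τ C φ e a μ * o * cvD C φ w u δ e e' c := by
  have k0 : P.B e 0 = 0 := map_zero _
  obtain ⟨a, μ, o, h1, h2, h3⟩ := h.cv_keyQ e0 (k := cvD C φ w u δ e p r * (cvD C φ w u δ e e' c)⁻¹)
    (cv_of_conj (by
      rw [show t * (cvD C φ w u δ e p r * (cvD C φ w u δ e e' c)⁻¹) * t⁻¹ =
        t * cvD C φ w u δ e p r * t⁻¹ * (t * cvD C φ w u δ e e' c * t⁻¹)⁻¹ by group, h.cvD_t j j' j'', h.cvD_t k k' k'']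
      group)).symm
    (fun a μ ka => (h.cvD_τ j j' j'' ka μ).mul_left (h.cvD_τ k k' k'' ka μ).inv_left)
    (cv_of_conj (by
      rw [show u e * (cvD C φ w u δ e p r * (cvD C φ w u δ e e' c)⁻¹) * (u e)⁻¹ =
        u e * cvD C φ w u δ e p r * (u e * cvD C φ w u δ e e' c)⁻¹ by group, h.cvD_u j j' j'', h.cvD_u k k' k'']
      group)).symm
  exact ⟨a, μ, o, h1, h2, mul_inv_eq_iff_eq_mul.1 h3⟩

end HC

end CfsgLib.SP4
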