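import Cfsg.Agent.Lib.SP4.CVb

/-! Type C: `cvD e e' c` does not depend on `e', c` -/

set_option autoImplicit false
set_option linter.unusedSectionVars false

namespace CfsgLib.SP4

open Subgroup Module CfsgLib.Forms CfsgLib.LieMult
open CfsgLib.HX (Std CO Two Mv M2)
open CfsgLib.UN (AV SI TI HH Rad Stb Yg Rg Eg Act nu)
open CfsgLib.ClSys (II)
open Submodule (span)
open scoped commutatorElement Pointwise

universe u

variable {F : Type} [Field F] [Finite F] {V : Type} [AddCommGroup V] [Module F V]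
  [FiniteDimensional F V] {P : PQ (RingHom.id F) V} {S : Type} [Group S] [Finite S] {G : Type u}
  [Group G] [Finite G] {C : CG P S} {φ : S →* G} {t : G}

section Abs

variable {H : Type*} [Group H] {W T o D Z X U A : H}

theorem cvc_abs1 (h1 : W * T * W⁻¹ = T * Z) (h2 : Commute o W) (h3 : Commute (T * o * D) W)
    (h4 : W * X * W⁻¹ = X * Z) (h5 : Commute o Z) (h6 : Commute D Z) (h7 : Commute X Z) (h8 : Z * Z = 1) :
    Commute (D * X) W := by
  have e1 : T * o * (Z * (W * D * W⁻¹)) = T * o * D := by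
    calc T * o * (Z * (W * D * W⁻¹)) = T * (o * Z) * (W * D * W⁻¹) := by simp only [mul_assoc]
      _ = (W * T * W⁻¹) * (W * o * W⁻¹) * (W * D * W⁻¹) := by
        rw [h1, cv_conj h2.symm, h5.eq]; simp only [mul_assoc]
      _ = W * (T * o * D) * W⁻¹ := by group
      _ = _ := cv_conj h3.symm
  have e2 : W * D * W⁻¹ = Z * D := by
    have e3 := congrArg (Z * ·) (mul_left_cancel e1)
    simpa only [← mul_assoc Z, h8, one_mul] using e3
  refine (cv_of_conj ?_).symm
  calc W * (D * X) * W⁻¹ = (W * D * W⁻¹) * (W * X * W⁻¹) := by group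
    _ = Z * (D * X) * Z := by rw [e2, h4]; simp only [mul_assoc]
    _ = _ := cv_sw (h6.mul_left h7).symm h8

theorem cvc_abs2 (h1 : W * A * W⁻¹ = A * Z) (h2 : Commute U A) (h3 : Commute U Z) (h4 : Commute W Z)
    (h5 : Z * Z = 1) : Commute (cvK W U) A := by
  refine cv_of_conj ?_
  calc cvK W U * A * (cvK W U)⁻¹ = W * (U * (W * (U⁻¹ * A * U⁻¹⁻¹) * W⁻¹) * U⁻¹) * W⁻¹ := by
        simp only [cvK]; group
    _ = (W * A * W⁻¹) * (W * Z * W⁻¹) := by
        have e1 : U * (W * A * W⁻¹) * U⁻¹ = A * Z := by rw [h1, cv_conj (h2.mul_right h3)]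
        rw [cv_conj h2.inv_left, e1]; group
    _ = _ := by rw [h1, cv_conj h4, mul_assoc, h5, mul_one]

theorem cvc_abs3 (h0 : W * W = 1) (h1 : W * A * W⁻¹ = A * Z) (h2 : Commute A Z) (h5 : Z * Z = 1)
    (h6 : Commute (cvK W U * A) W) : (cvK W U)⁻¹ = cvK W U * Z := by
  have e0 : W⁻¹ = W := inv_eq_of_mul_eq_one_right h0
  have e1 : W * cvK W U * W⁻¹ = (cvK W U)⁻¹ := by
    rw [cvK, ← mul_assoc, h0, one_mul, mul_inv_rev, mul_inv_rev, mul_inv_rev, inv_inv, e0]
    simp only [mul_assoc]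
  have e2 : (cvK W U)⁻¹ * Z * A = cvK W U * A := by
    calc (cvK W U)⁻¹ * Z * A = (W * cvK W U * W⁻¹) * (W * A * W⁻¹) := by rw [e1, h1, h2.eq, mul_assoc]
      _ = W * (cvK W U * A) * W⁻¹ := by group
      _ = _ := cv_conj h6.symm
  have e3 := congrArg (· * Z) (mul_right_cancel e2)
  simpa only [mul_assoc _ Z, h5, mul_one] using e3

end Abs

theorem HW.cvc_wτ {w : V → V → G} {δ : F} (h : HW C φ t w 1 δ) {e a b : V} (k : P.B e a = 0)
    (k' : P.B e b = 0) (μ : F) : w e a * τ C φ e b μ * (w e a)⁻¹ = τ C φ e b μ * z C φ e (P.B a b) := by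
  have := h.τ_mul k' (map_zero (P.B e)) μ (P.B a b)
  rw [add_zero, map_zero, add_zero] at this
  rw [h.bw_inv k, h.wQ e a b μ k k', one_mul, ← this]; rfl

theorem HW.cvc_wx {w : V → V → G} {δ : F} (h : HW C φ t w 1 δ) {e a b : V} (k : P.B e a = 0)
    (k' : P.B e b = 0) : w e a * x C φ e b * (w e a)⁻¹ = x C φ e b * z C φ e (P.B a b) :=
  h.cvc_wτ k k' 0

theorem HW.cvc_wz {w : V → V → G} {δ : F} (h : HW C φ t w 1 δ) {e a : V} (k : P.B e a = 0) (μ : F) :
    Commute (w e a) (z C φ e μ) := h.cv_wx k (map_zero _) (map_zero _) μ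

theorem Emb.cvc_xz (h : Emb C φ) {e a : V} (k : P.B e a = 0) (μ : F) :
    Commute (x C φ e a) (z C φ e μ) := h.τ_comm k (map_zero _) 0 μ

namespace HC

variable {w : V → V → G} {u : V → G} {δ : F} (h : HC C φ t w u δ) {e e' a b c : V}
include h

theorem cvc_Dz (k : P.B e e' = 0) (k' : P.B e c = 0) (k'' : P.B c e' = 1) (μ : F) :
    Commute (cvD C φ w u δ e e' c) (z C φ e μ) := h.cvD_τ k k' k'' (map_zero _) μ

theorem cvc_Dx (k : P.B e e' = 0) (k' : P.B e c = 0) (k'' : P.B c e' = 1) (ka : P.B e a = 0) :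
    Commute (cvD C φ w u δ e e' c) (x C φ e a) := h.cvD_τ k k' k'' ka 0

theorem cvc_rho (e0 : e ≠ 0) (k : P.B e e' = 0) (k' : P.B e c = 0) (k'' : P.B c e' = 1) :
    ∃ ρ : F, ∀ b, P.B e b = 0 → Commute (cvD C φ w u δ e e' c * x C φ e (ρ • e')) (w e b) := by
  have k3 : P.B e' c = 1 := by rw [h.B_comm, k'']
  obtain ⟨a, μ, o, ka, ho, e1⟩ := h.cvD_key e0 k k' k'' k' k k3
  refine ⟨P.B c a, fun b kb => ?_⟩
  have j0 : P.B e (P.B c a • e') = 0 := by simp [k]
  have j1 : P.B e (P.B e' b • c) = 0 := by simp [k']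
  have j2 : P.B e (b + P.B e' b • c) = 0 := by simp [k', kb]
  have j3 : P.B e' (b + P.B e' b • c) = 0 := by simp [k3, h.add_self]
  have e2 : w e b = w e (P.B e' b • c) * w e (b + P.B e' b • c) *
      z C φ e (δ * P.B (P.B e' b • c) (b + P.B e' b • c)) := by
    rw [h.del rfl e _ _ j1 j2, mul_assoc, h.z_sq, mul_one, add_comm b, ← add_assoc, h.vadd_self,
      zero_add]
  rw [e2]
  refine (Commute.mul_right ?_ ?_).mul_right ((h.cvc_Dz k k' k'' _).mul_left (h.cvc_xz j0 _))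
  · refine cvc_abs1 (T := τ C φ e a μ) (o := o) (h.cvc_wτ j1 ka μ) (ho.cw _ _ j1) ?_ ?_ (ho.cL _)
      (h.cvc_Dz k k' k'' _) (h.cvc_xz j0 _) (h.z_sq _ _)
    · rw [← e1]
      exact h.cvD_w k' k j1 (by simp [h.B_self])
    · rw [h.cvc_wx j1 j0]
      simp [k'', mul_comm]
  · exact (h.cvD_w k k' j2 j3).mul_left
      (h.cv_wx j2 j0 (by rw [map_smul, P.B_eq_zero_comm.1 j3, smul_zero]) 0).symm

theorem cvc_U {ρ : F} (k : P.B e e' = 0) (k' : P.B e c = 0) (k'' : P.B c e' = 1)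
    (H : Commute (cvD C φ w u δ e e' c * x C φ e (ρ • e')) (w e c)) :
    u e' * (cvD C φ w u δ e e' c * x C φ e (ρ • e')) * (u e')⁻¹ =
      cvD C φ w u δ e e' c * x C φ e (ρ • e') * w e e' * z C φ e ρ ∧
    cvD C φ w u δ e e' c * cvD C φ w u δ e e' c = z C φ e (δ + ρ) := by
  have j : ∀ l : F, P.B e (l • e') = 0 := fun l => by simp [k]
  have hW : ∀ l : F, w e c * (w e e' * x C φ e (l • e')) * (w e c)⁻¹ =
      w e e' * x C φ e (l • e') * z C φ e l := fun l => by
    calc w e c * (w e e' * x C φ e (l • e')) * (w e c)⁻¹ =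
          (w e c * w e e' * (w e c)⁻¹) * (w e c * x C φ e (l • e') * (w e c)⁻¹) := by group
      _ = _ := by rw [cv_conj (h.com e c e' k' k), h.cvc_wx k' (j l), map_smul, k'', smul_eq_mul,
        mul_one, mul_assoc]
  have hU : ∀ l : F, Commute (u e') (w e e' * x C φ e (l • e')) := fun l =>
    (h.uw e' e e' (P.B_eq_zero_comm.1 k) (h.B_self _) k).mul_right
      (h.bu_τ (j l) k (by simp [h.B_self]) 0)
  have hZ : ∀ l μ : F, Commute (w e e' * x C φ e (l • e')) (z C φ e μ) := fun l μ =>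
    (h.cvc_wz k μ).mul_left (h.cvc_xz (j l) μ)
  have hw : ∀ l : F, Commute (w e e' * x C φ e (l • e')) (w e e') := fun l =>
    (Commute.refl _).mul_left (h.cv_wx k (j l) (by simp [h.B_self]) 0).symm
  have e1 : cvD C φ w u δ e e' c * x C φ e (ρ • e') =
      cvK (w e c) (u e') * (w e e' * x C φ e ((δ + ρ) • e')) := by
    rw [cvD, cvA, add_smul, h.x_add (j δ) (j ρ) (by simp [h.B_self])]; simp only [mul_assoc]
  rw [e1] at H ⊢
  have e2 := cvc_abs3 (h.sq e c k') (hW _) (hZ _ _) (h.z_sq _ _) H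
  constructor
  · have e3 : z C φ e (δ + ρ) * (w e e' * z C φ e δ) = w e e' * z C φ e ρ := by
      rw [← mul_assoc, ← (h.cvc_wz k _).eq, mul_assoc, ← h.z_add, add_right_comm, h.add_self, zero_add]
    calc u e' * (cvK (w e c) (u e') * (w e e' * x C φ e ((δ + ρ) • e'))) * (u e')⁻¹ =
          (u e' * cvK (w e c) (u e') * (u e')⁻¹) *
            (u e' * (w e e' * x C φ e ((δ + ρ) • e')) * (u e')⁻¹) := by group
      _ = cvK (w e c) (u e') * ((w e e' * z C φ e ρ) * (w e e' * x C φ e ((δ + ρ) • e'))) := by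
        rw [cv_conj (hU _), h.cvK_U k k' k'', e2, ← e3]; simp only [mul_assoc]
      _ = _ := by rw [← ((hw _).mul_right (hZ _ _)).eq]; simp only [mul_assoc]
  · have c1 : Commute (cvK (w e c) (u e')) (cvA C φ w δ e e') :=
      cvc_abs2 (hW δ) (hU δ) (h.bu_τ (map_zero _) k (by simp) δ) (h.cvc_wz k' δ) (h.z_sq _ _)
    rw [cvD, c1.symm.mul_mul_mul_comm, h.cvA_sq k, mul_one]
    calc cvK (w e c) (u e') * cvK (w e c) (u e') =
          cvK (w e c) (u e') * (cvK (w e c) (u e') * z C φ e (δ + ρ)) * z C φ e (δ + ρ) := by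
          rw [mul_assoc, mul_assoc, h.z_sq, mul_one]
      _ = _ := by rw [← e2, mul_inv_cancel, one_mul]

theorem cvc_Y {ρ : F} (e0 : e ≠ 0) (k : P.B e e' = 0) (k' : P.B e c = 0) (k'' : P.B c e' = 1)
    (H : ∀ b, P.B e b = 0 → Commute (cvD C φ w u δ e e' c * x C φ e (ρ • e')) (w e b))
    {l : S} (hl : C.act l e = e) : Commute (cvD C φ w u δ e e' c * x C φ e (ρ • e')) (φ l) := by
  have j0 : P.B e (ρ • e') = 0 := by simp [k]
  have key : ∀ p, P.B e p = 0 → ∀ μ, Commute (cvD C φ w u δ e e' c * x C φ e (ρ • e')) (z C φ p μ) := by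
    intro p j μ
    by_cases hp : p ∈ span F {e}
    · obtain ⟨m, rfl⟩ := Submodule.mem_span_singleton.1 hp
      rw [h.z_smul]
      exact (h.cvc_Dz k k' k'' _).mul_left (h.cvc_xz j0 _)
    obtain ⟨r, j', j''⟩ : ∃ r, P.B e r = 0 ∧ P.B r p = 1 := by
      by_contra hn
      refine hp (h.loc_mem _ fun r hr => ?_)
      by_contra h0
      exact hn ⟨(P.B r p)⁻¹ • r, by simp [P.mem_perp_span_singleton.1 hr],
        by rw [h.B_smul_left, inv_mul_cancel₀ h0]⟩
    obtain ⟨ρ', H'⟩ := h.cvc_rho e0 j j' j''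
    obtain ⟨a, μ₀, o, ka, ho, e1⟩ := h.cvD_key e0 k k' k'' j j' j''
    have j1 : P.B e (ρ' • p) = 0 := by simp [j]
    obtain ⟨a', μ', ka', e2⟩ : ∃ a' μ', P.B e a' = 0 ∧ cvD C φ w u δ e p r * x C φ e (ρ' • p) =
        τ C φ e a' μ' * o * (cvD C φ w u δ e e' c * x C φ e (ρ • e')) := by
      refine ⟨a + ρ' • p + ρ • e', μ₀ + 0 + P.B a (ρ' • p) + 0 + P.B (a + ρ' • p) (ρ • e'),
        by simp [ka, j, k], ?_⟩
      rw [← h.τ_mul (by simp [ka, j]) j0, ← h.τ_mul ka j1 μ₀ 0, e1]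
      have c1 : Commute (o * cvD C φ w u δ e e' c) (x C φ e (ρ' • p)) :=
        (ho.cL _).mul_left (h.cvc_Dx k k' k'' j1)
      have c2 : Commute (o * cvD C φ w u δ e e' c) (x C φ e (ρ • e')) :=
        (ho.cL _).mul_left (h.cvc_Dx k k' k'' j0)
      change _ = τ C φ e a μ₀ * x C φ e (ρ' • p) * x C φ e (ρ • e') * o * _
      calc τ C φ e a μ₀ * o * cvD C φ w u δ e e' c * x C φ e (ρ' • p) =
            τ C φ e a μ₀ * (o * cvD C φ w u δ e e' c * x C φ e (ρ' • p)) := by simp only [mul_assoc]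
        _ = τ C φ e a μ₀ * (x C φ e (ρ' • p) *
            (x C φ e (ρ • e') * (o * cvD C φ w u δ e e' c) * x C φ e (ρ • e'))) := by
          rw [c1.eq, cv_sw c2.symm (h.x_sq j0)]
        _ = _ := by simp only [mul_assoc]
    have ha : a' ∈ span F {e} := h.loc_mem _ fun b hb => by
      have kb := P.mem_perp_span_singleton.1 hb
      have c1 : Commute (τ C φ e a' μ') (w e b) := by
        have := ((e2 ▸ H' b kb).mul_left (H b kb).inv_left).mul_left (ho.cw e b kb).inv_left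
        rwa [mul_inv_cancel_right, mul_inv_cancel_right] at this
      have := h.cvc_wτ kb ka' μ'
      rw [cv_conj c1.symm, left_eq_mul, h.z_eq_one] at this
      exact this.resolve_left e0
    obtain ⟨m, rfl⟩ := Submodule.mem_span_singleton.1 ha
    have e3 : τ C φ e (m • e) μ' = z C φ e μ' := by
      rw [← zero_add (m • e), h.τ_shift (map_zero _)]; rfl
    have c1 : Commute (cvD C φ w u δ e p r * x C φ e (ρ' • p)) (z C φ p μ) :=
      (h.cvD_z j j' j'' μ).mul_left (h.cv_xx j1 (map_zero _) (P.B_eq_zero_comm.1 j)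
        (by simp [h.B_self]) (by simp) (by simp) μ)
    rw [e2, e3, mul_assoc] at c1
    have c2 : Commute o (z C φ p μ) := ho.cL _
    simpa using c2.inv_left.mul_left ((h.z_comm j μ' μ).inv_left.mul_left c1)
  have := h.fix_gen_any (span F {e})
    (H := (centralizer {cvD C φ w u δ e e' c * x C φ e (ρ • e')}).comap φ)
    (fun p hp μ => mem_centralizer_singleton_iff.2 (key p (P.mem_perp_span_singleton.1 hp) μ).symm)
    (mem_fix_pt.2 hl)
  exact (show Commute (φ l) _ from mem_centralizer_singleton_iff.1 this).symm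

theorem cv_main (k : P.B e e' = 0) (k' : P.B e c = 0) (k'' : P.B c e' = 1) :
    (∀ p r, P.B e p = 0 → P.B e r = 0 → P.B r p = 1 → cvD C φ w u δ e p r = cvD C φ w u δ e e' c) ∧
    (∀ b, P.B e b = 0 → Commute (cvD C φ w u δ e e' c) (w e b)) ∧
    u e' * cvD C φ w u δ e e' c * (u e')⁻¹ = cvD C φ w u δ e e' c * w e e' := by
  by_cases e0 : e = 0
  · subst e0
    have h1 : ∀ p r, cvD C φ w u δ 0 p r = 1 := fun p r => by
      rw [cvD, cvK, cvA, h.bw_zero', h.bw_zero', h.x_zero']; group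
    simp [h1, h.bw_zero']
  obtain ⟨ρ, H⟩ := h.cvc_rho e0 k k' k''
  have key : ∀ p r, P.B e p = 0 → P.B e r = 0 → P.B r p = 1 →
      cvD C φ w u δ e p r * x C φ e (ρ • p) = cvD C φ w u δ e e' c * x C φ e (ρ • e') := by
    intro p r j j' j''
    obtain ⟨l, l1, l2, l3⟩ := h.cv_trans e0 k k' k'' e0 j j' j''
    have e1 := h.cvD_eqv k k' l
    have e2 := h.x_conj l (e := e) (a := ρ • e') (by simp [k])
    rw [map_smul, l1, l2] at e2
    rw [l1, l2, l3] at e1
    rw [← e1, ← e2, ← cv_conj (h.cvc_Y e0 k k' k'' H l1).symm]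
    group
  have hU : ∀ l : F, l ≠ 0 → u (l • e') * (cvD C φ w u δ e e' c * x C φ e (ρ • e')) * (u (l • e'))⁻¹ =
      cvD C φ w u δ e e' c * x C φ e (ρ • e') * w e (l • e') * z C φ e ρ := fun l l0 => by
    have j : P.B e (l • e') = 0 := by simp [k]
    have j' : P.B e (l⁻¹ • c) = 0 := by simp [k']
    have j'' : P.B (l⁻¹ • c) (l • e') = 1 := by simp [k'', l0]
    have := (h.cvc_U (ρ := ρ) j j' j'' (by rw [key _ _ j j' j'']; exact H _ j')).1
    rwa [key _ _ j j' j''] at this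
  have h0 : ρ = 0 := by
    obtain ⟨θ, θ0, θ1⟩ := h.exists_big'
    have θ2 : 1 + θ ≠ 0 := fun q => θ1 (h.eq_of_add q).symm
    have j : ∀ l : F, P.B e (l • e') = 0 := fun l => by simp [k]
    have c1 : Commute (cvD C φ w u δ e e' c * x C φ e (ρ • e')) (z C φ e' (1 * θ)) :=
      h.cvc_Y e0 k k' k'' H (by rw [h.z_app, P.B_eq_zero_comm.1 k]; simp)
    have c2 : Commute (u ((1 : F) • e')) (w e (θ • e') * z C φ e ρ) :=
      (h.uw _ _ _ (P.B_eq_zero_comm.1 (j 1)) (by simp [h.B_self]) (j θ)).mul_right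
        (h.bu_τ (map_zero _) (j 1) (by simp) ρ)
    generalize cvD C φ w u δ e e' c * x C φ e (ρ • e') = E at hU c1
    have e1 : E * (w e ((1 : F) • e') * w e (θ • e') * z C φ e ρ) * z C φ e ρ =
        E * (w e ((1 : F) • e') * w e (θ • e') * z C φ e ρ) := by
      calc E * (w e ((1 : F) • e') * w e (θ • e') * z C φ e ρ) * z C φ e ρ =
            E * w e ((1 : F) • e') * (w e (θ • e') * z C φ e ρ) * z C φ e ρ := by simp only [mul_assoc]
        _ = (u ((1 : F) • e') * E * (u ((1 : F) • e'))⁻¹) *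
            (u ((1 : F) • e') * (w e (θ • e') * z C φ e ρ) * (u ((1 : F) • e'))⁻¹) := by
          rw [hU 1 one_ne_zero, cv_conj c2, (h.cvc_wz (j θ) ρ).eq]
          simp only [mul_assoc]
          rw [(h.cvc_wz (j θ) ρ).eq]
        _ = u ((1 : F) • e') * (u (θ • e') * E * (u (θ • e'))⁻¹) * (u ((1 : F) • e'))⁻¹ := by
          rw [hU θ θ0]; group
        _ = (u ((1 : F) • e') * u (θ • e')) * E * (u ((1 : F) • e') * u (θ • e'))⁻¹ := by group
        _ = u ((1 + θ) • e') * (z C φ e' (1 * θ) * E * (z C φ e' (1 * θ))⁻¹) * (u ((1 + θ) • e'))⁻¹ := by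
          rw [h.bu_add]; group
        _ = _ := by
          rw [cv_conj c1.symm, hU _ θ2, add_smul, h.add e _ _ (j 1) (j θ) (by simp [h.B_self])]
          simp only [mul_assoc]
    exact (h.z_eq_one.1 (mul_eq_left.1 e1)).resolve_left e0
  subst h0
  have := (h.cvc_U k k' k'' (H c k')).1
  simp only [zero_smul, h.x_zero, h.z_zero, mul_one] at key H this
  exact ⟨key, H, this⟩

end HC

end CfsgLib.SP4
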