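import Cfsg.Agent.Lib.SP4.CVa

/-! Type C: the hats `v e` (definitions) -/

set_option autoImplicit false
set_option linter.unusedSectionVars false

namespace CfsgLib.SP4

open Subgroup Module CfsgLib.Forms CfsgLib.LieMult
open CfsgLib.HX (Std CO Two Mv M2)
open CfsgLib.UN (AV SI TI HH Rad Stb Yg Rg Eg Act nu)
open CfsgLib.ClSys (II)
open Submodule (span)
open scoped commutatorElement Pointwise

universe u

variable {F : Type} [Field F] [Finite F] {V : Type} [AddCommGroup V] [Module F V]
  [FiniteDimensional F V] {P : PQ (RingHom.id F) V} {S : Type} [Group S] [Finite S] {G : Type u}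
  [Group G] [Finite G] {C : CG P S} {φ : S →* G} {t : G}

/-- `HV` with `vline` only for dependent vectors -/
structure HV0 (C : CG P S) (φ : S →* G) (t : G) (w : V → V → G) (u v : V → G) (δ : F) : Prop
    extends HC C φ t w u δ where
  vzero : v 0 = 1
  veqv : ∀ l e, φ l * v e * (φ l)⁻¹ = v (C.act l e)
  vdef : ∀ e e' c, P.B e e' = 0 → P.B e c = 0 → u e' * w e c * (u e')⁻¹ =
    w e c * v (P.B c e' • e) * w e (P.B c e' • e') * x C φ e ((δ * P.B c e') • e')
  vw : ∀ e a b, P.B e a = 0 → P.B e b = 0 → P.B a b = 0 → Commute (v e) (w a b)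
  vt : ∀ e, t * v e * t⁻¹ = v e * u e * z C φ e (δ + 1)
  uv : ∀ e e', P.B e e' = 0 → u e * v e' = v e' * u e * w e e' * x C φ e e'
  vdep : ∀ e e', P.B e e' = 0 → ¬ Ln P e e' → v (e + e') = v e * v e' * w e (δ • e')
  vo : ∀ o, OO P φ t w u o → ∀ e, Commute o (v e)

/-- `HV` and the action of `w e c` on `v e'` up to the error `r` -/
structure HV1 (C : CG P S) (φ : S →* G) (t : G) (w : V → V → G) (u v : V → G) (δ r : F) : Prop
    extends HV C φ t w u v δ where
  wv : ∀ e e' c, P.B e e' = 0 → P.B e c = 0 → w e c * v e' * w e c =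
    v e' * u ((δ * P.B c e') • e) * v (P.B c e' • e) * x C φ e ((δ * δ * P.B c e') • e') *
      z C φ e (P.B c e' * P.B c e' * r)

end CfsgLib.SP4
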