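import Cfsg.Agent.Lib.SP4.CVc
import Cfsg.Agent.Lib.SP4.CVd0

/-! Type C: existence of `v` -/

set_option autoImplicit false
set_option linter.unusedSectionVars false

namespace CfsgLib.SP4

open Subgroup Module CfsgLib.Forms CfsgLib.LieMult
open CfsgLib.HX (Std CO Two Mv M2)
open CfsgLib.UN (AV SI TI HH Rad Stb Yg Rg Eg Act nu)
open CfsgLib.ClSys (II)
open Submodule (span)
open scoped commutatorElement Pointwise

universe u

variable {F : Type} [Field F] [Finite F] {V : Type} [AddCommGroup V] [Module F V]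
  [FiniteDimensional F V] {P : PQ (RingHom.id F) V} {S : Type} [Group S] [Finite S] {G : Type u}
  [Group G] [Finite G] {C : CG P S} {φ : S →* G} {t : G}

namespace HC

variable {w : V → V → G} {u : V → G} {δ : F} (h : HC C φ t w u δ) {e e' e'' a b c c' d : V}
include h

theorem cvd_ex : ∃ v : V → G, ∀ e e' c, P.B e e' = 0 → P.B e c = 0 → P.B c e' = 1 →
    v e = cvD C φ w u δ e e' c := by
  choose d c h1 h2 h3 using fun e : V => h.cv_pair1 e
  exact ⟨fun e => cvD C φ w u δ e (d e) (c e), fun e e' c' k1 k2 k3 =>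
    (h.cv_main k1 k2 k3).1 _ _ (h2 e) (h3 e) (h1 e)⟩

variable {v : V → G}
  (hv : ∀ e e' c, P.B e e' = 0 → P.B e c = 0 → P.B c e' = 1 → v e = cvD C φ w u δ e e' c)
include hv

theorem cvd_zero : v 0 = 1 := by
  obtain ⟨d, c, h1, h2, h3⟩ := h.cv_pair1 0
  rw [hv 0 d c h2 h3 h1, cvD, cvK, cvA, h.bw_zero', h.bw_zero', h.x_zero']
  group

theorem cvd_eqv (l : S) (e : V) : φ l * v e * (φ l)⁻¹ = v (C.act l e) := by
  obtain ⟨d, c, h1, h2, h3⟩ := h.cv_pair1 e
  rw [hv e d c h2 h3 h1, hv _ (C.act l d) (C.act l c) (by rwa [C.B_act]) (by rwa [C.B_act])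
    (by rwa [C.B_act]), cvD, cvD, ← h.cvA_conj h2, ← h.eqv l e c h3, ← h.ueqv, ← cvK_conj]
  group

theorem cvd_τ (k : P.B a b = 0) (h1 : P.B a e = 0) (h2 : P.B b e = 0) (μ : F) :
    Commute (v e) (τ C φ a b μ) := by
  have := h.cvd_eqv hv (C.T a b μ) e
  rw [h.T_app k, h1, h2] at this
  exact (cv_of_conj (by simpa using! this)).symm

theorem cvd_def1 (k : P.B e e' = 0) (k' : P.B e c = 0) (k'' : P.B c e' = 1) :
    u e' * w e c * (u e')⁻¹ = w e c * v e * cvA C φ w δ e e' := by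
  rw [hv e e' c k k' k'', cvD, cvK, mul_assoc (w e c) (_ * cvA C φ w δ e e'),
    mul_assoc _ (cvA C φ w δ e e'), h.cvA_sq k, mul_one, ← mul_assoc (w e c), h.sq e c k', one_mul]

theorem cvd_def (k : P.B e e' = 0) (k' : P.B e c = 0) : u e' * w e c * (u e')⁻¹ =
    w e c * v (P.B c e' • e) * w e (P.B c e' • e') * x C φ e ((δ * P.B c e') • e') := by
  by_cases h0 : P.B c e' = 0
  · rw [h0, cv_conj (h.uw e' e c (P.B_eq_zero_comm.1 k) (P.B_eq_zero_comm.1 h0) k')]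
    simp [h.cvd_zero hv, h.bw_zero, h.x_zero]
  · have j1 : P.B e ((P.B c e')⁻¹ • c) = 0 := by simp [k']
    have := h.cvd_def1 hv (e := P.B c e' • e) (e' := e') (c := (P.B c e')⁻¹ • c) (by simp [k])
      (by simp [k']) (by rw [h.B_smul_left, inv_mul_cancel₀ h0])
    rwa [h.smul e _ _ j1, smul_smul, mul_inv_cancel₀ h0, one_smul, h.cvA_smul k, cvA, smul_smul,
      ← mul_assoc] at this

theorem cvd_we (k : P.B e b = 0) : Commute (v e) (w e b) := by
  obtain ⟨d, c, h1, h2, h3⟩ := h.cv_pair1 e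
  rw [hv e d c h2 h3 h1]
  exact (h.cv_main h2 h3 h1).2.1 b k

theorem cvd_w (k1 : P.B e a = 0) (k2 : P.B e b = 0) (k3 : P.B a b = 0) : Commute (v e) (w a b) := by
  have j1 := P.B_eq_zero_comm.1 k1
  have j2 := P.B_eq_zero_comm.1 k2
  have j3 := P.B_eq_zero_comm.1 k3
  by_cases ha : a ∈ span F {e, b}
  · obtain ⟨l, m, rfl⟩ := Submodule.mem_span_pair.1 ha
    rw [h.bw_line (by simp [k2]) (by simp [h.B_self]) (by simp [k2]), h.smul e b l k2,
      h.smul b b m (h.B_self b), h.bw_self]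
    exact (h.cvd_we hv (by simp [k2])).mul_right (h.cvd_τ hv (map_zero _) j2 (by simp) m)
  · obtain ⟨c, h1, h2, h3⟩ : ∃ c, P.B e c = 0 ∧ P.B b c = 0 ∧ P.B c a = 1 := by
      by_contra hn
      refine ha (h.loc_mem _ fun c hc => ?_)
      by_contra h0
      have hc' := h.mem_perp_span.1 hc
      exact hn ⟨(P.B c a)⁻¹ • c, by simp [hc' e (by simp)], by simp [hc' b (by simp)],
        by rw [h.B_smul_left, inv_mul_cancel₀ h0]⟩
    have h4 := P.B_eq_zero_comm.1 h2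
    rw [hv e a c k1 h1 h3]
    refine (Commute.mul_right (cv_of_conj ?_) (h.cv_wA k1 k3 k1 k2 (h.B_self a) k3)).symm
    rw [cvK_conj, h.cv_cw k3 k1 k2 h1 h3 h4, cv_conj (h.uw a a b (h.B_self a) k3 k3).symm,
      cvK_left (h.cv_wA k2 h1 (h.B_self e) h1 j2 h2).symm (h.cv_uA k2 k1 j3).symm (h.cvA_sq k2)]

theorem cvd_A (k : P.B a b = 0) (k1 : P.B e a = 0) (k2 : P.B e b = 0) :
    Commute (v e) (cvA C φ w δ a b) :=
  h.cvA_comm (h.cvd_w hv k1 k2 k)
    (h.cvd_τ hv (by simp [k]) (P.B_eq_zero_comm.1 k1) (by simp [P.B_eq_zero_comm.1 k2]) 0)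

theorem cvd_uv0 (hn : ¬ Ln P e' e) (k : P.B e e' = 0) : u e * v e' * (u e)⁻¹ = v e' * w e' e := by
  have k' := P.B_eq_zero_comm.1 k
  obtain ⟨d, c, h1, h4, h5, h2, h3⟩ := h.cv_pair hn k'
  have j2 := P.B_eq_zero_comm.1 h2
  have j4 := P.B_eq_zero_comm.1 h4
  have e1 : u e * u d * (u e)⁻¹ = u d * x C φ e d := by
    have : Commute (u e) (x C φ e d) := h.bu_τ h2 (h.B_self e) j2 0
    rw [h.bu_u h2, mul_assoc (u d), this.eq, ← mul_assoc, mul_inv_cancel_right]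
  have e2 : x C φ e d * w e' c * (x C φ e d)⁻¹ = w e' c * w e' e := by
    have := h.eqv (C.T e d 0) e' c h5
    rw [h.x_app h2, h.x_app h2, j4, k, h3, h.B_comm d, h1] at this
    rw [← h.add e' c e h5 k' (P.B_eq_zero_comm.1 h3)]
    simpa using! this
  rw [hv e' d c h4 h5 h1, cvD, mul_assoc (cvK _ _), ← (h.cv_wA h4 k' (h.B_self e') k' j4 j2).eq,
    ← mul_assoc (cvK _ _), ← cvK_right e2 (h.uw d e' e j4 j2 k'), ← e1]
  conv_rhs => rw [← cv_conj (h.uw e e' c k h3 h5), ← cvK_conj, ← cv_conj (h.cv_uA h4 k' j2)]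
  group

theorem cvd_uv (k : P.B e e' = 0) : u e * v e' = v e' * u e * w e e' * x C φ e e' := by
  have k' := P.B_eq_zero_comm.1 k
  have e3 : u e * v e' * (u e)⁻¹ = v e' * w e' e := by
    by_cases hn : Ln P e' e
    · obtain ⟨r, h1, h2⟩ : ∃ r, P.B e' r = 0 ∧ P.B r e = 1 := by
        by_contra hr
        refine hn.2 (h.loc_mem _ fun c hc => ?_)
        by_contra h0
        have hc' := h.mem_perp_span.1 hc
        exact hr ⟨(P.B c e)⁻¹ • c, by simp [hc' e' (by simp)],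
          by rw [h.B_smul_left, inv_mul_cancel₀ h0]⟩
      rw [hv e' e r k' h1 h2]
      exact (h.cv_main k' h1 h2).2.2
    · exact h.cvd_uv0 hv hn k
  rw [mul_inv_eq_iff_eq_mul.1 e3, mul_assoc, ← (h.uw e e' e k (h.B_self e) k').eq, h.symm e e' k,
    one_smul]
  simp only [mul_assoc]

theorem cvd_line (k : P.B e e' = 0) (hn : ¬ Ln P e e') : v (e + e') = v e * v e' * w e (δ • e') := by
  obtain ⟨d, c, h1, h2, h3, h4, h5⟩ := h.cv_pair hn k
  have k' := P.B_eq_zero_comm.1 k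
  have j2 := P.B_eq_zero_comm.1 h2
  have j3 := P.B_eq_zero_comm.1 h3
  have j4 := P.B_eq_zero_comm.1 h4
  have kδ : P.B e (δ • e') = 0 := by simp [k]
  have e1 : w e' c * cvA C φ w δ e d * w e' c = cvA C φ w δ e d * w e (δ • e') := by
    have c1 : Commute (w e d) (x C φ e (δ • d)) := h.cv_wx h2 (by simp [h2]) (by simp [h.B_self]) 0
    have := h.bw_conj h5 k h3 (a := δ • d) (by simp [h2]) h2 0
    rw [cvA, c1.eq, mul_assoc (x C φ e (δ • d)), ← h.add e d _ h2 kδ (by simp [j4])]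
    simpa [h1, h4, h.add_self] using! this
  have cA : Commute (w e c) (w e' c) := h.bw_w h3 h5 k' h5 j3 (h.B_self c)
  have c1 : Commute (v e) (w e' c) := h.cvd_w hv k h3 h5
  have c2 : Commute (v e') (cvA C φ w δ e d) := h.cvd_A hv h2 k' h4
  have c3 : Commute (v e') (w e (δ • e')) := h.cvd_w hv k' (by simp [h.B_self]) kδ
  have c4 : Commute (w e (δ • e')) (cvA C φ w δ e d) :=
    h.cv_wA h2 kδ (h.B_self e) kδ j2 (by simp [j4])
  have c5 : Commute (cvA C φ w δ e' d) (cvA C φ w δ e d) :=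
    (h.cv_wA h2 h4 k h2 j4 (h.B_self d)).mul_left (h.cvA_comm
      (h.bw_τ h2 (by simp [h4]) k' h4 (by simp [j2]) (by simp [h.B_self]) 0).symm
      (h.cv_xx (by simp [h4]) (by simp [h2]) k (by simp [h2]) (by simp [j4]) (by simp [h.B_self]) 0))
  have d1 := h.cvd_def1 hv h2 h3 h1
  have d2 := h.cvd_def1 hv h4 h5 h1
  have s1 := h.sq e c h3
  have s2 := h.cvA_sq h2
  have s3 := h.cvA_sq h4
  rw [hv _ d c (by simp [h2, h4]) (by simp [h3, h5]) h1, cvD, cvK, h.bw_line h3 h5 k,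
    h.cvA_line h2 h4 k]
  generalize cvA C φ w δ e d = A at *
  generalize cvA C φ w δ e' d = A' at *
  calc _ = w e c * w e' c * ((u d * w e c * (u d)⁻¹) * (u d * w e' c * (u d)⁻¹)) * (A * A') := by group
    _ = w e c * (w e' c * w e c) * v e * A * w e' c * v e' * (A' * A) * A' := by
      rw [d1, d2]; simp only [mul_assoc]
    _ = (w e c * w e c) * (w e' c * v e) * A * w e' c * v e' * A * (A' * A') := by
      rw [← cA.eq, c5.eq]; simp only [mul_assoc]
    _ = v e * (w e' c * A * w e' c) * (v e' * A) := by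
      rw [s1, s3, ← c1.eq]; simp only [mul_assoc, one_mul, mul_one]
    _ = v e * (A * (w e (δ • e') * A)) * v e' := by rw [e1, c2.eq]; simp only [mul_assoc]
    _ = _ := by rw [c4.eq, ← mul_assoc A, s2, one_mul, mul_assoc, ← c3.eq, mul_assoc]

theorem cvd_t (e : V) : t * v e * t⁻¹ = v e * u e * z C φ e (δ + 1) := by
  obtain ⟨d, c, h1, h2, h3⟩ := h.cv_pair1 e
  rw [hv e d c h2 h3 h1]
  exact h.cvD_t h2 h3 h1

theorem cvd_o (o : G) (ho : OO P φ t w u o) (e : V) : Commute o (v e) := by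
  obtain ⟨d, c, h1, h2, h3⟩ := h.cv_pair1 e
  rw [hv e d c h2 h3 h1]
  exact h.cvD_o ho h2 h3

end HC

theorem HC.exists_v0 {w : V → V → G} {u : V → G} {δ : F} (h : HC C φ t w u δ) :
    ∃ v, HV0 C φ t w u v δ := by
  obtain ⟨v, hv⟩ := h.cvd_ex
  exact ⟨v, h, h.cvd_zero hv, h.cvd_eqv hv, fun _ _ _ => h.cvd_def hv, fun _ _ _ => h.cvd_w hv,
    h.cvd_t hv, fun _ _ => h.cvd_uv hv, fun _ _ => h.cvd_line hv, h.cvd_o hv⟩

end CfsgLib.SP4
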