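import Cfsg.Agent.Lib.SP4.CVd0

/-! Type C: `vline` up to `x p (s p')` -/

set_option autoImplicit false
set_option linter.unusedSectionVars false

namespace CfsgLib.SP4

open Subgroup Module CfsgLib.Forms CfsgLib.LieMult
open CfsgLib.HX (Std CO Two Mv M2)
open CfsgLib.UN (AV SI TI HH Rad Stb Yg Rg Eg Act nu)
open CfsgLib.ClSys (II)
open Submodule (span)
open scoped commutatorElement Pointwise

universe u

variable {F : Type} [Field F] [Finite F] {V : Type} [AddCommGroup V] [Module F V]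
  [FiniteDimensional F V] {P : PQ (RingHom.id F) V} {S : Type} [Group S] [Finite S] {G : Type u}
  [Group G] [Finite G] {C : CG P S} {φ : S →* G} {t : G}

namespace HV0

variable {w : V → V → G} {u v : V → G} {δ : F} (h : HV0 C φ t w u v δ) {e e' c : V}
include h

theorem vsq (e : V) : v e * v e = z C φ e δ := by
  have a := h.vdep e e (h.B_self e) fun l => l.nmem (Submodule.mem_span_singleton_self e)
  rw [h.vadd_self, h.vzero, h.toHW.bw_self] at a
  rw [eq_inv_of_mul_eq_one_left a.symm, inv_eq_of_mul_eq_one_right (h.z_sq e δ)]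

theorem ve_one : OO P φ t w u 1 :=
  ⟨fun _ => Commute.one_left _, Commute.one_left _, by simp, fun _ => Commute.one_left _,
    fun _ _ _ => Commute.one_left _⟩

/-- the elements of the line and `o` lie in a central subgroup `Z` of a group `J` which contains the hats -/
theorem ve_ZJ (k : P.B e e' = 0) {o : G} (ho : OO P φ t w u o) : ∃ Z J : Subgroup G, Z ≤ J ∧
    (∀ a ∈ Z, ∀ g ∈ J, a * g = g * a) ∧ o ∈ Z ∧
    (∀ p ∈ span F {e, e'}, ∀ a ∈ span F {e, e'}, x C φ p a ∈ Z ∧ w p a ∈ Z) ∧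
    ∀ p ∈ span F {e, e'}, (∀ d, z C φ p d ∈ Z) ∧ u p ∈ J ∧ v p ∈ J := by
  have hT : ∀ p ∈ span F {e, e'}, ∀ a ∈ span F {e, e'}, P.B p a = 0 := fun p hp a ha => by
    obtain ⟨α, β, rfl⟩ := Submodule.mem_span_pair.1 hp
    obtain ⟨α', β', rfl⟩ := Submodule.mem_span_pair.1 ha
    simp [h.B_self, k, P.B_eq_zero_comm.1 k]
  generalize span F {e, e'} = T at hT
  have fix : ∀ p ∈ T, ∀ a ∈ T, ∀ d, ∀ q ∈ T, C.act (C.T p a d) q = q := fun p hp a ha d q hq => by
    rw [h.T_app (hT p hp a ha), hT a ha q hq, hT p hp q hq]; simp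
  let A : Set G := {g | (∃ p ∈ T, ∃ a ∈ T, ∃ d, g = τ C φ p a d) ∨ (∃ p ∈ T, ∃ a ∈ T, g = w p a) ∨ g = o}
  have mem : ∀ g, (∀ p ∈ T, ∀ a ∈ T, ∀ d, Commute g (τ C φ p a d)) → (∀ p ∈ T, ∀ a ∈ T, Commute g (w p a)) →
      Commute o g → g ∈ centralizer A := by
    rintro g h1 h2 h3 _ (⟨p, hp, a, ha, d, rfl⟩ | ⟨p, hp, a, ha, rfl⟩ | rfl)
    exacts [(h1 p hp a ha d).eq.symm, (h2 p hp a ha).eq.symm, h3.eq]
  have wτ : ∀ q ∈ T, ∀ b ∈ T, ∀ p ∈ T, ∀ a ∈ T, ∀ d, Commute (w q b) (τ C φ p a d) :=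
    fun q hq b hb p hp a ha d => h.toHW.bw_fix (hT q hq b hb) (fix p hp a ha d q hq) (fix p hp a ha d b hb)
  have hA : A ⊆ centralizer A := by
    rintro _ (⟨q, hq, b, hb, d', rfl⟩ | ⟨q, hq, b, hb, rfl⟩ | rfl)
    · refine mem _ (fun p hp a ha d => ?_) (fun p hp a ha => (wτ p hp a ha q hq b hb d').symm) (ho.cL _)
      have := h.τ_conj (C.T p a d) (hT q hq b hb) d'
      rw [fix p hp a ha d q hq, fix p hp a ha d b hb] at this
      exact (cv_of_conj this).symm
    · exact mem _ (wτ q hq b hb) (fun p hp a ha => h.toHW.bw_w (hT q hq b hb) (hT p hp a ha) (hT p hp q hq)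
        (hT p hp b hb) (hT a ha q hq) (hT a ha b hb)) (ho.cw _ _ (hT q hq b hb))
    · exact mem _ (fun _ _ _ _ _ => ho.cL _) (fun p hp a ha => ho.cw _ _ (hT p hp a ha)) (Commute.refl _)
  have hZ : ∀ g ∈ A, g ∈ centralizer (centralizer A : Subgroup G).carrier := fun g hg a ha => (ha g hg).symm
  refine ⟨centralizer (centralizer A : Subgroup G).carrier, centralizer A, centralizer_le hA,
    fun a ha g hg => (ha g hg).symm, hZ _ (Or.inr (Or.inr rfl)), fun p hp a ha =>
      ⟨hZ _ (Or.inl ⟨p, hp, a, ha, 0, rfl⟩), hZ _ (Or.inr (Or.inl ⟨p, hp, a, ha, rfl⟩))⟩, fun q hq =>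
      ⟨fun d => hZ _ (Or.inl ⟨q, hq, 0, zero_mem _, d, rfl⟩), ?_, ?_⟩⟩
  · exact mem _ (fun p hp a ha d => h.toHC.bu_fix (fix p hp a ha d q hq))
      (fun p hp a ha => h.uw q p a (hT q hq p hp) (hT q hq a ha) (hT p hp a ha)) (ho.cu q)
  · refine mem _ (fun p hp a ha d => ?_)
      (fun p hp a ha => h.vw q p a (hT q hq p hp) (hT q hq a ha) (hT p hp a ha)) (h.vo o ho q)
    have := h.veqv (C.T p a d) q
    rw [fix p hp a ha d q hq] at this
    exact (cv_of_conj this).symm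

theorem line_ex (l : Ln P e e') : ∃ r s r' : F, ∃ o, OO P φ t w u o ∧
    v (e + e') = z C φ e r * x C φ e (s • e') * z C φ e' r' * o * (v e * v e' * w e (δ • e')) := by
  have k := l.perp
  obtain ⟨Z, J, le, cm, -, h1, h2⟩ := h.ve_ZJ k h.ve_one
  have m1 : e ∈ span F {e, e'} := Submodule.subset_span (by simp)
  have m2 : e' ∈ span F {e, e'} := Submodule.subset_span (by simp)
  have md := Submodule.smul_mem _ δ m2
  have kd : P.B e (δ • e') = 0 := by simp [k]
  obtain ⟨z1, U, V1⟩ := h2 e m1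
  obtain ⟨z2, U', V2⟩ := h2 e' m2
  obtain ⟨x0, W⟩ := h1 e m1 e' m2
  obtain ⟨xd, Wd⟩ := h1 e m1 _ md
  have V3 := (h2 _ (add_mem m1 m2)).2.2
  have uv := h.uv e e' k
  -- conjugation by `t`
  have a1 := h.vt (e + e')
  rw [h.uline e e' k, h.z_line k, add_smul, one_smul, h.x_add kd k (by simp [h.B_self])] at a1
  have a2 : t * (v e * v e' * w e (δ • e')) * t⁻¹ = v e * v e' * w e (δ • e') * (u e * u e' * w e e' *
      (z C φ e (δ + 1) * z C φ e' (δ + 1) * (x C φ e (δ • e') * x C φ e e'))) := by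
    rw [← conj_mul, ← conj_mul, h.vt, h.vt, h.toHW.bw_t kd]
    have c1 := cm _ (z1 (δ + 1)) _ (mul_mem V2 U')
    have c2 := cm _ Wd _ (mul_mem (mul_mem (mul_mem U (le (mul_mem W x0))) U')
      (le (mul_mem (z1 (δ + 1)) (z2 (δ + 1)))))
    have c3 := cm _ x0 _ (mul_mem U' (le (mul_mem (mul_mem (z1 (δ + 1)) (z2 (δ + 1))) xd)))
    have c4 := cm _ W _ U'
    generalize z C φ e (δ + 1) = z1, z C φ e' (δ + 1) = z2, x C φ e (δ • e') = xd, x C φ e e' = x0,
      w e (δ • e') = Wd, w e e' = W, u e = U, u e' = U', v e = V1, v e' = V2 at c1 c2 c3 c4 uv ⊢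
    calc _ = V1 * U * (z1 * (V2 * U')) * z2 * Wd * xd := by group
      _ = V1 * (U * V2) * U' * z1 * z2 * Wd * xd := by rw [c1]; group
      _ = V1 * V2 * (U * (W * x0) * U' * (z1 * z2) * Wd) * xd := by rw [uv]; group
      _ = V1 * V2 * Wd * U * W * (x0 * (U' * (z1 * z2 * xd))) := by rw [← c2]; group
      _ = V1 * V2 * Wd * U * (W * U') * (z1 * z2 * xd * x0) := by rw [c3]; group
      _ = _ := by rw [c4]; group
  have kt : Commute (v (e + e') * (v e * v e' * w e (δ • e'))⁻¹) t := (cv_of_conj (by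
    rw [← conj_mul, ← conj_inv, a1, a2]; group)).symm
  -- commutation with `u e`
  have b1 := h.uv e (e + e') (by simp [k, h.B_self])
  have b2 := h.uv e e (h.B_self e)
  have b3 := h.shift e e' 1 k
  have b4 := h.x_shift k 1
  have b5 := h.toHW.bw_self e 1
  have b6 := h.x_self e 1
  rw [one_smul] at b3 b4 b5 b6
  rw [add_comm e e', b3, b4, add_comm e' e, one_mul] at b1
  rw [b5, b6, mul_one] at b2
  have b7 : u e * (v e * v e' * w e (δ • e')) =
      v e * v e' * w e (δ • e') * (u e * (w e e' * z C φ e 1) * x C φ e e') := by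
    have c1 := cm _ (z1 1) _ V2
    have c2 := cm _ x0 _ (le (z1 1))
    have c3 := cm _ Wd _ (mul_mem (mul_mem U (le (mul_mem W (z1 1)))) (le x0))
    calc _ = u e * v e * v e' * w e (δ • e') := by group
      _ = v e * u e * (z C φ e 1 * v e') * w e (δ • e') := by rw [b2]; group
      _ = v e * (u e * v e') * z C φ e 1 * w e (δ • e') := by rw [c1]; group
      _ = v e * v e' * u e * w e e' * (x C φ e e' * z C φ e 1) * w e (δ • e') := by rw [uv]; group
      _ = v e * v e' * (u e * (w e e' * z C φ e 1) * x C φ e e' * w e (δ • e')) := by rw [c2]; group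
      _ = _ := by rw [← c3]; group
  have ku : Commute (v (e + e') * (v e * v e' * w e (δ • e'))⁻¹) (u e) := (cv_of_conj (by
    calc _ = u e * v (e + e') * (u e * (v e * v e' * w e (δ • e')))⁻¹ := by group
      _ = _ := by rw [b1, b7]; group)).symm
  obtain ⟨r, s, r', o, ho, e1 | e1⟩ := h.toHC.cv_keyL l kt fun p hp μ =>
    (cm _ ((h2 p hp).1 μ) _ (mul_mem V3 (inv_mem (mul_mem (mul_mem V1 V2) (le Wd))))).symm
  · exact ⟨r, s, r', o, ho, mul_inv_eq_iff_eq_mul.1 e1⟩
  · have c1 : Commute (z C φ e r * x C φ e (s • e') * z C φ e' r') (u e) :=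
      cm _ (mul_mem (mul_mem (z1 r) (h1 e m1 _ (Submodule.smul_mem _ s m2)).1) (z2 r')) _ U
    rw [e1] at ku
    have c2 : Commute t (u e) := by
      have := (c1.inv_left.mul_left ku).mul_left (ho.cu e).inv_left
      rwa [inv_mul_cancel_left, mul_inv_cancel_right] at this
    have := h.toHC.bu_t e
    rw [cv_conj c2, left_eq_mul, h.z_eq_one] at this
    exact absurd this (by simp [l.ne])

theorem ve_z (l : Ln P e e') {r : F} (k : z C φ (e + e') r * z C φ e r = 1) : r = 0 := by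
  have a : z C φ (e + e') r = z C φ e r := mul_right_cancel (k.trans (h.z_sq e r).symm)
  refine (h.line_inj l (r := r) (v := r) (r' := r) (s := r) (u := 0) (s' := 0) ?_).2.1
  have c : Commute (x C φ e (r • e')) (z C φ e' r) :=
    h.toEmb.cv_xx (by simp [l.perp]) (map_zero _) (P.B_eq_zero_comm.1 l.perp) (by simp [h.B_self]) (by simp)
      (by simp) r
  rw [zero_smul, h.x_zero, h.z_zero, mul_one, mul_one, mul_assoc, c.eq, ← mul_assoc, ← h.z_line l.perp, a]

theorem line_s : ∃ s : F, ∀ p p', P.B p p' = 0 →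
    v (p + p') = v p * v p' * w p (δ • p') * x C φ p (s • p') := by
  obtain ⟨e, e0⟩ := h.toMod.g2_ne
  obtain ⟨e', l⟩ := h.exists_ln e0
  obtain ⟨r, s, r', o, ho, e1⟩ := h.line_ex l
  have k := l.perp
  have all : ∀ p p', Ln P p p' →
      v (p + p') = z C φ p r * x C φ p (s • p') * z C φ p' r' * o * (v p * v p' * w p (δ • p')) := by
    intro p p' lp
    obtain ⟨g, rfl, rfl⟩ := h.trans_ln l lp
    rw [← map_add, ← h.veqv, ← h.veqv, ← h.veqv, ← map_smul, ← map_smul, ← h.z_conj, ← h.z_conj,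
      ← h.x_conj g (by simp [k]), ← h.eqv g e _ (by simp [k]), e1]
    conv_rhs => rw [← cv_conj (ho.cL g).symm]
    group
  obtain ⟨Z, J, le, cm, ho', h1, h2⟩ := h.ve_ZJ k ho
  have m1 : e ∈ span F {e, e'} := Submodule.subset_span (by simp)
  have m2 : e' ∈ span F {e, e'} := Submodule.subset_span (by simp)
  have kd : P.B e (δ • e') = 0 := by simp [k]
  have ks : P.B e (s • e') = 0 := by simp [k]
  obtain ⟨z1, -, V1⟩ := h2 e m1
  obtain ⟨z2, -, V2⟩ := h2 e' m2
  obtain ⟨z3, -, -⟩ := h2 _ (add_mem m1 m2)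
  have X := (h1 e m1 _ (Submodule.smul_mem _ s m2)).1
  have Wd := (h1 e m1 _ (Submodule.smul_mem _ δ m2)).2
  have ww := h.sq e _ kd
  have xx := h.x_sq ks
  -- the pairs `(e + e', e')` and `(e, e')`
  have a1 := all _ _ (h.toEmb.loc_ln' l)
  have a2 : x C φ (e + e') (s • e') = x C φ e (s • e') := by
    simpa using h.toEmb.loc_x k 1 1 0 s
  rw [add_assoc, h.vadd_self, add_zero, a2, h.toHW.bw_line kd (by simp [h.B_self]) k, h.toHW.bw_self, e1] at a1
  have a3 : z C φ (e + e') r * z C φ e r * (o * o) = 1 := by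
    have c1 := cm _ Wd _ V2
    have c2 := cm _ (mul_mem X (z2 r')) _ (le (mul_mem ho' (z1 r)))
    have c3 := cm _ ho' _ (le (z1 r))
    have c4 := cv_sq (cm _ X _ (le (z2 r'))) xx (h.z_sq e' r')
    have c5 := h.vsq e'
    have c6 := h.z_sq e' δ
    refine mul_right_cancel (b := v e) (Eq.trans ?_ (a1.symm.trans (one_mul _).symm))
    generalize z C φ (e + e') r = z3, z C φ e r = z1, z C φ e' r' = z2, x C φ e (s • e') = X,
      w e (δ • e') = Wd, v e = V1, v e' = V2, z C φ e' δ = zd at c1 c2 c3 c4 c5 c6 ww ⊢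
    symm
    calc _ = z3 * (X * z2 * (o * z1)) * (X * z2) * o * V1 * V2 * (Wd * V2) * Wd * zd := by group
      _ = z3 * (o * z1) * (X * z2 * (X * z2)) * o * V1 * (V2 * V2) * (Wd * Wd) * zd := by rw [c1, c2]; group
      _ = z3 * z1 * (o * o) * V1 * (zd * zd) := by rw [c3, c4, c5, ww]; group
      _ = _ := by rw [c6, mul_one]
  obtain ⟨a4, a5⟩ := h.toHC.cv_sep (fun g => (ho.cL g).mul_left (ho.cL g)) (mul_mem ⟨_, rfl⟩ ⟨_, rfl⟩) a3
  obtain rfl := ho.eq_one a5
  obtain rfl := h.ve_z l a4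
  simp only [h.z_zero, one_mul, mul_one] at all e1
  -- the pairs `(e, e + e')` and `(e, e')`
  have b1 := all e (e + e') (by simpa [add_comm] using h.ln_smul l one_ne_zero one_ne_zero 1)
  have b2 : x C φ e (s • (e + e')) = x C φ e (s • e') := by rw [smul_add, add_comm, h.x_shift ks]
  have b3 : w e (δ • (e + e')) = w e (δ • e') * z C φ e δ := by rw [smul_add, add_comm, h.shift e _ δ kd, one_mul]
  rw [← add_assoc, h.vadd_self, zero_add, b2, b3, e1] at b1
  have b4 : z C φ (e' + e) r' * z C φ e' r' = 1 := by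
    rw [add_comm e' e]
    have c1 := cm _ (mul_mem X (z2 r')) _ V1
    have c2 := cm _ X _ (le (z3 r'))
    have c3 := cm _ (z1 δ) _ V2
    have c5 := h.vsq e
    have c6 := h.z_sq e δ
    refine mul_right_cancel (b := v e') (Eq.trans ?_ (b1.symm.trans (one_mul _).symm))
    generalize z C φ (e + e') r' = z3, z C φ e' r' = z2, x C φ e (s • e') = X,
      w e (δ • e') = Wd, v e = V1, v e' = V2, z C φ e δ = zd at c1 c2 c3 c5 c6 ww xx ⊢
    symm
    calc _ = X * z3 * (V1 * (X * z2)) * V1 * V2 * (Wd * Wd) * zd := by group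
      _ = z3 * (X * X) * z2 * (V1 * V1) * V2 * zd := by rw [← c1, c2, ww]; group
      _ = z3 * z2 * (zd * V2) * zd := by rw [xx, c5]; group
      _ = z3 * z2 * V2 * (zd * zd) := by rw [c3]; group
      _ = _ := by rw [c6, mul_one]
  obtain rfl := h.ve_z (h.ln_symm l) b4
  refine ⟨s, fun p p' kp => ?_⟩
  by_cases lp : Ln P p p'
  · obtain ⟨Z, J, le, cm, -, h1, h2⟩ := h.ve_ZJ kp h.ve_one
    have m1 : p ∈ span F {p, p'} := Submodule.subset_span (by simp)
    have m2 : p' ∈ span F {p, p'} := Submodule.subset_span (by simp)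
    rw [all p p' lp, h.z_zero, mul_one]
    exact cm _ (h1 p m1 _ (Submodule.smul_mem _ s m2)).1 _ (mul_mem (mul_mem (h2 p m1).2.2 (h2 p' m2).2.2)
      (le (h1 p m1 _ (Submodule.smul_mem _ δ m2)).2))
  · rw [h.vdep p p' kp lp, left_eq_mul]
    by_cases p0 : p = 0
    · rw [p0, h.x_zero']
    · obtain ⟨a, rfl⟩ := Submodule.mem_span_singleton.1 (not_not.1 fun q => lp ⟨p0, q, kp⟩)
      rw [smul_smul, h.x_self]

end HV0

end CfsgLib.SP4
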