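import Cfsg.Agent.Lib.SP4.BIo
import Cfsg.Agent.Lib.SP4.CVd0

/-! Type C: the relations -/

set_option autoImplicit false
set_option linter.unusedSectionVars false

namespace CfsgLib.SP4.BC

open Subgroup Module CfsgLib.Forms CfsgLib.LieMult Matrix
open CfsgLib.HX (Std CO Two Mv M2)
open CfsgLib.UN (AV SI TI HH Rad Stb Yg Rg Eg Act nu)
open CfsgLib.ClSys (II)
open Submodule (span)
open scoped commutatorElement Pointwise

universe u

variable {F : Type} [Field F] [Finite F] [CharP F 2] [Fact (2 < Nat.card F)] {V : Type} [AddCommGroup V] [Module F V]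
  [FiniteDimensional F V] {P : PQ (RingHom.id F) V} {S : Type} [Group S] [Finite S] {G : Type u}
  [Group G] [Finite G] {C : CG P S} {φ : S →* G} {t : G} {m : ℕ} {δ : F}
  {cv : V →ₗ[F] Vk m δ} {ι : S →* Sg m δ} {ψ : Sg m δ →* G} {w : V → V → G} {u v : V → G}

/-- the element `T (e, a + ω b + (α + β ω) v₀, c + ..)` -/
def cxX (C : CG P S) (φ : S →* G) (w : V → V → G) (u v : V → G) (e a b : V) (α β c : F) : G :=
  τ C φ e a c * w e b * u (α • e) * v (β • e)

section grp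

variable (h : HV C φ t w u v δ) {e a b a' b' p r : V}
include h

theorem cx_B0 (e : V) (α : F) : P.B (α • e) e = 0 := by rw [h.B_smul_left, h.B_self, mul_zero]

theorem cx_Bl (k : P.B e a = 0) (α : F) : P.B (α • e) a = 0 := by rw [h.B_smul_left, k, mul_zero]

theorem cx_Br (k : P.B e a = 0) (α : F) : P.B e (α • a) = 0 := by rw [P.B_smul_right, k, mul_zero]

theorem cx_Bs (k : P.B e a = 0) : P.B a e = 0 := by rw [h.B_comm, k]

theorem cx_fix (k : P.B e a = 0) (c : F) (h1 : P.B e p = 0) (h2 : P.B a p = 0) :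
    C.act (C.T e a c) p = p := by
  rw [h.T_app k, h1, h2]; simp

theorem cx_vfix {l : S} (h1 : C.act l e = e) : Commute (v e) (φ l) := by
  have := h.veqv l e
  rw [h1, mul_inv_eq_iff_eq_mul] at this
  exact this.symm

theorem cx_uτ (k : P.B e a = 0) (α c : F) : Commute (u (α • e)) (τ C φ e a c) :=
  h.toHC.bu_fix (cx_fix h k c (cx_Br h (h.B_self e) α) (cx_Br h (cx_Bs h k) α))

theorem cx_vτ (k : P.B e a = 0) (α c : F) : Commute (v (α • e)) (τ C φ e a c) :=
  cx_vfix h (cx_fix h k c (cx_Br h (h.B_self e) α) (cx_Br h (cx_Bs h k) α))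

theorem cx_uw (k : P.B e b = 0) (α : F) : Commute (u (α • e)) (w e b) :=
  h.uw _ _ _ (cx_B0 h e α) (cx_Bl h k α) k

theorem cx_vw (k : P.B e b = 0) (α : F) : Commute (v (α • e)) (w e b) :=
  h.vw _ _ _ (cx_B0 h e α) (cx_Bl h k α) k

theorem cx_wz (k : P.B e b = 0) (c : F) : Commute (w e b) (z C φ e c) :=
  h.toHW.bw_fix k (cx_fix h (map_zero _) c (h.B_self e) (by simp)) (cx_fix h (map_zero _) c k (by simp))

theorem cx_uv (e : V) (α β : F) :
    v (β • e) * u (α • e) = u (α • e) * v (β • e) * z C φ e (α * β) := by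
  have e1 := h.uv (α • e) (β • e) (cx_Br h (cx_B0 h e α) β)
  have k := cx_Br h (h.B_self e) β
  rw [h.smul _ _ _ k, h.x_smul k, smul_smul, h.toHW.bw_self, h.x_self, mul_one] at e1
  rw [e1, mul_assoc, h.z_sq, mul_one]

theorem cx_vv (e : V) (β β' : F) :
    v (β • e) * v (β' • e) = v ((β + β') • e) * z C φ e (δ * β * β') := by
  have e1 := h.vline (β • e) (β' • e) (cx_Br h (cx_B0 h e β) β')
  rw [smul_smul, h.smul _ _ _ (cx_Br h (h.B_self e) _), smul_smul, h.toHW.bw_self] at e1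
  rw [add_smul, e1, mul_assoc, ← h.z_add, show β * (δ * β') + δ * β * β' = 0 by
    rw [← h.add_self (δ * β * β')]; ring, h.z_zero, mul_one]

theorem cx_z (h1 : P.B e a = 0) (h2 : P.B e b = 0) (α β c d : F) :
    cxX C φ w u v e a b α β c * z C φ e d = cxX C φ w u v e a b α β (c + d) := by
  have c1 : Commute (u (α • e)) (z C φ e d) := cx_uτ h (map_zero _) α d
  have c2 : Commute (v (β • e)) (z C φ e d) := cx_vτ h (map_zero _) β d
  have c3 := cx_wz h h2 d
  have e1 : τ C φ e a c * z C φ e d = τ C φ e a (c + d) := by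
    have := h.τ_mul h1 (map_zero (P.B e)) c d
    rwa [add_zero, map_zero, add_zero] at this
  rw [cxX, cxX, ← e1, mul_assoc, mul_assoc, mul_assoc, ← mul_assoc (u _), ← mul_assoc (w _ _),
    ((c3.mul_left (c1.mul_left c2))).eq]
  simp only [mul_assoc]

theorem cx_mul (h1 : P.B e a = 0) (h2 : P.B e b = 0) (h3 : P.B e a' = 0) (h4 : P.B e b' = 0)
    (α β c α' β' c' : F) :
    cxX C φ w u v e a b α β c * cxX C φ w u v e a' b' α' β' c' =
      cxX C φ w u v e (a + a') (b + b') (α + α') (β + β')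
        (c + c' + P.B a a' + P.B b a' + δ * P.B b b' + (α * α' + α' * β + δ * β * β')) := by
  have c1 : Commute (u (α • e) * v (β • e)) (τ C φ e a' c' * w e b') :=
    ((cx_uτ h h3 α c').mul_right (cx_uw h h4 α)).mul_left ((cx_vτ h h3 β c').mul_right (cx_vw h h4 β))
  have z1 : ∀ γ d, Commute (v (γ • e)) (z C φ e d) := fun γ d => cx_vτ h (map_zero _) γ d
  rw [← cx_z h (by rw [map_add, h1, h3, add_zero]) (by rw [map_add, h2, h4, add_zero])]
  calc cxX C φ w u v e a b α β c * cxX C φ w u v e a' b' α' β' c'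
      = τ C φ e a c * w e b * (u (α • e) * v (β • e) * (τ C φ e a' c' * w e b')) * u (α' • e) *
        v (β' • e) := by simp only [cxX, mul_assoc]
    _ = τ C φ e a c * w e b * (τ C φ e a' c' * w e b') * u (α • e) * (v (β • e) * u (α' • e)) *
        v (β' • e) := by rw [c1.eq]; simp only [mul_assoc]
    _ = τ C φ e a c * w e b * (τ C φ e a' c' * w e b') * (u (α • e) * u (α' • e)) * v (β • e) *
        (z C φ e (α' * β) * v (β' • e)) := by rw [cx_uv h]; simp only [mul_assoc]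
    _ = τ C φ e a c * w e b * (τ C φ e a' c' * w e b') * u ((α + α') • e) * (z C φ e (α * α') *
        (v (β • e) * v (β' • e))) * z C φ e (α' * β) := by
          rw [h.toHC.bu_add, ← (z1 β' _).eq]; simp only [mul_assoc]
    _ = _ := by
          rw [h.toHW.bw_mul h1 h2 h3 h4, cx_vv h, ← mul_assoc (z C φ e _), ← (z1 _ _).eq, cxX, h.z_add,
            h.z_add]
          simp only [mul_assoc]
          rw [(h.z_comm (h.B_self e) (δ * (β * β')) (α' * β)).eq]

theorem cx_τ (e a : V) (c : F) : cxX C φ w u v e a 0 0 0 c = τ C φ e a c := by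
  rw [cxX, zero_smul, h.toHW.bw_zero, h.toHC.bu_zero, h.vzero, mul_one, mul_one, mul_one]

theorem cx_w (e b : V) : cxX C φ w u v e 0 b 0 0 0 = w e b := by
  rw [cxX, zero_smul, h.toHC.bu_zero, h.vzero, mul_one, mul_one, show τ C φ e 0 0 = 1 from h.x_zero e,
    one_mul]

theorem cx_u (e : V) (α : F) : cxX C φ w u v e 0 0 α 0 0 = u (α • e) := by
  rw [cxX, zero_smul, h.toHW.bw_zero, h.vzero, mul_one, mul_one, show τ C φ e 0 0 = 1 from h.x_zero e,
    one_mul]

theorem cx_v (e : V) (β : F) : cxX C φ w u v e 0 0 0 β 0 = v (β • e) := by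
  rw [cxX, zero_smul, h.toHW.bw_zero, h.toHC.bu_zero, mul_one, mul_one,
    show τ C φ e 0 0 = 1 from h.x_zero e, one_mul]

theorem cx_t (h1 : P.B e a = 0) (h2 : P.B e b = 0) (α β c : F) :
    t * cxX C φ w u v e a b α β c * t⁻¹ =
      cxX C φ w u v e (a + b) b (α + β) β (c + (P.B a b + (α * α + α * β + δ * β * β))) := by
  have e1 : t * τ C φ e a c * t⁻¹ = τ C φ e a c := by
    rw [τ, ← h.tl, mul_inv_cancel_right]
  have k0 : P.B e 0 = 0 := map_zero _
  calc t * cxX C φ w u v e a b α β c * t⁻¹ = (t * τ C φ e a c * t⁻¹) * (t * w e b * t⁻¹) *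
        (t * u (α • e) * t⁻¹) * (t * v (β • e) * t⁻¹) := by rw [cxX]; group
    _ = cxX C φ w u v e a b 0 0 c * cxX C φ w u v e b 0 0 0 0 * (cxX C φ w u v e 0 0 α 0 0 *
        z C φ e (α * α * 1)) * (cxX C φ w u v e 0 0 0 β 0 * cxX C φ w u v e 0 0 β 0 0 *
        z C φ e (β * β * (δ + 1))) := by
          rw [e1, h.toHW.bw_t h2, h.toHC.bu_t, h.vt, h.z_smul, h.z_smul, cx_τ h, cx_u h, cx_u h, cx_v h,
            cxX, zero_smul, h.toHC.bu_zero, h.vzero]
          simp only [mul_assoc, one_mul, mul_one, x, τ]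
    _ = _ := by
          have k1 : P.B e (a + b) = 0 := by rw [map_add, h1, h2, add_zero]
          rw [cx_mul h k0 k0 k0 k0, cx_mul h h1 h2 h2 k0]
          simp only [add_zero, zero_add]
          rw [cx_z h k0 k0, cx_z h k0 k0, cx_mul h k1 h2 k0 k0]
          simp only [add_zero, zero_add]
          rw [cx_mul h k1 h2 k0 k0]
          simp only [add_zero, zero_add, map_zero, h.B_self]
          congr 1
          linear_combination (β * β) * h.two

theorem cx_cφ {l : S} (hl : C.act l e = e) (h1 : P.B e a = 0) (h2 : P.B e b = 0) (α β c : F) :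
    φ l * cxX C φ w u v e a b α β c * (φ l)⁻¹ = cxX C φ w u v e (C.act l a) (C.act l b) α β c := by
  calc φ l * cxX C φ w u v e a b α β c * (φ l)⁻¹ = (φ l * τ C φ e a c * (φ l)⁻¹) *
        (φ l * w e b * (φ l)⁻¹) * (φ l * u (α • e) * (φ l)⁻¹) * (φ l * v (β • e) * (φ l)⁻¹) := by
          rw [cxX]; group
    _ = _ := by rw [h.τ_conj l h1, h.eqv l e b h2, h.ueqv, h.veqv, map_smul, map_smul, hl, cxX]

theorem cx_cw (k : P.B p r = 0) (k1 : P.B e p = 0) (k2 : P.B e r = 0) (h1 : P.B e a = 0)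
    (h2 : P.B e b = 0) (α β c : F) :
    w p r * cxX C φ w u v e a b α β c * (w p r)⁻¹ =
      cxX C φ w u v e (a + (P.B r a + δ * P.B r b) • p + (δ * P.B p b) • r)
        (b + P.B r a • p + (P.B p a + P.B p b) • r) α β c := by
  have c1 : Commute (u (α • e)) (w p r) := h.uw _ _ _ (cx_Bl h k1 α) (cx_Bl h k2 α) k
  have c2 : Commute (v (β • e)) (w p r) := h.vw _ _ _ (cx_Bl h k1 β) (cx_Bl h k2 β) k
  rw [h.toHW.bw_inv k, cxX, cxX, ← h.toHW.bw_conj k k1 k2 h1 h2]
  simp only [mul_assoc]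
  rw [c2.eq, ← mul_assoc (u _), c1.eq, mul_assoc]

theorem cx_cu (k1 : P.B e p = 0) (h1 : P.B e a = 0) (h2 : P.B e b = 0) (α β c : F) :
    u p * cxX C φ w u v e a b α β c * (u p)⁻¹ =
      cxX C φ w u v e (a + (α + δ * P.B p b) • p) (b + (β + P.B p a) • p + P.B p b • p)
        (α + P.B p a) (β + P.B p b) c := by
  have k0 : P.B e 0 = 0 := map_zero _
  have kp : ∀ γ : F, P.B e (γ • p) = 0 := cx_Br h k1
  have k2 := cx_Bs h k1
  have e1 : u p * u (α • e) * (u p)⁻¹ = cxX C φ w u v e (α • p) 0 α 0 0 := by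
    have c1 : Commute (u p) (x C φ p (α • e)) := by
      have := cx_uτ h (cx_Br h k2 α) 1 0
      rwa [one_smul] at this
    rw [h.toHC.bu_u (cx_Br h k2 α), mul_assoc (u _), c1.eq, ← mul_assoc, mul_inv_cancel_right,
      h.x_symm (cx_Br h k2 α), h.x_smul k1, cxX, zero_smul, h.vzero, h.toHW.bw_zero, mul_one, mul_one]
    exact (cx_uτ h (kp α) α 0).eq
  have e2 : u p * v (β • e) * (u p)⁻¹ = cxX C φ w u v e 0 (β • p) 0 β 0 := by
    have c1 : Commute (u p) (x C φ p (β • e)) := by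
      have := cx_uτ h (cx_Br h k2 β) 1 0
      rwa [one_smul] at this
    have c2 : Commute (u p) (w p (β • e)) := by
      have := cx_uw h (cx_Br h k2 β) 1
      rwa [one_smul] at this
    have s1 := h.symm p (β • e) (cx_Br h k2 β)
    rw [one_smul, h.smul _ _ _ k1] at s1
    rw [h.uv _ _ (cx_Br h k2 β), mul_assoc (v _), mul_assoc (v _), mul_assoc (u p),
      (c2.mul_right c1).eq, ← mul_assoc, mul_inv_cancel_right, ← s1, cxX, zero_smul, h.toHC.bu_zero,
      mul_one, show τ C φ e 0 0 = 1 from h.x_zero e, one_mul]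
    exact (cx_vw h (kp β) β).eq
  calc u p * cxX C φ w u v e a b α β c * (u p)⁻¹ = (u p * τ C φ e a c * (u p)⁻¹) *
        (u p * w e b * (u p)⁻¹) * (u p * u (α • e) * (u p)⁻¹) * (u p * v (β • e) * (u p)⁻¹) := by
          rw [cxX]; group
    _ = cxX C φ w u v e a (P.B p a • p) (P.B p a) 0 c * (cxX C φ w u v e 0 b 0 (P.B p b) 0 *
        cxX C φ w u v e 0 (P.B p b • p) 0 0 0 * cxX C φ w u v e ((δ * P.B p b) • p) 0 0 0 0) *
        cxX C φ w u v e (α • p) 0 α 0 0 * cxX C φ w u v e 0 (β • p) 0 β 0 := by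
          rw [e1, e2, h.toHC.bu_x k1 h1, h.vdef e p b k1 h2, h.B_comm a p, h.B_comm b p, cx_w h, cx_τ h]
          simp only [cxX, zero_smul, h.toHC.bu_zero, h.vzero, mul_one,
            show φ (C.T e 0 0) = 1 from h.x_zero e, one_mul, x, τ]
    _ = _ := by
          rw [cx_mul h k0 h2 k0 (kp _), cx_mul h (by simp) (by simp [h2, k1]) (kp _) k0,
            cx_mul h h1 (kp _) (by simp [k1]) (by simp [h2, k1]),
            cx_mul h (by simp [h1, k1]) (by simp [h2, k1]) (kp _) k0,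
            cx_mul h (by simp [h1, k1]) (by simp [h2, k1]) k0 (kp _)]
          congr 1
          · module
          · module
          · ring
          · ring
          · simp only [map_add, map_smul, LinearMap.add_apply, LinearMap.smul_apply, map_zero,
              LinearMap.zero_apply, smul_eq_mul, h.B_smul_left, P.B_add_left, h.B_self, h.B_comm a p, h.B_comm b p]
            linear_combination (δ * P.B p b * P.B p a + δ * P.B p b * β + δ * P.B p b ^ 2 + P.B p b * α +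
              P.B p a * α) * h.two

theorem cx_vsq (p : V) : v p * v p = z C φ p δ := by
  have := cx_vv h p 1 1
  rwa [one_smul, h.add_self, zero_smul, h.vzero, one_mul, mul_one, mul_one] at this

end grp

section vv

variable {ρ : F} (h : HV1 C φ t w u v δ ρ) {e a b p : V}
include h

theorem cx_cv (k1 : P.B e p = 0) (h1 : P.B e a = 0) (h2 : P.B e b = 0) (α β c : F) :
    v p * cxX C φ w u v e a b α β c * (v p)⁻¹ =
      cxX C φ w u v e (a + (α + δ * β + δ * δ * P.B p b) • p) (b + (α + δ * P.B p a + δ * P.B p b) • p)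
        (α + δ * P.B p b) (β + P.B p a + P.B p b) (c + P.B p b * P.B p b * ρ) := by
  have g := h.toHV
  have k0 : P.B e 0 = 0 := map_zero _
  have kp : ∀ γ : F, P.B e (γ • p) = 0 := cx_Br g k1
  have k2 := cx_Bs g k1
  have x0 : τ C φ e 0 0 = 1 := h.x_zero e
  have cw : ∀ γ : F, Commute (v p) (w e (γ • p)) := fun γ => h.vw p e _ k2 (cx_Br g (h.B_self p) γ) (kp γ)
  have cx : ∀ γ : F, Commute (v p) (x C φ e (γ • p)) := fun γ =>
    cx_vfix g (cx_fix g (kp γ) 0 k1 (cx_B0 g p γ))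
  have e1 : v p * τ C φ e a c * (v p)⁻¹ = cxX C φ w u v e a ((δ * P.B p a) • p) 0 (P.B p a) c := by
    have a1 := h.veqv (C.T e a c) p
    rw [h.T_app h1, k1, mul_zero, add_zero, zero_smul, add_zero, add_comm p, h.vline _ _ (cx_Bl g k1 _),
      h.smul _ _ _ (kp δ), smul_smul, mul_comm _ δ, h.B_comm a p, mul_assoc (v _), (cw _).eq, ← mul_assoc (v _),
      (cx_vw g (kp _) _).eq] at a1
    change τ C φ e a c * v p * (τ C φ e a c)⁻¹ = _ at a1
    rw [cxX, zero_smul, h.toHC.bu_zero, mul_one, mul_assoc (τ C φ e a c), ← mul_inv_eq_iff_eq_mul.2 a1,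
      h.τ_inv h1, ← mul_assoc, ← mul_assoc, ← mul_assoc, h.τ_sq h1, one_mul]
  have e2 : v p * w e b * (v p)⁻¹ = cxX C φ w u v e ((δ * δ * P.B p b) • p) (b + (δ * P.B p b) • p)
      (δ * P.B p b) (P.B p b) (P.B p b * P.B p b * ρ) := by
    have k3 : P.B e (b + (δ * P.B p b) • p) = 0 := by rw [map_add, h2, kp, add_zero]
    have a1 := h.wv e p _ k1 k3
    rw [show P.B (b + (δ * P.B p b) • p) p = P.B p b by
      rw [P.B_add_left, cx_B0 g, add_zero, h.B_comm]] at a1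
    have a2 := h.eqv (C.T p 0 δ) e b h2
    rw [h.z_app, h.z_app, k2, mul_zero, zero_smul, add_zero] at a2
    change z C φ p δ * _ * (z C φ p δ)⁻¹ = _ at a2
    rw [← cx_vsq g] at a2
    have a3 := h.sq e _ k3
    have c1 := ((cx_uτ g (kp (δ * δ * P.B p b)) (δ * P.B p b) (P.B p b * P.B p b * ρ)).mul_right
      (cx_uw g k3 _)).mul_left ((cx_vτ g (kp _) (P.B p b) _).mul_right (cx_vw g k3 _))
    rw [cxX, mul_assoc _ (u _), ← c1.eq, h.τ_eq (kp _)]
    generalize w e (b + (δ * P.B p b) • p) = W at *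
    calc _ = (v p)⁻¹ * ((W * W) * (v p * v p * w e b * (v p * v p)⁻¹) * v p * (W * W)) := by rw [a3]; group
      _ = (v p)⁻¹ * (W * W) * (W * v p * W) * W := by rw [a2]; simp only [mul_assoc]
      _ = _ := by rw [a1, a3]; group
  have e3 : v p * u (α • e) * (v p)⁻¹ = cxX C φ w u v e (α • p) (α • p) α 0 0 := by
    have a1 := h.uv (α • e) p (cx_Bl g k1 α)
    rw [h.smul _ _ _ k1, h.x_smul k1] at a1
    have a2 := h.sq e _ (kp α)
    have a3 := h.x_sq (kp α)
    have c1 := (cx_uτ g (kp α) α 0).mul_right (cx_uw g (kp α) α)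
    rw [cxX, zero_smul, h.vzero, mul_one, ← c1.eq]
    change _ = _ * (x C φ e _ * _)
    rw [mul_inv_eq_iff_eq_mul, mul_assoc (u _), ← ((cx α).mul_right (cw α)).eq, ← mul_assoc, a1]
    calc _ = v p * u (α • e) * (w e (α • p) * (x C φ e (α • p) * x C φ e (α • p)) * w e (α • p)) := by
          rw [a3, mul_one, a2, mul_one]
      _ = _ := by simp only [mul_assoc]
  have e4 : v p * v (β • e) * (v p)⁻¹ = cxX C φ w u v e ((δ * β) • p) 0 0 β 0 := by
    have a1 := h.vline p (β • e) (cx_Br g k2 β)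
    have s1 := h.symm e ((δ * β) • p) (kp _)
    rw [one_smul, h.smul _ _ _ k2] at s1
    rw [add_comm, h.vline _ _ (cx_Bl g k1 β), h.smul _ _ _ (kp δ), smul_smul, smul_smul, mul_comm β, s1,
      show w e ((δ * β) • p) * x C φ e ((δ * β) • p) = x C φ e ((δ * β) • p) * w e ((δ * β) • p) from
        (h.cv_wx (kp _) (kp _) (cx_Br g (cx_B0 g p _) _) 0).eq, ← mul_assoc, mul_left_inj] at a1
    rw [cxX, zero_smul, h.toHC.bu_zero, h.toHW.bw_zero, mul_one, mul_one, ← (cx_vτ g (kp _) β 0).eq,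
      mul_inv_eq_iff_eq_mul]
    change _ = _ * x C φ e _ * _
    rw [mul_assoc (v _) (x C φ e _), ← (cx _).eq, ← mul_assoc, a1, mul_assoc _ _ (x C φ e _)]
    exact (mul_one _).symm.trans (congrArg _ (h.x_sq (kp _)).symm)
  calc v p * cxX C φ w u v e a b α β c * (v p)⁻¹ = (v p * τ C φ e a c * (v p)⁻¹) *
        (v p * w e b * (v p)⁻¹) * (v p * u (α • e) * (v p)⁻¹) * (v p * v (β • e) * (v p)⁻¹) := by
          rw [cxX]; group
    _ = _ := by
          rw [e1, e2, e3, e4, cx_mul g h1 (kp _) (kp _) (by simp [h2, k1]),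
            cx_mul g (by simp [h1, k1]) (by simp [h2, k1]) (kp _) (kp _),
            cx_mul g (by simp [h1, k1]) (by simp [h2, k1]) (kp _) k0]
          congr 1
          · module
          · module
          · ring
          · ring
          · simp only [map_add, map_smul, LinearMap.add_apply, LinearMap.smul_apply, map_zero, RingHom.id_apply,
              LinearMap.zero_apply, smul_eq_mul, h.B_self, h.B_comm a p, h.B_comm b p]
            grind

omit h in
theorem cx_y (h : HV C φ t w u v δ) (k1 : P.B p a = 0) (σ μ : F) :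
    cxX C φ w u v a (σ • p) p 0 0 μ * t * (cxX C φ w u v a (σ • p) p 0 0 μ)⁻¹ = t * x C φ p a := by
  have k2 := cx_Bs h k1
  have a1 := (h.mv a p k2).pt
  have c1 : Commute (τ C φ a (σ • p) μ) (t * x C φ a p) :=
    Commute.mul_right (h.tl _) (h.τ_comm (cx_Br h k2 σ) k2 μ 0)
  rw [cxX, zero_smul, h.toHC.bu_zero, h.vzero, mul_one, mul_one, h.x_symm k1, ← cv_conj c1, ← a1]
  group

omit h in
theorem cx_yy (h : HV C φ t w u v δ) (k1 : P.B p a = 0) (k2 : P.B p b = 0) (k : P.B a b = 1) (σ μ : F) :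
    ∃ c, cxX C φ w u v a (σ • p) p 0 0 μ * (t * x C φ p b) * (cxX C φ w u v a (σ • p) p 0 0 μ)⁻¹ =
      t * τ C φ p (a + (b + μ • a + σ • p)) c := by
  have k3 := cx_Bs h k1
  have a1 : w a p * x C φ p b * (w a p)⁻¹ = τ C φ p b 1 := by
    have a2 := h.wQ p a b 0 k1 k2
    rw [k, mul_one, zero_add] at a2
    rw [h.symm p a k1, one_smul, ← a2, _root_.mul_inv_rev, h.toHW.bw_inv k1, mul_assoc (w p a),
      show x C φ p a * x C φ p b = x C φ p b * x C φ p a from (h.τ_comm k1 k2 0 0).eq]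
    unfold x τ
    group
  have a2 := h.τ_conj (C.T a (σ • p) μ) k2 1
  rw [h.T_app (cx_Br h k3 σ), h.T_app (cx_Br h k3 σ), k, k3, cx_B0 h, cx_Bl h k2] at a2
  simp only [mul_zero, add_zero, zero_smul, mul_one, zero_add, one_smul] at a2
  have a3 := cx_y h k1 σ μ
  refine ⟨_, Eq.trans ?_ (congrArg _ (h.τ_mul k1 (by simp [k1, k2, h.B_self]) 0 1))⟩
  rw [← a2, ← a1, ← mul_assoc t]
  change _ = t * x C φ p a * _
  rw [← a3, cxX, zero_smul, h.toHC.bu_zero, h.vzero, τ]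
  group

theorem cx_r : ρ = 0 := by
  have g := h.toHV
  obtain ⟨e, e0⟩ := h.g2_ne
  obtain ⟨f, k0⟩ := h.exists_hp e0
  obtain ⟨p, c, k⟩ := h.exists_hh k0
  have k1 : P.B p c = 1 := h.hp_iff.1 k.h₂
  have k2 : P.B c p = 1 := (h.B_comm c p).trans k1
  obtain ⟨σ, μ, hσ⟩ : ∃ σ μ : F, μ * (δ + σ + σ * σ) = 1 := by
    obtain ⟨θ, h0, h1⟩ := h.exists_big'
    by_cases hδ : δ = 0
    · refine ⟨θ, _, inv_mul_cancel₀ fun e => h1 (mul_left_cancel₀ h0 ?_)⟩
      rw [hδ, zero_add] at e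
      rw [mul_one, ← h.eq_of_add e]
    · exact ⟨0, δ⁻¹, by simp [hδ]⟩
  have key : ∀ a, P.B a p = 0 → P.B a c = 0 →
      z C φ c ((σ + 1) * μ) * u (((σ + 1) * μ) • c) * v (μ • c) *
        cxX C φ w u v a (σ • p) p 0 0 (μ * μ * ρ) * (z C φ c ((σ + 1) * μ) * u (((σ + 1) * μ) • c) * v (μ • c))⁻¹ =
      u p * z C φ p σ * x C φ a c * (u p * z C φ p σ)⁻¹ := fun a h1 h2 => by
    have z0 : P.B a 0 = 0 := map_zero _
    have f1 : C.act (C.T c 0 ((σ + 1) * μ)) a = a := cx_fix g (map_zero _) _ (cx_Bs g h2) (by simp)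
    have f2 : C.act (C.T p 0 σ) a = a := cx_fix g (map_zero _) _ (cx_Bs g h1) (by simp)
    calc _ = φ (C.T c 0 ((σ + 1) * μ)) * (u (((σ + 1) * μ) • c) * (v (μ • c) *
          cxX C φ w u v a (σ • p) p 0 0 (μ * μ * ρ) * (v (μ • c))⁻¹) * (u (((σ + 1) * μ) • c))⁻¹) *
          (φ (C.T c 0 ((σ + 1) * μ)))⁻¹ := by rw [z]; group
      _ = u p * (φ (C.T p 0 σ) * cxX C φ w u v a c 0 0 0 0 * (φ (C.T p 0 σ))⁻¹) * (u p)⁻¹ := by
          rw [cx_cv h (cx_Br g h2 _) (cx_Br g h1 _) h1, cx_cu g (cx_Br g h2 _) (by simp [h1, h2]) (by simp [h1, h2]),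
            cx_cφ g f1 (by simp [h1, h2]) (by simp [h1, h2]), cx_cφ g f2 h2 z0, h.z_app, h.z_app, h.z_app, map_zero,
            cx_cu g h1 (by simp [h1, h2]) z0]
          simp only [map_add, map_smul, LinearMap.add_apply, LinearMap.smul_apply, map_zero, RingHom.id_apply,
            LinearMap.zero_apply, smul_eq_mul, h.B_self, k1, k2]
          congr 1
          · match_scalars
            · grind
            · grind
          · match_scalars
            · grind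
            · grind
          · grind
          · grind
          · grind
      _ = _ := by rw [cx_τ g, z, x, τ]; group
  have cm : Commute (cxX C φ w u v e (σ • p) p 0 0 (μ * μ * ρ)) (cxX C φ w u v f (σ • p) p 0 0 (μ * μ * ρ)) := by
    have c1 : Commute (x C φ e c) (x C φ f c) := by
      rw [h.x_symm k.ef, h.x_symm k.ff]
      exact h.τ_comm (cx_Bs g k.ef) (cx_Bs g k.ff) 0 0
    have c2 := c1.conj (u p * z C φ p σ)
    rw [← key e k.ee k.ef, ← key f k.fe k.ff] at c2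
    exact (Commute.conj_iff _).1 c2
  have p1 := cx_Bs g k.ee
  have p2 := cx_Bs g k.fe
  obtain ⟨c1, h1⟩ := cx_yy g p1 p2 k0 σ (μ * μ * ρ)
  obtain ⟨c2, h2⟩ := cx_yy g p2 p1 ((h.B_comm f e).trans k0) σ (μ * μ * ρ)
  rw [← cx_y g p2 σ (μ * μ * ρ)] at h1
  rw [← cx_y g p1 σ (μ * μ * ρ)] at h2
  have h0 : ∀ A B : G, A * (B * t * B⁻¹) * A⁻¹ = A * B * t * (A * B)⁻¹ := fun A B => by group
  rw [h0] at h1 h2
  have h3 := mul_left_cancel (h1.symm.trans (cm.eq ▸ h2))
  obtain ⟨l, hl⟩ := Submodule.mem_span_singleton.1 ((h.τ_eq_iff (h.hp_ne k1) (by simp [p1, p2, h.B_self])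
    (by simp [p1, p2, h.B_self])).1 h3).1
  have h4 := congrArg (P.B e) hl
  simp only [map_add, map_smul, smul_eq_mul, h.B_self, k0, k.ee] at h4
  have h5 : μ * μ * ρ = 0 := by linear_combination -h4 - h.two
  have h6 : μ ≠ 0 := left_ne_zero_of_mul_eq_one hσ
  exact (mul_eq_zero.1 h5).resolve_left (mul_ne_zero h6 h6)

end vv

/-- `a + ω b + (α + β ω) v₀` -/
def cxD (cv : V →ₗ[F] Vk m δ) (a b : V) (α β : F) : Vk m δ :=
  cv a + om δ • cv b + (⟨α, β⟩ : KK δ) • v0 m δ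

/-- the model of `cxX` -/
noncomputable def cxT (P : PQ (RingHom.id F) V) (cv : V →ₗ[F] Vk m δ) (e a b : V) (α β c : F) : Sg m δ :=
  TS (cv e) (cxD cv a b α β) ⟨c, P.B a b + (α * α + α * β + δ * β * β)⟩

omit [Finite F] [CharP F 2] in
theorem cx_mk (α β : F) : (⟨α, β⟩ : KK δ) = rt δ α + om δ * rt δ β := by
  ext <;> simp [om]

section mdl

variable (h : Mod C) (d : Crd P cv) (hm : Odd m) {e a b a' b' p r : V}

omit [Finite F] [CharP F 2] [FiniteDimensional F V] in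
theorem cxD_add (a b a' b' : V) (α β α' β' : F) :
    cxD cv a b α β + cxD cv a' b' α' β' = cxD cv (a + a') (b + b') (α + α') (β + β') := by
  simp only [cxD, map_add, cx_mk]
  module

omit [Finite F] [CharP F 2] [FiniteDimensional F V] in
theorem cxD_cv (a : V) : cxD cv a 0 0 0 = cv a := by simp [cxD, cx_mk]

omit [Finite F] [CharP F 2] [FiniteDimensional F V] in
theorem cxD_om (b : V) : cxD cv 0 b 0 0 = om δ • cv b := by simp [cxD, cx_mk]

omit [Finite F] [CharP F 2] [FiniteDimensional F V] in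
theorem cxD_v0 : cxD cv 0 0 1 0 = v0 m δ := by simp [cxD, cx_mk]

include h d hm

theorem cx_hf (a b a' b' : V) (α β α' β' : F) : hf (cxD cv a b α β) (cxD cv a' b' α' β') =
    ⟨P.B a a' + P.B b a' + δ * P.B b b' + (α * α' + α' * β + δ * β * β'),
      P.B a b' + P.B b a' + (α * β' + α' * β)⟩ := by
  rw [cxD, cxD, d.hf_dec h, hf_v0 hm]
  ext
  · simp [om]
    linear_combination (-(β * δ * β')) * h.two
  · simp [om]
    linear_combination (-(β * α')) * h.two

theorem cx_hfe (e a b : V) (α β : F) : hf (cv e) (cxD cv a b α β) = ⟨P.B e a, P.B e b⟩ := by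
  rw [← cxD_cv e, cx_hf h d hm]; simp

theorem cx_hfv (a b : V) (α β : F) : hf (v0 m δ) (cxD cv a b α β) = ⟨α, β⟩ := by
  rw [← cxD_v0 (cv := cv), cx_hf h d hm]; simp

theorem cx_ok (h1 : P.B e a = 0) (h2 : P.B e b = 0) (α β c : F) :
    Ok (cv e) (cxD cv a b α β) ⟨c, P.B a b + (α * α + α * β + δ * β * β)⟩ := by
  refine ⟨(d.rv e).self, by rw [cx_hfe h d hm, h1, h2]; rfl, ?_⟩
  rw [add_star, cx_hf h d hm, h.B_self, h.B_self, h.B_comm b a]
  ext
  · simp
  · simp
    linear_combination (-(P.B a b + α * β)) * h.two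

theorem cx_of_ok {α β : F} {c : KK δ} (k : Ok (cv e) (cxD cv a b α β) c) :
    P.B e a = 0 ∧ P.B e b = 0 ∧ c = ⟨c.re, P.B a b + (α * α + α * β + δ * β * β)⟩ := by
  have e1 := k.ea
  rw [cx_hfe h d hm] at e1
  have h1 : P.B e a = 0 := congrArg QuadraticAlgebra.re e1
  have h2 : P.B e b = 0 := congrArg QuadraticAlgebra.im e1
  refine ⟨h1, h2, ?_⟩
  have e2 := k.cc.trans (cx_ok h d hm h1 h2 α β 0).cc.symm
  rw [add_star, add_star] at e2
  exact QuadraticAlgebra.ext rfl (rt_inj e2)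

theorem cxT_mul (h1 : P.B e a = 0) (h2 : P.B e b = 0) (h3 : P.B e a' = 0) (h4 : P.B e b' = 0)
    (α β c α' β' c' : F) :
    cxT P cv e a b α β c * cxT P cv e a' b' α' β' c' =
      cxT P cv e (a + a') (b + b') (α + α') (β + β')
        (c + c' + P.B a a' + P.B b a' + δ * P.B b b' + (α * α' + α' * β + δ * β * β')) := by
  have k := (cx_ok h d hm h1 h2 α β c).add (cx_ok h d hm h3 h4 α' β' c')
  rw [cxT, cxT, TS_mul (cx_ok h d hm h1 h2 α β c) (cx_ok h d hm h3 h4 α' β' c')]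
  rw [cxD_add] at k ⊢
  rw [(cx_of_ok h d hm k).2.2, cxT, cx_hf h d hm]
  congr 2
  simp only [QuadraticAlgebra.re_add]
  ring

theorem cxT_conj {s : Sg m δ} (hs : mat s *ᵥ cv e = cv e) (h1 : P.B e a = 0) (h2 : P.B e b = 0)
    {α β α' β' : F} (k : mat s *ᵥ cxD cv a b α β = cxD cv a' b' α' β') (c : F) :
    s * cxT P cv e a b α β c * s⁻¹ = cxT P cv e a' b' α' β' c := by
  have k1 := (cx_ok h d hm h1 h2 α β c).conj s
  rw [cxT, TS_conj (cx_ok h d hm h1 h2 α β c)]
  rw [hs, k] at k1 ⊢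
  rw [(cx_of_ok h d hm k1).2.2, cxT]

theorem cx_Tw (k : P.B p r = 0) (a b : V) (α β : F) :
    mat (TS (cv p) (om δ • cv r) 0) *ᵥ cxD cv a b α β =
      cxD cv (a + (P.B r a + δ * P.B r b) • p + (δ * P.B p b) • r)
        (b + P.B r a • p + (P.B p a + P.B p b) • r) α β := by
  rw [mat_TS (Ok.w (d.rv p) (d.rv r) ((d.perp h).2 k)), TM_mulVec, hf_smul_left, cx_hfe h d hm,
    cx_hfe h d hm, star_om]
  simp only [cxD, map_add, d.smul h, map_mul, cx_mk]
  have o := om_sq (δ := δ)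
  have o2 := k_two (δ := δ)
  match_scalars
  · ring
  · ring
  · ring
  · linear_combination (rt δ (P.B r b)) * o + o2 (om δ * rt δ (P.B r b))
  · linear_combination (rt δ (P.B p b)) * o

theorem cx_Tu (p a b : V) (α β : F) :
    mat (TS (cv p) (v0 m δ) (om δ)) *ᵥ cxD cv a b α β =
      cxD cv (a + (α + δ * P.B p b) • p) (b + (β + P.B p a) • p + P.B p b • p)
        (α + P.B p a) (β + P.B p b) := by
  rw [mat_TS (Ok.u hm (d.rv p)), TM_mulVec, cx_hfv h d hm, cx_hfe h d hm]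
  simp only [cxD, map_add, d.smul h, map_mul, cx_mk]
  have o := om_sq (δ := δ)
  match_scalars
  · ring
  · ring
  · ring
  · linear_combination (rt δ (P.B p b)) * o

theorem cx_Tv (p a b : V) (γ α β : F) :
    mat (cxT P cv p 0 0 0 γ 0) *ᵥ cxD cv a b α β =
      cxD cv (a + (α + δ * β + δ * δ * P.B (γ • p) b) • γ • p) (b + (α + δ * P.B (γ • p) a + δ * P.B (γ • p) b) • γ • p)
        (α + δ * P.B (γ • p) b) (β + P.B (γ • p) a + P.B (γ • p) b) := by
  rw [cxT, mat_TS (cx_ok h d hm (map_zero _) (map_zero _) _ _ _), TM_mulVec, cx_hf h d hm, cx_hfe h d hm]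
  simp only [cxD, map_add, d.smul h, map_mul, cx_mk, h.B_smul_left, map_zero, LinearMap.zero_apply]
  have o := om_sq (δ := δ)
  match_scalars
  · ring
  · ring
  · grind
  · grind

end mdl

variable (C φ w u v cv) in
/-- pairs which act in the same way on the radical of `e` -/
def cxM (e : V) : Submonoid (G × Sg m δ) where
  carrier := {q | mat q.2 *ᵥ cv e = cv e ∧ ∀ a b α β, P.B e a = 0 → P.B e b = 0 → ∃ a' b' α' β',
    mat q.2 *ᵥ cxD cv a b α β = cxD cv a' b' α' β' ∧ P.B e a' = 0 ∧ P.B e b' = 0 ∧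
      ∀ c, q.1 * cxX C φ w u v e a b α β c * q.1⁻¹ = cxX C φ w u v e a' b' α' β' c}
  one_mem' := ⟨one_mulVec _, fun a b α β h1 h2 => ⟨a, b, α, β, one_mulVec _, h1, h2, fun c => by simp⟩⟩
  mul_mem' := by
    rintro q q' ⟨k1, k2⟩ ⟨k3, k4⟩
    refine ⟨by rw [Prod.snd_mul, mat_mul, ← mulVec_mulVec, k3, k1], fun a b α β h1 h2 => ?_⟩
    obtain ⟨a', b', α', β', e1, h3, h4, e2⟩ := k4 a b α β h1 h2
    obtain ⟨a'', b'', α'', β'', e3, h5, h6, e4⟩ := k2 a' b' α' β' h3 h4
    refine ⟨a'', b'', α'', β'', by rw [Prod.snd_mul, mat_mul, ← mulVec_mulVec, e1, e3], h5, h6,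
      fun c => ?_⟩
    rw [← e4, ← e2, Prod.fst_mul]
    group

theorem cxM_inv {e : V} {q : G × Sg m δ} (k : q ∈ cxM C φ cv w u v e) : q⁻¹ ∈ cxM C φ cv w u v e :=
  Submonoid.powers_le.2 k
    ((isOfFinOrder_of_finite q).mem_powers_iff_mem_zpowers.2 (inv_mem (mem_zpowers q)))

section prs

variable (h : HV C φ t w u v δ) (d : Io C cv ι) (hm : Odd m) {e e' a b p r : V}
include h d hm

theorem cxM_φ {l : S} (hl : C.act l e = e) : (φ l, ι l) ∈ cxM C φ cv w u v e := by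
  refine ⟨by rw [d.act, hl], fun a b α β h1 h2 => ⟨C.act l a, C.act l b, α, β, ?_, ?_, ?_,
    cx_cφ h hl h1 h2 α β⟩⟩
  · simp only [cxD, mulVec_add, mulVec_smul, d.act, d.fix0]
  · rw [← hl, C.B_act, h1]
  · rw [← hl, C.B_act, h2]

theorem cxM_τ (k : P.B p r = 0) (k1 : P.B e p = 0) (k2 : P.B e r = 0) (c : F) :
    (τ C φ p r c, cxT P cv p r 0 0 0 c) ∈ cxM C φ cv w u v e := by
  have e1 : cxT P cv p r 0 0 0 c = ι (C.T p r c) := by
    rw [d.T h.toMod k, cxT, cxD_cv, cx_mk]; simp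
  rw [e1]
  exact cxM_φ h d hm (cx_fix h k c (cx_Bs h k1) (cx_Bs h k2))

theorem cxM_w (k : P.B p r = 0) (k1 : P.B e p = 0) (k2 : P.B e r = 0) :
    (w p r, cxT P cv p 0 r 0 0 0) ∈ cxM C φ cv w u v e := by
  have e1 : cxT P cv p 0 r 0 0 0 = TS (cv p) (om δ • cv r) 0 := by
    rw [cxT, cxD_om, cx_mk]; simp
  rw [e1]
  refine ⟨?_, fun a b α β h1 h2 => ⟨_, _, α, β, cx_Tw h.toMod d.toCrd hm k a b α β, by simp [h1, k1, k2],
    by simp [h2, k1, k2], cx_cw h k k1 k2 h1 h2 α β⟩⟩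
  rw [← cxD_cv e, cx_Tw h.toMod d.toCrd hm k, cx_Bs h k1, cx_Bs h k2]
  simp

theorem cxM_u (k1 : P.B e p = 0) : (u p, TS (cv p) (v0 m δ) (om δ)) ∈ cxM C φ cv w u v e := by
  refine ⟨?_, fun a b α β h1 h2 => ⟨_, _, _, _, cx_Tu h.toMod d.toCrd hm p a b α β, by simp [h1, k1],
    by simp [h2, k1], cx_cu h k1 h1 h2 α β⟩⟩
  rw [← cxD_cv e, cx_Tu h.toMod d.toCrd hm, cx_Bs h k1]
  simp

omit h in
theorem cxM_v {ρ : F} (h : HV1 C φ t w u v δ ρ) (k0 : P.B e e' = 0) (β : F) :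
    (v (β • e'), cxT P cv e' 0 0 0 β 0) ∈ cxM C φ cv w u v e := by
  refine ⟨?_, fun a b α γ h1 h2 => ⟨_, _, _, _, cx_Tv h.toMod d.toCrd hm e' a b β α γ, by simp [h1, k0],
    by simp [h2, k0], fun c => ?_⟩⟩
  · rw [← cxD_cv e, cx_Tv h.toMod d.toCrd hm, cx_Bl h.toHV (cx_Bs h.toHV k0)]
    simp
  · rw [cx_cv h (cx_Br h.toHV k0 β) h1 h2, cx_r h, mul_zero, add_zero]

omit h in
theorem cxM_X {ρ : F} (h' : HV1 C φ t w u v δ ρ) (k0 : P.B e e' = 0) (h1 : P.B e' a = 0) (h2 : P.B e' b = 0) (h3 : P.B e a = 0)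
    (h4 : P.B e b = 0) (α β c : F) :
    (cxX C φ w u v e' a b α β c, cxT P cv e' a b α β c) ∈ cxM C φ cv w u v e := by
  have h := h'.toHV
  have z0 : P.B e' 0 = 0 := map_zero _
  have e1 : TS (cv (α • e')) (v0 m δ) (om δ) = cxT P cv e' 0 0 α 0 0 := by
    rw [d.toCrd.smul h.toMod, TS_smul, star_rt, cxT]
    congr 1
    · simp [cxD, cx_mk]
    · ext <;> simp [om]
  have e2 : cxT P cv e' a b α β c = cxT P cv e' a 0 0 0 c * cxT P cv e' 0 b 0 0 0 *
      cxT P cv e' 0 0 α 0 0 * cxT P cv e' 0 0 0 β 0 := by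
    rw [cxT_mul h.toMod d.toCrd hm h1 z0 z0 h2, cxT_mul h.toMod d.toCrd hm (by simp [h1]) (by simp [h2]) z0 z0,
      cxT_mul h.toMod d.toCrd hm (by simp [h1]) (by simp [h2]) z0 z0]
    simp
  have := mul_mem (mul_mem (mul_mem (cxM_τ h d hm h1 k0 h3 c) (cxM_w h d hm h2 k0 h4))
    (cxM_u h d hm (cx_Br h k0 α))) (cxM_v d hm h' k0 β)
  rw [e1] at this
  rw [e2]
  exact this

end prs

theorem exists_X_odd {ρ : F} (h' : HV1 C φ t w u v δ ρ) (d : Io C cv ι) (hm : Odd m) (h6 : 4 ≤ m) :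
    ∃ X : Fin m → Vk m δ → KK δ → G, YRel t X ∧
      (∀ i e a c, i ≠ i.rev → cv e = ee δ i → P.B e a = 0 → X i (cv a) (rt δ c) = τ C φ e a c) ∧
      (∀ i e a, i ≠ i.rev → cv e = ee δ i → P.B e a = 0 → X i (om δ • cv a) 0 = w e a) ∧
      ∀ i e, i ≠ i.rev → cv e = ee δ i → X i (v0 m δ) (om δ) = u e := by
  have _ := h6
  have h := h'.toHV
  have hM := h.toMod
  have dc := d.toCrd
  obtain ⟨re, im, hd1, hd2⟩ := dc.exists_dec hM
  have hE : ∀ i : Fin m, ∃ e, i ≠ i.rev → cv e = ee δ i := fun i => by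
    by_cases hi : i ≠ i.rev
    · obtain ⟨e, -, he⟩ := dc.exists_ee hM hi
      exact ⟨e, fun _ => he⟩
    · exact ⟨0, fun k => absurd k hi⟩
  choose E hE using hE
  have dec : ∀ A : Vk m δ, ∃ a b α β, A = cxD cv a b α β := fun A =>
    ⟨re A, im A, (hf (v0 m δ) A).re, (hf (v0 m δ) A).im, hd1 A⟩
  obtain ⟨X, hX⟩ : ∃ X : Fin m → Vk m δ → KK δ → G, ∀ i a b α β c,
      X i (cxD cv a b α β) c = cxX C φ w u v (E i) a b α β c.re :=
    ⟨fun i A c => cxX C φ w u v (E i) (re A) (im A) (hf (v0 m δ) A).re (hf (v0 m δ) A).im c.re,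
      fun i a b α β c => by
        simp only [cx_hfv hM dc hm]
        rw [cxD, (hd2 _ _ _).1, (hd2 _ _ _).2]⟩
  have sm : ∀ (l : KK δ) e, l • cv e = cxD cv (l.re • e) (l.im • e) 0 0 := fun l e => by
    conv_lhs => rw [k_dec l]
    simp only [cxD, dc.smul hM, cx_mk, map_zero]
    module
  have pp : ∀ i j : Fin m, i ≠ i.rev → j ≠ j.rev → j ≠ i.rev → P.B (E i) (E j) = 0 := fun i j hi hj k => by
    rw [← dc.perp hM, hE i hi, hE j hj, hf_ee_left, ee, Pi.single_eq_of_ne k.symm]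
  have uq : ∀ i e, i ≠ i.rev → cv e = ee δ i → E i = e := fun i e hi k => dc.inj hM ((hE i hi).trans k.symm)
  refine ⟨X, ⟨h.t2, fun i A c B c' hi k k' => ?_, fun i l hi => ?_, fun i j l hi hj h1 h2 => ?_,
    fun i j A c B c' hi hj h1 h2 k k' k0 => ?_, fun i A c hi k => ?_⟩, fun i e a c hi k k' => ?_,
    fun i e a hi k k' => ?_, fun i e hi k => ?_⟩
  · obtain ⟨a, b, α, β, rfl⟩ := dec A
    obtain ⟨a', b', α', β', rfl⟩ := dec B
    rw [← hE i hi] at k k'
    obtain ⟨k1, k2, -⟩ := cx_of_ok hM dc hm k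
    obtain ⟨k3, k4, -⟩ := cx_of_ok hM dc hm k'
    rw [cxD_add, hX, hX, hX, cx_mul h k1 k2 k3 k4, cx_hf hM dc hm]
    congr 1
    simp only [QuadraticAlgebra.re_add]
    ring
  · rw [← hE i hi, sm, hX, add_star, cxX, zero_smul, h.toHC.bu_zero, h.vzero, mul_one, mul_one,
      h.toHW.bw_self, h.τ_eq (cx_Br h (h.B_self _) _), h.x_self, one_mul]
    exact h.z_sq _ _
  · have k1 := pp i j hi hj h2
    have k2 := cx_Bs h k1
    have s1 := h.symm (E i) (l.im • E j) (cx_Br h k1 _)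
    rw [one_smul, h.smul _ _ _ k2] at s1
    have c1 : Commute (w (E i) (l.im • E j)) (x C φ (E i) (l.im • E j)) :=
      h.toHW.bw_τ (cx_Br h k1 _) (cx_Br h k1 _) (h.B_self _) (cx_Br h k1 _) (cx_Bl h k2 _) (h.B_self _) 0
    have e1 : (star l).re = l.re + l.im := by simp
    have e2 : (star l).im = l.im := by simp [h.neg_eq]
    rw [← hE i hi, ← hE j hj, sm, sm, hX, hX, cxX, cxX, e1, e2, s1, c1.eq]
    simp only [zero_smul, h.toHC.bu_zero, h.vzero, mul_one]
    change x C φ _ _ * _ = x C φ _ _ * _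
    rw [← h.x_smul k2, h.x_symm (cx_Bl h k2 _), ← mul_assoc, ← h.x_add (cx_Br h k1 _) (cx_Br h k1 _)
      (cx_Br h (cx_B0 h _ _) _), ← add_smul, add_assoc, h.add_self, add_zero]
  · obtain ⟨a, b, α, β, rfl⟩ := dec A
    obtain ⟨a', b', α', β', rfl⟩ := dec B
    rw [← mat_TS k]
    rw [← hE i hi] at k ⊢
    rw [← hE j hj] at k' k0
    obtain ⟨k1, k2, k5⟩ := cx_of_ok hM dc hm k
    obtain ⟨k3, k4, -⟩ := cx_of_ok hM dc hm k'
    have k6 := congrArg star k0
    rw [star_hf, cx_hfe hM dc hm, star_zero] at k6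
    obtain ⟨a'', b'', α'', β'', e1, -, -, e2⟩ := (cxM_X d hm h'
      (pp j i hj hi fun e => h2 (by rw [e, Fin.rev_rev])) k1 k2 (congrArg QuadraticAlgebra.re k6)
      (congrArg QuadraticAlgebra.im k6) α β c.re).2 a' b' α' β' k3 k4
    rw [cxT, ← k5] at e1
    rw [e1, hX, hX, hX]
    exact e2 _
  · obtain ⟨a, b, α, β, rfl⟩ := dec A
    rw [← hE i hi] at k
    obtain ⟨k1, k2, k5⟩ := cx_of_ok hM dc hm k
    have e1 : star (cxD cv a b α β) = cxD cv (a + b) b (α + β) β := by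
      simp only [cxD, star_add, star_smul, (dc.rv _).rat, star_v0, star_om, map_add, cx_mk, star_mul,
        star_rt]
      module
    have e2 : (star c).re = c.re + c.im := by simp
    rw [e1, hX, hX, cx_t h k1 k2, e2, congrArg QuadraticAlgebra.im k5]
  · rw [← cxD_cv a, hX, uq i e hi k]
    exact cx_τ h e a c
  · rw [← cxD_om a, hX, uq i e hi k]
    exact cx_w h e a
  · rw [← cxD_v0 (cv := cv), hX, uq i e hi k]
    exact (cx_u h e 1).trans (by rw [one_smul])

end CfsgLib.SP4.BC
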