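import Cfsg.Agent.Lib.SPC.Defs

/-!
# Standard components of type `Sp₄(q)`, `q = 2ⁿ ≥ 4`: definitions
-/

set_option autoImplicit false

namespace CfsgLib.SP4

export CfsgLib.SPC (Small Ln H3 Lag QF τ x z InT Tz Ta Tc Pz Fus1 Pr)

open Subgroup Module CfsgLib.Forms CfsgLib.LieMult
open CfsgLib.HX (Std CO Two Mv M2)
open CfsgLib.UN (AV SI TI HH Rad Stb Yg Rg Eg Act nu)
open CfsgLib.ClSys (II)
open Submodule (span)

universe u

variable {F : Type} [Field F] {V : Type} [AddCommGroup V] [Module F V]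
  {P : PQ (RingHom.id F) V} {S : Type} [Group S] {G : Type u} [Group G]

/-- the automorphism `θ` is induced by a semilinear isometry -/
def Sem (C : CG P S) (θ : MulAut S) : Prop := ∃ α γ, SI P α γ ∧
  ∀ s s' : S, (∀ v, C.act s' (γ v) = γ (C.act s v)) → θ s = s'

/-- a graph automorphism: it swaps transvections and short root elements -/
structure Gr (C : CG P S) (θ : MulAut S) : Prop where
  aut : ∀ θ' : MulAut S, Sem C θ' ∨ Sem C (θ⁻¹ * θ')
  za : ∀ e, e ≠ 0 → ∃ p a, Ln P p a ∧ θ (C.T e 0 1) = C.T p a 0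
  az : ∀ e a, Ln P e a → ∃ p, p ≠ 0 ∧ θ (C.T e a 0) = C.T p 0 1

/-- `S = Sp(V)`, `dim V = 4`, `q ≥ 4`, with the facts taken from the matrix model -/
structure Mod (C : CG P S) : Prop where
  two : (2 : F) = 0
  lam : P.Λ = ⊤
  full : ∀ g : V →ₗ[F] V, (∀ u v, P.B (g u) (g v) = P.B u v) → ∃ s, ∀ v, C.act s v = g v
  d4 : finrank F V = 4
  big : ¬ Small F
  simp : IsSimpleGroup S
  gr : ∃ θ, Gr C θ
  out : IsCyclic (Cfsg.Out S)
  mult : M2 S

section
variable (C : CG P S) (φ : S →* G)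

/-- a copy of `S` inside `G` -/
structure Emb : Prop extends Mod C where
  inj : Function.Injective φ

/-- the situation of the theorem -/
structure Sit (t : G) : Prop extends Emb C φ, Std φ.range t

/-- `g` normalises `L` and swaps transvections and short root elements -/
structure Sw (g : G) : Prop where
  nL : g ∈ normalizer (φ.range : Set G)
  za : ∀ e, e ≠ 0 → ∃ p a, Ln P p a ∧ g * z C φ e 1 * g⁻¹ = x C φ p a
  az : ∀ e a, Ln P e a → ∃ p, p ≠ 0 ∧ g * x C φ e a * g⁻¹ = z C φ p 1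

/-- `t ~ t a`: the hats `w e a` of the short root elements. -/
structure HW (t : G) (w : V → V → G) (κ δ : F) : Prop extends Sit C φ t where
  two' : Two φ.range t
  kk : κ = 0 ∨ κ = 1
  mv : ∀ e a, P.B e a = 0 → Mv φ.range (Yg C φ (span F {e, a})) t (x C φ e a) (w e a)
  sq : ∀ e a, P.B e a = 0 → w e a * w e a = 1
  eqv : ∀ l e a, P.B e a = 0 → φ l * w e a * (φ l)⁻¹ = w (C.act l e) (C.act l a)
  shift : ∀ e a μ, P.B e a = 0 → w e (a + μ • e) = w e a * z C φ e (κ * μ)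
  smul : ∀ e a (l : F), P.B e a = 0 → w (l • e) a = w e (l • a)
  symm : ∀ e a, P.B e a = 0 → w a e = w e a * x C φ e (κ • a)
  add : ∀ e a b, P.B e a = 0 → P.B e b = 0 → P.B a b = 0 → w e (a + b) = w e a * w e b
  wQ : ∀ e a b c, P.B e a = 0 → P.B e b = 0 →
    w e a * τ C φ e b c * w e a = τ C φ e b (c + κ * P.B a b)
  com : ∀ e a b, P.B e a = 0 → P.B e b = 0 → Commute (w e a) (w e b)
  cx : ∀ u v e c, P.B u v = 0 → P.B e u = 0 → P.B e v = 0 → P.B e c = 0 →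
    w u v * x C φ e c * w u v = x C φ e c * w e (P.B c u • v + P.B c v • u) *
      x C φ e ((κ * P.B c v) • u) * z C φ e (κ * P.B c u * P.B c v)
  cw : ∀ u v e c, P.B u v = 0 → P.B e u = 0 → P.B e v = 0 → P.B e c = 0 →
    w u v * w e c * w u v = w e c * w e (P.B c u • v + ((1 + κ) * P.B c v) • u) *
      x C φ e (δ • (P.B c u • v + P.B c v • u)) * z C φ e (κ * δ * P.B c u * P.B c v)
  del : κ = 1 → ∀ e a b, P.B e a = 0 → P.B e b = 0 →
    w e a * w e b = w e (a + b) * z C φ e (δ * P.B a b)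
  ct : ∀ g α γ, g * t = t * g → Act C φ g α γ → ∃ μ : F, ∀ e a, P.B e a = 0 →
    g * w e a * g⁻¹ = w (γ e) (γ a) * x C φ (γ e) (μ • γ a)
  act : κ = 1 → ∀ g, g * t = t * g → ∃ α γ, Act C φ g α γ

/-- type A (`κ = 0`): model `Sp(V ⊗ K)`, `K = F[ω]`, `ω² = ω + δ`, `w e a = T e (ω a) 0`,
`y e β = T e 0 (ω β)` -/
structure HA (t : G) (w : V → V → G) (y : V → F → G) (δ : F) : Prop extends HW C φ t w 0 δ where
  ymv : ∀ e β, Mv φ.range (Yg C φ (span F {e})) t (z C φ e β) (y e β)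
  yadd : ∀ e β β', y e (β + β') = y e β * y e β'
  ysmul : ∀ e β (l : F), y (l • e) β = y e (l * l * β)
  yeqv : ∀ l e β, φ l * y e β * (φ l)⁻¹ = y (C.act l e) β
  ww : ∀ e a b, P.B e a = 0 → P.B e b = 0 →
    w e a * w e b = w e (a + b) * y e (P.B a b) * z C φ e (δ * P.B a b)
  yw : ∀ e a b β, P.B e a = 0 → P.B e b = 0 → P.B a b = 0 → Commute (y e β) (w a b)
  yline : ∀ e a β, P.B e a = 0 → y (e + a) β = y e β * y a β * w e (β • a)

/-- type C (`κ = 1`, `t ~ t z`): model `SU((V ⊗ K) ⊥ K v₀)`, `w e a = T e (ω a) 0`,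
`u e = T e v₀ (ω + 1)` -/
structure HC (t : G) (w : V → V → G) (u : V → G) (δ : F) : Prop extends HW C φ t w 1 δ where
  umv : ∀ e, Mv φ.range (Yg C φ (span F {e})) t (z C φ e 1) (u e)
  usq : ∀ e, u e * u e = z C φ e 1
  ueqv : ∀ l e, φ l * u e * (φ l)⁻¹ = u (C.act l e)
  uline : ∀ e a, P.B e a = 0 → u (e + a) = u e * u a * w e a
  uw : ∀ e a b, P.B e a = 0 → P.B e b = 0 → P.B a b = 0 → Commute (u e) (w a b)
  uct : ∀ g α γ, g * t = t * g → Act C φ g α γ → ∃ μ : F, ∀ e,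
    g * u e * g⁻¹ = u (γ e) * z C φ (γ e) μ

end

end CfsgLib.SP4
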