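import Cfsg.Agent.Lib.SP4.TorA
import Cfsg.Agent.Lib.SPC.Max

/-! Intersections and commutators of the large elementary abelian subgroups -/

set_option autoImplicit false
set_option linter.unusedSectionVars false

namespace CfsgLib.SP4

open Subgroup Module CfsgLib.Forms CfsgLib.LieMult
open CfsgLib.HX (Std CO Two Mv M2)
open CfsgLib.UN (AV SI TI HH Rad Stb Yg Rg Eg Act nu)
open CfsgLib.ClSys (II)
open Submodule (span)
open scoped commutatorElement Pointwise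

universe u

variable {F : Type} [Field F] [Finite F] {V : Type} [AddCommGroup V] [Module F V]
  [FiniteDimensional F V] {P : PQ (RingHom.id F) V} {S : Type} [Group S] [Finite S] {G : Type u}
  [Group G] [Finite G] {C : CG P S} {φ : S →* G} {t : G}

namespace Emb

variable (h : Emb C φ) {e a e' a' : V} {g : G}
include h

omit h in
theorem ea_card_le {ι : Type} [Finite ι] {H : Subgroup G} (f : ι → G) (hf : ∀ g ∈ H, ∃ v, g = f v) :
    Nat.card H ≤ Nat.card ι := by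
  choose ρ hρ using fun u : H => hf u u.2
  exact Nat.card_le_card_of_injective ρ fun u u' e1 => Subtype.ext (by rw [hρ u, hρ u', e1])

omit h in
theorem ea_comm {H : Subgroup G} (hH : ∀ g ∈ H, g * g = 1) {b c : G} (hb : b ∈ H) (hc : c ∈ H) :
    Commute b c := by
  have e1 := inv_eq_of_mul_eq_one_right (hH _ (H.mul_mem hb hc))
  rw [mul_inv_rev, inv_eq_of_mul_eq_one_right (hH b hb), inv_eq_of_mul_eq_one_right (hH c hc)] at e1
  exact e1.symm

omit h in
theorem ea_stb {U : Submodule F V} {s : S} (H : ∀ v ∈ U, C.act s v ∈ U) (v : V) :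
    C.act s v ∈ U ↔ v ∈ U := by
  have e1 : U.map (C.act s : V →ₗ[F] V) = U := Submodule.eq_of_le_of_finrank_eq
    (by rintro _ ⟨w, hw, rfl⟩; exact H w hw) (LinearEquiv.finrank_map_eq _ _)
  refine ⟨fun hv => ?_, H v⟩
  rw [← e1] at hv
  obtain ⟨w, hw, e2⟩ := hv
  rwa [← (C.act s).injective e2]

theorem ea_fix {b u : V} {c : F} {U : Submodule F V} (k : P.B e b = 0) (hg : τ C φ e b c ∈ Yg C φ U)
    (hu : u ∈ U) : (P.B b u + c * P.B e u) • e + P.B e u • b = 0 := by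
  obtain ⟨s, hs, e1⟩ := hg
  obtain rfl := h.inj e1
  have e2 : C.act (C.T e b c) u = u := hs u hu
  rw [h.toMod.T_app k, add_assoc] at e2
  exact add_eq_left.1 e2

theorem ea_triv {b u : V} {c : F} {U : Submodule F V} (h0 : e ≠ 0) (k : P.B e b = 0)
    (hg : τ C φ e b c ∈ Yg C φ U) (hu : u ∈ U) (h1 : P.B e u ≠ 0) : τ C φ e b c = 1 := by
  have m := h.toMod
  have e1 := h.ea_fix k hg hu
  have e2 : b = ((P.B e u)⁻¹ * (P.B b u + c * P.B e u)) • e := by
    rw [mul_smul, m.veq_of_add e1, inv_smul_smul₀ h1]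
  generalize (P.B e u)⁻¹ * (P.B b u + c * P.B e u) = β at e2
  subst e2
  rw [m.B_smul_left, smul_smul, ← add_smul] at e1
  have e3 := (smul_eq_zero.1 e1).resolve_right h0
  refine (h.τ_eq_one h0 k).2 ⟨Submodule.smul_mem _ _ (Submodule.mem_span_singleton_self e), ?_⟩
  refine (mul_eq_zero.1 (?_ : c * P.B e u = 0)).resolve_right h1
  linear_combination e3 - β * P.B e u * m.two

theorem ea_zx {b : V} (k : P.B e b = 0) (r : F) : z C φ e r * x C φ e b = τ C φ e b r := by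
  have e1 := h.τ_mul (a := 0) (b := b) (map_zero _) k r 0
  rw [zero_add, add_zero, map_zero, LinearMap.zero_apply, add_zero] at e1
  exact e1

theorem ea_XZ {f f' : V} (k : HH P e f a f') (μ r : F) :
    ⁅x C φ e (μ • f'), z C φ a r⁆ = z C φ e (r * μ * μ) * x C φ e ((r * μ) • a) := by
  have m := h.toMod
  have l := m.ln_of_hh k
  have k1 : P.B e (μ • f') = 0 := by rw [map_smul, k.ef, smul_zero]
  have cm : ∀ {b c : G}, b ∈ Eg C φ (span F {e, a}) → c ∈ Eg C φ (span F {e, a}) → Commute b c :=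
    ea_comm fun _ hg => h.E_sq (m.ti_pair l.perp) hg
  have m1 : z C φ a r ∈ Eg C φ (span F {e, a}) :=
    (h.mem_El l).2 ⟨0, 0, r, by rw [h.z_zero, zero_smul, h.x_zero, one_mul, one_mul]⟩
  have m2 : x C φ e ((r * μ) • a) ∈ Eg C φ (span F {e, a}) :=
    (h.mem_El l).2 ⟨0, r * μ, 0, by rw [h.z_zero, h.z_zero, one_mul, mul_one]⟩
  have m3 : z C φ e (r * μ * μ) ∈ Eg C φ (span F {e, a}) :=
    (h.mem_El l).2 ⟨r * μ * μ, 0, 0, by rw [h.z_zero, zero_smul, h.x_zero, mul_one, mul_one]⟩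
  rw [commutatorElement_def, inv_eq_of_mul_eq_one_right (h.x_sq k1),
    inv_eq_of_mul_eq_one_right (h.z_sq a r), h.Bz k, mul_assoc (z C φ a r),
    (cm m1 (mul_mem m2 m3)).eq, mul_assoc, h.z_sq, mul_one, (cm m2 m3).eq]

theorem ea_ne (r : F) : ∃ r₁, r₁ ≠ 0 ∧ r₁ + r ≠ 0 := by
  have m := h.toMod
  obtain ⟨c, c0, c1⟩ := m.exists_big'
  by_cases r0 : r = 0
  · exact ⟨1, one_ne_zero, by rw [r0, add_zero]; exact one_ne_zero⟩
  · refine ⟨c * r, mul_ne_zero c0 r0, fun e1 => c1 (mul_right_cancel₀ r0 ?_)⟩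
    rw [m.eq_of_add e1, one_mul]

theorem mx_comm {α : RingAut F} {γ : AV V} (hg : Act C φ g α γ) {s : S}
    (hs : g * φ s = φ s * g) (v : V) : C.act s (γ v) = γ (C.act s v) := by
  have sm : ∀ (c : F) w, γ.symm (c • w) = α.symm c • γ.symm w := fun c w => by
    apply γ.injective
    rw [hg.semi, LinearEquiv.apply_symm_apply, LinearEquiv.apply_symm_apply, RingEquiv.apply_symm_apply]
  let n : V →ₗ[F] V :=
    { toFun := fun w => γ (C.act s (γ.symm w))
      map_add' := fun a b => by rw [map_add, map_add, map_add]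
      map_smul' := fun c a => by
        rw [sm, map_smul, hg.semi, RingEquiv.apply_symm_apply]; rfl }
  obtain ⟨s', hs'⟩ := h.full n fun a b => by
    change P.B (γ _) (γ _) = _
    rw [hg.B_eq, C.B_act, ← hg.B_eq, LinearEquiv.apply_symm_apply, LinearEquiv.apply_symm_apply]
  have e1 : ∀ w, C.act s' (γ w) = γ (C.act s w) := fun w => by
    rw [hs']; change γ (C.act s (γ.symm (γ w))) = _; rw [LinearEquiv.symm_apply_apply]
  have e2 := hg.conj s s' e1
  rw [hs, mul_inv_cancel_right] at e2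
  obtain rfl := h.inj e2
  exact e1 v

/-- the fixed points of a semilinear involution in `E(M)` -/
theorem card_fld {U : Submodule F V} (hU : TI P U) {α : RingAut F} {γ : AV V}
    (hg : Act C φ g α γ) (h1 : α ≠ 1) {X : Subgroup G} (hX : X ≤ Eg C φ U) (hc : X ≤ centralizer {g}) :
    Nat.card X ^ 2 ≤ Nat.card (Eg C φ U) := by
  obtain ⟨θ, hθ⟩ : ∃ θ, α θ ≠ θ := by
    by_contra! H
    exact h1 (RingEquiv.ext H)
  have m := h.toMod
  have ex : ∀ x : X, ∃ s ∈ C.fixG (P.perp U), φ s = x := fun x => hX x.2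
  choose σ h2 h3 using ex
  have cm : ∀ (x : X) v, nu C (σ x) (γ v) = γ (nu C (σ x) v) := fun x v => by
    rw [r2_nu, r2_nu, map_sub, h.mx_comm hg (by rw [h3]; exact hc x.2 g rfl)]
  have ex2 : ∀ p : X × X, ∃ s ∈ C.fixG (P.perp U), nu C s = nu C (σ p.1) + θ • nu C (σ p.2) := fun p =>
    m.exists_E hU (fun v => U.add_mem (m.E_range (h2 _) v) (U.smul_mem _ (m.E_range (h2 _) v)))
      fun v w => by
        simp only [LinearMap.add_apply, LinearMap.smul_apply, map_add, map_smul, m.E_adj hU (h2 _)]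
  choose ρ h4 h5 using ex2
  rw [pow_two, ← Nat.card_prod]
  refine Nat.card_le_card_of_injective (fun p => (⟨φ (ρ p), ρ p, h4 p, rfl⟩ : Eg C φ U)) ?_
  rintro ⟨x, y⟩ ⟨x', y'⟩ e
  have e1 : ρ (x, y) = ρ (x', y') := h.inj (congrArg Subtype.val e)
  have e2 : ∀ v, nu C (σ x) v - nu C (σ x') v = θ • (nu C (σ y') v - nu C (σ y) v) := fun v => by
    have := h5 (x, y)
    rw [e1, h5] at this
    have := LinearMap.congr_fun this v
    simp only [LinearMap.add_apply, LinearMap.smul_apply] at this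
    rw [smul_sub]
    linear_combination (norm := module) -this
  have e3 : ∀ v, nu C (σ y') v - nu C (σ y) v = 0 := fun v => by
    obtain ⟨w, rfl⟩ := γ.surjective v
    have a1 := e2 (γ w)
    rw [cm, cm, ← map_sub, e2, hg.semi, map_sub, ← cm, ← cm, ← sub_eq_zero, ← sub_smul] at a1
    exact (smul_eq_zero.1 a1).resolve_left (sub_ne_zero.2 hθ)
  have fin : ∀ a a' : X, (∀ v, nu C (σ a) v - nu C (σ a') v = 0) → a = a' := fun a a' H => by
    refine Subtype.ext ?_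
    rw [← h3, ← h3, C.ext (g := σ a) (h := σ a') fun v => ?_]
    have := H v
    rwa [r2_nu, r2_nu, sub_sub_sub_cancel_right, sub_eq_zero] at this
  rw [fin x x' fun v => by rw [e2, e3, smul_zero], fin y' y e3]

/-- a swapping element centralises no transvection -/
theorem card_sw (k : Ln P e a) (hg : Sw C φ g) {X : Subgroup G} (hX : X ≤ Eg C φ (span F {e, a}))
    (hc : X ≤ centralizer {g}) : Nat.card X ≤ Nat.card F ^ 2 := by
  have m := h.toMod
  have ex : ∀ u : X, ∃ p : F × F, ∃ r, (u : G) = z C φ e r * (x C φ e (p.1 • a) * z C φ a p.2) :=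
    fun u => by
      obtain ⟨r, v, r', e1⟩ := (h.mem_El k).1 (hX u.2)
      exact ⟨(v, r'), r, by rw [e1, mul_assoc]⟩
  choose p ρ hp using ex
  rw [pow_two, ← Nat.card_prod]
  refine Nat.card_le_card_of_injective p fun u u' e1 => Subtype.ext ?_
  have e2 : (u : G) * (u' : G)⁻¹ = z C φ e (ρ u + ρ u') := by
    rw [hp u, hp u', e1, h.z_add, mul_inv_rev, ← mul_assoc, mul_inv_cancel_right,
      inv_eq_of_mul_eq_one_right (h.z_sq e (ρ u'))]
  obtain ⟨d, hd⟩ := m.exists_sqrt (ρ u + ρ u')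
  by_cases d0 : d = 0
  · rw [← hd, d0, mul_zero, h.z_zero] at e2
    exact mul_inv_eq_one.1 e2
  · obtain ⟨q, b, l, e3⟩ := hg.za (d • e) (smul_ne_zero d0 k.ne)
    have e4 : z C φ (d • e) 1 ∈ X := by
      rw [h.z_smul, mul_one, hd, ← e2]; exact X.mul_mem u.2 (X.inv_mem u'.2)
    rw [hc e4 g rfl, mul_inv_cancel_right] at e3
    exact (h.z_ne_x l _ _ e3).elim

theorem card_QQ (h0 : e ≠ 0) (h1 : e' ∉ span F {e}) :
    Nat.card (Rg C φ (span F {e}) ⊓ Rg C φ (span F {e'}) : Subgroup G) ≤ Nat.card F := by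
  have m := h.toMod
  refine ea_card_le (fun v : F => x C φ e (v • e')) fun g hg => ?_
  obtain ⟨b, c, k, rfl⟩ := (h.mem_Q h0).1 hg.1
  have me := Submodule.mem_span_singleton_self (R := F) e'
  by_cases k0 : P.B e e' = 0
  · have l : Ln P e e' := ⟨h0, h1, k0⟩
    have e1 := h.ea_fix k (h.R_le_Y hg.2) me
    rw [k0, zero_smul, add_zero, mul_zero, add_zero] at e1
    have e2 := (smul_eq_zero.1 e1).resolve_right h0
    have e3 : τ C φ e b c ∈ Eg C φ (span F {e, e'}) :=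
      h.τ_mem_E (m.ti_pair k0) (Submodule.subset_span (Set.mem_insert _ _))
        (m.mem_ln l k (by rw [m.B_comm, e2])) c
    obtain ⟨r, v, e4⟩ := (h.mem_QE l).1 ⟨hg.1, e3⟩
    rw [Set.pair_comm] at e3
    obtain ⟨r', v', e5⟩ := (h.mem_QE (m.ln_symm l)).1 ⟨hg.2, e3⟩
    have k2 : P.B e' (v' • e) = 0 := by rw [map_smul, m.B_comm, k0, smul_zero]
    have e6 : z C φ e r * x C φ e (v • e') * z C φ e' 0 =
        z C φ e 0 * x C φ e (v' • e') * z C φ e' r' := by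
      rw [h.z_zero, h.z_zero, mul_one, one_mul, ← e4, e5, h.ea_zx k2, h.τ_eq k2, h.x_symm k2,
        h.x_smul k0]
    refine ⟨v, ?_⟩
    rw [e4, (h.line_inj l e6).1, h.z_zero, one_mul]
  · exact ⟨0, by rw [h.ea_triv h0 k (h.R_le_Y hg.2) me k0, zero_smul, h.x_zero]⟩

theorem card_QE' (h0 : e ≠ 0) (k : Ln P e' a') (h1 : e ∉ span F {e', a'}) :
    Nat.card (Rg C φ (span F {e}) ⊓ Eg C φ (span F {e', a'}) : Subgroup G) ≤ Nat.card F := by
  have m := h.toMod
  refine ea_card_le (fun _ : F => 1) fun g hg => ⟨0, ?_⟩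
  obtain ⟨b, c, k', rfl⟩ := (h.mem_Q h0).1 hg.1
  have y := h.R_le_Y (h.E_le_R (m.ti_pair k.perp) hg.2)
  by_cases k1 : P.B e e' = 0
  · by_cases k2 : P.B e a' = 0
    · exact (h1 (m.mem_ln k (by rw [m.B_comm, k1]) (by rw [m.B_comm, k2]))).elim
    · exact h.ea_triv h0 k' y (Submodule.subset_span (Set.mem_insert_of_mem _ rfl)) k2
  · exact h.ea_triv h0 k' y (Submodule.subset_span (Set.mem_insert _ _)) k1

/-- every involution is conjugate into `Q_e ∩ E(l)` -/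
theorem invol_cls (k : Ln P e a) {l : S} (l2 : l * l = 1) :
    ∃ s, ∃ r v : F, φ s * φ l * (φ s)⁻¹ = z C φ e r * x C φ e (v • a) := by
  have m := h.toMod
  obtain ⟨M, hM, hl⟩ := m.invol_mem_E l2
  obtain ⟨s, hs⟩ := m.trans_lag hM (m.lag_ln k)
  have e1 : φ (s * l * s⁻¹) ∈ Eg C φ (span F {e, a}) := ⟨_, (m.conj_fix s hs).2.2.2 hl, rfl⟩
  rw [map_mul, map_mul, map_inv] at e1
  have fin : ∀ (s' : S) (r v : F), φ s' * (φ s * φ l * (φ s)⁻¹) * (φ s')⁻¹ = z C φ e r * x C φ e (v • a) →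
      ∃ s, ∃ r v : F, φ s * φ l * (φ s)⁻¹ = z C φ e r * x C φ e (v • a) := fun s' r v H =>
    ⟨s' * s, r, v, by rw [← H, map_mul]; group⟩
  rcases h.cls_line k e1 with e2 | ⟨p, p0, e2⟩ | ⟨p, b, k', e2⟩ | ⟨p, b, k', e2⟩
  · exact ⟨s, 0, 0, by rw [e2, h.z_zero, zero_smul, h.x_zero, one_mul]⟩
  · obtain ⟨s', e3⟩ := m.trans p0 k.ne
    exact fin s' 1 0 (by rw [e2, h.z_conj, e3, zero_smul, h.x_zero, mul_one])
  · obtain ⟨s', e3, e4⟩ := m.trans_ln k' k
    exact fin s' 0 1 (by rw [e2, h.x_conj _ k'.perp, e3, e4, one_smul, h.z_zero, one_mul])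
  · obtain ⟨s', e3, e4⟩ := m.trans_ln k' (h.loc_ln' k)
    refine fin s' 1 1 ?_
    rw [e2, one_smul, h.loc_zx k.perp, ← e3, ← h.z_conj, ← e4, ← h.z_conj]
    group

/-- the commutators of `Q_e` and `E(l)` -/
theorem comm_QE (k : Ln P e a) : (∃ u ∈ Rg C φ (span F {e}), ∃ v ∈ Eg C φ (span F {e, a}), g = ⁅u, v⁆) ↔
    g = 1 ∨ ∃ r v : F, r ≠ 0 ∧ v ≠ 0 ∧ g = z C φ e r * x C φ e (v • a) := by
  have m := h.toMod
  obtain ⟨f, f', k'⟩ := m.hh_of_ln k
  have mX : ∀ μ : F, x C φ e (μ • f') ∈ Rg C φ (span F {e}) := fun μ =>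
    (h.mem_Q' k').2 ⟨0, 0, μ, by rw [h.z_zero, zero_smul, h.x_zero, one_mul, one_mul]⟩
  have mZ : ∀ r : F, z C φ a r ∈ Eg C φ (span F {e, a}) := fun r =>
    (h.mem_El k).2 ⟨0, 0, r, by rw [h.z_zero, zero_smul, h.x_zero, one_mul, one_mul]⟩
  have mA : ∀ r v : F, z C φ e r * x C φ e (v • a) ∈ Rg C φ (span F {e}) ⊓ Eg C φ (span F {e, a}) :=
    fun r v => (h.mem_QE k).2 ⟨r, v, rfl⟩
  have cQ : ∀ {b c : G}, b ∈ Rg C φ (span F {e}) → c ∈ Rg C φ (span F {e}) → Commute b c :=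
    ea_comm fun _ hg => h.Q_sq k.ne hg
  have cE : ∀ {b c : G}, b ∈ Eg C φ (span F {e, a}) → c ∈ Eg C φ (span F {e, a}) → Commute b c :=
    ea_comm fun _ hg => h.E_sq (m.ti_pair k.perp) hg
  constructor
  · rintro ⟨u, hu, w, hw, rfl⟩
    obtain ⟨r, v, μ, rfl⟩ := (h.mem_Q' k').1 hu
    obtain ⟨r', v', s, rfl⟩ := (h.mem_El k).1 hw
    rw [comm_mul_split (cQ (mA r v).1 (mX μ)) (cQ (mA r' v').1 (mX μ)) (cE (mA r v).2 (mZ s))
      (cE (mA r' v').2 (mZ s)), (cQ (mA r v).1 (mA r' v').1).commutator_eq, one_mul, h.ea_XZ k']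
    by_cases e1 : s * μ = 0
    · left
      rw [e1, zero_mul, zero_smul, h.z_zero, h.x_zero, one_mul]
    · exact .inr ⟨_, _, mul_ne_zero e1 (right_ne_zero_of_mul e1), e1, rfl⟩
  · rintro (rfl | ⟨r, v, r0, v0, rfl⟩)
    · exact ⟨1, one_mem _, 1, one_mem _, (commutatorElement_self 1).symm⟩
    · refine ⟨_, mX (r / v), _, mZ (v * v / r), ?_⟩
      have e1 : v * v / r * (r / v) = v := by field_simp
      have e2 : v * (r / v) = r := by field_simp
      rw [h.ea_XZ k', e1, e2]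

theorem QE_le_comm (k : Ln P e a) : Rg C φ (span F {e}) ⊓ Eg C φ (span F {e, a}) ≤
    ⁅Rg C φ (span F {e}), Eg C φ (span F {e, a})⁆ := by
  have m := h.toMod
  intro g hg
  obtain ⟨r, v, rfl⟩ := (h.mem_QE k).1 hg
  have H : ∀ r v : F, r ≠ 0 → v ≠ 0 →
      z C φ e r * x C φ e (v • a) ∈ ⁅Rg C φ (span F {e}), Eg C φ (span F {e, a})⁆ := fun r v r0 v0 => by
    obtain ⟨u, hu, w, hw, e1⟩ := (h.comm_QE k).2 (.inr ⟨r, v, r0, v0, rfl⟩)
    rw [e1]
    exact commutator_mem_commutator hu hw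
  obtain ⟨r₁, r1, r2⟩ := h.ea_ne r
  obtain ⟨v₁, v1, v2⟩ := h.ea_ne v
  have k0 : ∀ c : F, P.B e (c • a) = 0 := fun c => by rw [map_smul, k.perp, smul_zero]
  have e1 := mul_mem (H _ _ r1 v1) (H _ _ r2 v2)
  rwa [h.ea_zx (k0 _), h.ea_zx (k0 _), h.τ_mul (k0 _) (k0 _), ← add_smul, ← add_assoc, ← add_assoc,
    m.add_self, m.add_self, zero_add, zero_add, map_smul, m.B_smul_left, m.B_self, mul_zero, smul_zero,
    add_zero, ← h.ea_zx (k0 _)] at e1

/-- fixed point free elements of the same prime order -/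
theorem exists_fpf : ∃ r : ℕ, r.Prime ∧
    (∀ e, e ≠ 0 → ∃ s : S, s ^ r = 1 ∧ φ s ∈ normalizer (Rg C φ (span F {e}) : Set G) ∧
      ∀ u ∈ Rg C φ (span F {e}), Commute (φ s) u → u = 1) ∧
    ∀ e a, Ln P e a → ∃ s : S, s ^ r = 1 ∧ φ s ∈ normalizer (Eg C φ (span F {e, a}) : Set G) ∧
      ∀ u ∈ Eg C φ (span F {e, a}), Commute (φ s) u → u = 1 := by
  have m := h.toMod
  obtain ⟨c, c0, c1⟩ := m.exists_big'
  have nt : Nat.card Fˣ ≠ 1 := fun e1 =>
    c1 (congrArg Units.val ((Nat.card_eq_one_iff_unique.1 e1).1.elim (Units.mk0 c c0) 1))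
  obtain ⟨r, rp, rd⟩ := Nat.exists_prime_and_dvd nt
  have := Fact.mk rp
  obtain ⟨l, hl⟩ := exists_prime_orderOf_dvd_card' r rd
  have lr : l ^ r = 1 := by rw [← hl, pow_orderOf_eq_one]
  have l1 : (l : F) ≠ 1 := fun e1 => rp.ne_one (by rw [← hl, Units.val_eq_one.1 e1, orderOf_one])
  have l2 : (l : F) * l ≠ 1 := fun e1 => l1 (m.sq_inj (by rw [e1, one_mul]))
  have z0 : ∀ {d y : F}, d ≠ 1 → d * y = y → y = 0 := fun {d y} h1 h2 => by
    by_contra y0
    exact h1 (mul_right_cancel₀ y0 (by rw [h2, one_mul]))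
  refine ⟨r, rp, fun e h0 => ?_, fun e a k => ?_⟩
  · obtain ⟨f, hf⟩ := m.exists_hp h0
    obtain ⟨a, f', k⟩ := m.exists_hh hf
    obtain ⟨T, hT⟩ := m.exists_tor k
    refine ⟨T (l, 1), by rw [← map_pow, Prod.pow_mk, lr, one_pow]; exact map_one T, ?_, fun u hu hc => ?_⟩
    · refine mem_normalizer_iff.2 fun u => (h.conj_Y _ (ea_stb fun v hv => ?_)).2.1.symm
      obtain ⟨d, rfl⟩ := Submodule.mem_span_singleton.1 hv
      rw [map_smul, hT.e]
      exact Submodule.smul_mem _ _ (Submodule.smul_mem _ _ (Submodule.mem_span_singleton_self e))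
    · obtain ⟨s, v, μ, rfl⟩ := (h.mem_Q' k).1 hu
      have k1 : ∀ d : F, P.B e (d • a) = 0 := fun d => by rw [map_smul, k.ee, smul_zero]
      have k2 : ∀ d : F, P.B e (d • f') = 0 := fun d => by rw [map_smul, k.ef, smul_zero]
      have e1 := mul_inv_eq_iff_eq_mul.2 hc.eq
      rw [← conj_mul, ← conj_mul, h.z_conj, h.x_conj _ (k1 v), h.x_conj _ (k2 μ), map_smul, map_smul,
        hT.e, hT.a, hT.f', Units.val_one, inv_one, one_smul, one_smul, h.z_smul, h.x_smul (k1 v),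
        h.x_smul (k2 μ), smul_smul, smul_smul] at e1
      obtain ⟨a1, a2, a3⟩ := h.Q_inj k e1
      rw [z0 l2 a1, z0 l1 a2, z0 l1 a3, h.z_zero, zero_smul, zero_smul, h.x_zero, one_mul, one_mul]
  · obtain ⟨f, f', k'⟩ := m.hh_of_ln k
    obtain ⟨T, hT⟩ := m.exists_tor k'
    refine ⟨T (l, l), by rw [← map_pow, Prod.pow_mk, lr]; exact map_one T, ?_, fun u hu hc => ?_⟩
    · refine mem_normalizer_iff.2 fun u => (h.conj_Y _ (ea_stb fun v hv => ?_)).2.2.symm
      obtain ⟨d, d', rfl⟩ := Submodule.mem_span_pair.1 hv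
      rw [map_add, map_smul, map_smul, hT.e, hT.a, smul_smul, smul_smul]
      exact Submodule.mem_span_pair.2 ⟨_, _, rfl⟩
    · obtain ⟨s, v, s', rfl⟩ := (h.mem_El k).1 hu
      have k1 : ∀ d : F, P.B e (d • a) = 0 := fun d => by rw [map_smul, k.perp, smul_zero]
      have e1 := mul_inv_eq_iff_eq_mul.2 hc.eq
      rw [← conj_mul, ← conj_mul, h.z_conj, h.x_conj _ (k1 v), h.z_conj, map_smul,
        hT.e, hT.a, h.z_smul, h.z_smul, smul_smul, h.x_smul (k1 _), smul_smul] at e1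
      obtain ⟨a1, a2, a3⟩ := h.line_inj k e1
      rw [z0 l2 a1, z0 (y := v) l2 (by linear_combination a2), z0 l2 a3, h.z_zero, h.z_zero, zero_smul,
        h.x_zero, one_mul, one_mul]

end Emb

end CfsgLib.SP4
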