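import Cfsg.Agent.Lib.SP4.EAa

/-! Elementary abelian subgroups -/

set_option autoImplicit false
set_option linter.unusedSectionVars false

namespace CfsgLib.SP4

open Subgroup Module CfsgLib.Forms CfsgLib.LieMult
open CfsgLib.HX (Std CO Two Mv M2)
open CfsgLib.UN (AV SI TI HH Rad Stb Yg Rg Eg Act nu)
open CfsgLib.ClSys (II)
open Submodule (span)
open scoped commutatorElement Pointwise

universe u

variable {F : Type} [Field F] [Finite F] {V : Type} [AddCommGroup V] [Module F V]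
  [FiniteDimensional F V] {P : PQ (RingHom.id F) V} {S : Type} [Group S] [Finite S] {G : Type u}
  [Group G] [Finite G] {C : CG P S} {φ : S →* G} {t : G}

/-- **EAQ** -/
theorem Mod.eab (h : Mod C) {X : Subgroup S} (h2 : ∀ s ∈ X, s * s = 1) :
    (∃ e, e ≠ 0 ∧ X ≤ Rad C (span F {e})) ∨ ∃ e a, Ln P e a ∧ X ≤ C.fixG (P.perp (span F {e, a})) := by
  have sq : ∀ g ∈ X, ∀ v, C.act g (C.act g v) = v := fun g hg v => by
    rw [← C.mul_apply, h2 g hg, C.one_apply]
  have inv : ∀ g ∈ X, g⁻¹ = g := fun g hg => inv_eq_of_mul_eq_one_right (h2 g hg)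
  have n2 : ∀ g ∈ X, ∀ v, nu C g (nu C g v) = 0 := fun g hg v => by
    rw [r2_nu, r2_nu, map_sub, sq g hg, sub_eq_zero, h.vsub_eq, h.vsub_eq, add_comm]
  have na : ∀ g ∈ X, ∀ u v, P.B (nu C g u) v = P.B u (nu C g v) := fun g hg u v => by
    rw [r2_nu, r2_nu, P.B_sub_left, P.B_sub_right, ← C.B_act g (C.act g u) v, sq g hg]
  have nc : ∀ g ∈ X, ∀ s ∈ X, ∀ v, nu C g (nu C s v) = nu C s (nu C g v) := fun g hg s hs v => by
    have e : g * s = s * g := by rw [← inv _ (mul_mem hg hs), mul_inv_rev, inv g hg, inv s hs]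
    simp only [r2_nu, map_sub, ← C.mul_apply, e]
    abel
  obtain ⟨e, e0, he⟩ := (show SPC.EA P.B (X.map C.act) from ⟨h.two, h.B_self, fun _ => h.nd,
    by rintro _ ⟨s, -, rfl⟩; exact C.B_act s,
    by rintro _ ⟨s, hs, rfl⟩; rw [← map_mul, h2 s hs, map_one]⟩).exists_fixed (by rw [h.d4]; omega)
  replace he : ∀ g ∈ X, C.act g e = e := fun g hg => he _ ⟨g, hg, rfl⟩
  have ne : ∀ g ∈ X, nu C g e = 0 := fun g hg => by rw [r2_nu, he g hg, sub_self]
  by_cases hX : X ≤ Rad C (span F {e})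
  · exact Or.inl ⟨e, e0, hX⟩
  obtain ⟨s, hs, h1⟩ := SetLike.not_le_iff_exists.1 hX
  obtain ⟨b, hb, h3⟩ : ∃ b ∈ P.perp (span F {e}), nu C s b ∉ span F {e} := by
    by_contra! h3
    exact h1 ⟨mem_fix_pt.2 (he s hs), h3⟩
  replace hb : P.B e b = 0 := hb e (Submodule.mem_span_singleton_self e)
  have pe : ∀ g ∈ X, ∀ v, P.B e (nu C g v) = 0 := fun g hg v => by rw [← na g hg, ne g hg]; simp
  have k : Ln P e (nu C s b) := ⟨e0, h3, pe s hs b⟩
  refine Or.inr ⟨e, _, k, fun g hg => ?_⟩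
  have key : nu C g (nu C s b) = 0 := by
    obtain ⟨α, β, e1⟩ := Submodule.mem_span_pair.1 (h.mem_ln k (pe g hg (nu C s b))
      (by rw [nc g hg s hs, na s hs, n2 s hs, map_zero]))
    have e2 := congrArg (nu C g) e1
    rw [n2 g hg, map_add, map_smul, map_smul, ne g hg, smul_zero, zero_add, smul_eq_zero] at e2
    refine e2.elim (fun e2 => ?_) id
    obtain ⟨α', β', e3⟩ := Submodule.mem_span_pair.1 (h.mem_ln k (pe g hg b) (by
      rw [na s hs, ← nc g hg s hs, ← e1, e2, zero_smul, add_zero, P.B_smul_right, h.B_comm, hb, mul_zero]))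
    rw [nc g hg s hs, ← e3, map_add, map_smul, map_smul, ne s hs, n2 s hs, smul_zero, smul_zero, add_zero]
  rw [r2_nu, sub_eq_zero] at key
  refine fix_anti (fun v hv => ?_) (mem_fix_pair.2 ⟨he g hg, key⟩)
  exact h.mem_ln k (hv _ (Submodule.subset_span (by simp))) (hv _ (Submodule.subset_span (by simp)))

end CfsgLib.SP4
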