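import Cfsg.Agent.Lib.SP4.Loc
import Cfsg.Agent.Lib.SPC.Defs2

/-! The local analysis: definitions -/

set_option autoImplicit false
set_option linter.unusedSectionVars false

namespace CfsgLib.SP4

open Subgroup Module CfsgLib.Forms CfsgLib.LieMult
open CfsgLib.HX (Std CO Two Mv M2)
open CfsgLib.UN (AV SI TI HH Rad Stb Yg Rg Eg Act nu)
open CfsgLib.ClSys (II)
open Submodule (span)
open scoped commutatorElement Pointwise

universe u

variable {F : Type} [Field F] [Finite F] {V : Type} [AddCommGroup V] [Module F V]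
  [FiniteDimensional F V] {P : PQ (RingHom.id F) V} {S : Type} [Group S] [Finite S] {G : Type u}
  [Group G] [Finite G] {C : CG P S} {φ : S →* G} {t : G}

export CfsgLib.SPC (P0 Iv Del Pz0)

/-- `p` centralises `Q`, normalises `Y` and moves `t` to `t l` -/
structure Mo (L Q Y : Subgroup G) (t l p : G) : Prop where
  cQ : p ∈ centralizer (Q : Set G)
  nY : p ∈ normalizer (Y : Set G)
  pt : p * t * p⁻¹ = t * l
  co : CO L t p
  sq : p * p ∈ Q

/-- the movers in the abelian subgroup of index two -/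
def Ho (L Q Y Z : Subgroup G) (t l p : G) : Prop :=
  Mo L Q Y t l p ∧ ∀ l' ∈ Z, ∃ p', Mo L Q Y t l' p' ∧ Commute p p'

/-- type-free local data: `Q` elementary abelian, normal in `Y`, `Z = ζ(F) = C_Q(n(Fˣ))` central in
`Y`, the torus `m` acts on `Z` by squares -/
structure LD (L Q Y Z : Subgroup G) (t : G) (ζ : F → G) (n m : Fˣ →* G) : Prop where
  two : (2 : F) = 0
  big : ¬ Small F
  t2 : t * t = 1
  tC : t ∈ centralizer (L : Set G)
  tL : t ∉ L
  two' : Two L t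
  cL : ∀ g ∈ L, g ∈ centralizer (L : Set G) → g = 1
  QY : Q ≤ Y
  YL : Y ≤ L
  sq : ∀ v ∈ Q, v * v = 1
  YQ : Y ≤ normalizer (Q : Set G)
  memZ : ∀ g, g ∈ Z ↔ ∃ s, g = ζ s
  ZQ : Z ≤ Q
  add : ∀ s s', ζ (s + s') = ζ s * ζ s'
  inj : ∀ s, ζ s = 1 → s = 0
  YZ : Y ≤ centralizer (Z : Set G)
  cQ : ∀ g, g * t = t * g → g ∈ centralizer (Q : Set G) →
    ∃ ε ∈ Q, ∃ c ∈ centralizer (L : Set G), g = ε * c
  nY : ∀ l, n l ∈ Y
  fix : ∀ v ∈ Q, (∀ l, Commute (n l) v) → v ∈ Z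
  mL : ∀ l, m l ∈ L
  mQ : ∀ l, m l ∈ normalizer (Q : Set G)
  mY : ∀ l, m l ∈ normalizer (Y : Set G)
  mn : ∀ l l', Commute (m l) (n l')
  mz : ∀ (l : Fˣ) s, m l * ζ s * (m l)⁻¹ = ζ (l * l * s)
  mv : ∃ p, p ∈ centralizer (Q : Set G) ∧ p ∈ normalizer (Y : Set G) ∧ p * t * p⁻¹ = t * ζ 1 ∧
    CO L t p

section
variable (C φ)

/-- `C_L(x(e, a))` -/
def Yl (e a : V) : Subgroup G := φ.range ⊓ centralizer {x C φ e a}

/-- the short root group of the line -/
def Al (e a : V) : Subgroup G := Eg C φ (span F {e, a}) ⊓ centralizer (Yl C φ e a : Set G)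

/-- `φ'` is the composite of `φ` with a graph automorphism -/
structure Dual (φ' : S →* G) : Prop where
  rng : φ'.range = φ.range
  pt : ∀ e, e ≠ 0 → ∃ p a, Ln P p a ∧ z C φ e 1 = x C φ' p a ∧
    Rg C φ (span F {e}) = Eg C φ' (span F {p, a})
  ln : ∀ e a, Ln P e a → ∃ p, p ≠ 0 ∧ x C φ e a = z C φ' p 1 ∧
    Eg C φ (span F {e, a}) = Rg C φ' (span F {p})

/-- the torus of the frame `e, f, a, f'` -/
structure Tor (e f a f' : V) (h : Fˣ × Fˣ →* S) : Prop where
  e : ∀ l m, C.act (h (l, m)) e = (l : F) • e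
  f : ∀ l m, C.act (h (l, m)) f = (l : F)⁻¹ • f
  a : ∀ l m, C.act (h (l, m)) a = (m : F) • a
  f' : ∀ l m, C.act (h (l, m)) f' = (m : F)⁻¹ • f'

/-- hats of the transvections -/
def PH (t : G) (e : V) (c : F) (p : G) : Prop :=
  Ho φ.range (Rg C φ (span F {e})) (Yg C φ (span F {e})) (Eg C φ (span F {e})) t (z C φ e c) p

/-- hats of the short root elements -/
def LH (t : G) (e a : V) (v : F) (p : G) : Prop :=
  Ho φ.range (Eg C φ (span F {e, a})) (Yl C φ e a) (Al C φ e a) t (x C φ e (v • a)) p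

/-- some element centralises `Y_e` and moves `t` to `t z_e` -/
def CZ (t : G) : Prop := ∃ e, e ≠ 0 ∧ ∃ p, Mv φ.range (Yg C φ (span F {e})) t (z C φ e 1) p

/-- some element centralises `C_L(x(e, a))` and moves `t` to `t x(e, a)` -/
def CA (t : G) : Prop := ∃ e a, Ln P e a ∧ ∃ p, Mv φ.range (Yl C φ e a) t (x C φ e a) p

/-- `t ~ t z` -/
structure MZ (t : G) : Prop extends Sit C φ t where
  two' : Two φ.range t
  mv : ∀ e, e ≠ 0 → ∃ p, Pz C φ t e p

/-- `t ~ t a` -/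
structure MA (t : G) : Prop extends Sit C φ t where
  two' : Two φ.range t
  mv : ∀ e a, Ln P e a → ∃ p, p ∈ centralizer (Eg C φ (span F {e, a}) : Set G) ∧
    p ∈ normalizer (Yl C φ e a : Set G) ∧ p * t * p⁻¹ = t * x C φ e a ∧ CO φ.range t p

/-- the equivariant family of hats of the short root elements -/
structure W0 (t : G) (w : V → V → G) (κ κ₀ : F) : Prop extends MA C φ t where
  lh : ∀ e a (v : F), Ln P e a → LH C φ t e a v (w e (v • a))
  sq : ∀ e a, P.B e a = 0 → w e a * w e a = x C φ e (κ₀ • a)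
  eqv : ∀ l e a, P.B e a = 0 → φ l * w e a * (φ l)⁻¹ = w (C.act l e) (C.act l a)
  dep : ∀ e (μ : F), w e (μ • e) = z C φ e (κ * μ)
  zero : ∀ a, w 0 a = 1
  shift : ∀ e a μ, P.B e a = 0 → w e (a + μ • e) = w e a * z C φ e (κ * μ)
  smul : ∀ e a (l : F), P.B e a = 0 → w (l • e) a = w e (l • a)
  symm : ∀ e a, P.B e a = 0 → w a e = w e a * x C φ e (κ • a)
  wQ : ∀ e a b c, P.B e a = 0 → P.B e b = 0 →
    w e a * τ C φ e b c * (w e a)⁻¹ = τ C φ e b (c + κ * P.B a b)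
  add0 : ∀ e a (u v : F), P.B e a = 0 →
    ∃ r : F, w e ((u + v) • a) = w e (u • a) * w e (v • a) * x C φ e (r • a)
  add1 : κ₀ = 0 → ∀ e a (u v : F), P.B e a = 0 → w e ((u + v) • a) = w e (u • a) * w e (v • a)

/-- the equivariant family of hats of the transvections which centralise `Y_e` -/
structure Y0 (t : G) (y : V → F → G) (κ₁ : F) : Prop extends MZ C φ t where
  ph : ∀ e c, e ≠ 0 → PH C φ t e c (y e c)
  cY : ∀ e c, y e c ∈ centralizer (Yg C φ (span F {e}) : Set G)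
  sq : ∀ e c, y e c * y e c = z C φ e (κ₁ * c)
  eqv : ∀ l e c, φ l * y e c * (φ l)⁻¹ = y (C.act l e) c
  zero : ∀ e, y e 0 = 1
  zero' : ∀ c, y 0 c = 1
  smul : ∀ e c (l : F), y (l • e) c = y e (l * l * c)
  add0 : ∀ e c d, ∃ r, y e (c + d) = y e c * y e d * z C φ e r
  add1 : κ₁ = 0 → ∀ e c d, y e (c + d) = y e c * y e d

/-- the normalised hats -/
structure HW1 (t : G) (w : V → V → G) (κ : F) : Prop extends Sit C φ t where
  two' : Two φ.range t
  mv : ∀ e a, P.B e a = 0 → Mv φ.range (Yg C φ (span F {e, a})) t (x C φ e a) (w e a)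
  sq : ∀ e a, P.B e a = 0 → w e a * w e a = 1
  eqv : ∀ l e a, P.B e a = 0 → φ l * w e a * (φ l)⁻¹ = w (C.act l e) (C.act l a)
  dep : ∀ e (μ : F), w e (μ • e) = z C φ e (κ * μ)
  zero : ∀ a, w 0 a = 1
  shift : ∀ e a μ, P.B e a = 0 → w e (a + μ • e) = w e a * z C φ e (κ * μ)
  smul : ∀ e a (l : F), P.B e a = 0 → w (l • e) a = w e (l • a)
  symm : ∀ e a, P.B e a = 0 → w a e = w e a * x C φ e (κ • a)
  wQ : ∀ e a b c, P.B e a = 0 → P.B e b = 0 →
    w e a * τ C φ e b c * w e a = τ C φ e b (c + κ * P.B a b)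
  act : κ = 1 → ∀ g, g * t = t * g → ∃ α γ, Act C φ g α γ

/-- additivity -/
structure HW2 (t : G) (w : V → V → G) (κ : F) : Prop extends HW1 C φ t w κ where
  add : ∀ e a b, P.B e a = 0 → P.B e b = 0 → P.B a b = 0 → w e (a + b) = w e a * w e b
  com : ∀ e a b, P.B e a = 0 → P.B e b = 0 → Commute (w e a) (w e b)
  cx : ∀ u v e c, P.B u v = 0 → P.B e u = 0 → P.B e v = 0 → P.B e c = 0 →
    w u v * x C φ e c * w u v = x C φ e c * w e (P.B c u • v + P.B c v • u) *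
      x C φ e ((κ * P.B c v) • u) * z C φ e (κ * P.B c u * P.B c v)

/-- type C before the last normalisation -/
structure HC1 (t : G) (w : V → V → G) (u : V → G) (δ ρ : F) : Prop extends HW C φ t w 1 δ where
  umv : ∀ e, Mv φ.range (Yg C φ (span F {e})) t (z C φ e 1) (u e)
  usq : ∀ e, u e * u e = z C φ e ρ
  zero : u 0 = 1
  ueqv : ∀ l e, φ l * u e * (φ l)⁻¹ = u (C.act l e)
  uw : ∀ e a b, P.B e a = 0 → P.B e b = 0 → P.B a b = 0 → Commute (u e) (w a b)

end

end CfsgLib.SP4
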