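import Cfsg.Agent.Lib.SP4.Main
import Cfsg.Agent.Lib.SP4.Inst
import Cfsg.Agent.Lib.SPC.Fin

/-! The theorem for `Sp₄(q)` -/

set_option autoImplicit false
set_option linter.unusedSectionVars false

namespace CfsgLib.SP4

open Subgroup Module CfsgLib.Forms CfsgLib.LieMult
open CfsgLib.HX (Std CO Two Mv M2)
open CfsgLib.UN (AV SI TI HH Rad Stb Yg Rg Eg Act nu)
open CfsgLib.ClSys (II)
open Submodule (span)
open scoped commutatorElement Pointwise

universe u

variable {F : Type} [Field F] [Finite F] {V : Type} [AddCommGroup V] [Module F V]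
  [FiniteDimensional F V] {P : PQ (RingHom.id F) V} {S : Type} [Group S] [Finite S] {G : Type u}
  [Group G] [Finite G] {C : CG P S} {φ : S →* G} {t : G}

theorem Mod.fin_emb (h : Mod C) {L : Subgroup G} (e : S ≃* L) :
    ∃ φ : S →* G, Emb C φ ∧ φ.range = L := by
  refine ⟨L.subtype.comp e.toMonoidHom, ⟨h, L.subtype_injective.comp e.injective⟩, ?_⟩
  rw [MonoidHom.range_comp, MonoidHom.range_eq_top.2 e.surjective, ← MonoidHom.range_eq_map, range_subtype]

/-- the case of a simple `F*(G)` -/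
theorem std_simple (hF : IsSimpleGroup (Cfsg.generalizedFittingSubgroup G))
    (hF' : ¬ IsMulCommutative (Cfsg.generalizedFittingSubgroup G)) {L : Subgroup G}
    (hL : Cfsg.IsStandardSubgroup L)
    (hR : ∀ R : Sylow 2 (centralizer (L : Set G)), IsCyclic (R : Subgroup (centralizer (L : Set G))))
    (h2 : (2 : F) = 0) (hq : ¬ Small F) (e : (L ⧸ Cfsg.oddCore L) ≃* Cfsg.PSp 2 F) :
    Pr F 2 (Cfsg.generalizedFittingSubgroup G) := by
  obtain ⟨P, C, h⟩ := exists_mod h2 hq
  obtain ⟨i⟩ := equiv_PSp h2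
  have := h.simp
  let π := (e.trans i.symm).toMonoidHom.comp (QuotientGroup.mk' (Cfsg.oddCore L))
  have hs : Function.Surjective π := (e.trans i.symm).surjective.comp (QuotientGroup.mk'_surjective _)
  have hker : π.ker = Cfsg.oddCore L := by
    rw [MonoidHom.ker_comp_of_injective _ _ (e.trans i.symm).injective, QuotientGroup.ker_mk']
  have h1 : π.ker ≤ center L := (Comp.qs_normal hL.1 _ inferInstance).resolve_left fun k' => by
    obtain ⟨y, hy⟩ := exists_ne (1 : Matrix.symplecticGroup (Fin 2) F)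
    obtain ⟨y, rfl⟩ := hs y
    exact hy (k'.ge (mem_top y))
  have h3 := h.mult.isPGroup π ⟨hs, h1, hL.1.1.commutator_eq_top ▸ le_top⟩
  have h4 : π.ker = ⊥ := by
    obtain ⟨j, hj⟩ := IsPGroup.iff_card.1 h3
    have h5 : ¬ 2 ∣ Nat.card π.ker := hker ▸ (Core.odd_card_oddCore L).not_two_dvd_nat
    rw [hj] at h5
    rcases j with _ | j
    · exact card_eq_one.1 hj
    · exact absurd (dvd_pow_self 2 j.succ_ne_zero) h5
  obtain ⟨φ, h6, rfl⟩ := h.fin_emb (MulEquiv.ofBijective π ⟨(MonoidHom.ker_eq_bot_iff π).1 h4, hs⟩).symm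
  obtain ⟨t, ht⟩ := HX.exists_std hL hR
  have hn' := Comp.fstar_normal (G := G)
  have hb : centralizer (Cfsg.generalizedFittingSubgroup G : Set G) = ⊥ := by
    rcases ((inferInstance : (centralizer (Cfsg.generalizedFittingSubgroup G : Set G)).Normal).subgroupOf
      (Cfsg.generalizedFittingSubgroup G)).eq_bot_or_eq_top with k | k
    · exact (subgroupOf_eq_bot.1 k).eq_bot_of_le Comp.centralizer_fstar_le
    · exact absurd ⟨⟨fun x y => Subtype.ext (subgroupOf_eq_top.1 k y.2 x x.2)⟩⟩ hF'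
  have g := HX.RedAux.glob_sub hn' hF hF' hb ht.t2
  have hLF := StdW.le_fstar hF hF' hL
  have hG := hLF.trans (le_sup_left (b := zpowers t))
  let φ₀ := φ.codRestrict _ fun s => hG ⟨s, rfl⟩
  have e0 : φ₀.range = φ.range.subgroupOf _ :=
    Subgroup.ext fun y => ⟨fun ⟨s, k⟩ => ⟨s, congrArg Subtype.val k⟩, fun ⟨s, k⟩ => ⟨s, Subtype.ext k⟩⟩
  exact (Sit.main (φ := φ₀) ⟨⟨h, fun s s' k => h6.inj (congrArg Subtype.val k)⟩,
    e0.symm ▸ HX.RedAux.std_sub ht hG (mem_sup_right (mem_zpowers t))⟩ g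
    (e0.le.trans (comap_mono hLF))).2.congr (subgroupOfEquivOfLe le_sup_left)

end CfsgLib.SP4
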