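import Cfsg.Agent.Lib.SP4.Big

/-! Control of fusion -/

set_option autoImplicit false
set_option linter.unusedSectionVars false

namespace CfsgLib.SP4

open Subgroup Module CfsgLib.Forms CfsgLib.LieMult
open CfsgLib.HX (Std CO Two Mv M2)
open CfsgLib.UN (AV SI TI HH Rad Stb Yg Rg Eg Act nu)
open CfsgLib.ClSys (II)
open Submodule (span)
open scoped commutatorElement Pointwise

universe u

variable {F : Type} [Field F] [Finite F] {V : Type} [AddCommGroup V] [Module F V]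
  [FiniteDimensional F V] {P : PQ (RingHom.id F) V} {S : Type} [Group S] [Finite S] {G : Type u}
  [Group G] [Finite G] {C : CG P S} {φ : S →* G} {t : G}

omit [Finite G] in
theorem nu_norm {E E' : Subgroup G} {g n : G} (hg : ∀ y, g * y * g⁻¹ ∈ E ↔ y ∈ E')
    (hn : n ∈ normalizer (E' : Set G)) : g * n * g⁻¹ ∈ normalizer (E : Set G) :=
  mem_normalizer_iff.2 fun y => by
    have e1 : y = g * (g⁻¹ * y * g) * g⁻¹ := by group
    have e2 : g * n * g⁻¹ * y * (g * n * g⁻¹)⁻¹ = g * (n * (g⁻¹ * y * g) * n⁻¹) * g⁻¹ := by group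
    rw [e2, hg, ← mem_normalizer_iff.1 hn, ← hg, ← e1]

omit [Finite G] in
theorem nu_symm {E E' : Subgroup G} {g : G} (hg : ∀ y, g * y * g⁻¹ ∈ E ↔ y ∈ E') (y : G) :
    g⁻¹ * y * g⁻¹⁻¹ ∈ E' ↔ y ∈ E := by
  rw [← hg]
  congr! 1
  group

/-- conjugation on an orbit of a subgroup -/
def nuPerm (N : Subgroup G) (t : G) {m : G} (hm : m ∈ N) :
    Equiv.Perm {y : G // ∃ n ∈ N, n * t * n⁻¹ = y} :=
  (MulAut.toPerm G (MulAut.conj m)).subtypePerm fun y => by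
    show (∃ n ∈ N, n * t * n⁻¹ = m * y * m⁻¹) ↔ _
    constructor
    · rintro ⟨n, hn, e⟩
      exact ⟨m⁻¹ * n, N.mul_mem (N.inv_mem hm) hn, by
        rw [mul_inv_rev, inv_inv, ← mul_assoc, mul_assoc m⁻¹, mul_assoc m⁻¹, e]; group⟩
    · rintro ⟨n, hn, rfl⟩
      exact ⟨m * n, N.mul_mem hm hn, by group⟩

omit [Finite G] in
theorem nuPerm_pow (N : Subgroup G) (t : G) {m : G} (hm : m ∈ N) {r : ℕ} (h1 : m ^ r = 1) :
    nuPerm N t hm ^ r ^ 1 = 1 := by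
  rw [pow_one, nuPerm, Equiv.Perm.subtypePerm_pow]
  refine Equiv.ext fun y => Subtype.ext ?_
  show (MulAut.toPerm G (MulAut.conj m) ^ r) y.1 = y.1
  rw [← map_pow, ← map_pow, h1, map_one, map_one]
  rfl

/-- orbit counting -/
theorem orb_count {E E' : Subgroup G} {r : ℕ} (hr : r.Prime) {m m' g : G} (h1 : m ^ r = 1)
    (h1' : m' ^ r = 1) (h2 : m ∈ normalizer (E : Set G)) (h2' : m' ∈ normalizer (E' : Set G))
    (h3' : m' * t = t * m') (tE : t ∈ E')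
    (h4 : ∀ k : G, k * t * k⁻¹ ∈ E → Commute m (k * t * k⁻¹) → k * t * k⁻¹ = t)
    (h4' : ∀ k : G, k * t * k⁻¹ ∈ E' → Commute m' (k * t * k⁻¹) → k * t * k⁻¹ = t)
    (hg : ∀ y, g * y * g⁻¹ ∈ E ↔ y ∈ E') :
    ∃ n ∈ normalizer (E : Set G), n * t * n⁻¹ = g * t * g⁻¹ := by
  classical
  have := Fact.mk hr
  have := Fintype.ofFinite {y : G // ∃ n ∈ normalizer (E' : Set G), n * t * n⁻¹ = y}
  by_cases hd : r ∣ Fintype.card {y : G // ∃ n ∈ normalizer (E' : Set G), n * t * n⁻¹ = y}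
  · obtain ⟨⟨_, n, hn, rfl⟩, e, ne⟩ := Equiv.Perm.exists_fixed_point_of_prime' hd
      (nuPerm_pow _ t h2' h1') (a := ⟨t, 1, one_mem _, by group⟩)
      (Subtype.ext (mul_inv_eq_of_eq_mul h3'))
    exact (ne (Subtype.ext (h4' n ((mem_normalizer_iff.1 hn t).1 tE)
      (mul_inv_eq_iff_eq_mul.1 (congrArg Subtype.val e))))).elim
  · obtain ⟨⟨_, n, hn, rfl⟩, e⟩ := Equiv.Perm.exists_fixed_point_of_prime hd
      (nuPerm_pow _ t (nu_norm (nu_symm hg) h2) (r := r) (by rw [conj_pow, h1]; group))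
    have e : g⁻¹ * m * g⁻¹⁻¹ * (n * t * n⁻¹) * (g⁻¹ * m * g⁻¹⁻¹)⁻¹ = n * t * n⁻¹ :=
      congrArg Subtype.val e
    have e1 : g * n * t * (g * n)⁻¹ = g * (n * t * n⁻¹) * g⁻¹ := by group
    have e2 := h4 (g * n) (e1 ▸ (hg _).2 ((mem_normalizer_iff.1 hn t).1 tE)) (by
      rw [e1]
      show m * _ = _ * m
      conv_rhs => rw [← e]
      group)
    refine ⟨g * n⁻¹ * g⁻¹, nu_norm hg (inv_mem hn), ?_⟩
    conv_lhs => rw [← e2]
    group

namespace Sit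

variable (h : Sit C φ t) {e a : V} {g : G}
include h

theorem nu_sup {A B : Subgroup G} (hA : A ≤ φ.range) (hB : B ≤ φ.range) (hg : g * t = t * g)
    (H : ∀ y, g * y * g⁻¹ ∈ A ↔ y ∈ B) (y : G) : g * y * g⁻¹ ∈ A ⊔ zpowers t ↔ y ∈ B ⊔ zpowers t := by
  rw [h.mem_sup_t hA, h.mem_sup_t hB, H, ← H (t * y), ← mul_assoc g, hg, mul_assoc t g, mul_assoc t]

theorem nu_nsup {A : Subgroup G} (hA : A ≤ φ.range) (hg : g * t = t * g)
    (H : g ∈ normalizer (A : Set G)) : g ∈ normalizer ((A ⊔ zpowers t : Subgroup G) : Set G) :=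
  mem_normalizer_iff.2 fun y => (h.nu_sup hA hA hg (fun y => (mem_normalizer_iff.1 H y).symm) y).symm

theorem nu_inf {A B : Subgroup G} (hA : A ≤ φ.range) (hB : B ≤ φ.range) :
    (A ⊔ zpowers t) ⊓ (B ⊔ zpowers t) = (A ⊓ B) ⊔ zpowers t := by
  ext y
  rw [mem_inf, h.mem_sup_t hA, h.mem_sup_t hB, h.mem_sup_t (inf_le_left.trans hA), mem_inf, mem_inf]
  have : y ∈ φ.range → t * y ∈ φ.range → False := fun h1 h2 =>
    h.t_not_mem (by simpa using mul_mem h2 (inv_mem h1))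
  have h1 := @hA y
  have h2 := @hB y
  have h3 := @hA (t * y)
  have h4 := @hB (t * y)
  tauto

theorem nu_big {A : Subgroup G} (hA : A ≤ φ.range) (h2 : ∀ b ∈ A, b * b = 1)
    (h3 : Nat.card A = Nat.card F ^ 3) (hg : g * t * g⁻¹ ∈ A ⊔ zpowers t) :
    (∃ e, e ≠ 0 ∧ ∀ y, g * y * g⁻¹ ∈ A ⊔ zpowers t ↔ y ∈ Rg C φ (span F {e}) ⊔ zpowers t) ∨
      ∃ e a, Ln P e a ∧ ∀ y, g * y * g⁻¹ ∈ A ⊔ zpowers t ↔ y ∈ Eg C φ (span F {e, a}) ⊔ zpowers t := by
  have s : ∀ b ∈ A ⊔ zpowers t, b * b = 1 := fun b hb => by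
    rcases (h.mem_sup_t hA).1 hb with k | k
    · exact h2 b k
    · have e1 := h2 _ k
      have e2 := h.tL (hA k)
      rw [mul_assoc, mul_right_inj] at e2
      rwa [mul_assoc, ← mul_assoc b, e2, ← mul_assoc, ← mul_assoc, h.t2, one_mul] at e1
  have s' : ∀ b ∈ (A ⊔ zpowers t).comap (MulAut.conj g).toMonoidHom, b * b = 1 := fun b hb =>
    (MulAut.conj g).injective (by rw [map_mul, map_one]; exact s _ hb)
  have c : Nat.card ((A ⊔ zpowers t).comap (MulAut.conj g).toMonoidHom) = 2 * Nat.card F ^ 3 := by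
    rw [← h3, ← h.card_sup_t hA]
    exact Nat.card_congr ((MulAut.conj g).toEquiv.subtypeEquiv fun _ => Iff.rfl)
  rcases h.bigA (B := (A ⊔ zpowers t).comap (MulAut.conj g).toMonoidHom) (fun b hb =>
    mem_centralizer_singleton_iff.2 (by
      have e1 := s' _ (mul_mem hb (show t ∈ _ from hg))
      rw [eq_inv_of_mul_eq_one_left e1, mul_inv_rev, inv_eq_of_mul_eq_one_right h.t2,
        inv_eq_of_mul_eq_one_right (s' b hb)])) s' c.ge with ⟨e, h0, k⟩ | ⟨e, a, h0, k⟩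
  · exact .inl ⟨e, h0, fun y => k ▸ Iff.rfl⟩
  · exact .inr ⟨e, a, h0, fun y => k ▸ Iff.rfl⟩

theorem nu_fpf {A : Subgroup G} (hA : A ≤ φ.range) {s : S} (H : ∀ u ∈ A, Commute (φ s) u → u = 1)
    (k : G) (hk : k * t * k⁻¹ ∈ A ⊔ zpowers t) (c : Commute (φ s) (k * t * k⁻¹)) :
    k * t * k⁻¹ = t := by
  rcases (h.mem_sup_t hA).1 hk with k1 | k1
  · exact (h.nL k (hA k1)).elim
  · rw [eq_inv_of_mul_eq_one_right (H _ k1 (Commute.mul_right (h.tl s) c)),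
      inv_eq_of_mul_eq_one_right h.t2]

theorem nu_QL : Rg C φ (span F {e}) ≤ φ.range := map_le_range φ _

theorem nu_EL {U : Submodule F V} : Eg C φ U ≤ φ.range := map_le_range φ _

theorem nu_lt : Nat.card F < Nat.card F ^ 2 ∧ Nat.card F ^ 2 < Nat.card F ^ 3 :=
  ⟨by simpa using Nat.pow_lt_pow_right (Finite.one_lt_card (α := F)) one_lt_two,
    Nat.pow_lt_pow_right Finite.one_lt_card (by norm_num)⟩

theorem nu1 (h0 : e ≠ 0) (hg : g * t * g⁻¹ ∈ Rg C φ (span F {e}) ⊔ zpowers t) :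
    ∃ n ∈ normalizer ((Rg C φ (span F {e}) ⊔ zpowers t : Subgroup G) : Set G),
      n * t * n⁻¹ = g * t * g⁻¹ := by
  obtain ⟨r, hr, p1, p2⟩ := h.toEmb.exists_fpf
  obtain ⟨s, s1, s2, s3⟩ := p1 e h0
  have key : ∀ {B : Subgroup G}, B ≤ φ.range → (∃ s : S, s ^ r = 1 ∧ φ s ∈ normalizer (B : Set G) ∧
      ∀ u ∈ B, Commute (φ s) u → u = 1) →
      (∀ y, g * y * g⁻¹ ∈ Rg C φ (span F {e}) ⊔ zpowers t ↔ y ∈ B ⊔ zpowers t) →
      ∃ n ∈ normalizer ((Rg C φ (span F {e}) ⊔ zpowers t : Subgroup G) : Set G),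
        n * t * n⁻¹ = g * t * g⁻¹ := fun hB ⟨s', t1, t2, t3⟩ k =>
    orb_count hr (by rw [← map_pow, s1, map_one]) (by rw [← map_pow, t1, map_one])
      (h.nu_nsup h.nu_QL (h.tl s) s2) (h.nu_nsup hB (h.tl s') t2) (h.tl s')
      (mem_sup_right (mem_zpowers t)) (h.nu_fpf h.nu_QL s3) (h.nu_fpf hB t3) k
  rcases h.nu_big h.nu_QL (fun _ => h.toEmb.Q_sq h0) (h.toEmb.card_Q h0) hg with
    ⟨e', h1, k⟩ | ⟨e', a', h1, k⟩
  · exact key h.nu_QL (p1 e' h1) k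
  · exact key h.nu_EL (p2 e' a' h1) k

theorem nu12 (k : Ln P e a) (hg : g * t * g⁻¹ ∈ Rg C φ (span F {e}) ⊔ zpowers t)
    (hg' : g * t * g⁻¹ ∈ Eg C φ (span F {e, a}) ⊔ zpowers t) :
    ∃ n ∈ normalizer ((Rg C φ (span F {e}) ⊔ zpowers t : Subgroup G) : Set G),
      n ∈ normalizer ((Eg C φ (span F {e, a}) ⊔ zpowers t : Subgroup G) : Set G) ∧
      n * t * n⁻¹ = g * t * g⁻¹ := by
  obtain ⟨n, hn, e1⟩ := h.nu1 k.ne hg
  have c : ∀ {B : Subgroup G}, B ≤ φ.range →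
      (∀ y, n * y * n⁻¹ ∈ Eg C φ (span F {e, a}) ⊔ zpowers t ↔ y ∈ B ⊔ zpowers t) →
      Nat.card (Rg C φ (span F {e}) ⊓ B : Subgroup G) = Nat.card F ^ 2 := fun {B} hB H => by
    refine Nat.eq_of_mul_eq_mul_left two_pos ?_
    rw [← h.toEmb.card_QE k, ← h.card_sup_t (inf_le_left.trans h.nu_QL),
      ← h.card_sup_t (inf_le_left.trans h.nu_QL), ← h.nu_inf h.nu_QL hB, ← h.nu_inf h.nu_QL h.nu_EL]
    exact Nat.card_congr ((MulAut.conj n).toEquiv.subtypeEquiv fun y =>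
      and_congr (mem_normalizer_iff.1 hn y) (H y).symm)
  rcases h.nu_big h.nu_EL (fun _ => h.toEmb.E_sq (h.ti_pair k.perp)) (h.toEmb.card_El k) (e1 ▸ hg') with
    ⟨e', h1, H⟩ | ⟨e', a', h1, H⟩
  · have c1 := c h.nu_QL H
    by_cases he : e' ∈ span F {e}
    · obtain ⟨l, rfl⟩ := Submodule.mem_span_singleton.1 he
      rw [Submodule.span_singleton_smul_eq (left_ne_zero_of_smul h1).isUnit, inf_idem,
        h.toEmb.card_Q k.ne] at c1
      exact (h.nu_lt.2.ne' c1).elim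
    · exact (h.nu_lt.1.not_ge (c1 ▸ h.toEmb.card_QQ k.ne he)).elim
  have c1 := c h.nu_EL H
  have he : e ∈ span F {e', a'} := by_contra fun he =>
    h.nu_lt.1.not_ge (c1 ▸ h.toEmb.card_QE' k.ne h1 he)
  obtain ⟨b, hb, e2⟩ : ∃ b, Ln P e b ∧ span F {e, b} = span F {e', a'} := by
    obtain ⟨α, β, rfl⟩ := Submodule.mem_span_pair.1 he
    by_cases hβ : β = 0
    · have : α * 1 + β * 0 ≠ 0 := fun e => k.ne (by
        rw [mul_one, mul_zero, add_zero] at e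
        rw [e, hβ, zero_smul, zero_smul, add_zero])
      exact ⟨_, h.toEmb.loc_ln h1 (c₂ := 0) (d₂ := 1) (by rwa [mul_comm 0]),
        (h.toEmb.Yl_congr h1 this).2.2⟩
    · have : α * 0 + β * 1 ≠ 0 := by simpa using hβ
      exact ⟨_, h.toEmb.loc_ln h1 (c₂ := 1) (d₂ := 0) (by rwa [mul_comm 1]),
        (h.toEmb.Yl_congr h1 this).2.2⟩
  obtain ⟨s, s1, s2⟩ := h.trans_ln hb k
  have H1 := fun y => (h.toEmb.act_conj (h.toEmb.act_self s) e b y).2.1
  have H2 := fun y => (h.toEmb.act_conj (h.toEmb.act_self s) e b y).2.2.2.1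
  simp only [LinearEquiv.restrictScalars_apply, s1, s2, e2] at H1 H2
  refine ⟨n * (φ s)⁻¹, mul_mem hn (inv_mem (mem_normalizer_iff.2 fun y =>
    (h.nu_sup h.nu_QL h.nu_QL (h.tl s) H1 y).symm)), mem_normalizer_iff.2 fun y => ?_, ?_⟩
  · rw [← nu_symm (h.nu_sup h.nu_EL h.nu_EL (h.tl s) H2) y, ← H]
    congr! 1
    group
  · rw [← e1, mul_assoc n, (Commute.inv_left (h.tl s)).eq]
    group

theorem nuY (h0 : e ≠ 0) (hg : g * t * g⁻¹ = t * z C φ e 1) :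
    ∃ n ∈ normalizer (Yg C φ (span F {e}) : Set G),
      n ∈ normalizer ((Yg C φ (span F {e}) ⊔ zpowers t : Subgroup G) : Set G) ∧
      n * t * n⁻¹ = t * z C φ e 1 := by
  have zE : z C φ e 1 ∈ Eg C φ (span F {e}) := h.toEmb.mem_Z.2 ⟨1, rfl⟩
  have zQ := h.toEmb.E_le_R (h.ti_pt e) zE
  obtain ⟨n, hn, e1⟩ := h.nu1 h0 (g := g)
    (hg ▸ mul_mem (mem_sup_right (mem_zpowers t)) (mem_sup_left zQ))
  rw [hg] at e1
  set H := (Yg C φ (span F {e})).map (MulAut.conj n⁻¹).toMonoidHom with hH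
  have p : H ≤ ⁅H, H⁆ := by
    rw [hH, ← map_commutator]
    exact map_mono (h.toEmb.Y_perf h0)
  have hL : H ≤ φ.range := h.le_of_perf (by
    rintro _ ⟨y, hy, rfl⟩
    refine mem_centralizer_singleton_iff.2 ((MulAut.conj n).injective ?_)
    have c : Commute y (n * t * n⁻¹) := e1 ▸ Commute.mul_right (h.tL (h.toEmb.Y_le_L hy))
      (mem_centralizer_iff.1 (h.toEmb.E_cent (h.ti_pt e) zE) y hy)
    simpa [mul_assoc] using c.eq) p
  have hs : ∀ y ∈ H, ∃ s, φ s = y ∧ ∃ c : F, C.act s e = c • e := fun y hy => by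
    obtain ⟨s, rfl⟩ := hL hy
    refine ⟨s, rfl, ?_⟩
    have h1 : φ s ∈ normalizer ((Rg C φ (span F {e}) ⊔ zpowers t : Subgroup G) : Set G) := by
      obtain ⟨_, ⟨y, hy, rfl⟩, e2⟩ := hy
      rw [← e2]
      refine mul_mem (mul_mem (inv_mem hn) (h.nu_nsup h.nu_QL (h.tl y) ?_)) (inv_mem (inv_mem hn))
      refine mem_normalizer_iff.2 fun u => ?_
      have := (h.toEmb.act_conj (h.toEmb.act_self y) e e u).2.1
      rw [LinearEquiv.restrictScalars_apply, mem_fix_pt.1 hy] at this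
      exact this.symm
    by_contra hc
    have hc : C.act s e ∉ span F {e} := fun k => hc (by
      obtain ⟨c, hc⟩ := Submodule.mem_span_singleton.1 k
      exact ⟨c, hc.symm⟩)
    have h2 : Rg C φ (span F {e}) ≤ Rg C φ (span F {C.act s e}) := fun u hu => by
      have k1 := (mem_normalizer_iff.1 (inv_mem h1) u).1 (mem_sup_left hu)
      have k2 := nu_symm (fun y => (h.toEmb.act_conj (h.toEmb.act_self s) e e y).2.1) u
      refine k2.1 (((h.mem_sup_t h.nu_QL).1 k1).resolve_right fun k3 => h.t_not_mem ?_)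
      have k4 : (φ s)⁻¹ * u * (φ s)⁻¹⁻¹ ∈ φ.range :=
        mul_mem (mul_mem (inv_mem ⟨s, rfl⟩) (h.nu_QL hu)) (inv_mem (inv_mem ⟨s, rfl⟩))
      exact (mul_mem_cancel_right k4).1 (h.nu_QL k3)
    have h3 := h.toEmb.card_QQ h0 hc
    rw [inf_eq_left.2 h2, h.toEmb.card_Q h0] at h3
    exact (h.nu_lt.1.trans h.nu_lt.2).not_ge h3
  have hY : H ≤ Yg C φ (span F {e}) := p.trans (commutator_le.2 fun y hy y' hy' => by
    obtain ⟨s, rfl, c, hc⟩ := hs y hy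
    obtain ⟨s', rfl, c', hc'⟩ := hs y' hy'
    rw [← map_commutatorElement]
    refine mem_map_of_mem φ (mem_fix_pt.2 ?_)
    have k1 : C.act ⁅s, s'⁆ (C.act (s' * s) e) = C.act (s * s') e := by
      rw [← C.mul_apply, commutatorElement_def]
      congr 2
      group
    simp only [C.mul_apply, hc, hc', map_smul] at k1
    rw [smul_comm c] at k1
    have c0 : c ≠ 0 := fun e => h0 ((C.act s).map_eq_zero_iff.1 (by rw [hc, e, zero_smul]))
    have c0' : c' ≠ 0 := fun e => h0 ((C.act s').map_eq_zero_iff.1 (by rw [hc', e, zero_smul]))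
    exact smul_right_injective V c0 (smul_right_injective V c0' k1))
  have nY : n ∈ normalizer (Yg C φ (span F {e}) : Set G) :=
    inv_mem_iff.1 (mem_normalizer_fintype fun y hy => hY ⟨y, hy, rfl⟩)
  refine ⟨n, nY, mem_normalizer_fintype fun y hy => ?_, e1⟩
  rcases (h.mem_sup_t h.toEmb.Y_le_L).1 hy with k | k
  · exact mem_sup_left ((mem_normalizer_iff.1 nY y).1 k)
  · have k1 : n * y * n⁻¹ = (n * t * n⁻¹)⁻¹ * (n * (t * y) * n⁻¹) := by group
    rw [k1, e1]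
    exact mul_mem (inv_mem (mul_mem (mem_sup_right (mem_zpowers t))
      (mem_sup_left (h.toEmb.R_le_Y zQ)))) (mem_sup_left ((mem_normalizer_iff.1 nY _).1 k))

end Sit

end CfsgLib.SP4
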