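import Cfsg.Agent.Lib.SP4.FusA
import Cfsg.Agent.Lib.SP4.Nu

/-! Fusion of t -/

set_option autoImplicit false
set_option linter.unusedSectionVars false

namespace CfsgLib.SP4

open Subgroup Module CfsgLib.Forms CfsgLib.LieMult
open CfsgLib.HX (Std CO Two Mv M2)
open CfsgLib.UN (AV SI TI HH Rad Stb Yg Rg Eg Act nu)
open CfsgLib.ClSys (II)
open Submodule (span)
open scoped commutatorElement Pointwise

universe u

variable {F : Type} [Field F] [Finite F] {V : Type} [AddCommGroup V] [Module F V]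
  [FiniteDimensional F V] {P : PQ (RingHom.id F) V} {S : Type} [Group S] [Finite S] {G : Type u}
  [Group G] [Finite G] {C : CG P S} {φ : S →* G} {t : G}

theorem fus_int {s u : G} (s2 : s * s = 1) (u2 : u * u = 1) : InT s (s * u * s⁻¹ * u) :=
  ⟨u, by rw [← mul_assoc, ← mul_assoc, ← mul_assoc, s2, one_mul, inv_eq_of_mul_eq_one_right s2,
    inv_eq_of_mul_eq_one_right u2]⟩

theorem fus_ct {u w : G} (h1 : Commute t u) (h2 : Commute t w) : ⁅t * u, w⁆ = ⁅u, w⁆ := by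
  have h3 : Commute t (u * w * u⁻¹) := (h1.mul_right h2).mul_right h1.inv_right
  calc ⁅t * u, w⁆ = t * (u * w * u⁻¹) * t⁻¹ * w⁻¹ := by rw [commutatorElement_def]; group
    _ = _ := by rw [h3.eq, mul_inv_cancel_right, commutatorElement_def]

theorem fus_ct' {u w : G} (h1 : Commute t u) (h2 : Commute t w) : ⁅u, t * w⁆ = ⁅u, w⁆ := by
  rw [← commutatorElement_inv, fus_ct h2 h1, commutatorElement_inv]

namespace Sit

variable (h : Sit C φ t)
include h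

theorem fus_dec {A B : Subgroup G} (hA : A ≤ φ.range) (hB : B ≤ φ.range) {u w : G} (hu : u ∈ A ⊔ zpowers t)
    (hw : w ∈ B ⊔ zpowers t) : ∃ u' ∈ A, ∃ w' ∈ B, ⁅u, w⁆ = ⁅u', w'⁆ := by
  have c : ∀ {H : Subgroup G}, H ≤ φ.range → ∀ {y}, y ∈ H ⊔ zpowers t → Commute t y := fun hH _ hy =>
    h.loc_cent hH hy t (mem_zpowers t)
  have cu := c hA hu
  have cw := c hB hw
  rcases (h.mem_sup_t hA).1 hu with k | k <;> rcases (h.mem_sup_t hB).1 hw with k' | k'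
  · exact ⟨_, k, _, k', rfl⟩
  · exact ⟨_, k, _, k', (fus_ct' cu cw).symm⟩
  · exact ⟨_, k, _, k', (fus_ct cu cw).symm⟩
  · exact ⟨_, k, _, k', by rw [fus_ct cu ((Commute.refl t).mul_right cw), fus_ct' cu cw]⟩

theorem fus_ln {e a : V} (k : Ln P e a) {v : F} (hv : v ≠ 0) : Ln P e (v • a) := by
  simpa using h.ln_smul k one_ne_zero hv 0

theorem exists_inner {g : G} (h1 : g * t * g⁻¹ ≠ t) (h2 : Commute (g * t * g⁻¹) t) :
    ∃ g' l, l * l = 1 ∧ l ≠ 1 ∧ g' * t * g'⁻¹ = t * φ l := by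
  -- `invol'`: inner (use `nL`); field: `fixed_hh`, j = z e 1, j' = x e a, u s u⁻¹ = s j for u = z e θ,
  -- x e (θ • a) and their product (θ + α θ = 1, `aut_two`); Sw: `sw_abs`, j_c = z e c * (s z e c s), c = 1, l:
  -- s Z_e s centralises C_L(x e a) ∋ z e c' (`Y_eq`), z e c * s * z e c = s j_c, j_c ≠ 1 (`z_ne_x`)
  have h' := h.cj g
  have hE := h.toEmb
  have s2 : g * t * g⁻¹ * (g * t * g⁻¹) = 1 := h'.t2
  rcases h.invol' h2 s2 with ⟨l, l2, k | k⟩ | ⟨α, γ, k, α1, α2, γ2⟩ | k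
  · exact (h.nL g ⟨l, k.symm⟩).elim
  · refine ⟨g, l, l2, ?_, k⟩
    rintro rfl
    rw [map_one, mul_one] at k
    exact h1 k
  · obtain ⟨e, f, a, f', l, a1, -, a2, -⟩ := h.fixed_hh k.toSI α1 α2 γ2
    obtain ⟨⟨θ, hθ⟩, -⟩ := h.aut_two α1 α2
    have ln := h.ln_of_hh l
    have k0 : ∀ c : F, P.B e (c • a) = 0 := fun c => by rw [map_smul, l.ee, smul_zero]
    have key : ∀ c d : F, InT (g * t * g⁻¹) (τ C φ e ((c + α c) • a) (d + α d)) := fun c d => by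
      have := fus_int s2 (hE.τ_sq (k0 c) d)
      rwa [hE.act_τ k (k0 c), a1, k.semi, a2, hE.τ_mul (k0 _) (k0 _), h.B_smul_left, map_smul, h.B_self,
        smul_zero, mul_zero, add_zero, ← add_smul, add_comm (α c), add_comm (α d)] at this
    have k1 := key 0 θ
    have k2 := key θ 0
    have k3 := key θ θ
    rw [hθ] at k1 k2 k3
    rw [map_zero, add_zero] at k1 k2
    rw [zero_smul] at k1
    rw [one_smul] at k2 k3
    have c : Commute (z C φ e 1) (x C φ e a) := hE.τ_comm (map_zero _) l.ee _ _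
    refine h.inner_four (g := g) (hE.z_sq e 1) (hE.x_sq l.ee) c (fun e1 => ?_) (fun e1 => ?_) (hE.z_ne_x ln e 1)
      ?_ ?_ k1 k2 (by rwa [c.eq, ← hE.τ_eq l.ee])
    · exact (hE.z_eq_one.1 e1).elim ln.ne one_ne_zero
    · exact ln.nmem ((hE.τ_eq_one ln.ne l.ee).1 e1).1
    · refine Commute.symm (mul_inv_eq_iff_eq_mul.1 ?_)
      rw [hE.act_z k, a1, map_one]
    · refine Commute.symm (mul_inv_eq_iff_eq_mul.1 ?_)
      rw [hE.act_x k l.ee, a1, a2]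
  · obtain ⟨e, a, ln, e1⟩ := hE.sw_abs k s2
    obtain ⟨l, l0, l1⟩ := h.exists_big'
    generalize hs : g * t * g⁻¹ = s at *
    have si : s⁻¹ = s := inv_eq_of_mul_eq_one_right s2
    have cm : ∀ c d : F, Commute (s * z C φ e d * s⁻¹) (z C φ e c) := fun c d => by
      have c1 : Commute (z C φ e c) (x C φ e a) := hE.τ_comm (map_zero _) ln.perp _ _
      have m : s⁻¹ * z C φ e c * s ∈ Yg C φ (span F {e}) := by
        rw [hE.Y_eq ln.ne]
        refine ⟨(mem_normalizer_iff''.1 k.nL _).1 ⟨_, rfl⟩, mem_centralizer_singleton_iff.2 ?_⟩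
        calc _ = s⁻¹ * (z C φ e c * (s * z C φ e 1 * s⁻¹)) * s := by group
          _ = s⁻¹ * (s * z C φ e 1 * s⁻¹ * z C φ e c) * s := by rw [e1, c1.eq]
          _ = _ := by group
      have := hE.E_cent (h.ti_pt e) (hE.mem_Z.2 ⟨d, rfl⟩) _ m
      calc s * z C φ e d * s⁻¹ * z C φ e c = s * (z C φ e d * (s⁻¹ * z C φ e c * s)) * s⁻¹ := by group
        _ = _ := by rw [← this]; group
    have ad : ∀ c d : F, s * z C φ e c * s⁻¹ * z C φ e c * (s * z C φ e d * s⁻¹ * z C φ e d) =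
        s * z C φ e (c + d) * s⁻¹ * z C φ e (c + d) := fun c d => by
      rw [(cm c d).symm.mul_mul_mul_comm, conj_mul, hE.z_add]
    have z0 : s * z C φ e 0 * s⁻¹ * z C φ e 0 = 1 := by rw [hE.z_zero]; group
    have ne : ∀ c : F, c ≠ 0 → s * z C φ e c * s⁻¹ * z C φ e c ≠ 1 := fun c c0 e2 => by
      obtain ⟨ρ, rfl⟩ := h.exists_sqrt c
      have hρ : ρ ≠ 0 := fun e1 => c0 (by rw [e1, mul_zero])
      obtain ⟨p, b, lp, e3⟩ := k.za _ (smul_ne_zero hρ ln.ne)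
      rw [hE.z_smul, mul_one] at e3
      rw [e3, mul_eq_one_iff_eq_inv, inv_eq_of_mul_eq_one_right (hE.z_sq e _)] at e2
      exact hE.z_ne_x lp _ _ e2.symm
    have cs : ∀ c : F, Commute (s * z C φ e c * s⁻¹ * z C φ e c) s := fun c => by
      refine Commute.symm (mul_inv_eq_iff_eq_mul.1 ?_)
      calc _ = s * s * z C φ e c * (s * s)⁻¹ * (s * z C φ e c * s⁻¹) := by group
        _ = _ := by rw [s2, inv_one, one_mul, mul_one, (cm c c).eq]
    subst hs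
    refine h.inner_four (g := g) (by rw [ad, h.add_self, z0]) (by rw [ad, h.add_self, z0])
      (by rw [Commute, SemiconjBy, ad, ad, add_comm]) (ne 1 one_ne_zero) (ne l l0) (fun e2 => ?_) (cs 1) (cs l)
      (fus_int s2 (hE.z_sq e 1)) (fus_int s2 (hE.z_sq e l)) (by rw [ad]; exact fus_int s2 (hE.z_sq e _))
    refine ne (1 + l) (fun e3 => l1 (h.eq_of_add e3).symm) ?_
    rw [← ad, e2, ad, h.add_self, z0]

theorem tc_imp (hc : Tc C φ t) : Tz C φ t ∨ Ta C φ t := by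
  -- s = t c, c = z e 1 * x e a (`tc_iff`, `τ_eq`); n from `nu12`; y = z e r with r ≠ 0, 1: t c y ~ t (`tc_iff`)
  -- and n⁻¹ (t c y) n = t (n⁻¹ y n); n normalises L ∩ ... : n⁻¹ y n ∈ (Q_e⟨t⟩ ∩ E(l)⟨t⟩) is in [B₁, B₂] ≤ L so in
  -- Q_e ∩ E(l), ≠ 1, and is not a commutator ⁅u, v⁆ (u ∈ Q_e⟨t⟩, v ∈ E(l)⟨t⟩) as y is not (`comm_QE`): so
  -- it is z e r' or x e (v • a)
  have hE := h.toEmb
  obtain ⟨e, h0⟩ := h.g2_ne
  obtain ⟨a, k⟩ := h.exists_ln h0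
  obtain ⟨r, r0, r1⟩ := h.exists_big'
  have QL : Rg C φ (span F {e}) ≤ φ.range := map_le_range φ _
  have EL : Eg C φ (span F {e, a}) ≤ φ.range := map_le_range φ _
  have c1 : ∀ c v : F, Commute (z C φ e c) (x C φ e (v • a)) := fun c v =>
    hE.τ_comm (map_zero _) (by rw [map_smul, k.perp, smul_zero]) _ _
  have m1 : τ C φ e a 1 ∈ Rg C φ (span F {e}) ⊓ Eg C φ (span F {e, a}) :=
    (hE.mem_QE k).2 ⟨1, 1, by rw [(c1 1 1).eq, one_smul, hE.τ_eq k.perp]⟩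
  obtain ⟨g, hg⟩ := (h.tc_iff k one_ne_zero).1 hc
  obtain ⟨n, n1, n2, en⟩ := h.nu12 k (g := g)
    (hg ▸ mul_mem (mem_sup_right (mem_zpowers t)) (mem_sup_left m1.1))
    (hg ▸ mul_mem (mem_sup_right (mem_zpowers t)) (mem_sup_left m1.2))
  rw [hg] at en
  have k1 : InT t (n⁻¹ * z C φ e r * n) := by
    rw [InT.move en, show n * (n⁻¹ * z C φ e r * n) * n⁻¹ = z C φ e r by group, hE.τ_eq k.perp, mul_assoc,
      ← hE.z_add, ← hE.τ_eq k.perp]
    exact (h.tc_iff k fun e3 => r1 (h.eq_of_add e3).symm).1 hc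
  have y0 : z C φ e r = z C φ e r * x C φ e ((0 : F) • a) := by rw [zero_smul, hE.x_zero, mul_one]
  have k2 : n⁻¹ * z C φ e r * n ∈ Rg C φ (span F {e}) ⊓ Eg C φ (span F {e, a}) := by
    have := (mem_normalizer_iff''.1 (loc_ncomm n1 n2) _).1
      (h.loc_comm QL EL ▸ hE.QE_le_comm k ((hE.mem_QE k).2 ⟨r, 0, y0⟩))
    rw [h.loc_comm QL EL] at this
    refine commutator_le.2 (fun u hu w hw => ?_) this
    rcases (hE.comm_QE k).1 ⟨u, hu, w, hw, rfl⟩ with e1 | ⟨r', v, -, -, e1⟩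
    · exact e1 ▸ one_mem _
    · exact (hE.mem_QE k).2 ⟨r', v, e1⟩
  obtain ⟨r', v, e1⟩ := (hE.mem_QE k).1 k2
  have y1 : z C φ e r ≠ 1 := fun e2 => (hE.z_eq_one.1 e2).elim h0 r0
  by_cases v0 : v = 0
  · rw [v0, zero_smul, hE.x_zero, mul_one] at e1
    refine .inl ((h.tz_iff h0 (c := r') ?_).2 (e1 ▸ k1))
    rintro rfl
    rw [hE.z_zero, mul_assoc, inv_mul_eq_one, eq_comm, mul_eq_right] at e1
    exact y1 e1
  by_cases r0' : r' = 0
  · rw [r0', hE.z_zero, one_mul] at e1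
    exact .inr ⟨e, _, h.fus_ln k v0, e1 ▸ k1⟩
  obtain ⟨u, hu, w, hw, e2⟩ := (hE.comm_QE k).2 (.inr ⟨r', v, r0', v0, e1⟩)
  obtain ⟨u', hu', w', hw', e3⟩ := h.fus_dec QL EL ((mem_normalizer_iff.1 n1 u).1 (mem_sup_left hu))
    ((mem_normalizer_iff.1 n2 w).1 (mem_sup_left hw))
  have e4 : z C φ e r = ⁅u', w'⁆ := by
    rw [← e3, ← conjugate_commutatorElement, ← e2]; group
  rcases (hE.comm_QE k).1 ⟨u', hu', w', hw', e4⟩ with e5 | ⟨r'', v', -, v1, e5⟩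
  · exact (y1 e5).elim
  · exact (v1 (hE.line_inj k (r' := 0) (s' := 0) (congrArg (· * z C φ a 0) (y0.symm.trans e5))).2.1.symm).elim

theorem fus2 {Gs : Subgroup G} (hG : SLE.Glob Gs t) (hL : φ.range ≤ Gs) : Tz C φ t ∨ Ta C φ t := by
  -- `exists_comm`, `exists_inner`, `invol_cls`, `tz_iff`, `ta_iff`, `tc_iff`, `tc_imp`
  have hE := h.toEmb
  obtain ⟨g, h1, h2⟩ := h.exists_comm hG hL
  obtain ⟨g', l, l2, l1, k1⟩ := h.exists_inner h1 h2
  obtain ⟨e, h0⟩ := h.g2_ne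
  obtain ⟨a, k⟩ := h.exists_ln h0
  obtain ⟨s, r, v, e1⟩ := hE.invol_cls k l2
  have k2 := InT.conj ⟨g', k1⟩ (h.tl s)
  rw [e1] at k2
  by_cases v0 : v = 0
  · rw [v0, zero_smul, hE.x_zero, mul_one] at e1 k2
    refine .inl ((h.tz_iff h0 (c := r) ?_).2 k2)
    rintro rfl
    rw [hE.z_zero, conj_eq_one_iff, map_eq_one_iff φ h.inj] at e1
    exact l1 e1
  have k' := h.fus_ln k v0
  by_cases r0 : r = 0
  · rw [r0, hE.z_zero, one_mul] at k2
    exact .inr ⟨e, _, k', k2⟩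
  have c : Commute (z C φ e r) (x C φ e (v • a)) := hE.τ_comm (map_zero _) k'.perp _ _
  exact h.tc_imp ((h.tc_iff k' r0).2 (by rwa [hE.τ_eq k'.perp, ← c.eq]))

end Sit

end CfsgLib.SP4
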