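import Cfsg.Agent.Lib.SP4.GeoA
import Cfsg.Agent.Lib.UN.Geo

/-! The geometry of the symplectic space -/

set_option autoImplicit false
set_option linter.unusedSectionVars false

namespace CfsgLib.SP4

open Subgroup Module CfsgLib.Forms CfsgLib.LieMult
open CfsgLib.HX (Std CO Two Mv M2)
open CfsgLib.UN (AV SI TI HH Rad Stb Yg Rg Eg Act nu)
open CfsgLib.ClSys (II)
open Submodule (span)
open scoped commutatorElement Pointwise

universe u

variable {F : Type} [Field F] [Finite F] {V : Type} [AddCommGroup V] [Module F V]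
  [FiniteDimensional F V] {P : PQ (RingHom.id F) V} {S : Type} [Group S] [Finite S] {G : Type u}
  [Group G] [Finite G] {C : CG P S} {φ : S →* G} {t : G}

namespace Mod

variable (h : Mod C)
include h

theorem witt {ι : Type} {v v' : ι → V} (hv : LinearIndependent F v) (hv' : LinearIndependent F v')
    (hB : ∀ i j, P.B (v' i) (v' j) = P.B (v i) (v j)) : ∃ s, ∀ i, C.act s (v i) = v' i := by
  obtain ⟨g, hg, a⟩ := P.witt_family C.nondeg v v' hv hv' hB fun i => by rw [h.lam]; trivial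
  obtain ⟨s, hs⟩ := h.full g.toLinearMap hg.B_eq
  exact ⟨s, fun i => by rw [hs]; exact a i⟩

omit h in
theorem g2_li {ι : Type} [Finite ι] [DecidableEq ι] {v w : ι → V}
    (H : ∀ i j, P.B (w i) (v j) = if i = j then 1 else 0) : LinearIndependent F v := by
  let _ := Fintype.ofFinite ι
  refine Fintype.linearIndependent_iff.2 fun g hg i => ?_
  have := congrArg (P.B (w i)) hg
  simpa [map_sum, H] using this

theorem trans_hp {e f e' f' : V} (k : P.B e f = 1) (k' : P.B e' f' = 1) :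
    ∃ s, C.act s e = e' ∧ C.act s f = f' := by
  have a : ∀ {e f : V}, P.B e f = 1 → LinearIndependent F ![e, f] := fun {e f} k =>
    g2_li (P := P) (w := ![f, e]) (by
      intro i j; fin_cases i <;> fin_cases j <;> simp [h.B_self, k, h.B_comm f e])
  obtain ⟨s, hs⟩ := h.witt (a k) (a k') (by
    intro i j; fin_cases i <;> fin_cases j <;> simp [h.B_self, k, k', h.B_comm f e, h.B_comm f' e'])
  exact ⟨s, hs 0, hs 1⟩

theorem trans {e e' : V} (h0 : e ≠ 0) (h0' : e' ≠ 0) : ∃ s, C.act s e = e' := by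
  obtain ⟨f, hf⟩ := h.exists_hp h0
  obtain ⟨f', hf'⟩ := h.exists_hp h0'
  obtain ⟨s, hs, -⟩ := h.trans_hp hf hf'
  exact ⟨s, hs⟩

theorem trans_ln {e a e' a' : V} (k : Ln P e a) (k' : Ln P e' a') :
    ∃ s, C.act s e = e' ∧ C.act s a = a' := by
  obtain ⟨s, hs⟩ := h.witt (UN.Mod.li_pair k.ne k.nmem) (UN.Mod.li_pair k'.ne k'.nmem) (by
    intro i j; fin_cases i <;> fin_cases j <;>
      simp [h.B_self, k.perp, k'.perp, h.B_comm a e, h.B_comm a' e'])
  exact ⟨s, hs 0, hs 1⟩

theorem trans_hh {e f e' f' a b a' b' : V} (k : HH P e f e' f') (k' : HH P a b a' b') :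
    ∃ s, C.act s e = a ∧ C.act s f = b ∧ C.act s e' = a' ∧ C.act s f' = b' := by
  have c : ∀ {e f e' f' : V}, HH P e f e' f' → ∀ i j : Fin 4,
      P.B (![e, f, e', f'] i) (![e, f, e', f'] j) = if (![1, 0, 3, 2] : Fin 4 → Fin 4) i = j then 1 else 0 :=
    fun {e f e' f'} k i j => by
      fin_cases i <;> fin_cases j <;>
        simp [h.B_self, k.h₁.ef, k.h₁.fe, k.h₂.ef, k.h₂.fe, k.ee, k.ef, k.fe, k.ff, k.symm.ee,
          k.symm.ef, k.symm.fe, k.symm.ff]
  have d : ∀ {e f e' f' : V}, HH P e f e' f' → LinearIndependent F ![e, f, e', f'] :=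
    fun {e f e' f'} k => g2_li (P := P) (w := fun i => ![e, f, e', f'] ((![1, 0, 3, 2] : Fin 4 → Fin 4) i))
      fun i j => by
        rw [c k]
        fin_cases i <;> rfl
  obtain ⟨s, hs⟩ := h.witt (d k) (d k') fun i j => by rw [c k, c k']
  exact ⟨s, hs 0, hs 1, hs 2, hs 3⟩

/-- a diagonalisable element has odd order -/
theorem odd_of_diag {s : S} (H : ∀ v, v ∈ span F {w | ∃ l : F, C.act s w = l • w}) :
    Odd (orderOf s) := by
  refine h.odd_card.of_dvd_nat (orderOf_dvd_of_pow_eq_one (C.ext fun v => ?_))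
  rw [C.one_apply]
  refine Submodule.span_induction (p := fun v _ => C.act (s ^ (Nat.card F - 1)) v = v) ?_ (map_zero _)
    (fun x y _ _ a b => by rw [map_add, a, b]) (fun c x _ a => by rw [map_smul, a]) (H v)
  rintro w ⟨l, hl⟩
  have a1 : ∀ n : ℕ, C.act (s ^ n) w = l ^ n • w := fun n => by
    induction n with
    | zero => simp
    | succ n ih => rw [pow_succ, C.mul_apply, hl, map_smul, ih, smul_smul, pow_succ']
  by_cases l0 : l = 0
  · rw [l0, zero_smul, LinearEquiv.map_eq_zero_iff] at hl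
    rw [hl, map_zero]
  · let _ := Fintype.ofFinite F
    rw [a1, Nat.card_eq_fintype_card, FiniteField.pow_card_sub_one_eq_one l l0, one_smul]

/-- a matrix on `e, e'` and its inverse transpose on `f, f'` -/
theorem g2_gl {e f e' f' : V} (k : HH P e f e' f') {a b c d p q r u : F} (e1 : a * p + b * q = 1)
    (e2 : c * p + d * q = 0) (e3 : a * r + b * u = 0) (e4 : c * r + d * u = 1) :
    ∃ s, C.act s e = a • e + b • e' ∧ C.act s e' = c • e + d • e' ∧
      C.act s f = p • f + q • f' ∧ C.act s f' = r • f + u • f' ∧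
      ∀ v, P.B e v = 0 → P.B f v = 0 → P.B e' v = 0 → P.B f' v = 0 → C.act s v = v := by
  obtain ⟨s, hs⟩ := h.full (LinearMap.id + (P.B f).smulRight ((a - 1) • e + b • e') +
    (P.B f').smulRight (c • e + (d - 1) • e') + (P.B e).smulRight ((p - 1) • f + q • f') +
    (P.B e').smulRight (r • f + (u - 1) • f')) fun x y => by
      simp only [LinearMap.add_apply, LinearMap.id_apply, LinearMap.smulRight_apply, map_add,
        map_smul, LinearMap.smul_apply, smul_eq_mul, h.B_self, k.h₁.ef, k.h₁.fe, k.h₂.ef, k.h₂.fe,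
        k.ee, k.ef, k.fe, k.ff, k.symm.ee, k.symm.ef, k.symm.fe, k.symm.ff, h.B_comm x e,
        h.B_comm x f, h.B_comm x e', h.B_comm x f']
      linear_combination (P.B e x * P.B f y + P.B e y * P.B f x) * e1 +
        (P.B e x * P.B f' y + P.B e y * P.B f' x) * e2 +
        (P.B e' x * P.B f y + P.B e' y * P.B f x) * e3 +
        (P.B e' x * P.B f' y + P.B e' y * P.B f' x) * e4
  simp only [LinearMap.add_apply, LinearMap.id_apply, LinearMap.smulRight_apply] at hs
  refine ⟨s, ?_, ?_, ?_, ?_, fun v b1 b2 b3 b4 => by rw [hs]; simp [b1, b2, b3, b4]⟩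
  all_goals
    rw [hs]
    simp only [h.B_self, k.h₁.ef, k.h₁.fe, k.h₂.ef, k.h₂.fe, k.ee, k.ef, k.fe, k.ff, k.symm.ee,
      k.symm.ef, k.symm.fe, k.symm.ff]
    module

theorem exists_diag {e f e' f' : V} (k : HH P e f e' f') {l l' : F} (h0 : l ≠ 0) (h0' : l' ≠ 0) :
    ∃ s, Odd (orderOf s) ∧ C.act s e = l • e ∧ C.act s f = l⁻¹ • f ∧ C.act s e' = l' • e' ∧
      C.act s f' = l'⁻¹ • f' ∧
      ∀ v, P.B e v = 0 → P.B f v = 0 → P.B e' v = 0 → P.B f' v = 0 → C.act s v = v := by
  obtain ⟨s, a1, a3, a2, a4, a5⟩ := h.g2_gl k (a := l) (b := 0) (c := 0) (d := l') (p := l⁻¹) (q := 0)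
    (r := 0) (u := l'⁻¹) (by simp [h0]) (by simp) (by simp) (by simp [h0'])
  simp only [zero_smul, add_zero, zero_add] at a1 a2 a3 a4
  refine ⟨s, h.odd_of_diag fun v => ?_, a1, a2, a3, a4, a5⟩
  obtain ⟨w, b1, b2, b3, b4, b5⟩ := h.hh_decomp k v
  rw [b5]
  refine add_mem (add_mem (add_mem (add_mem ?_ ?_) ?_) ?_) ?_
  · exact Submodule.subset_span ⟨1, by rw [a5 w b1 b2 b3 b4, one_smul]⟩
  exacts [Submodule.smul_mem _ _ (Submodule.subset_span ⟨_, a1⟩),
    Submodule.smul_mem _ _ (Submodule.subset_span ⟨_, a2⟩),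
    Submodule.smul_mem _ _ (Submodule.subset_span ⟨_, a3⟩),
    Submodule.smul_mem _ _ (Submodule.subset_span ⟨_, a4⟩)]

theorem exists_diag1 {e f : V} (k : P.B e f = 1) {l : F} (h0 : l ≠ 0) :
    ∃ s, Odd (orderOf s) ∧ C.act s e = l • e ∧ C.act s f = l⁻¹ • f ∧
      ∀ v, P.B e v = 0 → P.B f v = 0 → C.act s v = v := by
  obtain ⟨e', f', k'⟩ := h.exists_hh k
  obtain ⟨s, a0, a1, a2, a3, a4, a5⟩ := h.exists_diag k' h0 one_ne_zero
  refine ⟨s, a0, a1, a2, fun v b1 b2 => ?_⟩
  obtain ⟨w, c1, c2, c3, c4, c5⟩ := h.hh_decomp k' v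
  rw [b1, b2, zero_smul, zero_smul, add_zero, add_zero] at c5
  rw [inv_one, one_smul] at a4
  rw [one_smul] at a3
  conv_lhs => rw [c5]
  rw [map_add, map_add, map_smul, map_smul, a3, a4, a5 w c1 c2 c3 c4, ← c5]

/-- the Levi factor of a line: any invertible matrix on `e, e'` -/
theorem exists_gl2 {e f e' f' : V} (k : HH P e f e' f') {a b c d : F} (hd : a * d + b * c ≠ 0) :
    ∃ s, C.act s e = a • e + b • e' ∧ C.act s e' = c • e + d • e' ∧
      C.act s f ∈ span F {f, f'} ∧ C.act s f' ∈ span F {f, f'} ∧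
      ∀ v, P.B e v = 0 → P.B f v = 0 → P.B e' v = 0 → P.B f' v = 0 → C.act s v = v := by
  have e0 := mul_inv_cancel₀ hd
  obtain ⟨s, a1, a2, a3, a4, a5⟩ := h.g2_gl k (a := a) (b := b) (c := c) (d := d)
    (p := d * (a * d + b * c)⁻¹) (q := c * (a * d + b * c)⁻¹) (r := b * (a * d + b * c)⁻¹)
    (u := a * (a * d + b * c)⁻¹) (by linear_combination e0)
    (by linear_combination (c * d * (a * d + b * c)⁻¹) * h.two)
    (by linear_combination (a * b * (a * d + b * c)⁻¹) * h.two) (by linear_combination e0)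
  exact ⟨s, a1, a2, Submodule.mem_span_pair.2 ⟨_, _, a3.symm⟩,
    Submodule.mem_span_pair.2 ⟨_, _, a4.symm⟩, a5⟩

theorem mem_perp_span {s : Set V} {v : V} : v ∈ P.perp (span F s) ↔ ∀ a ∈ s, P.B a v = 0 := by
  have _ := h
  exact P.mem_perp_span

theorem perp_perp (U : Submodule F V) : P.perp (P.perp U) = U := by
  have _ := h
  exact P.perp_perp C.nondeg U

theorem rank_perp (U : Submodule F V) : finrank F U + finrank F (P.perp U) = finrank F V := by
  have _ := h
  exact P.finrank_perp C.nondeg U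

theorem exists_lag {U : Submodule F V} (hU : TI P U) : ∃ M, Lag P M ∧ U ≤ M := by
  obtain ⟨W, hW, hmax⟩ := set_has_maximal_iff_noetherian.2 (inferInstance : IsNoetherian F V)
    {W | TI P W ∧ U ≤ W} ⟨U, hU, le_rfl⟩
  refine ⟨W, le_antisymm (fun w hw => ?_) hW.1, hW.2⟩
  by_contra H
  refine hmax (W ⊔ span F {w}) ⟨?_, hW.2.trans le_sup_left⟩
    (left_lt_sup.2 fun h' => H (h' (Submodule.mem_span_singleton_self w)))
  have a : span F {w} ≤ P.perp W := (Submodule.span_singleton_le_iff_mem _ _).2 hw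
  unfold TI
  rw [P.perp_sup]
  exact sup_le (le_inf hW.1 (P.le_perp_comm.1 a)) (le_inf a
    ((Submodule.span_singleton_le_iff_mem _ _).2 (P.mem_perp_span_singleton.2 (h.B_self w))))

theorem lag_ti {M : Submodule F V} (hM : Lag P M) : TI P M := by
  have _ := h
  exact le_of_eq (Eq.symm hM)

theorem lag_rank {M : Submodule F V} (hM : Lag P M) : 2 * finrank F M = finrank F V := by
  have a := h.rank_perp M
  rw [show P.perp M = M from hM] at a
  omega

omit h in
theorem g2_bas (M : Submodule F V) {k : ℕ} (hk : finrank F M = k) :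
    ∃ b : Fin k → V, LinearIndependent F b ∧ span F (Set.range b) = M := by
  let b := finBasisOfFinrankEq F M hk
  refine ⟨fun i => (b i : V), b.linearIndependent.map' M.subtype M.ker_subtype, ?_⟩
  have := congrArg (Submodule.map M.subtype) b.span_eq
  rwa [Submodule.map_span, ← Set.range_comp, Submodule.map_subtype_top] at this

omit h in
theorem g2_B {M : Submodule F V} (hM : Lag P M) {u v : V} (hu : u ∈ M) (hv : v ∈ M) : P.B u v = 0 :=
  P.mem_perp.1 (show v ∈ P.perp M by rw [show P.perp M = M from hM]; exact hv) u hu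

omit h in
theorem g2_mem {M : Submodule F V} (hM : Lag P M) {v : V} (hv : ∀ u ∈ M, P.B u v = 0) : v ∈ M := by
  rw [← show P.perp M = M from hM]; exact hv

theorem lag_compl {M : Submodule F V} (hM : Lag P M) : ∃ M', Lag P M' ∧ IsCompl M M' := by
  obtain ⟨b, b1, b2⟩ := g2_bas M rfl
  have bm : ∀ i, b i ∈ M := fun i => b2 ▸ Submodule.subset_span ⟨i, rfl⟩
  obtain ⟨f, f1, f2⟩ := h.exists_partners b1 fun i j => g2_B hM (bm i) (bm j)
  have a1 : TI P (span F (Set.range f)) := Submodule.span_le.2 (by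
    rintro _ ⟨i, rfl⟩
    exact P.mem_perp_span.2 (by rintro _ ⟨j, rfl⟩; exact f1 j i))
  have a2 : finrank F (span F (Set.range f)) = finrank F M := by
    rw [finrank_span_eq_card (g2_li f2), Fintype.card_fin]
  have a3 : Lag P (span F (Set.range f)) := (Submodule.eq_of_le_of_finrank_eq a1 (by
    have := h.rank_perp (span F (Set.range f))
    have := h.lag_rank hM
    omega)).symm
  have a4 : Disjoint M (span F (Set.range f)) := Submodule.disjoint_def.2 fun v hv hv' => by
    obtain ⟨c, rfl⟩ := (Submodule.mem_span_range_iff_exists_fun F).1 hv'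
    refine Finset.sum_eq_zero fun i _ => ?_
    have := g2_B hM (bm i) hv
    simp only [map_sum, map_smul, f2, smul_eq_mul, mul_ite, mul_one, mul_zero, Finset.sum_ite_eq,
      Finset.mem_univ, if_true] at this
    rw [this, zero_smul]
  refine ⟨_, a3, a4, codisjoint_iff.2 ?_⟩
  rw [← h.perp_perp (M ⊔ _), P.perp_sup, show P.perp M = M from hM,
    show P.perp (span F (Set.range f)) = _ from a3, a4.eq_bot, P.perp_bot]

theorem trans_lag {M M' : Submodule F V} (hM : Lag P M) (hM' : Lag P M') :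
    ∃ s, ∀ v, C.act s v ∈ M' ↔ v ∈ M := by
  obtain ⟨b, b1, b2⟩ := g2_bas M rfl
  obtain ⟨b', c1, c2⟩ := g2_bas M' (k := finrank F M) (by
    have := h.lag_rank hM
    have := h.lag_rank hM'
    omega)
  have bm : ∀ i, b i ∈ M := fun i => b2 ▸ Submodule.subset_span ⟨i, rfl⟩
  have cm : ∀ i, b' i ∈ M' := fun i => c2 ▸ Submodule.subset_span ⟨i, rfl⟩
  obtain ⟨s, hs⟩ := h.witt b1 c1 fun i j => by rw [g2_B hM (bm i) (bm j), g2_B hM' (cm i) (cm j)]
  refine ⟨s, fun v => ?_⟩
  rw [← show P.perp M = M from hM, ← show P.perp M' = M' from hM', ← c2]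
  conv_rhs => rw [← b2]
  simp only [P.mem_perp_span, Set.forall_mem_range, ← hs, C.B_act]

/-- the dual basis inside a complementary Lagrangian -/
theorem g2_dual {M M' : Submodule F V} (hM : Lag P M) (hc : IsCompl M M') {k : ℕ} {b : Fin k → V}
    (b1 : LinearIndependent F b) (b2 : span F (Set.range b) = M) :
    ∃ f : Fin k → V, (∀ j, f j ∈ M') ∧ (∀ i j, P.B (b i) (f j) = if i = j then 1 else 0) ∧
      ∀ v ∈ M', v = ∑ j, P.B (b j) v • f j := by
  have bm : ∀ i, b i ∈ M := fun i => b2 ▸ Submodule.subset_span ⟨i, rfl⟩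
  have a : ∀ j, ∃ f ∈ M', ∀ i, P.B (b i) f = if i = j then 1 else 0 := fun j => by
    obtain ⟨w, hw⟩ := h.exists_dual b1 fun i => if i = j then 1 else 0
    obtain ⟨m, hm, m', hm', rfl⟩ := Submodule.mem_sup.1 (show w ∈ M ⊔ M' by
      rw [hc.sup_eq_top]; trivial)
    exact ⟨m', hm', fun i => by rw [← hw i, map_add, g2_B hM (bm i) hm, zero_add]⟩
  choose f f1 f2 using a
  refine ⟨f, f1, fun i j => f2 j i, fun v hv => sub_eq_zero.1 (Submodule.disjoint_def.1 hc.disjoint _ ?_
    (sub_mem hv (Submodule.sum_mem _ fun j _ => Submodule.smul_mem _ _ (f1 j))))⟩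
  rw [← show P.perp M = M from hM, ← b2, P.mem_perp_span]
  rintro _ ⟨i, rfl⟩
  simp [map_sum, f2]

/-- the Levi factor `GL(M)` -/
theorem exists_levi {M M' : Submodule F V} (hM : Lag P M) (hM' : Lag P M') (hc : IsCompl M M') :
    ∃ ι : (M ≃ₗ[F] M) →* S, (∀ g (v : M), C.act (ι g) v = g v) ∧
      ∀ g, ∀ v ∈ M', C.act (ι g) v ∈ M' := by
  have ex : ∀ g : M ≃ₗ[F] M, ∃ s, (∀ v : M, C.act s v = g v) ∧ ∀ v ∈ M', C.act s v ∈ M' := fun g => by
    let b0 := finBasis F M
    have key : ∀ b0 : Basis (Fin (finrank F M)) F M, LinearIndependent F (fun i => (b0 i : V)) ∧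
        span F (Set.range fun i => (b0 i : V)) = M := fun b0 =>
      ⟨b0.linearIndependent.map' M.subtype M.ker_subtype, by
        have := congrArg (Submodule.map M.subtype) b0.span_eq
        rwa [Submodule.map_span, ← Set.range_comp, Submodule.map_subtype_top] at this⟩
    obtain ⟨f, f1, f2, f3⟩ := h.g2_dual hM hc (key b0).1 (key b0).2
    obtain ⟨f', g1, g2, -⟩ := h.g2_dual hM hc (key (b0.map g)).1 (key (b0.map g)).2
    have c : ∀ (b : Fin (finrank F M) → M) (f : Fin (finrank F M) → V), (∀ j, f j ∈ M') →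
        (∀ i j, P.B (b i) (f j) = if i = j then 1 else 0) → ∀ i j,
        P.B (Sum.elim (fun i => (b i : V)) f i) (Sum.elim (fun i => (b i : V)) f j) =
          if i.swap = j then 1 else 0 := by
      rintro b f f1 f2 (i | i) (j | j)
      · simpa using g2_B hM (b i).2 (b j).2
      · simpa using f2 i j
      · rw [Sum.elim_inr, Sum.elim_inl, h.B_comm, f2]
        simp [eq_comm]
      · simpa using g2_B hM' (f1 i) (f1 j)
    have d : ∀ (b : Fin (finrank F M) → M) (f : Fin (finrank F M) → V), (∀ j, f j ∈ M') →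
        (∀ i j, P.B (b i) (f j) = if i = j then 1 else 0) →
        LinearIndependent F (Sum.elim (fun i => (b i : V)) f) := fun b f f1 f2 =>
      g2_li (P := P) (w := fun i => Sum.elim (fun i => (b i : V)) f i.swap) fun i j => by
        rw [c b f f1 f2, Sum.swap_swap]
    obtain ⟨s, hs⟩ := h.witt (d b0 f f1 f2) (d (b0.map g) f' g1 g2) fun i j => by
      rw [c b0 f f1 f2, c (b0.map g) f' g1 g2]
    refine ⟨s, fun v => ?_, fun v hv => ?_⟩
    · have := b0.ext (f₁ := (C.act s).toLinearMap ∘ₗ M.subtype) (f₂ := M.subtype ∘ₗ g.toLinearMap)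
        fun i => hs (.inl i)
      exact LinearMap.congr_fun this v
    · rw [f3 v hv, map_sum]
      refine Submodule.sum_mem _ fun j _ => ?_
      rw [map_smul, show C.act s (f j) = f' j from hs (.inr j)]
      exact Submodule.smul_mem _ _ (g1 j)
  have un : ∀ (g : M ≃ₗ[F] M) (s s' : S), (∀ v : M, C.act s v = g v) → (∀ v ∈ M', C.act s v ∈ M') →
      (∀ v : M, C.act s' v = g v) → (∀ v ∈ M', C.act s' v ∈ M') → s = s' := by
    intro g s s' a1 a2 a3 a4
    refine C.ext fun v => ?_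
    obtain ⟨m, hm, m', hm', rfl⟩ := Submodule.mem_sup.1 (show v ∈ M ⊔ M' by
      rw [hc.sup_eq_top]; trivial)
    rw [map_add, map_add, a1 ⟨m, hm⟩, a3 ⟨m, hm⟩, add_right_inj]
    refine sub_eq_zero.1 (Submodule.disjoint_def.1 hc.disjoint _ (g2_mem hM fun u hu => ?_)
      (sub_mem (a2 _ hm') (a4 _ hm')))
    obtain ⟨u0, hu0⟩ := g.surjective ⟨u, hu⟩
    have e : u = g u0 := (congrArg Subtype.val hu0).symm
    rw [map_sub]
    nth_rewrite 1 [e, ← a1]
    rw [e, ← a3, C.B_act, C.B_act, sub_self]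
  choose ι i1 i2 using ex
  refine ⟨MonoidHom.mk' ι fun g g' => un (g * g') _ _ (i1 _) (i2 _) (fun v => ?_) fun v hv => ?_, i1, i2⟩
  · rw [C.mul_apply, i1, i1]; rfl
  · rw [C.mul_apply]; exact i2 _ _ (i2 _ _ hv)

theorem frame_V0 {k : ℕ} (Fr : Frame P k) : Fr.V0 = ⊥ :=
  eq_bot_iff.2 fun w hw => Fr.aniso w (Fr.mem_V0.1 hw) (h.sing w)

theorem g2_decomp {k : ℕ} (Fr : Frame P k) (x : V) : x = ∑ b, P.B (Fr.v b.swap) x • Fr.v b := by
  have := Fr.decomp x
  rw [h.frame_V0, Submodule.mem_bot] at this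
  exact sub_eq_zero.1 this

theorem exists_frame {k : ℕ} (hk : finrank F V = 2 * k) : Nonempty (Frame P k) := by
  obtain ⟨m, ⟨Fr⟩⟩ := LieMult.exists_frame (P := P) C.ε1 C.nondeg
  have a1 : LinearIndependent F Fr.v := g2_li (P := P) (w := fun a => Fr.v a.swap) fun a b => by
    rw [Fr.B_v]
    simp only [Sum.swap_leftInverse.injective.eq_iff]
  have a2 : span F (Set.range Fr.v) = ⊤ := eq_top_iff.2 fun x _ => by
    rw [h.g2_decomp Fr x]
    exact Submodule.sum_mem _ fun b _ => Submodule.smul_mem _ _ (Submodule.subset_span ⟨b, rfl⟩)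
  have a3 := finrank_span_eq_card a1
  rw [a2, finrank_top, Fintype.card_sum, Fintype.card_fin] at a3
  obtain rfl : m = k := by omega
  exact ⟨Fr⟩

/-- the quadratic form of a frame -/
theorem exists_qf {k : ℕ} (Fr : Frame P k) : ∃ Q, QF P Q ∧ ∀ a, Q (Fr.v a) = 0 := by
  refine ⟨fun v => ∑ i, P.B (Fr.v (.inl i)) v * P.B (Fr.v (.inr i)) v, ⟨fun u v => ?_, fun c v => ?_⟩,
    fun a => Finset.sum_eq_zero fun i _ => ?_⟩
  · have e : P.B u v = ∑ b, P.B (Fr.v b.swap) u * P.B (Fr.v b) v := by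
      conv_lhs => rw [h.g2_decomp Fr u]
      simp only [map_sum, map_smul, LinearMap.sum_apply, LinearMap.smul_apply, smul_eq_mul]
    rw [e, Fintype.sum_sum_type]
    simp only [Sum.swap_inl, Sum.swap_inr, map_add, ← Finset.sum_add_distrib]
    exact Finset.sum_congr rfl fun i _ => by ring
  · rw [Finset.mul_sum]
    exact Finset.sum_congr rfl fun i _ => by simp only [map_smul, smul_eq_mul]; ring
  · rcases a with j | j <;> simp [Fr.B_v]

theorem g2_ne : ∃ e : V, e ≠ 0 := by
  have : Nontrivial V := Module.nontrivial_of_finrank_pos (R := F) (by have := h.d4; omega)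
  exact exists_ne 0

theorem g2_T_ne : ∃ e : V, C.T e 0 1 ≠ 1 := by
  obtain ⟨e, e0⟩ := h.g2_ne
  exact ⟨e, fun a => one_ne_zero ((h.T_eq_one e0 (map_zero _)).1 a).2⟩

theorem gen {H : Subgroup S} (hH : ∀ p c, C.T p 0 c ∈ H) : H = ⊤ := by
  have := h.simp
  have a : (closure {s | ∃ p c, C.T p 0 c = s}).Normal := ⟨fun n hn g => by
    induction hn using closure_induction with
    | mem s hs =>
      obtain ⟨p, c, rfl⟩ := hs
      rw [h.T_conj g (map_zero _), map_zero]
      exact subset_closure ⟨_, _, rfl⟩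
    | one => simp
    | mul x y _ _ a b =>
      rw [show g * (x * y) * g⁻¹ = g * x * g⁻¹ * (g * y * g⁻¹) by group]; exact mul_mem a b
    | inv x _ a => rw [show g * x⁻¹ * g⁻¹ = (g * x * g⁻¹)⁻¹ by group]; exact inv_mem a⟩
  obtain ⟨e, he⟩ := h.g2_T_ne
  rcases a.eq_bot_or_eq_top with b | b
  · exact absurd (mem_bot.1 (b ▸ subset_closure ⟨_, _, rfl⟩)) he
  · rw [eq_top_iff, ← b, closure_le]
    rintro _ ⟨p, c, rfl⟩
    exact hH p c

/-- a linear map which fixes all points is a scalar -/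
theorem scalar_of_pts {g : V →ₗ[F] V} (H : ∀ p, g p ∈ span F {p}) : ∃ l : F, ∀ v, g v = l • v := by
  obtain ⟨e, e0⟩ := h.g2_ne
  obtain ⟨l, hl⟩ := Submodule.mem_span_singleton.1 (H e)
  refine ⟨l, fun p => ?_⟩
  by_cases hp : p ∈ span F {e}
  · obtain ⟨c, rfl⟩ := Submodule.mem_span_singleton.1 hp
    rw [map_smul, ← hl, smul_comm]
  obtain ⟨l', hl'⟩ := Submodule.mem_span_singleton.1 (H p)
  obtain ⟨m, hm⟩ := Submodule.mem_span_singleton.1 (H (e + p))
  rw [map_add, ← hl, ← hl'] at hm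
  obtain ⟨b1, b2⟩ := LinearIndependent.pair_iff.1 (UN.Mod.li_pair e0 hp) (m - l) (m - l') (by
    linear_combination (norm := module) hm)
  rw [← hl', ← sub_eq_zero.1 b1, sub_eq_zero.1 b2]

/-- an element commuting with a transvection fixes its centre -/
theorem fix_of_comm {s : S} {p : V} {r : F} (r0 : r ≠ 0) (H : s * C.T p 0 r = C.T p 0 r * s) :
    C.act s p = p := by
  by_cases p0 : p = 0
  · rw [p0, map_zero]
  obtain ⟨f, hf⟩ := h.exists_hp p0
  have a := congrArg (fun x => C.act x f) H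
  simp only [C.mul_apply, h.z_app, hf, map_add, map_smul, mul_one, add_right_inj] at a
  have b : C.act s p = P.B p (C.act s f) • p := by
    rw [← smul_smul] at a
    exact smul_right_injective V r0 a
  have c := C.B_act s p f
  rw [b, h.B_smul_left, hf] at c
  rw [b, h.sq_inj (c.trans (mul_one (1 : F)).symm), one_smul]

theorem center_eq : center S = ⊥ :=
  eq_bot_iff.2 fun s hs => mem_bot.2 (C.ext fun p => by
    rw [h.fix_of_comm one_ne_zero (mem_center_iff.1 hs _).symm, C.one_apply])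

theorem perf : (⊤ : Subgroup S) ≤ ⁅(⊤ : Subgroup S), (⊤ : Subgroup S)⁆ := by
  have := h.simp
  rcases (inferInstance : (⁅(⊤ : Subgroup S), (⊤ : Subgroup S)⁆).Normal).eq_bot_or_eq_top with b | b
  · obtain ⟨e, he⟩ := h.g2_T_ne
    refine absurd (mem_bot.1 (h.center_eq ▸ mem_center_iff.2 fun g => ?_)) he
    exact commutatorElement_eq_one_iff_mul_comm.1
      (mem_bot.1 (b ▸ commutator_mem_commutator (mem_top _) (mem_top _)))
  · exact b.ge

end Mod

end CfsgLib.SP4
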