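import Cfsg.Agent.Lib.SP4.Defs
import Cfsg.Agent.Lib.Forms.SpGen
import Cfsg.Agent.Lib.UN.Geo

/-! The geometry of the symplectic space, first part -/

set_option autoImplicit false
set_option linter.unusedSectionVars false

namespace CfsgLib.SP4

open Subgroup Module CfsgLib.Forms CfsgLib.LieMult
open CfsgLib.HX (Std CO Two Mv M2)
open CfsgLib.UN (AV SI TI HH Rad Stb Yg Rg Eg Act nu)
open CfsgLib.ClSys (II)
open Submodule (span)
open scoped commutatorElement Pointwise

universe u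

variable {F : Type} [Field F] [Finite F] {V : Type} [AddCommGroup V] [Module F V]
  [FiniteDimensional F V] {P : PQ (RingHom.id F) V} {S : Type} [Group S] [Finite S] {G : Type u}
  [Group G] [Finite G] {C : CG P S} {φ : S →* G} {t : G}

namespace Mod

variable (h : Mod C)
include h

theorem add_self (c : F) : c + c = 0 := by linear_combination c * h.two
theorem vadd_self (v : V) : v + v = 0 := by rw [← two_smul F v, h.two, zero_smul]
theorem neg_eq (c : F) : -c = c := by linear_combination (-c) * h.two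
theorem vneg_eq (v : V) : -v = v := neg_eq_of_add_eq_zero_left (h.vadd_self v)
theorem sub_eq (c d : F) : c - d = c + d := by rw [sub_eq_add_neg, h.neg_eq]
theorem vsub_eq (v w : V) : v - w = v + w := by rw [sub_eq_add_neg, h.vneg_eq]
theorem eq_of_add {c d : F} (e : c + d = 0) : c = d := by linear_combination e - d * h.two
theorem veq_of_add {v w : V} (e : v + w = 0) : v = w := by
  rw [← h.vsub_eq] at e; exact sub_eq_zero.1 e
theorem charP : CharP F 2 := CharTwo.of_one_ne_zero_of_two_eq_zero one_ne_zero h.two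
theorem mem_lam (c : F) : c ∈ P.Λ := h.lam ▸ AddSubgroup.mem_top c
theorem B_self (v : V) : P.B v v = 0 := PQ.Sing.self_eq (h.mem_lam _)
theorem B_comm (v w : V) : P.B v w = P.B w v := C.conj v w
theorem B_smul_left (c : F) (v w : V) : P.B (c • v) w = c * P.B v w := P.B_smul_left c v w
theorem nd {v : V} (H : ∀ w, P.B v w = 0) : v = 0 := C.nondeg v H
theorem sing (e : V) : P.Sing e := h.mem_lam _
theorem tok {e a : V} {c : F} : TOk P e a c ↔ P.B e a = 0 :=
  ⟨fun k => k.perp, fun k => ⟨h.sing e, k, h.mem_lam _⟩⟩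
theorem tok0 (e : V) (c : F) : TOk P e 0 c := h.tok.2 (map_zero _)
theorem hp_iff {e f : V} : HP P e f ↔ P.B e f = 1 :=
  ⟨fun k => k.ef, fun k => ⟨h.sing e, h.sing f, k, (h.B_comm f e).trans k⟩⟩
theorem T_app {e a : V} (k : P.B e a = 0) (c : F) (v : V) :
    C.act (C.T e a c) v = v + (P.B a v + c * P.B e v) • e + P.B e v • a := by
  rw [C.T_apply (h.tok.2 k), tfun, h.vsub_eq, h.sub_eq, RingHom.id_apply]
theorem x_app {e a : V} (k : P.B e a = 0) (v : V) :
    C.act (C.T e a 0) v = v + P.B a v • e + P.B e v • a := by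
  rw [h.T_app k, zero_mul, add_zero]
theorem z_app (e : V) (c : F) (v : V) : C.act (C.T e 0 c) v = v + (c * P.B e v) • e := by
  rw [h.T_app (map_zero _)]; simp
theorem T_mul {e a b : V} (k : P.B e a = 0) (k' : P.B e b = 0) (c d : F) :
    C.T e a c * C.T e b d = C.T e (a + b) (c + d + P.B a b) := by
  rw [C.T_mul (h.tok.2 k) (h.tok.2 k'), h.B_comm b]
theorem T_sq {e a : V} (k : P.B e a = 0) (c : F) : C.T e a c * C.T e a c = 1 := by
  rw [h.T_mul k k, h.vadd_self, h.add_self, h.B_self, add_zero, C.T_zero (h.sing e)]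
theorem T_symm {e a : V} (k : P.B e a = 0) : C.T e a 0 = C.T a e 0 :=
  C.ext fun v => by rw [h.x_app k, h.x_app ((h.B_comm a e).trans k), add_right_comm]
theorem T_shift {e a : V} (k : P.B e a = 0) (l c : F) : C.T e (a + l • e) c = C.T e a c := by
  refine C.ext fun v => ?_
  rw [h.T_app k, h.T_app (by simp [k, h.B_self]), P.B_add_left, h.B_smul_left]
  match_scalars
  · rfl
  · linear_combination (l * P.B e v) * h.two
  · rfl
theorem T_smul {e a : V} (k : P.B e a = 0) (l c : F) :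
    C.T (l • e) a c = C.T e (l • a) (l * l * c) := C.T_smul_left (h.tok.2 k) l
theorem T_line {e a : V} (k : P.B e a = 0) (c : F) :
    C.T (e + a) 0 c = C.T e 0 c * C.T a 0 c * C.T e (c • a) 0 := by
  have k' := (h.B_comm a e).trans k
  refine C.ext fun v => ?_
  rw [C.mul_apply, C.mul_apply, h.z_app, h.z_app, h.z_app, h.x_app (by simp [k])]
  simp only [P.B_add_left, P.B_add_right, P.B_smul_right, h.B_smul_left, k, k', h.B_self]
  module
theorem T_conj (s : S) {e a : V} (k : P.B e a = 0) (c : F) :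
    s * C.T e a c * s⁻¹ = C.T (C.act s e) (C.act s a) c := C.T_conj s (h.tok.2 k)
theorem T_zero' (a : V) (c : F) : C.T 0 a c = 1 :=
  C.ext fun v => by rw [h.T_app (by simp), C.one_apply]; simp
theorem exists_hp {e : V} (h0 : e ≠ 0) : ∃ f, P.B e f = 1 := by
  obtain ⟨f, -, hf⟩ := C.exists_HP (S := ⊥) disjoint_bot_left (h.sing e) h0 (by simp [P.perp_bot])
  exact ⟨f, hf.ef⟩
theorem T_eq_one {e a : V} {c : F} (h0 : e ≠ 0) (k : P.B e a = 0) :
    C.T e a c = 1 ↔ a ∈ span F {e} ∧ c = 0 := by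
  constructor
  · intro e1
    obtain ⟨f, hf⟩ := h.exists_hp h0
    have a1 := h.T_app k c f
    rw [e1, C.one_apply, hf, mul_one, one_smul, add_assoc, left_eq_add] at a1
    have a2 := h.veq_of_add a1
    have a3 := congrArg (fun v => P.B v f) a2
    simp only [h.B_smul_left, hf, mul_one] at a3
    exact ⟨Submodule.mem_span_singleton.2 ⟨_, a2⟩, by linear_combination a3⟩
  · rintro ⟨h1, rfl⟩
    obtain ⟨l, rfl⟩ := Submodule.mem_span_singleton.1 h1
    rw [← zero_add (l • e), h.T_shift (map_zero _), C.T_zero (h.sing e)]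
theorem T_eq_iff {e a b : V} {c d : F} (h0 : e ≠ 0) (k : P.B e a = 0) (k' : P.B e b = 0) :
    C.T e a c = C.T e b d ↔ a + b ∈ span F {e} ∧ c = d := by
  have a1 : a + b ∈ span F {e} → P.B a b = 0 := fun m => by
    obtain ⟨l, hl⟩ := Submodule.mem_span_singleton.1 m
    have := congrArg (fun v => P.B v b) hl
    simp only [h.B_smul_left, P.B_add_left, k', h.B_self] at this
    linear_combination -this
  rw [← mul_inv_eq_one, inv_eq_of_mul_eq_one_right (h.T_sq k' d), h.T_mul k k',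
    h.T_eq_one h0 (by simp [k, k'])]
  refine and_congr_right fun m => ?_
  rw [a1 m, add_zero]
  exact ⟨h.eq_of_add, fun e => e ▸ h.add_self c⟩
theorem small_iff : Small F ↔ Nat.card F = 2 := by
  rw [Nat.card_eq_two_iff' (0 : F)]
  refine ⟨fun hs => ⟨1, one_ne_zero, fun y hy => (hs y).resolve_left hy⟩, ?_⟩
  rintro ⟨y, -, hy⟩ c
  exact (em _).imp_right fun c0 => (hy c c0).trans (hy 1 one_ne_zero).symm
theorem exists_big (hs : ¬ Small F) : ∃ c : F, c ≠ 0 ∧ c ≠ 1 := by
  by_contra H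
  exact hs fun c => by_contra fun H' => H ⟨c, fun e => H' (Or.inl e), fun e => H' (Or.inr e)⟩
theorem card_pow : ∃ n, 1 ≤ n ∧ Nat.card F = 2 ^ n := by
  have := h.charP
  let _ := Fintype.ofFinite F
  obtain ⟨n, -, hn⟩ := FiniteField.card F 2
  exact ⟨n, n.2, by rw [Nat.card_eq_fintype_card, hn]⟩
theorem sq_inj {c d : F} (e : c * c = d * d) : c = d :=
  h.eq_of_add (mul_self_eq_zero.1 (by linear_combination e + (d * d + c * d) * h.two))
theorem exists_sqrt (c : F) : ∃ d, d * d = c := by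
  have := h.charP
  obtain ⟨d, rfl⟩ := isSquare_of_charTwo' c
  exact ⟨d, rfl⟩
theorem odd_card : Odd (Nat.card F - 1) := by
  obtain ⟨n, h1, h2⟩ := h.card_pow
  exact Nat.Even.sub_odd Nat.card_pos (h2 ▸ Nat.even_pow.2 ⟨even_two, by omega⟩) odd_one
theorem aut_cyc : IsCyclic (RingAut F) := HX.HA.cyc_ringAut
theorem aut_small (hs : Small F) (α : RingAut F) : α = 1 :=
  RingEquiv.ext fun c => by rcases hs c with rfl | rfl <;> simp
/-- a field automorphism of order two -/
theorem aut_two {α : RingAut F} (h1 : α ≠ 1) (h2 : α * α = 1) :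
    (∃ θ, θ + α θ = 1) ∧ (∀ c, α c = c → ∃ d, d + α d = c) ∧
      Nat.card {c : F // α c = c} ^ 2 = Nat.card F := by
  have αα : ∀ c, α (α c) = c := fun c => congrArg (fun β : RingAut F => β c) h2
  obtain ⟨θ, hθ⟩ := exists_add_conj_eq_one (σ := α.toRingHom)
    (fun e => h1 (RingEquiv.ext fun c => congrArg (fun β : F →+* F => β c) e)) αα
  replace hθ : θ + α θ = 1 := hθ
  have a1 : ∀ c, α c = c → ∃ d, d + α d = c := fun c hc =>
    ⟨c * θ, by rw [map_mul, hc, ← mul_add, hθ, mul_one]⟩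
  refine ⟨⟨θ, hθ⟩, a1, ?_⟩
  let τ : F →+ F := AddMonoidHom.id F + α.toRingHom.toAddMonoidHom
  have hτ : ∀ c, τ c = c + α c := fun _ => rfl
  have e1 : ∀ c, c ∈ τ.ker ↔ α c = c := fun c => by
    rw [AddMonoidHom.mem_ker, hτ]
    exact ⟨fun e => (h.eq_of_add e).symm, fun e => by rw [e, h.add_self]⟩
  have e2 : τ.range = τ.ker := by
    ext c
    rw [e1]
    refine ⟨?_, a1 c⟩
    rintro ⟨d, rfl⟩
    rw [hτ, map_add, αα, add_comm]
  have e3 := AddSubgroup.card_mul_index τ.ker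
  rw [AddSubgroup.index_ker, e2] at e3
  rw [← e3, sq, Nat.card_congr (Equiv.subtypeEquivRight e1)]
theorem exists_lag' {U : Submodule F V} (hU : TI P U) : ∃ M, Lag P M ∧ U ≤ M := by
  obtain ⟨M, ⟨h1, h2⟩, hM⟩ := (wellFounded_gt (α := Submodule F V)).has_min {M | TI P M ∧ U ≤ M}
    ⟨U, hU, le_rfl⟩
  refine ⟨M, le_antisymm (fun v hv => ?_) h1, h2⟩
  by_contra H
  refine hM (M ⊔ span F {v}) ⟨(PQ.TS.sup ⟨fun w _ => h.sing w, h1⟩ (P.ts_span_singleton (h.sing v))
    ((Submodule.span_singleton_le_iff_mem _ _).2 hv)).2, h2.trans le_sup_left⟩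
    (lt_of_le_of_ne le_sup_left fun e => H ?_)
  exact e.ge (Submodule.mem_sup_right (Submodule.mem_span_singleton_self v))
theorem even_rank : ∃ k, 2 ≤ k ∧ finrank F V = 2 * k := by
  obtain ⟨M, hM, -⟩ := h.exists_lag' (U := ⊥) bot_le
  have := P.finrank_perp C.nondeg M
  rw [hM] at this
  have := h.d4
  exact ⟨finrank F M, by omega, by omega⟩
theorem hp_ne {e f : V} (k : P.B e f = 1) : e ≠ 0 := by
  rintro rfl
  simp at k
theorem hp_decomp {e f : V} (k : P.B e f = 1) (v : V) :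
    ∃ w, P.B e w = 0 ∧ P.B f w = 0 ∧ v = w + P.B f v • e + P.B e v • f :=
  ⟨v - P.B f v • e - P.B e v • f, by simp [k, h.B_self], by simp [h.B_comm f e, k, h.B_self],
    by abel⟩
theorem hh_decomp {e f e' f' : V} (k : HH P e f e' f') (v : V) :
    ∃ w, P.B e w = 0 ∧ P.B f w = 0 ∧ P.B e' w = 0 ∧ P.B f' w = 0 ∧
      v = w + P.B f v • e + P.B e v • f + P.B f' v • e' + P.B e' v • f' :=
  ⟨v - P.B f v • e - P.B e v • f - P.B f' v • e' - P.B e' v • f',
    by simp [k.h₁.ef, h.B_self, k.ee, k.ef], by simp [k.h₁.fe, h.B_self, k.fe, k.ff],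
    by simp [k.h₂.ef, h.B_self, h.B_comm e' e, h.B_comm e' f, k.ee, k.fe],
    by simp [k.h₂.fe, h.B_self, h.B_comm f' e, h.B_comm f' f, k.ef, k.ff], by abel⟩
theorem exists_hp_perp {U : Submodule F V} (hU : Disjoint U (P.perp U))
    (hd : finrank F U < finrank F V) : ∃ e ∈ P.perp U, ∃ f ∈ P.perp U, P.B e f = 1 := by
  have := P.finrank_perp C.nondeg U
  obtain ⟨e, he, e0⟩ := Submodule.exists_mem_ne_zero_of_ne_bot (p := P.perp U) fun e => by
    rw [e, finrank_bot] at this; omega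
  obtain ⟨f, hf, k⟩ := C.exists_HP hU (h.sing e) e0 he
  exact ⟨e, he, f, hf, k.ef⟩
theorem hp_disj {e f : V} (k : P.B e f = 1) : Disjoint (span F {e, f}) (P.perp (span F {e, f})) :=
  P.disjoint_perp_pair (h.B_self e) (h.B_self f) ((h.B_comm f e).trans k)
theorem hp_rank {e f : V} (k : P.B e f = 1) : finrank F (span F {e, f}) = 2 :=
  P.finrank_span_pair (h.B_self e) ((h.B_comm f e).trans k)
theorem exists_hh {e f : V} (k : P.B e f = 1) : ∃ e' f', HH P e f e' f' := by
  obtain ⟨e', he, f', hf', k'⟩ := h.exists_hp_perp (h.hp_disj k)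
    (by have := h.d4; rw [h.hp_rank k]; omega)
  rw [CG.mem_perp_pair] at he hf'
  exact ⟨e', f', h.hp_iff.2 k, h.hp_iff.2 k', he.1, hf'.1, he.2, hf'.2⟩
/-- hyperbolic partners of an independent totally isotropic family -/
theorem exists_partners {ι : Type} [DecidableEq ι] {v : ι → V} (hv : LinearIndependent F v)
    (h0 : ∀ i j, P.B (v i) (v j) = 0) :
    ∃ f : ι → V, (∀ i j, P.B (f i) (f j) = 0) ∧
      ∀ i j, P.B (v i) (f j) = if i = j then 1 else 0 := by
  have : Finite ι := hv.finite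
  let _ := Fintype.ofFinite ι
  obtain ⟨f, -, a1, a2, -⟩ := P.exists_hyperbolic_family C.nondeg v hv (P.ts_span
    (fun x _ => h.sing x) (by rintro _ ⟨i, rfl⟩ _ ⟨j, rfl⟩; exact h0 i j))
    ⊥ disjoint_bot_right (by simp)
  exact ⟨f, a1, fun i j => by rw [h.B_comm, a2, if_congr eq_comm rfl rfl]⟩
/-- prescribed products with an independent family -/
theorem exists_dual {ι : Type} [Finite ι] {v : ι → V} (hv : LinearIndependent F v) (c : ι → F) :
    ∃ w, ∀ i, P.B (v i) w = c i := by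
  classical
  let _ := Fintype.ofFinite ι
  obtain ⟨a, ha, -⟩ := P.exists_dual_family C.nondeg v hv ⊥ disjoint_bot_right
  exact ⟨∑ j, c j • a j, fun i => by simp [map_sum, h.B_comm (v i), ha]⟩
theorem hh_of_ln {e e' : V} (k : Ln P e e') : ∃ f f', HH P e f e' f' := by
  have k' := (h.B_comm e' e).trans k.perp
  obtain ⟨f, a1, a2⟩ := h.exists_partners (UN.Mod.li_pair k.ne k.nmem) (by
    intro i j; fin_cases i <;> fin_cases j <;> simp [h.B_self, k.perp, k'])
  exact ⟨f 0, f 1, h.hp_iff.2 (by simpa using a2 0 0), h.hp_iff.2 (by simpa using a2 1 1), k.perp,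
    by simpa using a2 0 1, (h.B_comm _ _).trans (by simpa using a2 1 0), a1 0 1⟩
theorem ln_of_hh {e f e' f' : V} (k : HH P e f e' f') : Ln P e e' :=
  ⟨h.hp_ne k.h₁.ef, fun m => by
    obtain ⟨l, hl⟩ := Submodule.mem_span_singleton.1 m
    have := k.h₂.ef
    rw [← hl, h.B_smul_left, k.ef, mul_zero] at this
    exact zero_ne_one this, k.ee⟩
theorem ln_symm {e a : V} (k : Ln P e a) : Ln P a e := by
  refine ⟨fun e0 => k.nmem (e0 ▸ zero_mem _), fun m => k.nmem ?_, (h.B_comm a e).trans k.perp⟩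
  obtain ⟨l, hl⟩ := Submodule.mem_span_singleton.1 m
  have l0 : l ≠ 0 := fun e0 => k.ne (by rw [← hl, e0, zero_smul])
  exact Submodule.mem_span_singleton.2 ⟨l⁻¹, by rw [← hl, inv_smul_smul₀ l0]⟩
theorem ln_smul {e a : V} (k : Ln P e a) {l m : F} (hl : l ≠ 0) (hm : m ≠ 0) (n : F) :
    Ln P (l • e) (m • a + n • e) := by
  refine ⟨smul_ne_zero hl k.ne, fun H => k.nmem ?_, by simp [k.perp, h.B_self]⟩
  obtain ⟨r, hr⟩ := Submodule.mem_span_singleton.1 H
  refine Submodule.mem_span_singleton.2 ⟨m⁻¹ * (r * l - n), ?_⟩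
  rw [mul_smul, inv_smul_eq_iff₀ hm]
  linear_combination (norm := module) hr
theorem ln_act {e a : V} (k : Ln P e a) (s : S) : Ln P (C.act s e) (C.act s a) := by
  refine ⟨fun H => k.ne ((C.act s).map_eq_zero_iff.1 H), fun H => k.nmem ?_, by
    rw [C.B_act, k.perp]⟩
  obtain ⟨r, hr⟩ := Submodule.mem_span_singleton.1 H
  exact Submodule.mem_span_singleton.2 ⟨r, (C.act s).injective (by rw [map_smul, hr])⟩
theorem ln_inj {e a : V} (k : Ln P e a) {c d c' d' : F} (e1 : c • e + d • a = c' • e + d' • a) :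
    c = c' ∧ d = d' := by
  have := LinearIndependent.pair_iff.1 (UN.Mod.li_pair k.ne k.nmem) (c - c') (d - d') (by
    linear_combination (norm := module) e1)
  exact ⟨sub_eq_zero.1 this.1, sub_eq_zero.1 this.2⟩
theorem exists_ln {e : V} (h0 : e ≠ 0) : ∃ a, Ln P e a := by
  obtain ⟨f, hf⟩ := h.exists_hp h0
  obtain ⟨a, b, k⟩ := h.exists_hh hf
  exact ⟨a, h.ln_of_hh k⟩
/-- two orthogonal hyperbolic pairs span `V` -/
theorem hh_zero {e f e' f' v : V} (k : HH P e f e' f') (h1 : P.B e v = 0) (h2 : P.B f v = 0)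
    (h3 : P.B e' v = 0) (h4 : P.B f' v = 0) : v = 0 := by
  have d2 : Disjoint (span F {e, f}) (span F {e', f'}) :=
    (h.hp_disj k.h₁.ef).mono_right (Submodule.span_le.2 (by
      rintro _ (rfl | rfl)
      exacts [CG.mem_perp_pair.2 ⟨k.ee, k.fe⟩, CG.mem_perp_pair.2 ⟨k.ef, k.ff⟩]))
  have r1 := Submodule.finrank_sup_add_finrank_inf_eq (span F {e, f}) (span F {e', f'})
  rw [d2.eq_bot, finrank_bot, h.hp_rank k.h₁.ef, h.hp_rank k.h₂.ef] at r1
  have r2 := P.finrank_perp C.nondeg (span F {e, f} ⊔ span F {e', f'})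
  have := h.d4
  have r3 : P.perp (span F {e, f} ⊔ span F {e', f'}) = ⊥ := Submodule.finrank_eq_zero.1 (by omega)
  refine (Submodule.mem_bot F).1 (r3 ▸ ?_)
  rw [P.perp_sup, Submodule.mem_inf, CG.mem_perp_pair, CG.mem_perp_pair]
  exact ⟨⟨h1, h2⟩, h3, h4⟩
theorem hh_eq {e f e' f' : V} (k : HH P e f e' f') (v : V) :
    v = P.B f v • e + P.B e v • f + P.B f' v • e' + P.B e' v • f' := by
  obtain ⟨w, h1, h2, h3, h4, h5⟩ := h.hh_decomp k v
  rwa [h.hh_zero k h1 h2 h3 h4, zero_add] at h5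
/-- a line is Lagrangian -/
theorem mem_ln {e a v : V} (k : Ln P e a) (h1 : P.B e v = 0) (h2 : P.B a v = 0) :
    v ∈ span F {e, a} := by
  obtain ⟨f, f', k'⟩ := h.hh_of_ln k
  have := h.hh_eq k' v
  rw [h1, h2, zero_smul, zero_smul, add_zero, add_zero] at this
  exact Submodule.mem_span_pair.2 ⟨_, _, this.symm⟩
theorem lag_ln {e a : V} (k : Ln P e a) : Lag P (span F {e, a}) := by
  refine le_antisymm (fun v hv => ?_) (Submodule.span_le.2 ?_)
  · exact h.mem_ln k (CG.mem_perp_pair.1 hv).1 (CG.mem_perp_pair.1 hv).2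
  · rintro _ (rfl | rfl)
    exacts [CG.mem_perp_pair.2 ⟨h.B_self _, (h.B_comm _ _).trans k.perp⟩,
      CG.mem_perp_pair.2 ⟨k.perp, h.B_self _⟩]
theorem exists_big' : ∃ c : F, c ≠ 0 ∧ c ≠ 1 := h.exists_big h.big

end Mod

end CfsgLib.SP4
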