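import Cfsg.Agent.Lib.SP4.FDefs

/-! Hats, type-free: the movers -/

set_option autoImplicit false
set_option linter.unusedSectionVars false

namespace CfsgLib.SP4

open Subgroup Module CfsgLib.Forms CfsgLib.LieMult
open CfsgLib.HX (Std CO Two Mv M2)
open CfsgLib.UN (AV SI TI HH Rad Stb Yg Rg Eg Act nu)
open CfsgLib.ClSys (II)
open Submodule (span)
open scoped commutatorElement Pointwise

universe u

variable {F : Type} [Field F] [Finite F] {V : Type} [AddCommGroup V] [Module F V]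
  [FiniteDimensional F V] {P : PQ (RingHom.id F) V} {S : Type} [Group S] [Finite S] {G : Type u}
  [Group G] [Finite G] {C : CG P S} {φ : S →* G} {t : G}

variable {L Q Y Z : Subgroup G} {ζ : F → G} {n m : Fˣ →* G} {l l' p p' g : G} {u u' : F}

/-- transport -/
theorem Mo.conj {Q' Y' : Subgroup G} (k : Mo L Q Y t l p) (hg : g * t = t * g)
    (hL : g ∈ normalizer (L : Set G)) (hQ : ∀ y, g * y * g⁻¹ ∈ Q' ↔ y ∈ Q)
    (hY : ∀ y, g * y * g⁻¹ ∈ Y' ↔ y ∈ Y) : Mo L Q' Y' t (g * l * g⁻¹) (g * p * g⁻¹) := by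
  refine ⟨fun y hy => ?_, Tech.mem_normalizer_of_forall fun y hy => ?_, ?_, fun o h1 h2 h3 => ?_, ?_⟩
  · have := k.cQ (g⁻¹ * y * g) ((hQ _).1 (by simpa [mul_assoc] using hy))
    calc y * (g * p * g⁻¹) = g * (g⁻¹ * y * g * p) * g⁻¹ := by group
      _ = _ := by rw [this]; group
  · have := (hY _).2 (Tech.conj_mem_of_mem_normalizer k.nY
      ((hY (g⁻¹ * y * g)).1 (by simpa [mul_assoc] using hy)))
    rwa [show g * (p * (g⁻¹ * y * g) * p⁻¹) * g⁻¹ = g * p * g⁻¹ * y * (g * p * g⁻¹)⁻¹ by group] at this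
  · calc g * p * g⁻¹ * t * (g * p * g⁻¹)⁻¹ = g * p * g⁻¹ * (t * g) * p⁻¹ * g⁻¹ := by group
      _ = g * (p * t * p⁻¹) * g⁻¹ := by rw [← hg]; group
      _ = g * t * l * g⁻¹ := by rw [k.pt]; group
      _ = _ := by rw [hg]; group
  · have a1 : g⁻¹ * o * g ∈ centralizer (L : Set G) := fun l hl => by
      have := h1 _ ((mem_normalizer_iff.1 hL l).1 hl)
      calc _ = g⁻¹ * (g * l * g⁻¹ * o) * g := by group
        _ = _ := by rw [this]; group
    have a2 : g⁻¹ * o * g * t = t * (g⁻¹ * o * g) :=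
      ((show Commute g t from hg).inv_left.mul_left h2).mul_left hg
    have a3 : Odd (orderOf (g⁻¹ * o * g)) := by
      rwa [← (MulAut.conj g⁻¹).orderOf_eq, MulAut.conj_apply, inv_inv] at h3
    have := k.co _ a1 a2 a3
    calc _ = g * (p * (g⁻¹ * o * g)) * g⁻¹ := by group
      _ = _ := by rw [this]; group
  · rw [conj_mul]; exact (hQ _).2 k.sq

theorem Ho.conj {Q' Y' Z' : Subgroup G} (k : Ho L Q Y Z t l p) (hg : g * t = t * g)
    (hL : g ∈ normalizer (L : Set G)) (hQ : ∀ y, g * y * g⁻¹ ∈ Q' ↔ y ∈ Q)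
    (hY : ∀ y, g * y * g⁻¹ ∈ Y' ↔ y ∈ Y) (hZ : ∀ y, g * y * g⁻¹ ∈ Z' ↔ y ∈ Z) :
    Ho L Q' Y' Z' t (g * l * g⁻¹) (g * p * g⁻¹) := by
  refine ⟨k.1.conj hg hL hQ hY, fun l' hl' => ?_⟩
  obtain ⟨p', k', c⟩ := k.2 (g⁻¹ * l' * g) ((hZ _).1 (by simpa [mul_assoc] using hl'))
  refine ⟨g * p' * g⁻¹, ?_, c.conj g⟩
  simpa [mul_assoc] using k'.conj hg hL hQ hY

namespace LD

variable (h : LD L Q Y Z t ζ n m)
include h

theorem hoa_QL (hg : g ∈ Q) : g ∈ L := h.YL (h.QY hg)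

theorem hoa_t (hg : g ∈ L) : g * t = t * g := h.tC g hg

theorem hoa_Qc {v w : G} (hv : v ∈ Q) (hw : w ∈ Q) : v * w = w * v := by
  have := h.sq _ (mul_mem hv hw)
  calc v * w = v * (v * w * (v * w)) * w * 1 := by rw [this]; group
    _ = v * v * (w * v) * (w * w) := by group
    _ = _ := by rw [h.sq v hv, h.sq w hw]; group

theorem hoa_ζ (u : F) : ζ u ∈ Q := h.ZQ ((h.memZ _).2 ⟨u, rfl⟩)

theorem hoa_ζ0 : ζ 0 = 1 := by
  have := h.add 0 0
  rwa [add_zero, left_eq_mul] at this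

theorem hoa_odd {o : G} (ho : Odd (orderOf o)) {k : ℕ} (e : o ^ 2 ^ k = 1) : o = 1 :=
  orderOf_eq_one_iff.1 (((Nat.coprime_two_right.2 ho).pow_right k).eq_one_of_dvd (orderOf_dvd_of_pow_eq_one e))

theorem hoa_pt' (k : Mo L Q Y t (ζ u) p) : p⁻¹ * t * p = t * ζ u := by
  have c := k.cQ _ (h.hoa_ζ u)
  calc p⁻¹ * t * p = p⁻¹ * t * (ζ u * ζ u) * p := by rw [h.sq _ (h.hoa_ζ u), mul_one]
    _ = p⁻¹ * (t * ζ u) * (ζ u * p) := by group
    _ = p⁻¹ * (p * t * p⁻¹) * (p * ζ u) := by rw [k.pt, c]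
    _ = _ := by group

theorem hoa_mulQ (k : Mo L Q Y t l p) (hg : g ∈ Q) : Mo L Q Y t l (p * g) := by
  refine ⟨mul_mem k.cQ fun v hv => h.hoa_Qc hv hg, mul_mem k.nY (le_normalizer (h.QY hg)), ?_,
    k.co.mul (CO.of_mem (h.hoa_QL hg)), ?_⟩
  · rw [← k.pt, mul_assoc p g, h.hoa_t (h.hoa_QL hg)]; group
  · rw [mul_assoc, ← mul_assoc g, k.cQ g hg, ← mul_assoc, ← mul_assoc]
    exact mul_mem (mul_mem k.sq hg) hg

theorem hoa_nt : t ∈ normalizer (Y : Set G) :=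
  centralizer_le_normalizer _ (centralizer_le h.YL h.tC)

theorem hoa_mult (k : Mo L Q Y t (ζ u) p) : Mo L Q Y t (ζ u) (p * t) := by
  refine ⟨mul_mem k.cQ fun v hv => h.hoa_t (h.hoa_QL hv), mul_mem k.nY h.hoa_nt, ?_, k.co.mul CO.self, ?_⟩
  · rw [← k.pt]; group
  · have m := mul_mem (h.hoa_ζ u) k.sq
    have : p * t * (p * t) = ζ u * (p * p) := by
      calc p * t * (p * t) = p * t * p⁻¹ * (p * p) * t := by group
        _ = t * (ζ u * (p * p) * t) := by rw [k.pt]; group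
        _ = _ := by rw [h.hoa_t (h.hoa_QL m), ← mul_assoc, h.t2, one_mul]
    rwa [this]

/-- `C(t) ∩ C(Q)` -/
theorem dec (hg : g * t = t * g) (hc : g ∈ centralizer (Q : Set G)) : ∃ ε ∈ Q,
    ∃ o ∈ centralizer (L : Set G), o * t = t * o ∧ Odd (orderOf o) ∧ (g = ε * o ∨ g = ε * t * o) := by
  obtain ⟨ε, hε, c, hc', rfl⟩ := h.cQ g hg hc
  have ct : c * t = t * c := by
    rw [mul_assoc, ← mul_assoc t, ← h.hoa_t (h.hoa_QL hε), mul_assoc] at hg
    exact mul_left_cancel hg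
  obtain ⟨o, h1, h2, h3, h4⟩ := h.two'.dec hc' ct
  exact ⟨ε, hε, o, h1, h2, h3, h4.imp (congrArg _) fun e => by rw [e, mul_assoc]⟩

/-- any element centralising `Q` and moving `t` inside `t Z` -/
theorem dec' (k : Mo L Q Y t (ζ u) p) (hc : g ∈ centralizer (Q : Set G)) (hg : g * t * g⁻¹ = t * ζ u) :
    ∃ ε ∈ Q, ∃ o ∈ centralizer (L : Set G), o * t = t * o ∧ Odd (orderOf o) ∧
      (g = p * ε * o ∨ g = p * ε * t * o) := by
  obtain ⟨ε, hε, o, h1, h2, h3, h4⟩ := h.dec (g := p⁻¹ * g) (by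
    calc p⁻¹ * g * t = p⁻¹ * (g * t * g⁻¹) * g := by group
      _ = _ := by rw [hg, ← k.pt]; group) (mul_mem (inv_mem k.cQ) hc)
  refine ⟨ε, hε, o, h1, h2, h3, h4.imp (fun e => ?_) fun e => ?_⟩
  · rw [mul_assoc, ← e, mul_inv_cancel_left]
  · rw [mul_assoc p, mul_assoc p, ← e, mul_inv_cancel_left]

theorem mo_Q (hg : g ∈ Q) : Mo L Q Y t 1 g := by
  exact ⟨fun v hv => h.hoa_Qc hv hg, le_normalizer (h.QY hg),
    by rw [h.hoa_t (h.hoa_QL hg), mul_inv_cancel_right, mul_one], CO.of_mem (h.hoa_QL hg), mul_mem hg hg⟩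

theorem mo_t : Mo L Q Y t 1 t := by
  exact ⟨fun v hv => h.hoa_t (h.hoa_QL hv), h.hoa_nt, by group, CO.self, by rw [h.t2]; exact one_mem _⟩

theorem mo_m (k : Mo L Q Y t (ζ u) p) (c : Fˣ) :
    Mo L Q Y t (ζ (c * c * u)) (m c * p * (m c)⁻¹) := by
  have := k.conj (h.hoa_t (h.mL c)) (le_normalizer (h.mL c))
    (fun y => (mem_normalizer_iff.1 (h.mQ c) y).symm) fun y => (mem_normalizer_iff.1 (h.mY c) y).symm
  rwa [h.mz] at this

theorem mo_ex (u : F) : ∃ p, Mo L Q Y t (ζ u) p := by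
  obtain rfl | u0 := eq_or_ne u 0
  · exact ⟨t, h.hoa_ζ0 ▸ h.mo_t⟩
  obtain ⟨p, cQ, nY, pt, co⟩ := h.mv
  have c1 := cQ _ (h.hoa_ζ 1)
  have p2 : p * p * t = t * (p * p) := by
    calc p * p * t = p * (p * t * p⁻¹) * p := by group
      _ = p * t * (ζ 1 * p) := by rw [pt]; group
      _ = p * t * p⁻¹ * (p * ζ 1) * p := by group
      _ = t * (ζ 1 * ζ 1) * (p * p) := by rw [pt, ← c1]; group
      _ = _ := by rw [h.sq _ (h.hoa_ζ 1)]; group
  obtain ⟨ε, hε, o, h1, h2, h3, e | e⟩ := h.dec p2 (mul_mem cQ cQ)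
  · obtain ⟨j, hj⟩ := id h3
    have k : Mo L Q Y t (ζ 1) (p ^ orderOf o) := by
      refine ⟨pow_mem cQ _, pow_mem nY _, ?_, fun o' a b c => Commute.pow_left (co o' a b c) _, ?_⟩
      · have := (Commute.pow_left (show Commute (p * p) t from p2) j).eq
        rw [hj, pow_succ', pow_mul, pow_two, mul_assoc p, this, ← pt]
        group
      · rw [← (Commute.refl p).mul_pow, e, (show Commute ε o from h1 ε (h.hoa_QL hε)).mul_pow,
          pow_orderOf_eq_one, mul_one]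
        exact pow_mem hε _
    have : CharP F 2 := CharTwo.of_one_ne_zero_of_two_eq_zero one_ne_zero h.two
    obtain ⟨c, rfl⟩ := FiniteField.isSquare_of_char_two (ringChar.eq F 2) u
    have := h.mo_m k (Units.mk0 c (left_ne_zero_of_mul u0))
    rw [mul_one] at this
    exact ⟨_, this⟩
  · have et : t = ε⁻¹ * (p * p) * o⁻¹ := by rw [e]; group
    have : Commute p t := by
      rw [et]
      exact (((show Commute p ε from (cQ ε hε).symm).inv_right).mul_right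
        ((Commute.refl p).mul_right (Commute.refl p))).mul_right (show Commute p o from co o h1 h2 h3).inv_right
    rw [this.eq, mul_inv_cancel_right, left_eq_mul] at pt
    exact absurd (h.inj 1 pt) one_ne_zero

theorem mo_uniq (k : Mo L Q Y t (ζ u) p) (k' : Mo L Q Y t (ζ u) p') :
    ∃ ε ∈ Q, p' = p * ε ∨ p' = p * ε * t := by
  obtain ⟨ε, hε, o, h1, h2, h3, h4⟩ := h.dec' k k'.cQ k'.pt
  have key : ∀ x, Mo L Q Y t (ζ u) x → p' = x * o → p' = x := fun x kx e => by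
    have c : Commute x o := kx.co o h1 h2 h3
    have m := k'.sq
    rw [e, c.symm.mul_mul_mul_comm, mul_mem_cancel_left kx.sq] at m
    rw [e, h.hoa_odd h3 (k := 1) (by rw [pow_one, pow_two]; exact h.cL _ (h.hoa_QL m) (mul_mem h1 h1)), mul_one]
  exact ⟨ε, hε, h4.imp (key _ (h.hoa_mulQ k hε)) (key _ (h.hoa_mult (h.hoa_mulQ k hε)))⟩

theorem mo_mul (k : Mo L Q Y t (ζ u) p) (k' : Mo L Q Y t (ζ u') p') :
    Mo L Q Y t (ζ (u + u')) (p * p') := by
  have c : p * ζ u' = ζ u' * p := (k.cQ _ (h.hoa_ζ u')).symm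
  have c' : p' * ζ u = ζ u * p' := (k'.cQ _ (h.hoa_ζ u)).symm
  have pp : p * (p' * p') = p' * p' * p := (k.cQ _ k'.sq).symm
  have pp' : p * p * p' = p' * (p * p) := k'.cQ _ k.sq
  refine ⟨mul_mem k.cQ k'.cQ, mul_mem k.nY k'.nY, ?_, k.co.mul k'.co, ?_⟩
  · calc p * p' * t * (p * p')⁻¹ = p * (p' * t * p'⁻¹) * p⁻¹ := by group
      _ = p * t * p⁻¹ * (p * ζ u') * p⁻¹ := by rw [k'.pt]; group
      _ = _ := by rw [k.pt, c, h.add]; group
  have kq : Mo L Q Y t (ζ u') (p * p' * p⁻¹) := by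
    refine ⟨mul_mem (mul_mem k.cQ k'.cQ) (inv_mem k.cQ), mul_mem (mul_mem k.nY k'.nY) (inv_mem k.nY), ?_,
      (k.co.mul k'.co).mul k.co.inv, by rw [conj_mul, pp, mul_inv_cancel_right]; exact k'.sq⟩
    calc p * p' * p⁻¹ * t * (p * p' * p⁻¹)⁻¹ = p * p' * (p⁻¹ * t * p) * p'⁻¹ * p⁻¹ := by group
      _ = p * (p' * t * p'⁻¹) * (p' * ζ u) * p'⁻¹ * p⁻¹ := by rw [h.hoa_pt' k]; group
      _ = p * (t * (ζ u' * ζ u)) * p⁻¹ := by rw [k'.pt, c']; group
      _ = p * (p⁻¹ * t * p) * ζ u' * p⁻¹ := by rw [h.hoa_Qc (h.hoa_ζ u') (h.hoa_ζ u), h.hoa_pt' k]; group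
      _ = t * (p * ζ u') * p⁻¹ := by group
      _ = _ := by rw [c]; group
  obtain ⟨ε, hε, e | e⟩ := h.mo_uniq k' kq
  · have : p * p' * (p * p') = p' * p' * (ε * (p * p)) := by
      calc p * p' * (p * p') = p * p' * p⁻¹ * (p * p * p') := by group
        _ = p' * (ε * (p * p) * p') := by rw [e]; group
        _ = _ := by rw [k'.cQ _ (mul_mem hε k.sq)]; group
    rw [this]
    exact mul_mem k'.sq (mul_mem hε k.sq)
  · exfalso
    have m : p' * p' * (ε * (p * p)) * ζ u' ∈ Q := mul_mem (mul_mem k'.sq (mul_mem hε k.sq)) (h.hoa_ζ u')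
    have e1 : p * p' * (p * p') = p' * p' * (ε * (p * p)) * ζ u' * t := by
      calc p * p' * (p * p') = p * p' * p⁻¹ * (p * p * p') := by group
        _ = p' * ε * (t * (p * p)) * p' := by rw [e]; group
        _ = p' * (ε * (p * p) * p') * (p'⁻¹ * t * p') := by rw [← h.hoa_t (h.hoa_QL k.sq)]; group
        _ = _ := by
          rw [k'.cQ _ (mul_mem hε k.sq), h.hoa_pt' k', ← h.hoa_t (h.hoa_QL (h.hoa_ζ u'))]; group
    generalize p' * p' * (ε * (p * p)) * ζ u' = δ at m e1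
    have cr := mul_mem k.cQ k'.cQ
    generalize p * p' = r at e1 cr
    have rt : r * t = t * r := by
      have : r * (δ * t) = δ * t * r := by rw [← e1, mul_assoc]
      rw [← mul_assoc, ← cr δ m, mul_assoc, mul_assoc] at this
      exact mul_left_cancel this
    obtain ⟨η, hη, o, h1, h2, h3, h4⟩ := h.dec rt cr
    have co : Commute η o := h1 η (h.hoa_QL hη)
    have ct : Commute η t := h.hoa_t (h.hoa_QL hη)
    have e2 : r * r = o * o := by
      rcases h4 with rfl | rfl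
      · rw [co.symm.mul_mul_mul_comm, h.sq η hη, one_mul]
      · rw [(co.mul_left h2.symm).symm.mul_mul_mul_comm, ct.symm.mul_mul_mul_comm, h.sq η hη, h.t2,
          one_mul, one_mul]
    have o1 : o = 1 := h.hoa_odd h3 (k := 2) (by
      rw [show o ^ 2 ^ 2 = o * o * (o * o) from by rw [← pow_two, ← pow_two, ← pow_mul]; rfl, ← e2, e1,
        (show Commute δ t from h.hoa_t (h.hoa_QL m)).symm.mul_mul_mul_comm, h.sq δ m, h.t2, one_mul])
    rw [e2, o1, one_mul, eq_comm, mul_eq_one_iff_inv_eq] at e1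
    exact h.tL (e1 ▸ inv_mem (h.hoa_QL m))

theorem mo_inv (k : Mo L Q Y t (ζ u) p) : Mo L Q Y t (ζ u) p⁻¹ := by
  exact ⟨inv_mem k.cQ, inv_mem k.nY, by rw [inv_inv, h.hoa_pt' k], k.co.inv,
    by rw [← mul_inv_rev]; exact inv_mem k.sq⟩

theorem mo_comm (k : Mo L Q Y t (ζ u) p) (k' : Mo L Q Y t (ζ u') p') : ⁅p, p'⁆ ∈ Q := by
  have : ⁅p, p'⁆ = p * p' * (p * p') * (p' * p')⁻¹ * (p * p)⁻¹ := by
    calc ⁅p, p'⁆ = p * p' * (p * p') * p'⁻¹ * (p' * (p * p))⁻¹ := by rw [commutatorElement_def]; group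
      _ = _ := by rw [← k'.cQ _ k.sq]; group
  rw [this]
  exact mul_mem (mul_mem (h.mo_mul k k').sq (inv_mem k'.sq)) (inv_mem k.sq)

theorem mo_Y (k : Mo L Q Y t (ζ u) p) (hg : g ∈ Y) : g * p * g⁻¹ * p⁻¹ ∈ Q := by
  have m : g * p * g⁻¹ * p⁻¹ ∈ L := by
    rw [mul_assoc g, mul_assoc g]
    exact h.YL (mul_mem hg (Tech.conj_mem_of_mem_normalizer k.nY (inv_mem hg)))
  obtain ⟨ε, hε, c, hc, e⟩ := h.cQ _ (h.hoa_t m) (mul_mem (fun v hv => by
    have := k.cQ _ (Tech.conj_mem_of_mem_normalizer' (h.YQ hg) hv)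
    calc v * (g * p * g⁻¹) = g * (g⁻¹ * v * g * p) * g⁻¹ := by group
      _ = _ := by rw [this]; group) (inv_mem k.cQ))
  rw [e] at m ⊢
  rwa [h.cL c ((mul_mem_cancel_left (h.hoa_QL hε)).1 m) hc, mul_one]

theorem mo_sq (k : Mo L Q Y t (ζ u) p) : p * p ∈ Z := by
  refine h.fix _ k.sq fun l => ?_
  have m := h.mo_Y k (h.nY l)
  have e : n l * p * (n l)⁻¹ = n l * p * (n l)⁻¹ * p⁻¹ * p := by group
  generalize n l * p * (n l)⁻¹ * p⁻¹ = ε at m e
  refine mul_inv_eq_iff_eq_mul.1 ?_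
  rw [← conj_mul, e, mul_assoc, ← mul_assoc p, ← k.cQ ε m, ← mul_assoc, ← mul_assoc, h.sq ε m, one_mul]

end LD

end CfsgLib.SP4
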