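import Cfsg.Agent.Lib.SP4.HoA

/-! Hats, type-free: the abelian subgroup -/

set_option autoImplicit false
set_option linter.unusedSectionVars false

namespace CfsgLib.SP4

open Subgroup Module CfsgLib.Forms CfsgLib.LieMult
open CfsgLib.HX (Std CO Two Mv M2)
open CfsgLib.UN (AV SI TI HH Rad Stb Yg Rg Eg Act nu)
open CfsgLib.ClSys (II)
open Submodule (span)
open scoped commutatorElement Pointwise

universe u

variable {F : Type} [Field F] [Finite F] {V : Type} [AddCommGroup V] [Module F V]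
  [FiniteDimensional F V] {P : PQ (RingHom.id F) V} {S : Type} [Group S] [Finite S] {G : Type u}
  [Group G] [Finite G] {C : CG P S} {φ : S →* G} {t : G}

variable {L Q Y Z : Subgroup G} {ζ : F → G} {n m : Fˣ →* G} {l l' p p' g : G} {u u' : F}

/-- congruence modulo `Q` -/
def HbC (Q : Subgroup G) (a b : G) : Prop := ∃ ε ∈ Q, a = b * ε

theorem HbC.rfl' (a : G) : HbC Q a a := ⟨1, one_mem _, (mul_one a).symm⟩

theorem HbC.symm {a b : G} (k : HbC Q a b) : HbC Q b a := by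
  obtain ⟨ε, hε, rfl⟩ := k
  exact ⟨ε⁻¹, inv_mem hε, by group⟩

theorem HbC.trans {a b c : G} (k : HbC Q a b) (k' : HbC Q b c) : HbC Q a c := by
  obtain ⟨ε, hε, rfl⟩ := k
  obtain ⟨ε', hε', rfl⟩ := k'
  exact ⟨ε' * ε, mul_mem hε' hε, mul_assoc _ _ _⟩

theorem HbC.mul_left {a b : G} (k : HbC Q a b) (c : G) : HbC Q (c * a) (c * b) := by
  obtain ⟨ε, hε, rfl⟩ := k
  exact ⟨ε, hε, (mul_assoc _ _ _).symm⟩

theorem HbC.mul_right {a b c : G} (k : HbC Q a b) (hc : c ∈ centralizer (Q : Set G)) : HbC Q (a * c) (b * c) := by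
  obtain ⟨ε, hε, rfl⟩ := k
  exact ⟨ε, hε, by rw [mul_assoc, mem_centralizer_iff.1 hc ε hε, mul_assoc]⟩

/-- the commutator with `a` -/
def hbD (a p : G) : G := p * (a * p⁻¹ * a⁻¹)

namespace LD

variable (h : LD L Q Y Z t ζ n m)
include h

theorem hb_z0 : ζ 0 = 1 := by
  have := h.add 0 0
  rw [add_zero] at this
  exact mul_left_cancel (a := ζ 0) (by rw [← this, mul_one])

theorem hb_inj (e : ζ u = ζ u') : u = u' := by
  have h1 : ζ (u - u') * ζ u' = 1 * ζ u' := by rw [← h.add, sub_add_cancel, one_mul, e]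
  exact sub_eq_zero.1 (h.inj _ (mul_right_cancel h1))

theorem hb_Q (hg : g ∈ Q) : Mo L Q Y t (ζ 0) g := h.hb_z0 ▸ h.mo_Q hg

theorem hb_mulQ (k : Mo L Q Y t (ζ u) p) (hg : g ∈ Q) : Mo L Q Y t (ζ u) (p * g) := by
  simpa only [add_zero] using h.mo_mul k (h.hb_Q hg)

theorem hb_mQ (c : Fˣ) (hg : g ∈ Q) : m c * g * (m c)⁻¹ ∈ Q := (mem_normalizer_iff.1 (h.mQ c) g).1 hg

theorem hb_mt (c : Fˣ) : m c * t = t * m c := mem_centralizer_iff.1 h.tC _ (h.mL c)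

theorem hb_comm (k : Mo L Q Y t (ζ u) p) (k' : Mo L Q Y t (ζ u') p') : HbC Q (p * p') (p' * p) := by
  have h1 := h.mo_comm k k'
  refine ⟨_, h1, ?_⟩
  rw [← mem_centralizer_iff.1 (mul_mem k'.cQ k.cQ) _ h1, commutatorElement_def]
  group

theorem hb_sq {a b : G} (k : HbC Q a b) (hb : b ∈ centralizer (Q : Set G)) : a * a = b * b := by
  obtain ⟨ε, hε, rfl⟩ := k
  calc b * ε * (b * ε) = b * (ε * b) * ε := by group
    _ = b * b * (ε * ε) := by rw [mem_centralizer_iff.1 hb ε hε]; group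
    _ = b * b := by rw [h.sq ε hε, mul_one]

theorem hb_zero (k : Mo L Q Y t (ζ u) p) (hc : p * t = t * p) : u = 0 := by
  have h1 := k.pt
  rw [hc, mul_inv_cancel_right] at h1
  exact h.inj _ (mul_left_cancel (a := t) (by rw [← h1, mul_one]))

theorem hb_D (k : Mo L Q Y t (ζ u) p) (c : Fˣ) : Mo L Q Y t (ζ (u + c * c * u)) (hbD (m c) p) :=
  h.mo_mul k (h.mo_m (h.mo_inv k) c)

theorem hb_D_uniq (k : Mo L Q Y t (ζ u) p) (k' : Mo L Q Y t (ζ u) p') (c : Fˣ) :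
    HbC Q (hbD (m c) p') (hbD (m c) p) := by
  have key : ∀ ε ∈ Q, HbC Q (hbD (m c) (p * ε)) (hbD (m c) p) := fun ε hε => by
    have h1 : ε * (m c * ε⁻¹ * (m c)⁻¹) ∈ Q := mul_mem hε (h.hb_mQ c (inv_mem hε))
    refine ⟨_, h1, ?_⟩
    rw [hbD, hbD, mul_assoc p (m c * p⁻¹ * (m c)⁻¹),
      ← mem_centralizer_iff.1 (h.mo_m (h.mo_inv k) c).cQ _ h1]
    group
  obtain ⟨ε, hε, rfl | rfl⟩ := h.mo_uniq k k'
  · exact key ε hε
  · have e : hbD (m c) (p * ε * t) = hbD (m c) (p * ε) := by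
      rw [hbD, hbD]
      calc _ = p * ε * (t * m c) * t⁻¹ * (p * ε)⁻¹ * (m c)⁻¹ := by group
        _ = _ := by rw [← h.hb_mt c]; group
    exact e ▸ key ε hε

theorem hb_D_mul (k : Mo L Q Y t (ζ u) p) (k' : Mo L Q Y t (ζ u') p') (c : Fˣ) :
    HbC Q (hbD (m c) (p * p')) (hbD (m c) p * hbD (m c) p') := by
  have h1 := (h.hb_comm (h.hb_D k' c) (h.mo_m (h.mo_inv k) c)).mul_left p
  have e1 : hbD (m c) (p * p') = p * (hbD (m c) p' * (m c * p⁻¹ * (m c)⁻¹)) := by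
    rw [hbD, hbD]; group
  have e2 : hbD (m c) p * hbD (m c) p' = p * (m c * p⁻¹ * (m c)⁻¹ * hbD (m c) p') := by
    rw [hbD, mul_assoc]
  rw [e1, e2]
  exact h1

theorem hb_sqrt (hu : u ≠ 0) : ∃ c : Fˣ, u = c * c := by
  have inj : Function.Injective fun x : F => x * x := fun x y e => by
    have e' : x * x = y * y := e
    have h1 : (x - y) * (x - y) = 0 := by linear_combination e' + (y * y - x * y) * h.two
    exact sub_eq_zero.1 (mul_self_eq_zero.1 h1)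
  obtain ⟨x, hx⟩ := Finite.surjective_of_injective inj u
  have hx' : x * x = u := hx
  have x0 : x ≠ 0 := by
    rintro rfl
    exact hu (by rw [← hx', mul_zero])
  exact ⟨Units.mk0 x x0, hx'.symm⟩

/-- the commutators with a fixed torus element form an abelian family -/
theorem exists_fam : ∃ (s : F → G) (κ : F), (∀ u, Mo L Q Y t (ζ u) (s u)) ∧
    (∀ u u', Commute (s u) (s u')) ∧ (∀ u u', ∃ ε ∈ Q, s (u + u') = s u * s u' * ε) ∧
    (∀ (c : Fˣ) u, ∃ ε ∈ Q, m c * s u * (m c)⁻¹ = s (c * c * u) * ε) ∧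
    ∀ u, s u * s u = ζ (κ * u) := by
  obtain ⟨c₀, c0, c1⟩ : ∃ c : F, c ≠ 0 ∧ c ≠ 1 := by
    by_contra H
    exact h.big fun c => by_contra fun H' => H ⟨c, fun e => H' (Or.inl e), fun e => H' (Or.inr e)⟩
  obtain ⟨a, ha⟩ : ∃ a : Fˣ, 1 + (a : F) * a ≠ 0 := ⟨Units.mk0 c₀ c0, fun e => c1 (by
    have e' : 1 + c₀ * c₀ = 0 := e
    have h1 : (c₀ - 1) * (c₀ - 1) = 0 := by linear_combination e' - c₀ * h.two
    exact sub_eq_zero.1 (mul_self_eq_zero.1 h1))⟩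
  choose q hq using h.mo_ex
  obtain ⟨s, hs⟩ : ∃ s : F → G, ∀ u, s u = hbD (m a) (q (u / (1 + a * a))) := ⟨_, fun _ => rfl⟩
  have k1 : ∀ u, Mo L Q Y t (ζ u) (s u) := fun u => by
    have := h.hb_D (hq (u / (1 + a * a))) a
    rwa [← hs, show u / (1 + a * a) + a * a * (u / (1 + a * a)) = u by
      rw [← one_add_mul, mul_div_cancel₀ _ ha]] at this
  have k3 : ∀ u u', HbC Q (s (u + u')) (s u * s u') := fun u u' => by
    rw [hs, hs, hs, add_div]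
    exact (h.hb_D_uniq (h.mo_mul (hq _) (hq _)) (hq _) a).trans (h.hb_D_mul (hq _) (hq _) a)
  have k4 : ∀ (c : Fˣ) u, HbC Q (m c * s u * (m c)⁻¹) (s (c * c * u)) := fun c u => by
    have e : m c * s u * (m c)⁻¹ = hbD (m a) (m c * q (u / (1 + a * a)) * (m c)⁻¹) := by
      have hc : m c * m a = m a * m c := by rw [← map_mul, mul_comm, map_mul]
      rw [hs, hbD, hbD]
      calc _ = m c * q (u / (1 + a * a)) * (m c)⁻¹ * (m c * m a) * (q (u / (1 + a * a)))⁻¹ * (m c * m a)⁻¹ := by group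
        _ = _ := by rw [hc]; group
    rw [e, hs, mul_div_assoc]
    exact h.hb_D_uniq (hq _) (h.mo_m (hq _) c) a
  choose σ hσ using fun u => (h.memZ _).1 (h.mo_sq (k1 u))
  have k6 : ∀ (c : Fˣ) u, σ (c * c * u) = c * c * σ u := fun c u => h.hb_inj (by
    rw [← hσ, ← h.hb_sq (k4 c u) (k1 _).cQ, ← h.mz, ← hσ]; group)
  have k5 : ∀ u, s u * s u = ζ (σ 1 * u) := fun u => by
    rw [hσ]
    congr 1
    by_cases hu : u = 0
    · subst hu
      have h1 := k6 a 0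
      rw [mul_zero] at h1
      rw [mul_zero]
      apply mul_left_cancel₀ ha
      linear_combination (a : F) * a * σ 0 * h.two + h1
    · obtain ⟨c, rfl⟩ := h.hb_sqrt hu
      have h1 := k6 c 1
      rw [mul_one] at h1
      rw [h1, mul_comm]
  refine ⟨s, σ 1, k1, fun u u' => ?_, k3, k4, k5⟩
  have h1 := h.hb_sq (k3 u u').symm (k1 _).cQ
  rw [k5, mul_add, h.add, ← k5, ← k5] at h1
  change s u * s u' = s u' * s u
  calc s u * s u' = (s u)⁻¹ * (s u * s u * (s u' * s u')) * (s u')⁻¹ := by group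
    _ = _ := by rw [← h1]; group

theorem ho_Q (hg : g ∈ Q) : Ho L Q Y Z t 1 g := by
  refine ⟨h.mo_Q hg, fun l' hl' => ?_⟩
  obtain ⟨u', rfl⟩ := (h.memZ _).1 hl'
  obtain ⟨p', hp'⟩ := h.mo_ex u'
  exact ⟨p', hp', mem_centralizer_iff.1 hp'.cQ g hg⟩

theorem ho_ex (u : F) : ∃ p, Ho L Q Y Z t (ζ u) p := by
  obtain ⟨s, κ, k1, k2, -⟩ := h.exists_fam
  refine ⟨s u, k1 u, fun l' hl' => ?_⟩
  obtain ⟨u', rfl⟩ := (h.memZ _).1 hl'
  exact ⟨s u', k1 u', k2 u u'⟩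

theorem ho_mulQ (k : Ho L Q Y Z t (ζ u) p) (hg : g ∈ Q) : Ho L Q Y Z t (ζ u) (p * g) := by
  refine ⟨h.hb_mulQ k.1 hg, fun l' hl' => ?_⟩
  obtain ⟨p', hp', hc⟩ := k.2 l' hl'
  exact ⟨p', hp', hc.mul_left (mem_centralizer_iff.1 hp'.cQ g hg)⟩

/-- the hats are the elements `s u * ε`: if `p = s u ε t` take `u' ∉ {0, u}` -/
theorem ho_iff {s : F → G} (h1 : ∀ u, Mo L Q Y t (ζ u) (s u)) (h2 : ∀ u u', Commute (s u) (s u')) :
    Ho L Q Y Z t (ζ u) p ↔ ∃ ε ∈ Q, p = s u * ε := by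
  constructor
  · intro k
    obtain ⟨ε, hε, e | e⟩ := h.mo_uniq (h1 u) k.1
    · exact ⟨ε, hε, e⟩
    exfalso
    obtain ⟨u', u0, u1⟩ : ∃ u' : F, u' ≠ 0 ∧ u' ≠ u := by
      by_cases hu : u = 1
      · by_contra H
        exact h.big fun c => by_contra fun H' => H ⟨c, fun e => H' (Or.inl e), fun e => H' (Or.inr (hu ▸ e))⟩
      · exact ⟨1, one_ne_zero, Ne.symm hu⟩
    obtain ⟨p', hp', hc⟩ := k.2 (ζ u') ((h.memZ _).2 ⟨u', rfl⟩)
    have cQ : ∀ v, ∀ η ∈ Q, Commute η (s v) := fun v η hη => mem_centralizer_iff.1 (h1 v).cQ η hη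
    have QQ : ∀ η ∈ Q, ∀ η' ∈ Q, Commute η η' := fun η hη η' hη' =>
      mem_centralizer_iff.1 (h.mo_Q hη').cQ η hη
    have cc : ∀ v v', ∀ η ∈ Q, ∀ η' ∈ Q, Commute (s v * η) (s v' * η') := fun v v' η hη η' hη' =>
      ((h2 v v').mul_right (cQ v η' hη').symm).mul_left ((cQ v' η hη).mul_right (QQ η hη η' hη'))
    have key : ∀ x, Commute (s u * ε) x → Commute p x → x * t = t * x := fun x a b => by
      have ht : t = (s u * ε)⁻¹ * p := by rw [e]; group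
      rw [ht]
      exact (a.inv_left.mul_left b).symm.eq
    obtain ⟨ε', hε', e' | e'⟩ := h.mo_uniq (h1 u') hp'
    · exact u0 (h.hb_zero hp' (key p' (e' ▸ cc u u' ε hε ε' hε') hc))
    · have e2 : p' * p⁻¹ = s u' * ε' * (s u * ε)⁻¹ := by rw [e, e']; group
      have h3 := h.hb_zero (h.mo_mul hp' (h.mo_inv k.1)) (key _
        (e2 ▸ (cc u u' ε hε ε' hε').mul_right (Commute.refl _).inv_right)
        (hc.mul_right (Commute.refl p).inv_right))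
      exact u1 (by linear_combination h3 - u * h.two)
  · rintro ⟨ε, hε, rfl⟩
    refine h.ho_mulQ ⟨h1 u, fun l' hl' => ?_⟩ hε
    obtain ⟨u', rfl⟩ := (h.memZ _).1 hl'
    exact ⟨s u', h1 u', h2 u u'⟩

theorem ho_uniq (k : Ho L Q Y Z t (ζ u) p) (k' : Ho L Q Y Z t (ζ u) p') : ∃ ε ∈ Q, p' = p * ε := by
  obtain ⟨s, κ, k1, k2, -⟩ := h.exists_fam
  exact HbC.trans ((h.ho_iff k1 k2).1 k') (HbC.symm ((h.ho_iff k1 k2).1 k))

theorem ho_mul (k : Ho L Q Y Z t (ζ u) p) (k' : Ho L Q Y Z t (ζ u') p') :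
    Ho L Q Y Z t (ζ (u + u')) (p * p') ∧ Commute p p' := by
  obtain ⟨s, κ, k1, k2, k3, -⟩ := h.exists_fam
  have a : HbC Q p (s u) := (h.ho_iff k1 k2).1 k
  have a' : HbC Q p' (s u') := (h.ho_iff k1 k2).1 k'
  refine ⟨(h.ho_iff k1 k2).2 (((a.mul_right k'.1.cQ).trans (a'.mul_left _)).trans (HbC.symm (k3 u u'))), ?_⟩
  obtain ⟨ε, hε, e⟩ := a
  obtain ⟨ε', hε', e'⟩ := a'
  have c1 : Commute (s u) p' := e' ▸ (k2 u u').mul_right (mem_centralizer_iff.1 (k1 u).cQ ε' hε').symm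
  exact e ▸ c1.mul_left (mem_centralizer_iff.1 k'.1.cQ ε hε)

theorem ho_inv (k : Ho L Q Y Z t (ζ u) p) : Ho L Q Y Z t (ζ u) p⁻¹ := by
  refine ⟨h.mo_inv k.1, fun l' hl' => ?_⟩
  obtain ⟨p', hp', hc⟩ := k.2 l' hl'
  exact ⟨p', hp', hc.inv_left⟩

theorem ho_m (k : Ho L Q Y Z t (ζ u) p) (c : Fˣ) :
    Ho L Q Y Z t (ζ (c * c * u)) (m c * p * (m c)⁻¹) := by
  obtain ⟨s, κ, k1, k2, -, k4, -⟩ := h.exists_fam
  obtain ⟨ε, hε, rfl⟩ := (h.ho_iff k1 k2).1 k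
  refine (h.ho_iff k1 k2).2 (HbC.trans ⟨_, h.hb_mQ c hε, ?_⟩ (k4 c u))
  group

theorem ho_sq : ∃ κ : F, ∀ u p, Ho L Q Y Z t (ζ u) p → p * p = ζ (κ * u) := by
  obtain ⟨s, κ, k1, k2, -, -, k5⟩ := h.exists_fam
  exact ⟨κ, fun u p k => (h.hb_sq ((h.ho_iff k1 k2).1 k) (k1 u).cQ).trans (k5 u)⟩

end LD

end CfsgLib.SP4
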