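import Cfsg.Agent.Lib.SP4.HoB

/-! Hats, type-free: torus-fixed hats -/

set_option autoImplicit false
set_option linter.unusedSectionVars false

namespace CfsgLib.SP4

open Subgroup Module CfsgLib.Forms CfsgLib.LieMult
open CfsgLib.HX (Std CO Two Mv M2)
open CfsgLib.UN (AV SI TI HH Rad Stb Yg Rg Eg Act nu)
open CfsgLib.ClSys (II)
open Submodule (span)
open scoped commutatorElement Pointwise

universe u

variable {F : Type} [Field F] [Finite F] {V : Type} [AddCommGroup V] [Module F V]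
  [FiniteDimensional F V] {P : PQ (RingHom.id F) V} {S : Type} [Group S] [Finite S] {G : Type u}
  [Group G] [Finite G] {C : CG P S} {φ : S →* G} {t : G}

variable {L Q Y Z : Subgroup G} {ζ : F → G} {n m : Fˣ →* G} {l l' p p' g : G} {u u' : F}

theorem hoc_odd [Fintype Fˣ] (h2 : (2 : F) = 0) (u : F) :
    ∏ _c : Fˣ, Multiplicative.ofAdd u = Multiplicative.ofAdd u := by
  classical
  have := Fintype.ofFinite F
  have h1 : Fintype.card Fˣ + 1 = Fintype.card F := by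
    rw [← Nat.card_eq_fintype_card, Nat.card_units, Nat.card_eq_fintype_card]
    exact Nat.sub_add_cancel Fintype.card_pos
  have h3 : (Fintype.card Fˣ : F) + 1 = 0 := by
    rw [← Nat.cast_add_one, h1, FiniteField.cast_card_eq_zero]
  rw [Finset.prod_const, Finset.card_univ, ← ofAdd_nsmul, nsmul_eq_mul,
    show (Fintype.card Fˣ : F) = 1 by linear_combination h3 - h2, one_mul]

theorem hoc_act (B : Subgroup G) (f : Fˣ →* G) (hf : ∀ c, ∀ p ∈ B, f c * p * (f c)⁻¹ ∈ B) :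
    ∃ μ : Fˣ → B →* B, (∀ c a, (μ c a : G) = f c * a * (f c)⁻¹) ∧ ∀ c d a, μ c (μ d a) = μ (c * d) a := by
  refine ⟨fun c => ((MulAut.conj (f c)).toMonoidHom.comp B.subtype).codRestrict B fun a => hf c a a.2,
    fun _ _ => rfl, fun c d a => Subtype.ext ?_⟩
  change f c * (f d * a * (f d)⁻¹) * (f c)⁻¹ = f (c * d) * a * (f (c * d))⁻¹
  rw [map_mul]
  group

namespace LD

variable (h : LD L Q Y Z t ζ n m)
include h

theorem hoc_zero : ζ 0 = 1 := by simpa using h.add 0 0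

theorem hoc_eq (k : Ho L Q Y Z t (ζ u) p) (k' : Ho L Q Y Z t (ζ u') p) : u = u' := by
  have e : ζ u = ζ u' := mul_left_cancel (k.1.pt.symm.trans k'.1.pt)
  have := h.inj (u + u') (by rw [h.add, e, h.sq _ (h.ZQ ((h.memZ _).2 ⟨_, rfl⟩))])
  linear_combination this - u' * h.two

theorem hoc_pi {B : Subgroup G} (hB : ∀ p ∈ B, ∃ u, Ho L Q Y Z t (ζ u) p) :
    ∃ π : B →* Multiplicative F, ∀ (a : B) u, Ho L Q Y Z t (ζ u) a ↔ π a = Multiplicative.ofAdd u := by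
  choose π hπ using fun a : B => hB a a.2
  refine ⟨MonoidHom.mk' (fun a => Multiplicative.ofAdd (π a)) fun a b => ?_, fun a u => ⟨fun k => ?_, fun e => ?_⟩⟩
  · exact congrArg Multiplicative.ofAdd (h.hoc_eq (hπ (a * b)) (h.ho_mul (hπ a) (hπ b)).1)
  · exact congrArg Multiplicative.ofAdd (h.hoc_eq (hπ a) k)
  · exact (Multiplicative.ofAdd.injective e : π a = u) ▸ hπ a

theorem hoc_comm {B : Subgroup G} (hB : ∀ p ∈ B, ∃ u, Ho L Q Y Z t (ζ u) p) (a b : B) : a * b = b * a :=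
  let ⟨_, k⟩ := hB a a.2
  let ⟨_, k'⟩ := hB b b.2
  Subtype.ext (h.ho_mul k k').2

theorem hoc_A : ∃ A : Subgroup G, ∀ p, p ∈ A ↔ ∃ u, Ho L Q Y Z t (ζ u) p :=
  ⟨{ carrier := {p | ∃ u, Ho L Q Y Z t (ζ u) p}
     mul_mem' := fun ⟨_, k⟩ ⟨_, k'⟩ => ⟨_, (h.ho_mul k k').1⟩
     one_mem' := ⟨0, h.hoc_zero ▸ h.ho_Q (one_mem Q)⟩
     inv_mem' := fun ⟨_, k⟩ => ⟨_, h.ho_inv k⟩ }, fun _ => Iff.rfl⟩

theorem hoc_Y (k : Ho L Q Y Z t (ζ u) p) (hg : g ∈ Y) : Ho L Q Y Z t (ζ u) (g * p * g⁻¹) := by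
  have e : g * ζ u * g⁻¹ = ζ u :=
    mul_inv_eq_iff_eq_mul.2 (h.YZ hg _ ((h.memZ _).2 ⟨_, rfl⟩)).symm
  exact e ▸ k.conj (h.tC g (h.YL hg)) (le_normalizer (h.YL hg)) (fun y => (mem_normalizer_iff.1 (h.YQ hg) y).symm)
    (fun y => (mem_normalizer_iff.1 (le_normalizer hg) y).symm)
    fun y => (mem_normalizer_iff.1 (centralizer_le_normalizer _ (h.YZ hg)) y).symm

theorem ho_fix (u : F) : ∃ p, Ho L Q Y Z t (ζ u) p ∧ ∀ c, Commute (n c) p := by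
  have := Fintype.ofFinite Fˣ
  obtain ⟨A, hA⟩ := h.hoc_A
  obtain ⟨π, hπ⟩ := h.hoc_pi fun p => (hA p).1
  let : CommGroup A := { (inferInstance : Group A) with mul_comm := h.hoc_comm fun p => (hA p).1 }
  obtain ⟨μ, h1, h2⟩ := hoc_act A n fun c p hp =>
    let ⟨_, k⟩ := (hA p).1 hp
    (hA _).2 ⟨_, h.hoc_Y k (h.nY c)⟩
  obtain ⟨p, k⟩ := h.ho_ex u
  refine ⟨(∏ c, μ c ⟨p, (hA p).2 ⟨u, k⟩⟩ : A), (hπ _ _).2 ?_, fun d => mul_inv_eq_iff_eq_mul.1 ?_⟩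
  · rw [map_prod, ← hoc_odd h.two u]
    exact Finset.prod_congr rfl fun c _ => (hπ _ _).1 (h1 c _ ▸ h.hoc_Y k (h.nY c))
  · rw [← h1, map_prod]
    exact congrArg _ (Fintype.prod_equiv (Equiv.mulLeft d) _ _ fun c => h2 d c _)

theorem ho_uniq' (k : Ho L Q Y Z t (ζ u) p) (k' : Ho L Q Y Z t (ζ u) p') (c : ∀ c, Commute (n c) p)
    (c' : ∀ c, Commute (n c) p') : ∃ r, p' = p * ζ r := by
  obtain ⟨ε, hε, rfl⟩ := h.ho_uniq k k'
  obtain ⟨r, rfl⟩ := (h.memZ ε).1 (h.fix ε hε fun l => by simpa using (c l).inv_right.mul_right (c' l))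
  exact ⟨r, rfl⟩

theorem ho_cY (H : ∃ p, Mv L Y t (ζ 1) p) (k : Ho L Q Y Z t (ζ u) p) (c : ∀ c, Commute (n c) p) :
    p ∈ centralizer (Y : Set G) := by
  have hZ : Z ≤ centralizer (Y : Set G) := le_centralizer_iff.1 h.YZ
  by_cases h0 : u = 0
  · subst h0
    obtain ⟨r, rfl⟩ := h.ho_uniq' (p := 1) (h.hoc_zero ▸ h.ho_Q (one_mem Q)) k (fun _ => Commute.one_right _) c
    exact mul_mem (one_mem _) (hZ ((h.memZ _).2 ⟨r, rfl⟩))
  have : CharP F 2 := CharTwo.of_one_ne_zero_of_two_eq_zero one_ne_zero h.two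
  obtain ⟨x, rfl⟩ := isSquare_of_charTwo' u
  obtain ⟨q, hq⟩ := H
  set d := Units.mk0 x (left_ne_zero_of_mul h0) with hd
  have h1 : m d * q * (m d)⁻¹ ∈ centralizer (Y : Set G) := fun y hy => by
    have := hq.cY _ (Tech.conj_mem_of_mem_normalizer' (h.mY d) hy)
    calc _ = m d * ((m d)⁻¹ * y * m d * q) * (m d)⁻¹ := by group
      _ = _ := by rw [this]; group
  have h2 : m d * q * (m d)⁻¹ * t * (m d * q * (m d)⁻¹)⁻¹ = t * ζ (x * x) := by
    have e := h.tC _ (h.mL d)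
    calc _ = m d * (q * ((m d)⁻¹ * (t * m d)) * q⁻¹) * (m d)⁻¹ := by group
      _ = m d * t * (m d)⁻¹ * (m d * ζ 1 * (m d)⁻¹) := by rw [← e, inv_mul_cancel_left, hq.pt]; group
      _ = _ := by rw [h.mz, e, mul_inv_cancel_right, mul_one]; rfl
  have hL : centralizer (L : Set G) ≤ centralizer (Y : Set G) := centralizer_le h.YL
  obtain ⟨ε, hε, w, hw, e⟩ : ∃ ε ∈ Q, ∃ w ∈ centralizer (Y : Set G), m d * q * (m d)⁻¹ = p * ε * w := by
    obtain ⟨ε, hε, o, ho, -, -, e | e⟩ := h.dec' k.1 (centralizer_le h.QY h1) h2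
    exacts [⟨ε, hε, o, hL ho, e⟩, ⟨ε, hε, t * o, hL (mul_mem h.tC ho), by rw [e, mul_assoc]⟩]
  rw [e] at h1
  have h3 := (mul_mem_cancel_right hw).1 h1
  have h4 := h.fix ε hε fun l => by simpa using (c l).inv_right.mul_right (h3 _ (h.nY l))
  exact (mul_mem_cancel_right (hZ h4)).1 h3

/-- an additive equivariant family -/
theorem ho_sec (H : ∀ u p, Ho L Q Y Z t (ζ u) p → p * p = 1) : ∃ s : F → G,
    (∀ u, Ho L Q Y Z t (ζ u) (s u) ∧ ∀ c, Commute (n c) (s u)) ∧ (∀ u u', s (u + u') = s u * s u') ∧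
    ∀ (c : Fˣ) u, m c * s u * (m c)⁻¹ = s (c * c * u) := by
  have := Fintype.ofFinite Fˣ
  obtain ⟨A, hA⟩ := h.hoc_A
  obtain ⟨B, hB⟩ : ∃ B : Subgroup G, ∀ p, p ∈ B ↔ (∃ u, Ho L Q Y Z t (ζ u) p) ∧ ∀ c, Commute (n c) p :=
    ⟨A ⊓ centralizer (Set.range n), fun p => and_congr (hA p)
      ⟨fun k c => k _ ⟨c, rfl⟩, fun k _ ⟨c, e⟩ => e ▸ k c⟩⟩
  obtain ⟨π, hπ⟩ := h.hoc_pi fun p hp => ((hB p).1 hp).1
  let : CommGroup B := { (inferInstance : Group B) with mul_comm := h.hoc_comm fun p hp => ((hB p).1 hp).1 }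
  obtain ⟨μ, h1, h2⟩ := hoc_act B m fun c p hp =>
    let ⟨⟨_, k⟩, k'⟩ := (hB p).1 hp
    (hB _).2 ⟨⟨_, h.ho_m k c⟩, fun d =>
      ((h.mn c d).symm.mul_right (k' d)).mul_right (h.mn c d).symm.inv_right⟩
  obtain ⟨s₀, hs⟩ : ∃ s₀ : F →+ Additive B, ∀ u, π (s₀ u).toMul = Multiplicative.ofAdd u := by
    let : Module (ZMod 2) F := AddCommGroup.zmodModule fun x => by rw [two_nsmul, ← two_mul, h.two, zero_mul]
    let : Module (ZMod 2) (Additive B) := AddCommGroup.zmodModule fun x => by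
      obtain ⟨⟨u, k⟩, -⟩ := (hB _).1 x.toMul.2
      rw [two_nsmul]
      exact Subtype.ext (H u _ k)
    have := Fact.mk Nat.prime_two
    obtain ⟨s, hs⟩ := LinearMap.exists_rightInverse_of_surjective
      ((MonoidHom.toAdditiveLeft π).toZModLinearMap 2) (LinearMap.range_eq_top.2 fun u => by
        obtain ⟨p, k, k'⟩ := h.ho_fix u
        exact ⟨Additive.ofMul ⟨p, (hB p).2 ⟨⟨u, k⟩, k'⟩⟩, (hπ _ _).1 k⟩)
    exact ⟨s.toAddMonoidHom, fun u => LinearMap.congr_fun hs u⟩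
  refine ⟨fun u => (∏ c : Fˣ, μ c⁻¹ (s₀ (c * c * u)).toMul : B), fun u => ⟨(hπ _ _).2 ?_, ((hB _).1 (Subtype.coe_prop _)).2⟩,
    fun u u' => ?_, fun d u => ?_⟩
  · rw [map_prod, ← hoc_odd h.two u]
    refine Finset.prod_congr rfl fun c _ => (hπ _ _).1 ?_
    have := h.ho_m ((hπ _ _).2 (hs (c * c * u))) c⁻¹
    rwa [← h1, show ((c⁻¹ : Fˣ) : F) * (c⁻¹ : Fˣ) * (c * c * u) = u by
      rw [Units.val_inv_eq_inv_val]; field_simp] at this
  · simp only [mul_add, map_add, toMul_add, map_mul, Finset.prod_mul_distrib, coe_mul]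
  · rw [← h1, map_prod]
    refine congrArg _ (Fintype.prod_equiv (Equiv.mulRight d⁻¹) _ _ fun c => ?_)
    rw [h2, Equiv.coe_mulRight, mul_inv_rev, inv_inv,
      show ((c * d⁻¹ : Fˣ) : F) * (c * d⁻¹ : Fˣ) * (d * d * u) = c * c * u by
        rw [Units.val_mul, Units.val_inv_eq_inv_val]; field_simp]

end LD

end CfsgLib.SP4
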