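import Cfsg.Agent.Lib.SP4.HoC
import Cfsg.Agent.Lib.SP4.Tor

/-! The local data of points and lines -/

set_option autoImplicit false
set_option linter.unusedSectionVars false

namespace CfsgLib.SP4

open Subgroup Module CfsgLib.Forms CfsgLib.LieMult
open CfsgLib.HX (Std CO Two Mv M2)
open CfsgLib.UN (AV SI TI HH Rad Stb Yg Rg Eg Act nu)
open CfsgLib.ClSys (II)
open Submodule (span)
open scoped commutatorElement Pointwise

universe u

variable {F : Type} [Field F] [Finite F] {V : Type} [AddCommGroup V] [Module F V]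
  [FiniteDimensional F V] {P : PQ (RingHom.id F) V} {S : Type} [Group S] [Finite S] {G : Type u}
  [Group G] [Finite G] {C : CG P S} {φ : S →* G} {t : G}

theorem Emb.ld_pt (h : Emb C φ) {e : V} {s : S} {l : Fˣ} (hs : C.act s e = (l : F) • e) :
    φ s ∈ normalizer (Rg C φ (span F {e}) : Set G) ∧ φ s ∈ normalizer (Yg C φ (span F {e}) : Set G) := by
  have e1 : span F {C.act s e} = span F {e} := by rw [hs, Submodule.span_singleton_smul_eq l.isUnit]
  have k := h.act_conj (h.act_self s) e e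
  exact ⟨mem_normalizer_iff.2 fun y => (e1 ▸ (k y).2.1 :).symm, mem_normalizer_iff.2 fun y => (e1 ▸ (k y).1 :).symm⟩

theorem Emb.ld_ln (h : Emb C φ) {e a : V} (k : Ln P e a) {s : S} {l : Fˣ} (hs : C.act s e = (l : F) • e)
    (hs' : C.act s a = (l : F) • a) :
    φ s ∈ normalizer (Eg C φ (span F {e, a}) : Set G) ∧ φ s ∈ normalizer (Yl C φ e a : Set G) := by
  obtain ⟨e1, -, e2⟩ := h.Yl_congr k (α := l) (β := 0) (γ := 0) (δ := l) (by simp)
  simp only [zero_smul, add_zero, zero_add, ← hs, ← hs'] at e1 e2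
  have k' := h.act_conj (h.act_self s) e a
  exact ⟨mem_normalizer_iff.2 fun y => (e2 ▸ (k' y).2.2.2.1 :).symm,
    mem_normalizer_iff.2 fun y => (e1 ▸ ((k' y).2.2.2.2 k.perp).1 :).symm⟩

theorem ld_zero {l v : F} (h1 : l ≠ 1) (e : l * v = v) : v = 0 := by
  by_contra h0
  exact h1 (mul_right_cancel₀ h0 (e.trans (one_mul v).symm))

theorem MZ.ld (h : MZ C φ t) {e f a f' : V} (k : HH P e f a f') {T : Fˣ × Fˣ →* S}
    (hT : Tor C e f a f' T) :
    LD φ.range (Rg C φ (span F {e})) (Yg C φ (span F {e})) (Eg C φ (span F {e})) t (z C φ e)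
      (φ.comp (T.comp (MonoidHom.inr _ _))) (φ.comp (T.comp (MonoidHom.inl _ _))) := by
  have E := h.toEmb
  have M := E.toMod
  have ln := M.ln_of_hh k
  have h0 := ln.ne
  have ti := M.ti_pt e
  refine
    { two := h.two, big := h.big, t2 := h.t2, tC := h.tC, tL := h.toSit.t_not_mem, two' := h.two'
      cL := fun g h1 h2 => E.eq_one h1 h2, QY := E.R_le_Y, YL := E.Y_le_L, sq := fun v hv => E.Q_sq h0 hv
      YQ := ?_, memZ := fun g => E.mem_Z, ZQ := E.E_le_R ti, add := E.z_add e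
      inj := fun s hs => (E.z_eq_one.1 hs).resolve_left h0, YZ := le_centralizer_iff.1 (E.E_cent ti)
      cQ := fun g h1 h2 => E.cQ h0 (h.toSit.norm_of h1) h2
      nY := fun l => ⟨T (1, l), mem_fix_pt.2 ((hT.e 1 l).trans (one_smul _ _)), rfl⟩
      fix := ?_, mL := fun l => ⟨_, rfl⟩, mQ := fun l => (E.ld_pt (hT.e l 1)).1
      mY := fun l => (E.ld_pt (hT.e l 1)).2, mn := fun l l' => ((Commute.all _ _).map T).map φ
      mz := fun l s => ?_, mv := ?_ }
  · rintro _ ⟨s, hs, rfl⟩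
    exact (E.ld_pt (l := 1) ((mem_fix_pt.1 hs).trans (one_smul _ _).symm)).1
  · intro g hg H
    obtain ⟨r, v, μ, rfl⟩ := (E.mem_Q' k).1 hg
    obtain ⟨c, c0, c1⟩ := M.exists_big'
    have k1 : P.B e (v • a) = 0 := by rw [map_smul, k.ee, smul_zero]
    have k2 : P.B e (μ • f') = 0 := by rw [map_smul, k.ef, smul_zero]
    have e1 : φ (T (1, Units.mk0 c c0)) * (z C φ e r * x C φ e (v • a) * x C φ e (μ • f')) *
        (φ (T (1, Units.mk0 c c0)))⁻¹ = z C φ e r * x C φ e ((c * v) • a) * x C φ e ((c⁻¹ * μ) • f') := by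
      rw [← conj_mul, ← conj_mul, E.z_conj, E.x_conj _ k1, E.x_conj _ k2, map_smul, map_smul, hT.e, hT.a, hT.f',
        smul_smul, smul_smul, Units.val_one, one_smul, Units.val_mk0, mul_comm v, mul_comm μ]
    have e2 := (H (Units.mk0 c c0)).mul_inv_cancel
    obtain ⟨-, e3, e4⟩ := E.Q_inj k (e1.symm.trans e2)
    rw [ld_zero c1 e3, ld_zero (mt inv_eq_one.1 c1) e4, zero_smul, zero_smul, E.x_zero, mul_one, mul_one]
    exact E.mem_Z.2 ⟨r, rfl⟩
  · exact (E.z_conj (T (l, 1)) e s).trans (by rw [hT.e, E.z_smul])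
  · obtain ⟨p, hp⟩ := h.mv e h0
    exact ⟨p, hp.cQ, hp.nY, hp.pt, hp.co⟩

theorem MA.ld (h : MA C φ t) {e f a f' : V} (k : HH P e f a f') {T : Fˣ × Fˣ →* S}
    (hT : Tor C e f a f' T) :
    LD φ.range (Eg C φ (span F {e, a})) (Yl C φ e a) (Al C φ e a) t (fun v => x C φ e (v • a))
      (φ.comp (T.comp ((MonoidHom.id _).prod invMonoidHom)))
      (φ.comp (T.comp ((MonoidHom.id _).prod (MonoidHom.id _)))) := by
  have E := h.toEmb
  have M := E.toMod
  have ln := M.ln_of_hh k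
  have ti := M.ti_pair ln.perp
  have kp : ∀ v : F, P.B e (v • a) = 0 := fun v => by rw [map_smul, k.ee, smul_zero]
  refine
    { two := h.two, big := h.big, t2 := h.t2, tC := h.tC, tL := h.toSit.t_not_mem, two' := h.two'
      cL := fun g h1 h2 => E.eq_one h1 h2, QY := E.E_le_Yl ln, YL := inf_le_left, sq := fun v hv => E.E_sq ti hv
      YQ := E.Yl_norm ln, memZ := fun g => E.mem_Al ln, ZQ := inf_le_left, add := fun s s' => ?_
      inj := fun s hs => (E.x_eq_one ln).1 hs, YZ := le_centralizer_iff.1 inf_le_right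
      cQ := fun g h1 h2 => ?_
      nY := fun l => (E.mem_Yl ln (s := T (l, l⁻¹))).2 ⟨l, 0, 0, (l⁻¹ : Fˣ), by simp, by simp [hT.e], by simp [hT.a]⟩
      fix := ?_, mL := fun l => ⟨_, rfl⟩, mQ := fun l => (E.ld_ln ln (hT.e l l) (hT.a l l)).1
      mY := fun l => (E.ld_ln ln (hT.e l l) (hT.a l l)).2, mn := fun l l' => ((Commute.all _ _).map T).map φ
      mz := fun l s => ?_, mv := ?_ }
  · rw [add_smul]
    exact E.x_add (kp s) (kp s') (by rw [map_smul, M.B_smul_left, M.B_self, mul_zero, smul_zero])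
  · obtain ⟨y, hy, hc⟩ := E.cz (W := span F {e, a})
      (fun e0 => ln.ne ((Submodule.eq_bot_iff _).1 e0 e (Submodule.subset_span (by simp))))
      (h.toSit.norm_of h1) fun u hu c => (h2 _ (E.τ_mem_E ti hu (zero_mem _) c)).symm
    refine ⟨y, ?_, hc⟩
    have : P.perp (span F {e, a}) = span F {e, a} := M.lag_ln ln
    rwa [Eg, this]
  · intro g hg H
    obtain ⟨r, v, r', rfl⟩ := (E.mem_El ln).1 hg
    obtain ⟨c, c0, c1⟩ := M.exists_big'
    have e1 : φ (T (Units.mk0 c c0, (Units.mk0 c c0)⁻¹)) * (z C φ e r * x C φ e (v • a) * z C φ a r') *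
        (φ (T (Units.mk0 c c0, (Units.mk0 c c0)⁻¹)))⁻¹ =
        z C φ e (c * c * r) * x C φ e ((c * (v * c⁻¹)) • a) * z C φ a (c⁻¹ * c⁻¹ * r') := by
      rw [← conj_mul, ← conj_mul, E.z_conj, E.x_conj _ (kp v), E.z_conj, map_smul, hT.e, hT.a, E.z_smul, E.z_smul,
        smul_smul, E.x_smul (kp _), smul_smul, Units.val_inv_eq_inv_val, Units.val_mk0]
    have e2 := (H (Units.mk0 c c0)).mul_inv_cancel
    obtain ⟨e3, -, e4⟩ := E.line_inj ln (e1.symm.trans e2)
    have n1 : ∀ d : F, d ≠ 1 → d * d ≠ 1 := fun d h1 h2 => h1 (M.sq_inj (h2.trans (mul_one 1).symm))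
    rw [ld_zero (n1 c c1) e3, ld_zero (n1 _ (mt inv_eq_one.1 c1)) e4, E.z_zero, E.z_zero, mul_one, one_mul]
    exact (E.mem_Al ln).2 ⟨v, rfl⟩
  · refine (E.x_conj (T (l, l)) (kp s)).trans ?_
    rw [map_smul, hT.e, hT.a, smul_smul, E.x_smul (kp _), smul_smul, mul_comm s, mul_assoc]
  · simpa only [one_smul] using h.mv e a ln

namespace Sit

variable (h : Sit C φ t) {e a : V} {g p : G} {α : RingAut F} {γ : AV V} {c v : F}
include h

theorem ph_act (k : Act C φ g α γ) (hg : g * t = t * g) (hp : PH C φ t e c p) :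
    PH C φ t (γ e) (α c) (g * p * g⁻¹) := by
  have k' := h.toEmb.act_conj k e e
  rw [PH, ← h.toEmb.act_z k]
  exact Ho.conj hp hg (h.toEmb.act_mem k) (fun y => (k' y).2.1) (fun y => (k' y).1) fun y => (k' y).2.2.1

theorem lh_act (k : Act C φ g α γ) (hg : g * t = t * g) (l : P.B e a = 0) (hp : LH C φ t e a v p) :
    LH C φ t (γ e) (γ a) (α v) (g * p * g⁻¹) := by
  have k' := h.toEmb.act_conj k e a
  rw [LH, ← k.semi, ← h.toEmb.act_x k (by rw [map_smul, l, smul_zero])]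
  exact Ho.conj hp hg (h.toEmb.act_mem k) (fun y => (k' y).2.2.2.1) (fun y => ((k' y).2.2.2.2 l).1)
    fun y => ((k' y).2.2.2.2 l).2

theorem ph_conj (s : S) (hp : PH C φ t e c p) : PH C φ t (C.act s e) c (φ s * p * (φ s)⁻¹) := by
  have k := h.ph_act (h.toEmb.act_self s) (h.tl s) hp
  rwa [LinearEquiv.restrictScalars_apply, show (1 : RingAut F) c = c from rfl] at k

theorem lh_conj (s : S) (l : P.B e a = 0) (hp : LH C φ t e a v p) :
    LH C φ t (C.act s e) (C.act s a) v (φ s * p * (φ s)⁻¹) := by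
  have k := h.lh_act (h.toEmb.act_self s) (h.tl s) l hp
  rwa [LinearEquiv.restrictScalars_apply, LinearEquiv.restrictScalars_apply,
    show (1 : RingAut F) v = v from rfl] at k

theorem ph_smul {l : F} (hl : l ≠ 0) : PH C φ t (l • e) c p ↔ PH C φ t e (l * l * c) p := by
  rw [PH, PH, Submodule.span_singleton_smul_eq hl.isUnit, h.toEmb.z_smul]

theorem lh_congr (k : Ln P e a) {c₁ d₁ c₂ d₂ : F} (hd : c₁ * d₂ + d₁ * c₂ ≠ 0) :
    LH C φ t (c₁ • e + d₁ • a) (c₂ • e + d₂ • a) v p ↔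
      LH C φ t e a ((c₁ * d₂ + d₁ * c₂) * v) p := by
  obtain ⟨e1, e2, e3⟩ := h.toEmb.Yl_congr k hd
  rw [LH, LH, e1, e2, e3, smul_add, smul_smul, smul_smul, h.toEmb.loc_x k.perp,
    show c₁ * (v * d₂) + v * c₂ * d₁ = (c₁ * d₂ + d₁ * c₂) * v by ring]

end Sit

end CfsgLib.SP4
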