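import Cfsg.Agent.Lib.SP4.Ld

/-! The hats of the transvections -/

set_option autoImplicit false
set_option linter.unusedSectionVars false

namespace CfsgLib.SP4

open Subgroup Module CfsgLib.Forms CfsgLib.LieMult
open CfsgLib.HX (Std CO Two Mv M2)
open CfsgLib.UN (AV SI TI HH Rad Stb Yg Rg Eg Act nu)
open CfsgLib.ClSys (II)
open Submodule (span)
open scoped commutatorElement Pointwise

universe u

variable {F : Type} [Field F] [Finite F] {V : Type} [AddCommGroup V] [Module F V]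
  [FiniteDimensional F V] {P : PQ (RingHom.id F) V} {S : Type} [Group S] [Finite S] {G : Type u}
  [Group G] [Finite G] {C : CG P S} {φ : S →* G} {t : G}

theorem MZ.ldb_ld (h : MZ C φ t) {e : V} (h0 : e ≠ 0) : ∃ n m : Fˣ →* G,
    LD φ.range (Rg C φ (span F {e})) (Yg C φ (span F {e})) (Eg C φ (span F {e})) t (z C φ e) n m ∧
      ∀ l : Fˣ, ∃ s, m l = φ s ∧ C.act s e = (l : F) • e := by
  obtain ⟨f, hf⟩ := h.exists_hp h0
  obtain ⟨a, f', k⟩ := h.exists_hh hf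
  obtain ⟨T, hT⟩ := h.toMod.exists_tor k
  exact ⟨_, _, h.ld k hT, fun l => ⟨T (l, 1), rfl, hT.e l 1⟩⟩

/-- transport of an element centralising `Y_{e₀}` to all points -/
theorem Emb.ldb_u (h : Emb C φ) {e₀ : V} (h0 : e₀ ≠ 0) {u₀ : G}
    (hu : u₀ ∈ centralizer (Yg C φ (span F {e₀}) : Set G)) :
    ∃ u : V → G, u 0 = 1 ∧ ∀ l, u (C.act l e₀) = φ l * u₀ * (φ l)⁻¹ := by
  classical
  refine ⟨fun e => if k : e = 0 then 1 else φ (h.trans h0 k).choose * u₀ * (φ (h.trans h0 k).choose)⁻¹,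
    dif_pos rfl, fun l => ?_⟩
  have k : C.act l e₀ ≠ 0 := (C.act l).map_ne_zero_iff.2 h0
  have e := (h.trans h0 k).choose_spec
  simp only [dif_neg k]
  generalize (h.trans h0 k).choose = r at e
  have c := mem_centralizer_iff.1 hu _ (mem_map_of_mem φ (mem_fix_pt.2 (show C.act (l⁻¹ * r) e₀ = e₀ by
    rw [C.mul_apply, e, ← C.mul_apply, inv_mul_cancel, map_one]; rfl)))
  rw [map_mul, map_inv] at c
  calc _ = φ l * ((φ l)⁻¹ * φ r * u₀) * (φ r)⁻¹ := by group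
    _ = _ := by rw [c]; group

/-- the family of hats of the transvections -/
theorem MZ.y0 (h : MZ C φ t) (hc : CZ C φ t) : ∃ y κ₁, Y0 C φ t y κ₁ := by
  obtain ⟨e₀, h0, H⟩ := hc
  obtain ⟨n, m, D, hm⟩ := h.ldb_ld h0
  obtain ⟨κ, hκ⟩ := D.ho_sq
  obtain ⟨u₀, ⟨u1, u2⟩, u3⟩ : ∃ u₀, (PH C φ t e₀ 1 u₀ ∧ ∀ c, Commute (n c) u₀) ∧ (κ = 0 → ∃ s : F → G,
      s 1 = u₀ ∧ (∀ c d, s (c + d) = s c * s d) ∧ ∀ (c : Fˣ) d, m c * s d * (m c)⁻¹ = s (c * c * d)) := by
    by_cases k : κ = 0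
    · obtain ⟨s, s1, s2, s3⟩ := D.ho_sec fun c p hp => by rw [hκ c p hp, k, zero_mul, h.z_zero]
      exact ⟨s 1, s1 1, fun _ => ⟨s, rfl, s2, s3⟩⟩
    · obtain ⟨p, hp⟩ := D.ho_fix 1
      exact ⟨p, hp, fun e => absurd e k⟩
  obtain ⟨u, v0, v1⟩ := h.toEmb.ldb_u h0 (D.ho_cY H u1 u2)
  choose q hq using h.exists_sqrt
  have q0 : q 0 = 0 := mul_self_eq_zero.1 (hq 0)
  have q1 : ∀ c, c ≠ 0 → q c ≠ 0 := fun c k e => k (by rw [← hq c, e, mul_zero])
  have ind : ∀ {R : V → Prop}, R 0 → (∀ l, R (C.act l e₀)) → ∀ e, R e := fun {R} r0 r1 e => by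
    by_cases k : e = 0
    · rwa [k]
    · obtain ⟨l, rfl⟩ := h.trans h0 k
      exact r1 l
  have v2 : ∀ l e, φ l * u e * (φ l)⁻¹ = u (C.act l e) := fun l => ind (by rw [map_zero, v0]; simp) fun r => by
    rw [← C.mul_apply, v1, v1, map_mul]; group
  have v3 : ∀ e, u e * u e = z C φ e κ := ind (by rw [v0, h.z_zero', one_mul]) fun l => by
    rw [v1, conj_mul, hκ 1 _ u1, mul_one, h.z_conj]
  have v4 : ∀ e, e ≠ 0 → PH C φ t e 1 (u e) := ind (fun k => absurd rfl k) fun l _ => by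
    rw [v1]; exact h.toSit.ph_conj l u1
  have eqv : ∀ l e c, φ l * u (q c • e) * (φ l)⁻¹ = u (q c • C.act l e) := fun l e c => by rw [v2, map_smul]
  have ph : ∀ e c, e ≠ 0 → PH C φ t e c (u (q c • e)) := fun e c k => by
    by_cases c0 : c = 0
    · obtain ⟨_, _, D', -⟩ := h.ldb_ld k
      rw [c0, q0, zero_smul, v0, PH, h.z_zero]
      exact D'.ho_Q (one_mem _)
    · have := (h.toSit.ph_smul (q1 c c0)).1 (v4 _ (smul_ne_zero (q1 c c0) k))
      rwa [mul_one, hq] at this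
  have cY : ∀ e c, u (q c • e) ∈ centralizer (Yg C φ (span F {e}) : Set G) := fun e c =>
    mem_centralizer_iff.2 (by
      rintro _ ⟨s, hs, rfl⟩
      rw [← mul_inv_eq_iff_eq_mul, eqv, mem_fix_pt.1 hs])
  refine ⟨fun e c => u (q c • e), κ, h, ph, cY, fun e c => ?_, eqv, fun e => ?_, fun c => ?_, fun e c l => ?_,
    fun e c d => ?_, fun k e c d => ?_⟩
  · rw [v3, h.z_smul, hq, mul_comm]
  · rw [q0, zero_smul, v0]
  · rw [smul_zero, v0]
  · rw [smul_smul, h.sq_inj (show q (l * l * c) * q (l * l * c) = q c * l * (q c * l) by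
      rw [hq, mul_mul_mul_comm, hq, mul_comm])]
  · by_cases k : e = 0
    · exact ⟨0, by simp only [k, smul_zero, v0, h.z_zero', mul_one]⟩
    obtain ⟨n', _, D', -⟩ := h.ldb_ld k
    have c' : ∀ c l, Commute (n' l) (u (q c • e)) := fun c l => mem_centralizer_iff.1 (cY e c) _ (D'.nY l)
    exact D'.ho_uniq' (D'.ho_mul (ph e c k) (ph e d k)).1 (ph e _ k) (fun l => (c' c l).mul_right (c' d l)) (c' _)
  · obtain ⟨s, s1, s2, s3⟩ := u3 k
    have s4 : ∀ c, u (q c • e₀) = s c := fun c => by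
      by_cases c0 : c = 0
      · have := s2 0 0
        rw [add_zero] at this
        rw [c0, q0, zero_smul, v0, left_eq_mul.1 this]
      · obtain ⟨l, l1, l2⟩ := hm (Units.mk0 _ (q1 c c0))
        have := s3 (Units.mk0 _ (q1 c c0)) 1
        rw [l1, s1, ← v1, l2, Units.val_mk0, mul_one, hq] at this
        exact this
    revert e
    exact ind (by simp only [smul_zero, v0, mul_one]) fun l => by
      simp only [← eqv, s4, s2, conj_mul]

end CfsgLib.SP4
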