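import Cfsg.Agent.Lib.SP4.AFldA
import Cfsg.Agent.Lib.SP4.AFldC
import Cfsg.Agent.Lib.SP4.APrd
import Cfsg.Agent.Lib.SP4.APrdC

/-! Type A  -/

set_option autoImplicit false
set_option linter.unusedSectionVars false

namespace CfsgLib.SP4

open Subgroup Module CfsgLib.Forms CfsgLib.LieMult
open CfsgLib.HX (Std CO Two Mv M2)
open CfsgLib.UN (AV SI TI HH Rad Stb Yg Rg Eg Act nu)
open CfsgLib.ClSys (II)
open Submodule (span)
open scoped commutatorElement Pointwise

universe u

variable {F : Type} [Field F] [Finite F] {V : Type} [AddCommGroup V] [Module F V]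
  [FiniteDimensional F V] {P : PQ (RingHom.id F) V} {S : Type} [Group S] [Finite S] {G : Type u}
  [Group G] [Finite G] {C : CG P S} {φ : S →* G} {t : G}

theorem HA2.main {w : V → V → G} {y : V → F → G} {δ : F} (h : HA2 C φ t w y δ) {Gs : Subgroup G}
    (hG : SLE.Glob Gs t) (hL : φ.range ≤ Gs) {k : ℕ} (hk : finrank F V = 2 * k) : Pr F k Gs := by
  by_cases hδ : ∃ r : F, r * r + r = δ
  · obtain ⟨r, hr⟩ := hδ
    obtain ⟨φ₁, φ₂, d⟩ := h.prod hr
    exact (d.false hG hL).elim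
  · obtain ⟨b, K, _, _, V', _, _, _, P', S', _, _, C', ψ, b', σ, d, hK, ⟨e⟩⟩ :=
      h.field (fun r hr => hδ ⟨r, hr⟩) hk
    have := Fintype.ofFinite K
    exact .inr (.inr (.inl ⟨K, _, this, by rw [← hK, Nat.card_eq_fintype_card], .inr (.inr
      ⟨((MulEquiv.subgroupCongr (d.eq hG hL).symm).trans (MonoidHom.ofInjective d.emb.inj).symm).trans e⟩)⟩))

end CfsgLib.SP4
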