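import Cfsg.Agent.Lib.SP4.Main0
import Cfsg.Agent.Lib.SP4.TyA
import Cfsg.Agent.Lib.SP4.AYw

/-! Standard components of type Sp4(q) -/

set_option autoImplicit false
set_option linter.unusedSectionVars false

namespace CfsgLib.SP4

open Subgroup Module CfsgLib.Forms CfsgLib.LieMult
open CfsgLib.HX (Std CO Two Mv M2)
open CfsgLib.UN (AV SI TI HH Rad Stb Yg Rg Eg Act nu)
open CfsgLib.ClSys (II)
open Submodule (span)
open scoped commutatorElement Pointwise

universe u

variable {F : Type} [Field F] [Finite F] {V : Type} [AddCommGroup V] [Module F V]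
  [FiniteDimensional F V] {P : PQ (RingHom.id F) V} {S : Type} [Group S] [Finite S] {G : Type u}
  [Group G] [Finite G] {C : CG P S} {φ : S →* G} {t : G}

theorem Sit.main (h : Sit C φ t) {Gs : Subgroup G} (hG : SLE.Glob Gs t) (hL : φ.range ≤ Gs) :
    Fus1 φ.range t ∧ Pr F 2 Gs := by
  obtain ⟨h1, h2 | ⟨φ', w, y, δ, e, H⟩⟩ := h.main0 hG hL
  · exact ⟨h1, h2⟩
  · exact ⟨h1, H.ha2.main hG (e ▸ hL) (k := 2) h.d4⟩

end CfsgLib.SP4
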