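import Cfsg.Agent.Lib.SP4.BDic2
import Cfsg.Agent.Lib.SP4.BX
import Cfsg.Agent.Lib.SP4.BTop

/-! Type B (final statement; owner: captain of types B, C) -/

set_option autoImplicit false
set_option linter.unusedSectionVars false

namespace CfsgLib.SP4

open Subgroup Module CfsgLib.Forms CfsgLib.LieMult
open CfsgLib.HX (Std CO Two Mv M2)
open CfsgLib.UN (AV SI TI HH Rad Stb Yg Rg Eg Act nu)
open CfsgLib.ClSys (II)
open Submodule (span)
open scoped commutatorElement Pointwise

universe u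

variable {F : Type} [Field F] [Finite F] {V : Type} [AddCommGroup V] [Module F V]
  [FiniteDimensional F V] {P : PQ (RingHom.id F) V} {S : Type} [Group S] [Finite S] {G : Type u}
  [Group G] [Finite G] {C : CG P S} {φ : S →* G} {t : G}

theorem HW.mainB {w : V → V → G} {δ : F} (h : HW C φ t w 1 δ) (hz : ¬ Tz C φ t) {Gs : Subgroup G}
    (hG : SLE.Glob Gs t) (hL : φ.range ≤ Gs) : Pr F 2 Gs := by
  have _ := hL
  haveI := h.toMod.charP
  haveI : Fact (2 < Nat.card F) := ⟨by
    obtain ⟨n, h1, h2⟩ := h.toMod.card_pow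
    have h3 : Nat.card F ≠ 2 := fun e => h.big (h.toMod.small_iff.2 e)
    have h4 : 2 ^ 1 ≤ 2 ^ n := Nat.pow_le_pow_right (by norm_num) h1
    omega⟩
  have hk : finrank F V = 2 * 2 := h.d4
  have h6 : 4 ≤ 2 * 2 := le_rfl
  have ho : ¬ Odd (2 * 2) := Nat.not_odd_iff_even.2 (even_two_mul 2)
  obtain ⟨cv, ι, d⟩ := BC.exists_io h.toMod hk (Or.inl rfl) δ
  obtain ⟨X, hX, h1, h2⟩ := BC.exists_X_even h d (even_two_mul 2) h6
  obtain ⟨ψ, d', o⟩ := BC.exists_dic (u := fun _ => 1) h (fun e => absurd e ho) d h6 hX h1 h2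
    fun e => absurd e ho
  have mm := d'.mm h (fun e => absurd e ho) h6 (fun _ => hz) o
  exact BC.pr_of (Or.inl rfl) mm.ker (mm.eq (by norm_num) hG) hG.cen

end CfsgLib.SP4
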