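import Cfsg.Agent.Lib.SP4.BDic2
import Cfsg.Agent.Lib.SP4.CX
import Cfsg.Agent.Lib.SP4.CV
import Cfsg.Agent.Lib.SP4.BTop

/-! Type C (final statement; owner: captain of types B, C) -/

set_option autoImplicit false
set_option linter.unusedSectionVars false

namespace CfsgLib.SP4

open Subgroup Module CfsgLib.Forms CfsgLib.LieMult
open CfsgLib.HX (Std CO Two Mv M2)
open CfsgLib.UN (AV SI TI HH Rad Stb Yg Rg Eg Act nu)
open CfsgLib.ClSys (II)
open Submodule (span)
open scoped commutatorElement Pointwise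

universe u

variable {F : Type} [Field F] [Finite F] {V : Type} [AddCommGroup V] [Module F V]
  [FiniteDimensional F V] {P : PQ (RingHom.id F) V} {S : Type} [Group S] [Finite S] {G : Type u}
  [Group G] [Finite G] {C : CG P S} {φ : S →* G} {t : G}

theorem HC.main {w : V → V → G} {u : V → G} {δ : F} (h : HC C φ t w u δ) {Gs : Subgroup G}
    (hG : SLE.Glob Gs t) (hL : φ.range ≤ Gs) : Pr F 2 Gs := by
  have _ := hL
  haveI := h.toMod.charP
  haveI : Fact (2 < Nat.card F) := ⟨by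
    obtain ⟨n, h1, h2⟩ := h.toMod.card_pow
    have h3 : Nat.card F ≠ 2 := fun e => h.big (h.toMod.small_iff.2 e)
    have h4 : 2 ^ 1 ≤ 2 ^ n := Nat.pow_le_pow_right (by norm_num) h1
    omega⟩
  have hk : finrank F V = 2 * 2 := h.d4
  have h6 : 4 ≤ 2 * 2 + 1 := by norm_num
  have ho : Odd (2 * 2 + 1) := odd_two_mul_add_one 2
  obtain ⟨v, r, hv⟩ := h.exists_v
  obtain ⟨cv, ι, d⟩ := BC.exists_io h.toMod hk (Or.inr rfl) δ
  obtain ⟨X, hX, h1, h2, h3⟩ := BC.exists_X_odd hv d ho h6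
  obtain ⟨ψ, d', o⟩ := BC.exists_dic h.toHW (fun _ => h) d h6 hX h1 h2 fun _ => h3
  have mm := d'.mm h.toHW (fun _ => h) h6 (fun e => absurd ho (Nat.not_odd_iff_even.2 e)) o
  exact BC.pr_of (Or.inr rfl) mm.ker (mm.eq le_rfl hG) hG.cen

end CfsgLib.SP4
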