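import Cfsg.Agent.Lib.SP4.WG
import Cfsg.Agent.Lib.SP4.Mov
import Cfsg.Agent.Lib.SP4.Fus
import Cfsg.Agent.Lib.SP4.Dual
import Cfsg.Agent.Lib.SP4.TyB
import Cfsg.Agent.Lib.SP4.TyC

/-! Reduction to type A -/

set_option autoImplicit false
set_option linter.unusedSectionVars false

namespace CfsgLib.SP4

open Subgroup Module CfsgLib.Forms CfsgLib.LieMult
open CfsgLib.HX (Std CO Two Mv M2)
open CfsgLib.UN (AV SI TI HH Rad Stb Yg Rg Eg Act nu)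
open CfsgLib.ClSys (II)
open Submodule (span)
open scoped commutatorElement Pointwise

universe u

variable {F : Type} [Field F] [Finite F] {V : Type} [AddCommGroup V] [Module F V]
  [FiniteDimensional F V] {P : PQ (RingHom.id F) V} {S : Type} [Group S] [Finite S] {G : Type u}
  [Group G] [Finite G] {C : CG P S} {φ : S →* G} {t : G}

theorem Sit.core (h : Sit C φ t) (ha : Ta C φ t) (hc : ¬ Tz C φ t ∨ CZ C φ t) {Gs : Subgroup G}
    (hG : SLE.Glob Gs t) (hL : φ.range ≤ Gs) :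
    Pr F 2 Gs ∨ ∃ w y δ, HA C φ t w y δ := by
  obtain ⟨w, κ, κ₀, k⟩ := (h.ma ha).w0
  by_cases hz : Tz C φ t
  · have cz := hc.resolve_left (not_not.2 hz)
    obtain ⟨y, κ₁, hy⟩ := (h.mz hz).y0 cz
    rcases k.kk' (k.yx0 hy) (k.k0 hy).1 with e | e
    · obtain ⟨y', δ, H⟩ := k.ha hy e
      exact .inr ⟨w, y', δ, H⟩
    · obtain ⟨δ, H⟩ := k.hc1 hy e cz
      obtain ⟨u, H'⟩ := H.hc
      exact .inl (H'.main hG hL)
  · obtain ⟨δ, H⟩ := k.hwB (by_contra fun e => hz (k.tz_of e)) hc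
    exact .inl (H.mainB hz hG hL)

theorem Sit.main0 (h : Sit C φ t) {Gs : Subgroup G} (hG : SLE.Glob Gs t) (hL : φ.range ≤ Gs) :
    Fus1 φ.range t ∧ (Pr F 2 Gs ∨ ∃ φ' w y δ, φ'.range = φ.range ∧ HA C φ' t w y δ) := by
  obtain ⟨φ', h', d, d'⟩ := h.toEmb.exists_dual
  have s' := Dual.sit h.toEmb h' d d' h
  have ta := Dual.ta_iff (t := t) h.toEmb h' d d'
  have tz := Dual.tz_iff (t := t) h.toEmb h' d d'
  have c1 : ∀ ψ : S →* G, Sit C ψ t → ψ.range = φ.range → Ta C ψ t → (¬ Tz C ψ t ∨ CZ C ψ t) →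
      Fus1 φ.range t ∧ (Pr F 2 Gs ∨ ∃ φ' w y δ, φ'.range = φ.range ∧ HA C φ' t w y δ) :=
    fun ψ k e a c => ⟨e ▸ (k.ma a).fus1, (k.core a c hG (e ▸ hL)).imp_right
      fun ⟨w, y, δ, H⟩ => ⟨ψ, w, y, δ, e, H⟩⟩
  by_cases ha : Ta C φ t
  · by_cases hz : Tz C φ t
    · obtain ⟨w, κ, κ₀, k⟩ := (h.ma ha).w0
      by_cases e : κ = 0
      · exact c1 φ' s' d.rng (ta.2 hz) (.inr ((Dual.cz_iff h.toEmb h' d d').2 (k.ca_iff.2 e)))
      · exact c1 φ h rfl ha (.inr (k.kk (h.mz hz) e))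
    · exact c1 φ h rfl ha (.inl hz)
  · exact c1 φ' s' d.rng (ta.2 ((h.fus2 hG hL).resolve_right ha)) (.inl fun e => ha (tz.1 e))

end CfsgLib.SP4
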