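import Cfsg.Agent.Lib.SP4.FDefs

/-! The torus, normal forms -/

set_option autoImplicit false
set_option linter.unusedSectionVars false

namespace CfsgLib.SP4

open Subgroup Module CfsgLib.Forms CfsgLib.LieMult
open CfsgLib.HX (Std CO Two Mv M2)
open CfsgLib.UN (AV SI TI HH Rad Stb Yg Rg Eg Act nu)
open CfsgLib.ClSys (II)
open Submodule (span)
open scoped commutatorElement Pointwise

universe u

variable {F : Type} [Field F] [Finite F] {V : Type} [AddCommGroup V] [Module F V]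
  [FiniteDimensional F V] {P : PQ (RingHom.id F) V} {S : Type} [Group S] [Finite S] {G : Type u}
  [Group G] [Finite G] {C : CG P S} {φ : S →* G} {t : G}

theorem Mod.tora_ext (h : Mod C) {e f a f' : V} (k : HH P e f a f') {s s' : S}
    (h1 : C.act s e = C.act s' e) (h2 : C.act s f = C.act s' f) (h3 : C.act s a = C.act s' a)
    (h4 : C.act s f' = C.act s' f') : s = s' := C.ext fun v => by
  rw [h.hh_eq k v]
  simp only [map_add, map_smul, h1, h2, h3, h4]

-- `h (l, m)` := the element given by `full`/`exists_diag`; unique by `hh_eq`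
theorem Mod.exists_tor (h : Mod C) {e f a f' : V} (k : HH P e f a f') : ∃ T, Tor C e f a f' T := by
  choose d _ d1 d2 d3 d4 _ using fun p : Fˣ × Fˣ => h.exists_diag k p.1.ne_zero p.2.ne_zero
  refine ⟨MonoidHom.mk' d fun p q => h.tora_ext k ?_ ?_ ?_ ?_, fun _ _ => d1 _, fun _ _ => d2 _, fun _ _ => d3 _,
    fun _ _ => d4 _⟩
  · rw [C.mul_apply, d1, d1, map_smul, d1, smul_smul, Prod.fst_mul, Units.val_mul, mul_comm]
  · rw [C.mul_apply, d2, d2, map_smul, d2, smul_smul, Prod.fst_mul, Units.val_mul, mul_inv_rev]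
  · rw [C.mul_apply, d3, d3, map_smul, d3, smul_smul, Prod.snd_mul, Units.val_mul, mul_comm]
  · rw [C.mul_apply, d4, d4, map_smul, d4, smul_smul, Prod.snd_mul, Units.val_mul, mul_inv_rev]

/-- an element is determined by the images of a hyperbolic basis -/
theorem Mod.hh_ext (h : Mod C) {e f a f' : V} (k : HH P e f a f') {s s' : S}
    (h1 : C.act s e = C.act s' e) (h2 : C.act s f = C.act s' f) (h3 : C.act s a = C.act s' a)
    (h4 : C.act s f' = C.act s' f') : s = s' := by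
  exact h.tora_ext k h1 h2 h3 h4

namespace Emb

variable (h : Emb C φ) {e f a f' : V} {g : G}
include h

theorem tora_nf (k : HH P e f a f') (r v μ : F) : z C φ e r * x C φ e (v • a) * x C φ e (μ • f') =
    τ C φ e (v • a + μ • f') (r + v * μ) := by
  have k1 : P.B e (v • a) = 0 := by rw [map_smul, k.ee, smul_zero]
  have k2 : P.B e (μ • f') = 0 := by rw [map_smul, k.ef, smul_zero]
  change τ C φ e 0 r * τ C φ e (v • a) 0 * τ C φ e (μ • f') 0 = _
  rw [h.τ_mul (map_zero _) k1, zero_add, h.τ_mul k1 k2, h.B_smul_left, map_smul (P.B a), h.hp_iff.1 k.h₂]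
  simp

theorem tora_B (k : HH P e f a f') (v μ : F) : P.B e (v • a + μ • f') = 0 := by
  rw [map_add, map_smul, map_smul, k.ee, k.ef, smul_zero, smul_zero, add_zero]

theorem Y_eq (h0 : e ≠ 0) : Yg C φ (span F {e}) = φ.range ⊓ centralizer {z C φ e 1} := by
  ext g
  constructor
  · rintro ⟨s, hs, rfl⟩
    refine ⟨⟨s, rfl⟩, mem_centralizer_singleton_iff.2 (mul_inv_eq_iff_eq_mul.1 ?_)⟩
    rw [h.z_conj, mem_fix_pt.1 hs]
  · rintro ⟨⟨s, rfl⟩, hs⟩
    refine ⟨s, mem_fix_pt.2 (h.fix_of_comm one_ne_zero (h.inj ?_)), rfl⟩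
    rw [map_mul, map_mul]
    exact mem_centralizer_singleton_iff.1 hs

/-- normal form in `Q_e` -/
theorem mem_Q' (k : HH P e f a f') : g ∈ Rg C φ (span F {e}) ↔
    ∃ r v μ : F, g = z C φ e r * x C φ e (v • a) * x C φ e (μ • f') := by
  rw [h.mem_Q (h.ln_of_hh k).ne]
  constructor
  · rintro ⟨b, c, kb, rfl⟩
    refine ⟨c + P.B f' b * P.B a b, P.B f' b, P.B a b, ?_⟩
    rw [h.tora_nf k, add_assoc, h.add_self, add_zero, ← h.τ_shift (h.tora_B k _ _) (P.B f b)]
    congr 1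
    conv_lhs => rw [h.hh_eq k b]
    rw [kb, zero_smul, add_zero]
    abel
  · rintro ⟨r, v, μ, rfl⟩
    exact ⟨_, _, h.tora_B k v μ, h.tora_nf k r v μ⟩

theorem Q_inj (k : HH P e f a f') {r v μ r' v' μ' : F}
    (e1 : z C φ e r * x C φ e (v • a) * x C φ e (μ • f') =
      z C φ e r' * x C φ e (v' • a) * x C φ e (μ' • f')) : r = r' ∧ v = v' ∧ μ = μ' := by
  rw [h.tora_nf k, h.tora_nf k, h.τ_eq_iff (h.ln_of_hh k).ne (h.tora_B k _ _) (h.tora_B k _ _)] at e1
  obtain ⟨e1, e2⟩ := e1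
  obtain ⟨c, hc⟩ := Submodule.mem_span_singleton.1 e1
  have p : P.B a f' = 1 := h.hp_iff.1 k.h₂
  have a1 := congrArg (P.B f') hc
  have a2 := congrArg (P.B a) hc
  simp only [map_add, map_smul, h.B_self, h.B_comm f' a, h.B_comm f' e, h.B_comm a e, p, k.ee, k.ef, smul_eq_mul,
    mul_zero, mul_one, add_zero, zero_add] at a1 a2
  obtain rfl := h.eq_of_add a1.symm
  obtain rfl := h.eq_of_add a2.symm
  exact ⟨add_right_cancel e2, rfl, rfl⟩

theorem mem_QE (k : Ln P e a) : g ∈ Rg C φ (span F {e}) ⊓ Eg C φ (span F {e, a}) ↔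
    ∃ r v : F, g = z C φ e r * x C φ e (v • a) := by
  have me : e ∈ span F {e} := Submodule.mem_span_singleton_self e
  have key : ∀ r v : F, z C φ e r * x C φ e (v • a) ∈ Rg C φ (span F {e}) := fun r v =>
    mul_mem ((h.mem_Q k.ne).2 ⟨0, r, map_zero _, rfl⟩)
      ((h.mem_Q k.ne).2 ⟨v • a, 0, by rw [map_smul, k.perp, smul_zero], rfl⟩)
  constructor
  · rintro ⟨h1, h2⟩
    obtain ⟨r, v, r', rfl⟩ := (h.mem_El k).1 h2
    obtain ⟨f, f', l⟩ := h.hh_of_ln k
    have h3 := ((mem_map_iff_mem h.inj).1 ((Subgroup.mul_mem_cancel_left _ (key r v)).1 h1)).2 f'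
      (h.mem_perp_span.2 (by rintro _ rfl; exact l.ef))
    rw [h.z_app, h.hp_iff.1 l.h₂, mul_one, add_sub_cancel_left] at h3
    obtain rfl : r' = 0 := by_contra fun c0 => k.nmem ((Submodule.smul_mem_iff _ c0).1 h3)
    exact ⟨r, v, by rw [h.z_zero, mul_one]⟩
  · rintro ⟨r, v, rfl⟩
    exact ⟨key r v, (h.mem_El k).2 ⟨r, v, 0, by rw [h.z_zero, mul_one]⟩⟩

/-- the basic commutator -/
theorem Bz (k : HH P e f a f') (μ r : F) : x C φ e (μ • f') * z C φ a r * x C φ e (μ • f') =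
    z C φ a r * x C φ e ((r * μ) • a) * z C φ e (r * μ * μ) := by
  have k2 : P.B e (μ • f') = 0 := by rw [map_smul, k.ef, smul_zero]
  have k3 : P.B a e = 0 := (h.B_comm _ _).trans k.ee
  have k4 : P.B a (μ • e) = 0 := by rw [map_smul, k3, smul_zero]
  have e1 := h.x_τ k2 (e := a) (a := 0) (map_zero _) r
  rw [map_zero, map_zero, zero_smul, zero_smul, add_zero, add_zero, k.ee, zero_smul, add_zero, h.B_smul_left,
    h.B_comm f' a, h.hp_iff.1 k.h₂, mul_one] at e1
  have c : Commute (z C φ e (r * μ * μ)) (x C φ e ((r * μ) • a)) :=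
    h.τ_comm (map_zero _) (by rw [map_smul, k.ee, smul_zero]) _ _
  refine e1.trans ((h.z_line k4 r).trans ?_)
  rw [h.z_smul, smul_smul, h.x_symm (by rw [map_smul, k3, smul_zero]), h.x_smul k.ee,
    show μ * μ * r = r * μ * μ by ring, mul_assoc (z C φ a r), mul_assoc (z C φ a r), c.eq]

theorem card_Q (h0 : e ≠ 0) : Nat.card (Rg C φ (span F {e})) = Nat.card F ^ 3 := by
  rw [Rg, h.card_map, h.toMod.card_Q h0, h.d4]

theorem card_El (k : Ln P e a) : Nat.card (Eg C φ (span F {e, a})) = Nat.card F ^ 3 := by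
  have := h.lag_rank (h.lag_ln k)
  rw [h.d4] at this
  rw [Eg, h.card_map, h.card_E (h.ti_pair k.perp), show finrank F (span F {e, a}) = 2 by omega]

theorem card_QE (k : Ln P e a) :
    Nat.card (Rg C φ (span F {e}) ⊓ Eg C φ (span F {e, a}) : Subgroup G) = Nat.card F ^ 2 := by
  rw [pow_two, ← Nat.card_prod]
  refine (Nat.card_eq_of_bijective (fun p : F × F => ⟨_, (h.mem_QE k).2 ⟨p.1, p.2, rfl⟩⟩) ⟨fun p q e1 => ?_,
    fun y => ?_⟩).symm
  · obtain ⟨a1, a2, -⟩ := h.line_inj k (r' := 0) (s' := 0) (congrArg (· * z C φ a 0) (congrArg Subtype.val e1))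
    exact Prod.ext a1 a2
  · obtain ⟨r, v, e1⟩ := (h.mem_QE k).1 y.2
    exact ⟨(r, v), Subtype.ext e1.symm⟩

theorem Q_sq (h0 : e ≠ 0) (hg : g ∈ Rg C φ (span F {e})) : g * g = 1 := by
  obtain ⟨b, c, kb, rfl⟩ := (h.mem_Q h0).1 hg
  exact h.τ_sq kb c

theorem Y_perf (h0 : e ≠ 0) : Yg C φ (span F {e}) ≤ ⁅Yg C φ (span F {e}), Yg C φ (span F {e})⁆ := by
  rw [Yg, ← Subgroup.map_commutator]
  refine map_mono (h.fix_perf h.big (h.ti_pt e) fun e1 => ?_)
  have := h.rank_perp (span F {e})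
  rw [e1, h.d4, finrank_span_singleton h0] at this
  omega

end Emb

end CfsgLib.SP4
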