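import Cfsg.Agent.Lib.SP4.Ld

/-! The hats of the short root elements on independent pairs -/

set_option autoImplicit false
set_option linter.unusedSectionVars false

namespace CfsgLib.SP4

open Subgroup Module CfsgLib.Forms CfsgLib.LieMult
open CfsgLib.HX (Std CO Two Mv M2)
open CfsgLib.UN (AV SI TI HH Rad Stb Yg Rg Eg Act nu)
open CfsgLib.ClSys (II)
open Submodule (span)
open scoped commutatorElement Pointwise

universe u

variable {F : Type} [Field F] [Finite F] {V : Type} [AddCommGroup V] [Module F V]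
  [FiniteDimensional F V] {P : PQ (RingHom.id F) V} {S : Type} [Group S] [Finite S] {G : Type u}
  [Group G] [Finite G] {C : CG P S} {φ : S →* G} {t : G}

variable (C φ) in
/-- the family on independent pairs -/
structure WL (t : G) (w : V → V → G) (κ κ₀ : F) : Prop extends MA C φ t where
  lh : ∀ e a, Ln P e a → LH C φ t e a 1 (w e a)
  sq : ∀ e a, Ln P e a → w e a * w e a = x C φ e (κ₀ • a)
  eqv : ∀ l e a, Ln P e a → φ l * w e a * (φ l)⁻¹ = w (C.act l e) (C.act l a)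
  dep : ∀ e (μ : F), w e (μ • e) = z C φ e (κ * μ)
  zero : ∀ a, w 0 a = 1
  shift : ∀ e a μ, Ln P e a → w e (a + μ • e) = w e a * z C φ e (κ * μ)
  smul : ∀ e a (l : F), l ≠ 0 → Ln P e a → w (l • e) a = w e (l • a)
  add1 : κ₀ = 0 → ∀ e a (u v : F), Ln P e a → u ≠ 0 → v ≠ 0 → u + v ≠ 0 →
    w e ((u + v) • a) = w e (u • a) * w e (v • a)

theorem Emb.wa_fix (h : Emb C φ) {e a : V} (k : Ln P e a) {s : S} (h1 : C.act s e = e) (h2 : C.act s a = a) :
    φ s ∈ Eg C φ (span F {e, a}) :=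
  mem_map_of_mem φ (by rw [show P.perp _ = _ from h.lag_ln k]; exact mem_fix_pair.2 ⟨h1, h2⟩)

theorem Emb.wa_B (h : Emb C φ) {e f a f' : V} (k : HH P e f a f') (μ : F) :
    C.act (C.T e (μ • f') 0) e = e ∧ C.act (C.T e (μ • f') 0) a = a + μ • e := by
  have hb : P.B e (μ • f') = 0 := by rw [map_smul, k.ef, smul_zero]
  rw [h.x_app hb, h.x_app hb, h.B_self, k.ee, h.B_comm _ e, hb, h.B_smul_left, k.h₂.fe]
  simp

theorem MA.shift0 (h : MA C φ t) {e f a f' : V} (k : HH P e f a f') {T : Fˣ × Fˣ →* S}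
    (hT : Tor C e f a f' T) {p : G} (hp : LH C φ t e a 1 p) (c : ∀ l, Commute (φ (T (l, l⁻¹))) p) :
    ∃ κ : F, ∀ μ : F, x C φ e (μ • f') * p * x C φ e (μ • f') = p * z C φ e (κ * μ) := by
  have D := h.ld k hT
  have kl := h.ln_of_hh k
  have hb : ∀ μ : F, P.B e (μ • f') = 0 := fun μ => by rw [map_smul, k.ef, smul_zero]
  have ha : ∀ μ : F, P.B e (μ • a) = 0 := fun μ => by rw [map_smul, k.ee, smul_zero]
  have cz : ∀ μ r : F, Commute (x C φ e (μ • f')) (z C φ e r) := fun μ r => h.τ_comm (hb μ) (map_zero _) _ _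
  have cx : ∀ μ s : F, Commute (x C φ e (μ • f')) (x C φ e (s • a)) := fun μ s => h.τ_comm (hb μ) (ha s) _ _
  have cc : ∀ s r : F, Commute (x C φ e (s • a)) (z C φ e r) := fun s r => h.τ_comm (ha s) (map_zero _) _ _
  have B2 : ∀ μ : F, x C φ e (μ • f') * x C φ e (μ • f') = 1 := fun μ => h.x_sq (hb μ)
  obtain ⟨r, s, e1⟩ : ∃ r s : F, x C φ e ((1 : F) • f') * p * x C φ e ((1 : F) • f') =
      p * (z C φ e r * x C φ e (s • a)) := by
    have m := D.mo_Y (u := 1) hp.1 (g := x C φ e ((1 : F) • f')) ((h.mem_Yl kl).2 ⟨1, 0, 1, 1, by simp,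
      by rw [(h.wa_B k 1).1]; simp, by rw [(h.wa_B k 1).2, add_comm, one_smul F a]⟩)
    have c1 := hp.1.cQ _ m
    obtain ⟨r, s, r', e1⟩ := (h.mem_El kl).1 m
    have c2 := D.sq _ m
    rw [e1] at c1 c2
    rw [show (x C φ e ((1 : F) • f'))⁻¹ = x C φ e ((1 : F) • f') from h.τ_inv (hb 1) 0, mul_inv_eq_iff_eq_mul,
      c1] at e1
    have e3 := h.Bz k 1 r'
    have e4 := B2 1
    have e5 := (cz 1 r).eq
    have e6 := (cx 1 s).eq
    generalize x C φ e ((1 : F) • f') = B at e1 e3 e4 e5 e6 ⊢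
    have e2 : B * (z C φ e r * x C φ e (s • a) * z C φ a r') * B = z C φ e r * x C φ e (s • a) * z C φ a r' := by
      generalize z C φ e r * x C φ e (s • a) * z C φ a r' = c at e1 c2
      apply mul_left_cancel (a := p * c)
      calc _ = (B * p * B) * (B * c * B) := by rw [e1]
        _ = B * p * (B * B) * c * B := by group
        _ = B * (B * p * B) * B := by rw [e4, e1]; group
        _ = (B * B) * p * (B * B) := by group
        _ = _ := by rw [e4, mul_assoc p, c2, one_mul]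
    rw [← mul_assoc, ← mul_assoc, e5, mul_assoc _ B, e6, ← mul_assoc, mul_assoc _ B, mul_assoc _ _ B, e3,
      mul_right_inj, mul_assoc, mul_eq_left, ← h.τ_eq (ha _), h.τ_eq_one kl.ne (ha _), mul_one, mul_one] at e2
    exact ⟨r, s, by rw [e1, e2.2, h.z_zero, mul_one]⟩
  have e2 : ∀ μ : F, μ ≠ 0 → x C φ e (μ • f') * p * x C φ e (μ • f') =
      p * (z C φ e (μ * r) * x C φ e (s • a)) := fun μ hμ => by
    obtain ⟨l, rfl⟩ := D.hb_sqrt hμ
    have a1 := h.x_conj (T (l, l⁻¹)) (hb 1)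
    have a2 := h.z_conj (T (l, l⁻¹)) e r
    have a3 := h.x_conj (T (l, l⁻¹)) (ha s)
    rw [hT.e, map_smul, hT.f', Units.val_inv_eq_inv_val, inv_inv, one_smul F (_ • f'), h.x_smul (hb _),
      smul_smul] at a1
    rw [hT.e, h.z_smul] at a2
    rw [hT.e, map_smul, hT.a, Units.val_inv_eq_inv_val, smul_smul, h.x_smul (ha _), smul_smul,
      mul_comm s, mul_inv_cancel_left₀ l.ne_zero] at a3
    have a4 := congrArg (fun g => φ (T (l, l⁻¹)) * g * (φ (T (l, l⁻¹)))⁻¹) e1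
    simp only [← conj_mul, a1, a2, a3, (c l).mul_inv_cancel] at a4
    exact a4
  obtain ⟨θ, θ0, θ1⟩ := h.exists_big'
  have s0 : s = 0 := by
    have a1 := e2 (θ + 1) fun e => θ1 (by linear_combination e - h.two)
    have hf : P.B (θ • f') ((1 : F) • f') = 0 := by rw [h.B_smul_left, one_smul, h.B_self, mul_zero]
    have c0 : Commute (x C φ e (θ • f')) (x C φ e ((1 : F) • f')) := h.τ_comm (hb _) (hb _) _ _
    rw [add_smul, h.x_add (hb _) (hb _) hf] at a1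
    have a2 : x C φ e (θ • f') * x C φ e ((1 : F) • f') * p * (x C φ e (θ • f') * x C φ e ((1 : F) • f')) =
        p * (z C φ e (θ * r + r) * x C φ e ((0 : F) • a)) := by
      calc _ = x C φ e (θ • f') * (x C φ e ((1 : F) • f') * p * x C φ e ((1 : F) • f')) * x C φ e (θ • f') := by
            conv_lhs => rw [c0.eq, ← mul_assoc, ← c0.eq]
            group
        _ = (x C φ e (θ • f') * p * x C φ e (θ • f')) * (z C φ e r * x C φ e (s • a)) := by
            rw [e1, mul_assoc _ _ (z C φ e r * _), ((cz θ r).mul_right (cx θ s)).eq]; group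
        _ = p * (z C φ e (θ * r) * (x C φ e (s • a) * z C φ e r) * x C φ e (s • a)) := by
            rw [e2 θ θ0]; group
        _ = _ := by
            rw [(cc s r).eq, h.z_add, zero_smul, h.x_zero, ← h.x_sq (ha s)]; group
    rw [a2, mul_right_inj] at a1
    exact (h.line_inj kl (r' := 0) (s' := 0) (by rw [a1])).2.1.symm
  refine ⟨r, fun μ => ?_⟩
  by_cases hμ : μ = 0
  · rw [hμ, zero_smul, h.x_zero, mul_zero, h.z_zero, one_mul]
  · rw [e2 μ hμ, s0, zero_smul, h.x_zero, mul_one, mul_comm μ]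

theorem MA.wl (h : MA C φ t) : ∃ w κ κ₀, WL C φ t w κ κ₀ := by
  classical
  obtain ⟨e₀, h0⟩ := h.g2_ne
  obtain ⟨a₀, k₀⟩ := h.exists_ln h0
  obtain ⟨f₀, f₀', k⟩ := h.hh_of_ln k₀
  obtain ⟨T, hT⟩ := h.toMod.exists_tor k
  have D := h.ld k hT
  obtain ⟨κ₀, hκ₀⟩ := D.ho_sq
  obtain ⟨p₀, ⟨u1, u2⟩, u3⟩ : ∃ p₀, (LH C φ t e₀ a₀ 1 p₀ ∧ ∀ c, Commute (φ (T (c, c⁻¹))) p₀) ∧
      (κ₀ = 0 → ∃ s : F → G, s 1 = p₀ ∧ (∀ c d, s (c + d) = s c * s d) ∧
        ∀ (c : Fˣ) d, φ (T (c, c)) * s d * (φ (T (c, c)))⁻¹ = s (c * c * d)) := by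
    by_cases k : κ₀ = 0
    · obtain ⟨s, s1, s2, s3⟩ := D.ho_sec fun c p hp => by
        rw [hκ₀ c p hp, k, zero_mul, zero_smul, h.x_zero]
      exact ⟨s 1, s1 1, fun _ => ⟨s, rfl, s2, s3⟩⟩
    · obtain ⟨p, hp⟩ := D.ho_fix 1
      exact ⟨p, hp, fun e => absurd e k⟩
  obtain ⟨κ, hκ⟩ := h.shift0 k hT u1 u2
  let w : V → V → G := fun e a =>
    if k : Ln P e a then φ (h.trans_ln k₀ k).choose * p₀ * (φ (h.trans_ln k₀ k).choose)⁻¹
    else if m : ∃ μ : F, a = μ • e then z C φ e (κ * m.choose) else 1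
  have w1 : ∀ s e a, C.act s e₀ = e → C.act s a₀ = a → w e a = φ s * p₀ * (φ s)⁻¹ := by
    rintro s _ _ rfl rfl
    have k := h.ln_act k₀ s
    simp only [w, dif_pos k]
    obtain ⟨s1, s2⟩ := (h.trans_ln k₀ k).choose_spec
    generalize (h.trans_ln k₀ k).choose = s' at s1 s2
    have c1 : φ (s⁻¹ * s') * p₀ = p₀ * φ (s⁻¹ * s') := u1.1.cQ _ (h.wa_fix k₀
      (by rw [C.mul_apply, s1, C.inv_apply]) (by rw [C.mul_apply, s2, C.inv_apply]))
    rw [map_mul, map_inv] at c1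
    calc φ s' * p₀ * (φ s')⁻¹ = φ s * ((φ s)⁻¹ * φ s' * p₀) * (φ s')⁻¹ := by group
      _ = _ := by rw [c1]; group
  have eqv : ∀ l e a, Ln P e a → φ l * w e a * (φ l)⁻¹ = w (C.act l e) (C.act l a) := fun l e a k => by
    obtain ⟨s, rfl, rfl⟩ := h.trans_ln k₀ k
    rw [w1 s _ _ rfl rfl, w1 (l * s) _ _ (C.mul_apply _ _ _) (C.mul_apply _ _ _), map_mul]; group
  have ls : ∀ {e a : V} {l : F}, l ≠ 0 → Ln P e a → Ln P e (l • a) := fun hl k => by
    simpa using h.ln_smul k one_ne_zero hl 0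
  have smul : ∀ e a (l : F), l ≠ 0 → Ln P e a → w (l • e) a = w e (l • a) := fun e a l hl k => by
    obtain ⟨s, s1, s2⟩ := h.trans_ln k₀ (ls hl k)
    rw [w1 s _ _ s1 s2, w1 (s * T (Units.mk0 l hl, (Units.mk0 l hl)⁻¹)) _ _
      (by rw [C.mul_apply, hT.e, map_smul, s1, Units.val_mk0])
      (by rw [C.mul_apply, hT.a, map_smul, s2, Units.val_inv_eq_inv_val, Units.val_mk0, inv_smul_smul₀ hl]),
      map_mul, mul_assoc (φ s), (u2 _).eq]
    group
  refine ⟨w, κ, κ₀, h, fun e a k => ?_, fun e a k => ?_, eqv, fun e μ => ?_, fun a => ?_, fun e a μ kl => ?_,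
    smul, fun k0 e a u v kl hu hv huv => ?_⟩
  · obtain ⟨s, rfl, rfl⟩ := h.trans_ln k₀ k
    rw [w1 s _ _ rfl rfl]
    exact h.toSit.lh_conj s k₀.perp u1
  · obtain ⟨s, rfl, rfl⟩ := h.trans_ln k₀ k
    rw [w1 s _ _ rfl rfl, conj_mul, hκ₀ 1 _ u1, mul_one,
      h.x_conj s (by rw [map_smul, k₀.perp, smul_zero]), map_smul]
  · have k : ¬ Ln P e (μ • e) := fun k => k.nmem (Submodule.smul_mem _ _ (Submodule.mem_span_singleton_self e))
    have m : ∃ ν : F, μ • e = ν • e := ⟨μ, rfl⟩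
    simp only [w, dif_neg k, dif_pos m]
    by_cases e0 : e = 0
    · subst e0; rw [h.z_zero', h.z_zero']
    · rw [← smul_left_injective F e0 m.choose_spec]
  · have k : ¬ Ln P 0 a := fun k => k.ne rfl
    simp only [w, dif_neg k]
    split_ifs
    · exact h.z_zero' _
    · rfl
  · obtain ⟨s, rfl, rfl⟩ := h.trans_ln k₀ kl
    rw [w1 s _ _ rfl rfl, w1 (s * C.T e₀ (μ • f₀') 0) _ _ (by rw [C.mul_apply, (h.wa_B k μ).1])
      (by rw [C.mul_apply, (h.wa_B k μ).2, map_add, map_smul]), ← h.z_conj, conj_mul, ← hκ, map_mul,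
      mul_inv_rev, show (φ (C.T e₀ (μ • f₀') 0))⁻¹ = x C φ e₀ (μ • f₀') from
        h.τ_inv (by rw [map_smul, k.ef, smul_zero]) 0, x]
    group
  · obtain ⟨σ, s1, s2, s3⟩ := u3 k0
    have s4 : ∀ u : F, u ≠ 0 → w e₀ (u • a₀) = σ u := fun u hu => by
      obtain ⟨c, rfl⟩ := D.hb_sqrt hu
      rw [mul_smul, ← smul _ _ _ c.ne_zero (ls c.ne_zero k₀), w1 (T (c, c)) _ _ (hT.e _ _) (hT.a _ _), ← s1,
        s3, mul_one]
    obtain ⟨s, rfl, rfl⟩ := h.trans_ln k₀ kl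
    rw [← map_smul, ← map_smul, ← map_smul, ← eqv _ _ _ (ls hu k₀), ← eqv _ _ _ (ls hv k₀),
      ← eqv _ _ _ (ls huv k₀), s4 _ hu, s4 _ hv, s4 _ huv, s2, conj_mul]

end CfsgLib.SP4
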