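import Cfsg.Agent.Lib.SP4.WA

/-! The family W0 -/

set_option autoImplicit false
set_option linter.unusedSectionVars false

namespace CfsgLib.SP4

open Subgroup Module CfsgLib.Forms CfsgLib.LieMult
open CfsgLib.HX (Std CO Two Mv M2)
open CfsgLib.UN (AV SI TI HH Rad Stb Yg Rg Eg Act nu)
open CfsgLib.ClSys (II)
open Submodule (span)
open scoped commutatorElement Pointwise

universe u

variable {F : Type} [Field F] [Finite F] {V : Type} [AddCommGroup V] [Module F V]
  [FiniteDimensional F V] {P : PQ (RingHom.id F) V} {S : Type} [Group S] [Finite S] {G : Type u}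
  [Group G] [Finite G] {C : CG P S} {φ : S →* G} {t : G}

namespace WL

variable {w : V → V → G} {κ κ₀ : F} (h : WL C φ t w κ κ₀) {e a : V}
include h

theorem wb_zero (e : V) : w e 0 = 1 := by
  rw [← zero_smul F e, h.dep, mul_zero, h.z_zero]

theorem wb_ln (k : Ln P e a) {v : F} (hv : v ≠ 0) : Ln P e (v • a) := by
  simpa using h.ln_smul k one_ne_zero hv 0

theorem wb_fix (k : Ln P e a) (v : F) {s : S} {l : F} (hl : l ≠ 0) (h1 : C.act s e = l • e)
    (h2 : C.act s a = l⁻¹ • a) : Commute (φ s) (w e (v • a)) := by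
  by_cases hv : v = 0
  · rw [hv, zero_smul, h.wb_zero]; exact Commute.one_right _
  refine mul_inv_eq_iff_eq_mul.1 ?_
  rw [h.eqv _ _ _ (h.wb_ln k hv), map_smul, h1, h2, smul_smul,
    h.smul _ _ _ hl (h.wb_ln k (mul_ne_zero hv (inv_ne_zero hl))), smul_smul, mul_comm v,
    mul_inv_cancel_left₀ hl]

theorem lh' (k : Ln P e a) (v : F) : LH C φ t e a v (w e (v • a)) := by
  by_cases hv : v = 0
  · obtain ⟨f, f', hh⟩ := h.hh_of_ln k
    obtain ⟨T, hT⟩ := h.exists_tor hh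
    rw [LH, hv, zero_smul, h.wb_zero, h.x_zero]
    exact (h.ld hh hT).ho_Q (one_mem _)
  have := (h.lh_congr (v := 1) (p := w e (v • a)) k (c₁ := 1) (d₁ := 0) (c₂ := 0) (d₂ := v)
    (by simpa using hv)).1 (by simpa using h.lh _ _ (h.wb_ln k hv))
  simpa using this

/-- hats on the same line commuting with the torus differ by an element of `A_l` -/
theorem uniq (k : Ln P e a) {v : F} {p : G} (hp : LH C φ t e a v p)
    (c : ∀ s (l : F), l ≠ 0 → C.act s e = l • e → C.act s a = l⁻¹ • a → Commute (φ s) p) :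
    ∃ r : F, p = w e (v • a) * x C φ e (r • a) := by
  obtain ⟨f, f', hh⟩ := h.hh_of_ln k
  obtain ⟨T, hT⟩ := h.exists_tor hh
  have h2 : ∀ l : Fˣ, C.act (T (l, l⁻¹)) a = (l : F)⁻¹ • a := fun l => by
    rw [hT.a, Units.val_inv_eq_inv_val]
  exact (h.ld hh hT).ho_uniq' (h.lh' k v) hp (fun l => h.wb_fix k v l.ne_zero (hT.e l l⁻¹) (h2 l))
    fun l => c _ l l.ne_zero (hT.e l l⁻¹) (h2 l)

theorem fix (k : Ln P e a) (v : F) {s : S} {l : F} (hl : l ≠ 0) (h1 : C.act s e = l • e)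
    (h2 : C.act s a = l⁻¹ • a) : Commute (φ s) (w e (v • a)) := h.wb_fix k v hl h1 h2

theorem wb_sh (k : Ln P e a) : w e (a + e) = w e a * z C φ e κ := by
  simpa using h.shift e a 1 k

theorem wb_xz (k : P.B e a = 0) (v c : F) : Commute (x C φ e (v • a)) (z C φ a c) := by
  rw [← h.x_smul k, h.x_symm (by rw [h.B_smul_left, k, mul_zero])]
  exact h.τ_comm (by rw [map_smul, h.B_comm, k, smul_zero]) (map_zero _) 0 c

theorem wb_sh' (k : Ln P e a) : w (e + a) a = w e a * z C φ a κ := by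
  have k' := h.ln_symm k
  obtain ⟨r, e1⟩ := h.uniq k (v := 1) (p := w a e) (by
    simpa using (h.lh_congr (v := 1) (p := w a e) k (c₁ := 0) (d₁ := 1) (c₂ := 1) (d₂ := 0)
      (by simp)).1 (by simpa using h.lh _ _ k')) fun s l hl h1 h2 => by
    simpa using h.wb_fix k' 1 (inv_ne_zero hl) h2 (by rw [inv_inv, h1])
  obtain ⟨s, h1, h2⟩ := h.trans_ln k (h.loc_ln' k)
  rw [one_smul] at e1
  have e2 := h.eqv s _ _ k'
  rw [e1, ← conj_mul, h.eqv s _ _ k, h.x_conj s (by rw [map_smul, k.perp, smul_zero]), map_smul, h1, h2,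
    h.wb_sh k', e1, show x C φ (e + a) (r • a) = x C φ e (r • a) by simpa using h.loc_x k.perp 1 1 0 r,
    mul_assoc, (h.wb_xz k.perp r κ).eq, ← mul_assoc] at e2
  exact mul_right_cancel e2

theorem symm (k : Ln P e a) : w a e = w e a * x C φ e (κ • a) := by
  -- w a e = w e a * x e (ρ • a) (`uniq`), so w (p) (b) differ from w b p by an element of A_l, which SL(l)
  -- centralises. With B = x e f', B' = x a f (a ↦ a + e, e ↦ e + a): B w₀ B = w₀ z e κ, B' w₀ B' = w₀ z a κ,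
  -- B B' B swaps e, a; z (e + a) κ = z e κ z a κ x e (κ • a) (`z_line`)
  have k1 := h.loc_ln' k
  have e1 := h.wb_sh k1
  have e2 := h.wb_sh' (add_comm a e ▸ h.loc_ln' (h.ln_symm k))
  rw [add_comm a, add_assoc, h.vadd_self, add_zero] at e1
  rw [add_comm _ e, ← add_assoc, h.vadd_self, zero_add] at e2
  rw [e2, e1, h.wb_sh' k, h.z_line k.perp, (h.z_comm k.perp κ κ).eq]
  simp only [mul_assoc]
  rw [← mul_assoc (z C φ a κ), h.z_sq, one_mul, show x C φ e (κ • a) * z C φ e κ = z C φ e κ * _ from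
    h.τ_comm (by rw [map_smul, k.perp, smul_zero]) (map_zero _) 0 κ, ← mul_assoc (z C φ e κ), h.z_sq, one_mul]
  rfl

theorem wQ (k : Ln P e a) {b : V} (k' : P.B e b = 0) (c : F) :
    w e a * τ C φ e b c * (w e a)⁻¹ = τ C φ e b (c + κ * P.B a b) := by
  -- x e b maps a to a + B b a • e: `eqv`, `shift`; w e a centralises z e
  have e1 := h.eqv (C.T e b c) _ _ k
  rw [h.T_app k', h.T_app k', h.B_self, h.B_comm b e, k', k.perp, h.B_comm b a] at e1
  simp only [mul_zero, add_zero, zero_smul] at e1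
  rw [h.shift _ _ _ k] at e1
  have e2 := mem_centralizer_iff.1 (h.lh e a k).1.cQ (z C φ e (κ * P.B a b))
    (h.τ_mem_E (h.ti_pair k.perp) (Submodule.subset_span (by simp)) (zero_mem _) _)
  have e3 : z C φ e (κ * P.B a b) * τ C φ e b c = τ C φ e b (c + κ * P.B a b) := by
    rw [show z C φ e (κ * P.B a b) = τ C φ e 0 _ from rfl, h.τ_mul (map_zero _) k', zero_add, map_zero,
      LinearMap.zero_apply, add_zero, add_comm]
  rw [← e3, mul_inv_eq_iff_eq_mul, mul_assoc, show τ C φ e b c * w e a = _ from mul_inv_eq_iff_eq_mul.1 e1,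
    ← e2, ← mul_assoc, ← mul_assoc, h.z_sq, one_mul]
  rfl

omit h in
theorem wb_cases (k : P.B e a = 0) : e = 0 ∨ (∃ μ : F, a = μ • e) ∨ Ln P e a := by
  by_cases h0 : e = 0
  · exact Or.inl h0
  by_cases h1 : a ∈ span F {e}
  · obtain ⟨μ, e1⟩ := Submodule.mem_span_singleton.1 h1
    exact Or.inr (Or.inl ⟨μ, e1.symm⟩)
  exact Or.inr (Or.inr ⟨h0, h1, k⟩)

theorem wb_smul (l : F) (k : P.B e a = 0) : w (l • e) a = w e (l • a) := by
  by_cases hl : l = 0
  · rw [hl, zero_smul, zero_smul, h.zero, h.wb_zero]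
  rcases wb_cases k with rfl | ⟨μ, rfl⟩ | k
  · rw [smul_zero, h.zero, h.zero]
  · rw [show μ • e = (μ * l⁻¹) • l • e by rw [smul_smul, inv_mul_cancel_right₀ hl], h.dep, h.z_smul,
      smul_smul, smul_smul, h.dep]
    congr 1; field_simp
  · exact h.smul _ _ _ hl k

theorem w0 : W0 C φ t w κ κ₀ := by
  have ad : ∀ e (μ u v : F), w e ((u + v) • μ • e) = w e (u • μ • e) * w e (v • μ • e) := fun e μ u v => by
    simp only [smul_smul, h.dep, ← h.z_add]; congr 1; ring
  refine ⟨h.toMA, fun e a v k => h.lh' k v, fun e a k => ?_, fun l e a k => ?_, h.dep, h.zero,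
    fun e a μ k => ?_, fun e a l k => h.wb_smul l k, fun e a k => ?_, fun e a b c k k' => ?_,
    fun e a u v k => ?_, fun h0 e a u v k => ?_⟩
  all_goals rcases wb_cases k with rfl | ⟨ν, rfl⟩ | k
  · rw [h.zero, h.x_zero', one_mul]
  · rw [h.dep, h.z_sq, smul_smul, h.x_self]
  · exact h.sq _ _ k
  · rw [map_zero, h.zero, h.zero, mul_one, mul_inv_cancel]
  · rw [map_smul, h.dep, h.dep, h.z_conj]
  · exact h.eqv _ _ _ k
  · rw [h.zero, h.zero, h.z_zero', one_mul]
  · rw [← add_smul, h.dep, h.dep, mul_add, h.z_add]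
  · exact h.shift _ _ _ k
  · rw [h.zero, h.wb_zero, h.x_zero', one_mul]
  · rw [h.wb_smul _ (h.B_self e), smul_smul, h.x_self, mul_one]
  · exact h.symm k
  · simp only [h.zero, τ, h.T_zero', map_one, one_mul, inv_one]
  · rw [h.dep, h.B_smul_left, k', mul_zero, mul_zero, add_zero, mul_inv_eq_iff_eq_mul]
    exact h.τ_comm (map_zero _) k' _ _
  · exact h.wQ k k' c
  · exact ⟨0, by simp only [h.zero, h.x_zero', one_mul]⟩
  · exact ⟨0, by rw [ad, zero_smul, h.x_zero, mul_one]⟩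
  · obtain ⟨f, f', hh⟩ := h.hh_of_ln k
    obtain ⟨T, hT⟩ := h.exists_tor hh
    obtain ⟨r, e1⟩ := h.uniq k (v := u + v) ((h.ld hh hT).ho_mul (h.lh' k u) (h.lh' k v)).1
      fun s l hl h1 h2 => (h.fix k u hl h1 h2).mul_right (h.fix k v hl h1 h2)
    exact ⟨r, by rw [e1, mul_assoc, h.x_sq (by rw [map_smul, k.perp, smul_zero]), mul_one]⟩
  · simp only [h.zero, one_mul]
  · exact ad _ _ _ _
  · by_cases hu : u = 0
    · rw [hu, zero_add, zero_smul, h.wb_zero, one_mul]
    by_cases hv : v = 0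
    · rw [hv, add_zero, zero_smul, h.wb_zero, mul_one]
    by_cases e1 : u + v = 0
    · rw [e1, h.eq_of_add e1, h.sq _ _ (h.wb_ln k hv), h0, zero_smul, zero_smul, h.wb_zero, h.x_zero]
    exact h.add1 h0 _ _ _ _ k hu hv e1

end WL

theorem MA.w0 (h : MA C φ t) : ∃ w κ κ₀, W0 C φ t w κ κ₀ := by
  obtain ⟨w, κ, κ₀, k⟩ := h.wl
  exact ⟨w, κ, κ₀, k.w0⟩

end CfsgLib.SP4
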