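import Cfsg.Agent.Lib.SP4.Ld

/-! First relations between the hats -/

set_option autoImplicit false
set_option linter.unusedSectionVars false

namespace CfsgLib.SP4

open Subgroup Module CfsgLib.Forms CfsgLib.LieMult
open CfsgLib.HX (Std CO Two Mv M2)
open CfsgLib.UN (AV SI TI HH Rad Stb Yg Rg Eg Act nu)
open CfsgLib.ClSys (II)
open Submodule (span)
open scoped commutatorElement Pointwise

universe u

variable {F : Type} [Field F] [Finite F] {V : Type} [AddCommGroup V] [Module F V]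
  [FiniteDimensional F V] {P : PQ (RingHom.id F) V} {S : Type} [Group S] [Finite S] {G : Type u}
  [Group G] [Finite G] {C : CG P S} {φ : S →* G} {t : G}

theorem wc_cases {e a : V} (k : P.B e a = 0) : e = 0 ∨ (∃ μ : F, μ • e = a) ∨ Ln P e a := by
  by_cases h0 : e = 0
  · exact Or.inl h0
  by_cases h1 : a ∈ span F {e}
  · exact Or.inr (Or.inl (Submodule.mem_span_singleton.1 h1))
  · exact Or.inr (Or.inr ⟨h0, h1, k⟩)

theorem wc_conj {M N y : G} (e : M * y * M⁻¹ = N * y * N⁻¹) : Commute y (N⁻¹ * M) :=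
  calc y * (N⁻¹ * M) = N⁻¹ * (N * y * N⁻¹) * M := by group
    _ = N⁻¹ * M * y := by rw [← e]; group

namespace W0

variable {w : V → V → G} {κ κ₀ : F} (h : W0 C φ t w κ κ₀) {e a b : V}
include h

theorem wc_ld (k : Ln P e a) : ∃ n m : Fˣ →* G, LD φ.range (Eg C φ (span F {e, a})) (Yl C φ e a)
    (Al C φ e a) t (fun v => x C φ e (v • a)) n m := by
  obtain ⟨f, f', hh⟩ := h.hh_of_ln k
  obtain ⟨T, hT⟩ := h.exists_tor hh
  exact ⟨_, _, h.toMA.ld hh hT⟩

theorem w_zero (e : V) : w e 0 = 1 := by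
  have := h.dep e 0
  rwa [zero_smul, mul_zero, h.z_zero] at this

theorem wt (k : P.B e a = 0) : w e a * t * (w e a)⁻¹ = t * x C φ e a := by
  rcases wc_cases k with rfl | ⟨μ, rfl⟩ | l
  · rw [h.zero, h.x_zero']; group
  · rw [h.dep, h.x_self, mul_one, mul_inv_eq_iff_eq_mul]
    exact h.tl _
  · have := (h.lh e a 1 l).1.pt
    rwa [one_smul] at this

theorem co (k : P.B e a = 0) : CO φ.range t (w e a) := by
  rcases wc_cases k with rfl | ⟨μ, rfl⟩ | l
  · rw [h.zero]; exact CO.of_mem (one_mem _)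
  · rw [h.dep]; exact CO.of_mem ⟨_, rfl⟩
  · have := (h.lh e a 1 l).1.co
    rwa [one_smul] at this

theorem cE (k : P.B e a = 0) : w e a ∈ centralizer (Yg C φ (span F {e, a}) : Set G) := by
  rintro _ ⟨l, hl, rfl⟩
  have := h.eqv l e a k
  rw [(mem_fix_pair.1 hl).1, (mem_fix_pair.1 hl).2, mul_inv_eq_iff_eq_mul] at this
  exact this

theorem wz (k : P.B e a = 0) (c : F) : Commute (w e a) (z C φ e c) := by
  have := h.eqv (C.T e 0 c) e a k
  rw [h.z_app, h.z_app, h.B_self, k, mul_zero, zero_smul, add_zero, add_zero, mul_inv_eq_iff_eq_mul] at this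
  exact Commute.symm this

theorem com_ln (k : P.B e a = 0) (u v : F) : Commute (w e (u • a)) (w e (v • a)) := by
  rcases wc_cases k with rfl | ⟨μ, rfl⟩ | l
  · rw [h.zero, h.zero]
  · rw [smul_smul, smul_smul, h.dep, h.dep]
    exact h.z_comm (h.B_self e) _ _
  · obtain ⟨n, m, ld⟩ := h.wc_ld l
    exact (ld.ho_mul (h.lh e a u l) (h.lh e a v l)).2

/-- reduction to a given point of the line -/
theorem red {u v : V} (k : Ln P u v) (h0 : e ≠ 0) (he : e ∈ span F {u, v}) :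
    ∃ a, Ln P e a ∧ span F {e, a} = span F {u, v} ∧ ∃ ε ∈ Eg C φ (span F {u, v}), w u v = w e a * ε := by
  -- `lh`, `lh_congr`, `ho_uniq`
  obtain ⟨c, d, rfl⟩ := Submodule.mem_span_pair.1 he
  obtain ⟨c₂, d₂, e1⟩ : ∃ c₂ d₂, c * d₂ + d * c₂ = 1 := by
    by_cases hc : c = 0
    · have hd : d ≠ 0 := fun hd => h0 (by simp [hc, hd])
      exact ⟨d⁻¹, 0, by simp [hd]⟩
    · exact ⟨0, c⁻¹, by simp [hc]⟩
  have e2 : c * d₂ + d * c₂ ≠ 0 := e1 ▸ one_ne_zero
  have l := h.loc_ln k (c₁ := c) (d₁ := d) (c₂ := c₂) (d₂ := d₂) (by rwa [mul_comm c₂])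
  have k1 := (h.lh_congr k e2).1 (h.lh _ _ 1 l)
  rw [e1, one_mul] at k1
  obtain ⟨n, m, ld⟩ := h.wc_ld k
  obtain ⟨ε, hε, e3⟩ := ld.ho_uniq k1 (h.lh u v 1 k)
  rw [one_smul, one_smul] at e3
  exact ⟨_, l, h.tor_span e2, ε, hε, e3⟩

theorem bil (hκ : κ = 0) (k : Ln P e a) (α β γ δ : F) :
    w (α • e + β • a) (γ • e + δ • a) = w e ((α * δ + β * γ) • a) := by
  -- shift, symm, smul (β = 0 or eliminate a from the second vector)
  subst hκ
  have two := h.two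
  have sh : ∀ e a (μ : F), P.B e a = 0 → w e (a + μ • e) = w e a := fun e a μ k => by
    rw [h.shift e a μ k, zero_mul, h.z_zero, mul_one]
  have sy : ∀ e a, P.B e a = 0 → w a e = w e a := fun e a k => by
    rw [h.symm e a k, zero_smul, h.x_zero, mul_one]
  have k0 := k.perp
  have k1 : ∀ c : F, P.B e (c • a) = 0 := fun c => by rw [map_smul, k0, smul_zero]
  have k2 : ∀ c d : F, P.B e (c • e + d • a) = 0 := fun c d => by
    rw [map_add, k1, map_smul, h.B_self, smul_zero, add_zero]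
  by_cases hβ : β = 0
  · rw [hβ, zero_smul, add_zero, h.smul _ _ _ (k2 _ _), zero_mul, add_zero, ← sh e _ (α * γ) (k1 _)]
    congr 1
    module
  · obtain ⟨β', hb⟩ : ∃ β', β * β' = 1 := ⟨β⁻¹, mul_inv_cancel₀ hβ⟩
    have k3 : P.B (α • e + β • a) ((γ + δ * β' * α) • e) = 0 := by
      rw [map_smul, h.B_comm, k2, smul_zero]
    have e1 : γ • e + δ • a = (γ + δ * β' * α) • e + (δ * β') • (α • e + β • a) := by
      linear_combination (norm := module) -(two * (δ * β' * α)) • e - (δ * hb) • a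
    rw [e1, sh _ _ _ k3, ← sy _ _ k3, h.smul _ _ _ (k2 _ _),
      ← sh e ((α * δ + β * γ) • a) ((γ + δ * β' * α) * α) (k1 _)]
    congr 1
    linear_combination (norm := module) ((α * δ) * hb) • a

theorem ca_iff : CA C φ t ↔ κ = 0 := by
  -- ⇐ `mem_Yl`, `eqv`, `bil`. ⇒ p = w e a ε tⁱ o (`LD.dec'`); B μ = x e (μ • f') centralises p, so
  -- z e (κ μ) = [B μ, ε] = x e (r' μ • a) z e (r' μ²) (`Bz`)
  constructor
  · rintro ⟨e, a, l, p, hp⟩
    obtain ⟨n, m, ld⟩ := h.wc_ld l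
    obtain ⟨f, f', k⟩ := h.hh_of_ln l
    have k1 := (h.lh e a 1 l).1
    obtain ⟨_, ⟨s, hs, rfl⟩, o, ho, -, -, e1⟩ := ld.dec' k1 (fun y hy => hp.cY y (h.E_le_Yl l hy))
      (by simpa using hp.pt)
    rw [one_smul] at e1
    have m1 : τ C φ e f' 0 ∈ Yl C φ e a :=
      mem_inf.2 ⟨⟨_, rfl⟩, mem_centralizer_singleton_iff.2 (h.τ_comm k.ef l.perp 0 0).eq⟩
    have c1 : Commute (τ C φ e f' 0) p := hp.cY _ m1
    have c2 : Commute (τ C φ e f' 0) o := ho _ ⟨_, rfl⟩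
    have c3 : Commute (τ C φ e f' 0) t := h.tl _
    have c4 : Commute (τ C φ e f' 0) (w e a * φ s) := by
      rcases e1 with rfl | rfl
      · simpa using c1.mul_right c2.inv_right
      · simpa using (c1.mul_right c2.inv_right).mul_right c3.inv_right
    have s1 : C.act s e = e := hs e (h.mem_perp_span.2 (by simp [h.B_self, h.B_comm a e, l.perp]))
    have s2 : C.act s a = a := hs a (h.mem_perp_span.2 (by simp [h.B_self, l.perp]))
    have b1 : P.B e (C.act s f') = 0 := by rw [← s1, C.B_act, k.ef]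
    have b2 : P.B a (C.act s f') = 1 := by rw [← s2, C.B_act, k.h₂.ef]
    have e2 : τ C φ e (C.act s f') (0 + κ * P.B a (C.act s f')) = τ C φ e f' 0 := by
      rw [← h.wQ e a _ 0 l.perp b1, ← s1, ← h.τ_conj s k.ef, s1]
      calc _ = w e a * φ s * τ C φ e f' 0 * (w e a * φ s)⁻¹ := by group
        _ = _ := by rw [← c4.eq, mul_inv_cancel_right]
    simpa [b2] using ((h.τ_eq_iff l.ne b1 k.ef).1 e2).2
  · intro hκ
    obtain ⟨e, e0⟩ := h.exists_ne0
    obtain ⟨a, l⟩ := h.exists_ln e0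
    refine ⟨e, a, l, w e a, fun y hy => ?_, h.wt l.perp, h.co l.perp⟩
    obtain ⟨s, rfl⟩ := hy.1
    obtain ⟨α, β, γ, δ, e1, e2, e3⟩ := (h.mem_Yl l).1 hy
    have := h.eqv s e a l.perp
    rw [e2, e3, h.bil hκ l, e1, one_smul, mul_inv_eq_iff_eq_mul] at this
    exact this

theorem wc_Q (k : P.B e a = 0) (k' : P.B e b = 0) {c : V} (k2 : P.B e c = 0) (d : F) :
    w e a * w e b * τ C φ e c d * (w e a * w e b)⁻¹ = τ C φ e c (d + κ * P.B (a + b) c) := by
  calc _ = w e a * (w e b * τ C φ e c d * (w e b)⁻¹) * (w e a)⁻¹ := by group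
    _ = _ := by
      rw [h.wQ _ _ _ _ k' k2, h.wQ _ _ _ _ k k2, map_add, LinearMap.add_apply]
      congr 1
      ring

theorem wc_mv (k : P.B e a = 0) {d : V} (k2 : P.B e d = 0) (r : F) :
    ∃ r', τ C φ e d r * w e a = w e a * τ C φ e d r' := by
  have := h.wQ e a d (r + κ * P.B a d) k k2
  rw [add_assoc, h.add_self, add_zero, mul_inv_eq_iff_eq_mul] at this
  exact ⟨_, this.symm⟩

theorem wc_t (k : P.B e a = 0) (k' : P.B e b = 0) :
    w e a * w e b * t * (w e a * w e b)⁻¹ = t * τ C φ e (a + b) ((1 + κ) * P.B a b) := by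
  calc _ = w e a * (w e b * t * (w e b)⁻¹) * (w e a)⁻¹ := by group
    _ = (w e a * t * (w e a)⁻¹) * (w e a * τ C φ e b 0 * (w e a)⁻¹) := by rw [h.wt k', conj_mul]; rfl
    _ = t * (τ C φ e a 0 * τ C φ e b (0 + κ * P.B a b)) := by
      rw [h.wt k, h.wQ _ _ _ _ k k', mul_assoc]; rfl
    _ = _ := by
      rw [h.τ_mul k k']
      congr 2
      ring

theorem wc_com (k : P.B e a = 0) (k' : P.B e b = 0) (k'' : P.B a b = 0) : Commute (w e a) (w e b) := by
  rcases wc_cases k with rfl | ⟨μ, rfl⟩ | l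
  · rw [h.zero, h.zero]
  · rw [h.dep]; exact (h.wz k' _).symm
  · obtain ⟨μ, ν, rfl⟩ := Submodule.mem_span_pair.1 (h.mem_ln l k' k'')
    rw [add_comm, h.shift _ _ _ (by rw [map_smul, k, smul_zero])]
    have := h.com_ln k 1 ν
    rw [one_smul] at this
    exact this.mul_right (h.wz k _)

/-- the commutator of two hats lies in `Q_e` -/
theorem wc_mem (h0 : e ≠ 0) (k : P.B e a = 0) (k' : P.B e b = 0) :
    ∃ d r, P.B e d = 0 ∧ w e a * w e b = w e b * w e a * τ C φ e d r := by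
  by_cases ha : a ∈ span F {e}
  · obtain ⟨μ, rfl⟩ := Submodule.mem_span_singleton.1 ha
    refine ⟨0, 0, map_zero _, ?_⟩
    rw [h.dep, (h.wz k' _).eq]
    exact (mul_one _).symm.trans (congrArg _ (h.z_zero e).symm)
  obtain ⟨g, hg⟩ : ∃ g, g = (w e b * w e a)⁻¹ * (w e a * w e b) := ⟨_, rfl⟩
  have g1 : Commute t g := hg ▸ wc_conj (by rw [h.wc_t k k', h.wc_t k' k, add_comm b, h.B_comm b])
  have g2 : g ∈ centralizer (Rg C φ (span F {e}) : Set G) := fun y hy => by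
    obtain ⟨c, d, k2, rfl⟩ := (h.mem_Q h0).1 hy
    exact hg ▸ (wc_conj (by rw [h.wc_Q k k' k2, h.wc_Q k' k k2, add_comm b])).eq
  obtain ⟨ε, hε, c, hc, e1⟩ := h.cQ h0 (h.norm_of g1.symm.eq) g2
  obtain ⟨d, r, k2, rfl⟩ := (h.mem_Q h0).1 hε
  have key : ∀ y : V, P.B e y = 0 → w e a * c * (w e a)⁻¹ = c * τ C φ e y 0 → Commute (w e b) (c * c) →
      c * c = 1 ∧ y ∈ span F {e} := fun y k3 e2 e3 => by
    have k4 : P.B e (κ₀ • a) = 0 := by rw [map_smul, k, smul_zero]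
    have k5 : P.B e (y + κ₀ • a) = 0 := by rw [map_add, k3, k4, add_zero]
    have k6 : P.B e (y + κ₀ • a + d) = 0 := by rw [map_add, k5, k2, add_zero]
    have k7 : P.B e (d + (y + κ₀ • a + d)) = 0 := by rw [map_add, k6, k2, add_zero]
    have e4 : w e a * w e a = τ C φ e (κ₀ • a) 0 := h.sq e a k
    obtain ⟨s, e5⟩ : ∃ s, τ C φ e y 0 * τ C φ e (κ₀ • a) 0 * τ C φ e d r = τ C φ e (y + κ₀ • a + d) s :=
      ⟨_, by rw [h.τ_mul k3 k4, h.τ_mul k5 k2]⟩
    have e6 : τ C φ e (y + κ₀ • a + d) s * c = c * τ C φ e (y + κ₀ • a + d) s := hc _ ⟨_, rfl⟩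
    obtain ⟨s', e7⟩ : ∃ s', τ C φ e (κ₀ • a) 0 * 1 = τ C φ e (d + (y + κ₀ • a + d)) s' * (c * c) := ⟨_,
      calc _ = w e b * (w e a * g * (w e a * g)) * (w e b)⁻¹ := by rw [← e4, hg]; group
        _ = w e b * ((w e a * τ C φ e d r * (w e a)⁻¹) * (w e a * c * (w e a)⁻¹) * (w e a * w e a) *
            τ C φ e d r * c) * (w e b)⁻¹ := by rw [e1]; group
        _ = w e b * (τ C φ e d (r + κ * P.B a d) * (c * (τ C φ e y 0 * τ C φ e (κ₀ • a) 0 * τ C φ e d r)) *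
            c) * (w e b)⁻¹ := by rw [h.wQ _ _ _ _ k k2, e2, e4]; group
        _ = w e b * (τ C φ e d (r + κ * P.B a d) * τ C φ e (y + κ₀ • a + d) s) * (w e b)⁻¹ *
            (w e b * (c * c) * (w e b)⁻¹) := by rw [e5, ← e6]; group
        _ = _ := by rw [h.τ_mul k2 k6, h.wQ _ _ _ _ k' k7, e3.eq, mul_inv_cancel_right]⟩
    obtain ⟨e8, e9⟩ := h.dec_inj ⟨_, rfl⟩ ⟨_, rfl⟩ (one_mem _) (mul_mem hc hc) e7
    refine ⟨e9.symm, ?_⟩
    have two := h.two
    have := ((h.τ_eq_iff h0 k4 k7).1 e8).1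
    rwa [show κ₀ • a + (d + (y + κ₀ • a + d)) = y by
      linear_combination (norm := module) (two * κ₀) • a + two • d] at this
  obtain ⟨o, ho, o1, o2, e2⟩ := h.dec h.two' ⟨_, rfl⟩ hc (e1 ▸ g1.symm.eq)
  have c1 : Commute (w e a) o := h.co k o ho o1 o2
  have c2 : Commute (w e b) o := h.co k' o ho o1 o2
  rcases e2 with rfl | rfl
  · have e3 := (key 0 (map_zero _) (by
      rw [c1.eq, mul_inv_cancel_right]
      exact (mul_one _).symm.trans (congrArg _ (h.z_zero e).symm)) (c2.mul_right c2)).1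
    have e4 : c = 1 := by
      rw [← orderOf_eq_one_iff]
      exact o2.coprime_two_right.eq_one_of_dvd (orderOf_dvd_of_pow_eq_one (by rwa [pow_two]))
    refine ⟨d, r, k2, ?_⟩
    rw [e4, mul_one] at e1
    rw [← e1, hg, mul_inv_cancel_left]
  · have e3 : t * o * (t * o) = o * o := by
      rw [mul_assoc, ← mul_assoc o, o1, ← mul_assoc, ← mul_assoc, h.t2, one_mul]
    refine absurd (key a k ?_ (e3 ▸ c2.mul_right c2)).2 ha
    rw [← conj_mul, h.wt k, c1.eq, mul_inv_cancel_right, mul_assoc, mul_assoc]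
    exact congrArg _ (ho _ ⟨_, rfl⟩)

/-- one coordinate of the commutator vanishes -/
theorem wc_half {f d : V} {r : F} (k : HH P e f a b) (k2 : P.B e d = 0)
    (e1 : w e a * w e b = w e b * w e a * τ C φ e d r) : P.B b d = 0 := by
  have h0 : e ≠ 0 := h.hp_ne k.h₁.ef
  obtain ⟨l, l0, l1⟩ := h.exists_big'
  have l2 : 1 + l * l ≠ 0 := fun c => l1 (h.sq_inj (by rw [mul_one]; exact (h.eq_of_add c).symm))
  obtain ⟨v, hv⟩ : ∃ v, v + l * l * v = 1 := ⟨(1 + l * l)⁻¹, by rw [← one_add_mul, mul_inv_cancel₀ l2]⟩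
  have k1 : ∀ c : F, P.B e (c • b) = 0 := fun c => by rw [map_smul, k.ef, smul_zero]
  obtain ⟨d₀, r₀, k3, e2⟩ := h.wc_mem h0 k.ee (k1 v)
  obtain ⟨s, -, s1, -, s2, s3, -⟩ := h.exists_diag k l0 (inv_ne_zero l0)
  rw [inv_inv] at s3
  have k4 : P.B e (C.act s d₀) = 0 := by
    have := C.B_act s e d₀
    rw [s1, h.B_smul_left, k3] at this
    exact (mul_eq_zero.1 this).resolve_left l0
  have k5 : P.B e (l • C.act s d₀) = 0 := by rw [map_smul, k4, smul_zero]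
  have k6 : P.B b (l • C.act s d₀) = P.B b d₀ := by
    rw [map_smul, smul_eq_mul, ← h.B_smul_left, ← s3, C.B_act]
  have e3 : w e a * w e ((l * l * v) • b) =
      w e ((l * l * v) • b) * w e a * τ C φ e (l • C.act s d₀) (l * l * r₀) := by
    have := congrArg (fun y => φ s * y * (φ s)⁻¹) e2
    simp only [← conj_mul] at this
    rw [h.eqv _ _ _ k.ee, h.eqv _ _ _ (k1 v), h.τ_conj _ k3, s1, s2, map_smul, s3, smul_smul,
      h.smul _ _ _ (by rw [map_smul, k.ee, smul_zero]), h.smul _ _ _ (k1 _), h.τ_smul k4,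
      smul_inv_smul₀ l0, smul_smul] at this
    rwa [show l * l * v = l * (v * l) by ring]
  obtain ⟨ν, e4⟩ := h.add0 e b v (l * l * v) k.ef
  rw [hv, one_smul] at e4
  obtain ⟨r₁, q1⟩ := h.wc_mv (k1 (l * l * v)) k3 r₀
  obtain ⟨r₂, q2⟩ := h.wc_mv k.ee (k1 ν) 0
  have e5 : τ C φ e (l • C.act s d₀) (l * l * r₀) * τ C φ e d₀ r₁ * τ C φ e (ν • b) 0 =
      τ C φ e (ν • b) r₂ * τ C φ e d r := by
    rw [e4] at e1
    generalize w e (v • b) = B at e1 e2
    generalize w e ((l * l * v) • b) = B' at e1 e3 q1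
    refine mul_left_cancel (a := B * B' * w e a) ?_
    calc _ = B * (B' * w e a * τ C φ e (l • C.act s d₀) (l * l * r₀)) * τ C φ e d₀ r₁ * τ C φ e (ν • b) 0 := by
          group
      _ = B * w e a * (B' * τ C φ e d₀ r₁) * τ C φ e (ν • b) 0 := by rw [← e3]; group
      _ = B * w e a * τ C φ e d₀ r₀ * B' * τ C φ e (ν • b) 0 := by rw [← q1]; group
      _ = w e a * (B * B' * τ C φ e (ν • b) 0) := by rw [← e2]; group
      _ = B * B' * (τ C φ e (ν • b) 0 * w e a) * τ C φ e d r := e1.trans (by rw [mul_assoc (B * B')]; rfl)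
      _ = _ := by rw [q2]; group
  have k7 : P.B e (l • C.act s d₀ + d₀) = 0 := by rw [map_add, k5, k3, add_zero]
  rw [h.τ_mul k5 k3, h.τ_mul k7 (k1 ν), h.τ_mul (k1 ν) k2, h.τ_eq_iff h0 (by rw [map_add, k7, k1, add_zero])
    (by rw [map_add, k2, k1, add_zero])] at e5
  obtain ⟨c, e6⟩ := Submodule.mem_span_singleton.1 e5.1
  have e7 := congrArg (P.B b) e6
  simp only [map_add, k6, h.add_self] at e7
  simpa [h.B_self, h.B_comm b e, k.ef] using e7.symm

theorem wc_hh {f : V} (k : HH P e f a b) : ∃ ρ, w e a * w e b = z C φ e ρ * (w e b * w e a) := by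
  obtain ⟨d, r, k2, e1⟩ := h.wc_mem (h.hp_ne k.h₁.ef) k.ee k.ef
  have c1 := h.wc_half k k2 e1
  have c2 := h.wc_half (r := r) ⟨k.h₁, k.h₂.symm, k.ef, k.ee, k.ff, k.fe⟩ k2 (by
    rw [e1, mul_assoc, h.τ_sq k2, mul_one])
  have e2 := h.hh_eq k d
  rw [k2, c1, c2, zero_smul, zero_smul, zero_smul, add_zero, add_zero, add_zero] at e2
  have e3 : τ C φ e d r = z C φ e r := by
    rw [e2, ← zero_add (_ • e), h.τ_shift (map_zero _)]; rfl
  exact ⟨r, by rw [e1, e3]; exact ((h.wz k.ef r).mul_left (h.wz k.ee r)).eq⟩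

theorem com0 : ∃ ρ : F, ∀ e a b, P.B e a = 0 → P.B e b = 0 →
    w e a * w e b = z C φ e (ρ * P.B a b) * (w e b * w e a) := by
  -- frame e f a f'; g(u, v) = ⁅w e (u a), w e (v f')⁆ centralises t and Q_e (`wQ`): g = τ e d r * tⁱ * o (`cQ`,
  -- `Two.dec`). (w_a w_b w_a⁻¹)² = (g w_b)² gives i = 0, o = 1 for v ≠ 0. d = d₁ a + d₂ f' mod e is additive in u
  -- and in v (`add0`, the hats act trivially on Q_e / Z_e); T (l, m): d₁ (l m u, l m⁻¹ v) = l m d₁ (u, v): taking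
  -- l m = 1, d₁ is constant in v ≠ 0, so 0; d₂ likewise; r (l m u, l m⁻¹ v) = l² r (u, v) so r = ρ u v.
  -- General a, b: B a b ≠ 0: a, b are e₂, β f₂ of a frame; B a b = 0: `com_ln`, `shift`
  obtain ⟨e₀, e0⟩ := h.exists_ne0
  obtain ⟨a₀, l₀⟩ := h.exists_ln e0
  obtain ⟨f₀, b₀, k₀⟩ := h.hh_of_ln l₀
  obtain ⟨ρ, hρ⟩ := h.wc_hh k₀
  have fr : ∀ {e f a b : V}, HH P e f a b → w e a * w e b = z C φ e ρ * (w e b * w e a) := fun {e f a b} k => by
    obtain ⟨s, rfl, -, rfl, rfl⟩ := h.trans_hh k₀ k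
    rw [← h.eqv s _ _ k₀.ee, ← h.eqv s _ _ k₀.ef, ← h.z_conj, conj_mul, conj_mul, conj_mul, hρ]
  refine ⟨ρ, fun e a b k k' => ?_⟩
  by_cases ab : P.B a b = 0
  · rw [ab, mul_zero, h.z_zero, one_mul]
    exact h.wc_com k k' ab
  by_cases h0 : e = 0
  · rw [h0, h.zero, h.zero, h.z_zero', one_mul, one_mul]
  obtain ⟨l, hl⟩ := h.exists_sqrt (P.B a b)
  have l0 : l ≠ 0 := fun c => ab (by rw [← hl, c, mul_zero])
  have k1 : P.B e (l⁻¹ • a) = 0 := by rw [map_smul, k, smul_zero]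
  have k2 : P.B e (l⁻¹ • b) = 0 := by rw [map_smul, k', smul_zero]
  have k3 : P.B (l⁻¹ • a) (l⁻¹ • b) = 1 := by
    rw [h.B_smul_left, map_smul, ← hl, smul_eq_mul]; field_simp
  have k4 : P.B (l • e) (l⁻¹ • a) = 0 := by rw [h.B_smul_left, k1, mul_zero]
  have k5 : P.B (l • e) (l⁻¹ • b) = 0 := by rw [h.B_smul_left, k2, mul_zero]
  obtain ⟨f, hf⟩ := h.exists_hp (smul_ne_zero l0 h0)
  obtain ⟨f', c1, c2, c3⟩ := h.hp_decomp k3 f
  rw [c3, map_add, map_add, map_smul _ _ (l⁻¹ • a), map_smul _ _ (l⁻¹ • b), k4, k5, smul_zero, smul_zero,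
    add_zero, add_zero] at hf
  have := fr ⟨h.hp_iff.2 hf, h.hp_iff.2 k3, k4, k5, by rw [h.B_comm, c1], by rw [h.B_comm, c2]⟩
  rwa [h.smul _ _ _ k1, h.smul _ _ _ k2, smul_inv_smul₀ l0, smul_inv_smul₀ l0, h.z_smul, hl, mul_comm _ ρ] at this

theorem kk0 : κ * κ₀ = 0 := by
  -- w_a w_b² w_a⁻¹ = (z w_b)² = w_b², `sq`, `wQ`
  obtain ⟨e, e0⟩ := h.exists_ne0
  obtain ⟨a, l⟩ := h.exists_ln e0
  obtain ⟨f, b, k⟩ := h.hh_of_ln l
  obtain ⟨ρ, hρ⟩ := h.wc_hh k
  have k1 : P.B e (κ₀ • b) = 0 := by rw [map_smul, k.ef, smul_zero]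
  have e1 := h.wQ e a _ 0 k.ee k1
  have e2 : w e a * (w e b * w e b) * (w e a)⁻¹ = w e b * w e b := by
    have e3 : w e a * w e b * (w e a)⁻¹ = z C φ e ρ * w e b := by rw [hρ]; group
    rw [← conj_mul, e3]
    calc _ = z C φ e ρ * (w e b * z C φ e ρ) * w e b := by group
      _ = z C φ e ρ * z C φ e ρ * (w e b * w e b) := by rw [(h.wz k.ef ρ).eq]; group
      _ = _ := by rw [h.z_sq, one_mul]
  rw [h.sq e b k.ef] at e2
  have := ((h.τ_eq_iff e0 k1 k1).1 (e1.symm.trans e2)).2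
  rwa [map_smul, k.h₂.ef, smul_eq_mul, mul_one, zero_add] at this

/-- the defect of additivity -/
theorem dQ (k : P.B e a = 0) (k' : P.B e b = 0) (h0 : e ≠ 0) :
    (w e (a + b))⁻¹ * w e a * w e b ∈ centralizer (Rg C φ (span F {e}) : Set G) ∧
    (w e (a + b))⁻¹ * w e a * w e b * t * ((w e (a + b))⁻¹ * w e a * w e b)⁻¹ =
      t * z C φ e ((1 + κ) * P.B a b) ∧ CO φ.range t ((w e (a + b))⁻¹ * w e a * w e b) := by
  have k1 : P.B e (a + b) = 0 := by rw [map_add, k, k', add_zero]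
  refine ⟨fun y hy => ?_, ?_, ((h.co k1).inv.mul (h.co k)).mul (h.co k')⟩
  · obtain ⟨c, d, k2, rfl⟩ := (h.mem_Q h0).1 hy
    rw [mul_assoc _ (w e a)]
    refine (wc_conj ?_).eq
    rw [h.wc_Q k k' k2, h.wQ _ _ _ _ k1 k2]
  · have e1 := h.wc_t k k'
    have e2 : w e (a + b) * (t * z C φ e ((1 + κ) * P.B a b)) * (w e (a + b))⁻¹ =
        t * τ C φ e (a + b) ((1 + κ) * P.B a b) := by
      rw [← conj_mul, h.wt k1, (h.wz k1 _).eq, mul_inv_cancel_right, h.τ_eq k1, mul_assoc]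
    calc _ = (w e (a + b))⁻¹ * (w e a * w e b * t * (w e a * w e b)⁻¹) * w e (a + b) := by group
      _ = _ := by rw [e1, ← e2]; group

theorem tz_of (hκ : κ ≠ 1) : Tz C φ t := by
  obtain ⟨e, e0⟩ := h.exists_ne0
  obtain ⟨a, l⟩ := h.exists_ln e0
  obtain ⟨f, b, k⟩ := h.hh_of_ln l
  refine (h.tz_iff e0 (c := (1 + κ) * P.B a b) ?_).2 ⟨_, (h.dQ k.ee k.ef e0).2.1⟩
  rw [k.h₂.ef, mul_one]
  exact fun c => hκ (h.eq_of_add c).symm

theorem add (h0 : κ₀ = 0) (k : P.B e a = 0) (k' : P.B e b = 0) (k'' : P.B a b = 0) :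
    w e (a + b) = w e a * w e b := by
  -- a ∈ ⟨e⟩ or b = ν a + μ e (`mem_ln`): `add1`, `shift`, `dep`
  rcases wc_cases k with rfl | ⟨μ, rfl⟩ | l
  · rw [h.zero, h.zero, h.zero, one_mul]
  · rw [add_comm, h.shift _ _ _ k', h.dep, (h.wz k' _).eq]
  · obtain ⟨μ, ν, rfl⟩ := Submodule.mem_span_pair.1 (h.mem_ln l k' k'')
    have k1 : ∀ c : F, P.B e (c • a) = 0 := fun c => by rw [map_smul, k, smul_zero]
    rw [show a + (μ • e + ν • a) = (1 + ν) • a + μ • e by module, h.shift _ _ _ (k1 _), h.add1 h0 _ _ _ _ k,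
      one_smul, add_comm (μ • e), h.shift _ _ _ (k1 _), mul_assoc]

end W0

end CfsgLib.SP4
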