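import Cfsg.Agent.Lib.SP4.WC

/-! Hats of points and lines -/

set_option autoImplicit false
set_option linter.unusedSectionVars false

namespace CfsgLib.SP4

open Subgroup Module CfsgLib.Forms CfsgLib.LieMult
open CfsgLib.HX (Std CO Two Mv M2)
open CfsgLib.UN (AV SI TI HH Rad Stb Yg Rg Eg Act nu)
open CfsgLib.ClSys (II)
open Submodule (span)
open scoped commutatorElement Pointwise

universe u

variable {F : Type} [Field F] [Finite F] {V : Type} [AddCommGroup V] [Module F V]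
  [FiniteDimensional F V] {P : PQ (RingHom.id F) V} {S : Type} [Group S] [Finite S] {G : Type u}
  [Group G] [Finite G] {C : CG P S} {φ : S →* G} {t : G}

namespace Emb

variable (h : Emb C φ) {e f a f' b : V} {g g' p : G} {T : Fˣ × Fˣ →* S}
include h

theorem wd_swap (k : HH P e f a f') : HH P e f f' a :=
  ⟨k.h₁, h.hp_iff.2 (by rw [h.B_comm]; exact h.hp_iff.1 k.h₂), k.ef, k.ee, k.ff, k.fe⟩

theorem wd_B (k : P.B e a = 0) (s : F) : P.B e (s • a) = 0 := by rw [map_smul, k, smul_zero]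

theorem wd_τ (k : P.B e b = 0) (r : F) : z C φ e r * x C φ e b = τ C φ e b r := by
  have := h.τ_mul (e := e) (a := 0) (map_zero _) k r 0
  rwa [zero_add, add_zero, map_zero, LinearMap.zero_apply, add_zero] at this

theorem wd_τz (k : P.B e b = 0) (r r' : F) : τ C φ e b r * z C φ e r' = τ C φ e b (r + r') := by
  have := h.τ_mul (e := e) (b := 0) k (map_zero _) r r'
  rwa [add_zero, map_zero, add_zero] at this

theorem wd_mul (k : P.B e a = 0) (s s' r r' : F) :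
    τ C φ e (s • a) r * τ C φ e (s' • a) r' = τ C φ e ((s + s') • a) (r + r') := by
  rw [h.τ_mul (h.wd_B k s) (h.wd_B k s'), h.B_smul_left, map_smul, h.B_self, add_smul]; simp

theorem wd_τE (k : P.B e a = 0) (s r : F) : τ C φ e (s • a) r ∈ Eg C φ (span F {e, a}) :=
  h.τ_mem_E (h.ti_pair k) (Submodule.subset_span (by simp))
    (Submodule.smul_mem _ _ (Submodule.subset_span (by simp))) r

theorem wd_zE (k : P.B e a = 0) (r : F) : z C φ a r ∈ Eg C φ (span F {e, a}) :=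
  h.τ_mem_E (h.ti_pair k) (Submodule.subset_span (by simp)) (zero_mem _) r

theorem wd_zE' (k : P.B e a = 0) (r : F) : z C φ e r ∈ Eg C φ (span F {e, a}) :=
  h.τ_mem_E (h.ti_pair k) (Submodule.subset_span (by simp)) (zero_mem _) r

theorem wd_τQ (h0 : e ≠ 0) (k : P.B e b = 0) (r : F) : τ C φ e b r ∈ Rg C φ (span F {e}) :=
  (h.mem_Q h0).2 ⟨b, r, k, rfl⟩

theorem wd_c (k : P.B e a = 0) (hg : g ∈ Eg C φ (span F {e, a})) (hg' : g' ∈ Eg C φ (span F {e, a})) :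
    Commute g g' :=
  mem_centralizer_iff.1 (h.E_cent (h.ti_pair k) hg') _ (h.R_le_Y (h.E_le_R (h.ti_pair k) hg))

theorem wd_nm (k : Ln P e a) {s : F} (hs : s • a ∈ span F {e}) : s = 0 := by
  by_contra s0
  exact k.nmem ((Submodule.smul_mem_iff _ s0).1 hs)

theorem wd_inj (k : Ln P e a) {s s' r r' : F} (e1 : τ C φ e (s • a) r = τ C φ e (s' • a) r') :
    s = s' ∧ r = r' := by
  obtain ⟨h1, h2⟩ := (h.τ_eq_iff k.ne (h.wd_B k.perp s) (h.wd_B k.perp s')).1 e1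
  exact ⟨h.eq_of_add (h.wd_nm k (by rwa [add_smul])), h2⟩

theorem wd_T (k : P.B e a = 0) (hT : Tor C e f a f' T) (l m : Fˣ) (s r : F) :
    φ (T (l, m)) * τ C φ e (s • a) r * (φ (T (l, m)))⁻¹ = τ C φ e ((l * m * s : F) • a) (l * l * r) := by
  rw [h.τ_conj _ (h.wd_B k s), map_smul, hT.e, hT.a, h.τ_smul (h.wd_B (h.wd_B k _) _), smul_smul, smul_smul,
    mul_right_comm]

theorem wd_Tz (hT : Tor C e f a f' T) (l m : Fˣ) (r : F) :
    φ (T (l, m)) * z C φ a r * (φ (T (l, m)))⁻¹ = z C φ a (m * m * r) := by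
  rw [h.z_conj, hT.a, h.z_smul]

theorem wd_QE (k : Ln P e a) (hg : g ∈ Rg C φ (span F {e})) {σ : F} (h0 : σ ≠ 0)
    (c : Commute (z C φ a σ) g) : ∃ s r : F, g = τ C φ e (s • a) r := by
  obtain ⟨b, r, k', rfl⟩ := (h.mem_Q k.ne).1 hg
  have e1 := h.z_τ (u := a) σ k' r
  have ka : P.B a e = 0 := by rw [h.B_comm, k.perp]
  rw [c.eq, mul_assoc, h.z_sq, mul_one, ka, mul_zero, zero_smul, add_zero,
    h.τ_eq_iff k.ne k' (by rw [map_add, k', h.wd_B k.perp, add_zero]), ← add_assoc, h.vadd_self, zero_add] at e1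
  obtain ⟨α, s, rfl⟩ := Submodule.mem_span_pair.1
    (h.mem_ln k k' ((mul_eq_zero.1 (h.wd_nm k e1.1)).resolve_left h0))
  exact ⟨s, r, by rw [add_comm, h.τ_shift (h.wd_B k.perp s)]⟩

theorem wd_zY (k : P.B e a = 0) (σ : F) : z C φ a σ ∈ Yg C φ (span F {e}) :=
  h.τ_mem_Y (map_zero _) (h.mem_perp_span.2 (by simpa using k)) (zero_mem _) σ

theorem wd_inv (hT : Tor C e f a f' T) :
    Tor C e f f' a (T.comp ((MonoidHom.id _).prodMap invMonoidHom)) where
  e l m := hT.e l m⁻¹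
  f l m := hT.f l m⁻¹
  a l m := (hT.f' l m⁻¹).trans (by simp)
  f' l m := (hT.a l m⁻¹).trans (by simp)

omit h in
theorem wd_Tc (T : Fˣ × Fˣ →* S) (u v : Fˣ × Fˣ) : Commute (φ (T u)) (φ (T v)) :=
  ((Commute.all u v).map T).map φ

/-- `p` centralises the transvections of `Y_e` -/
theorem wd_gen (k : HH P e f a f') (hQ : p ∈ centralizer (Rg C φ (span F {e}) : Set G))
    (h1 : ∀ σ, Commute p (z C φ a σ)) (h2 : ∀ σ, Commute p (z C φ f' σ)) {α : F} (h0 : α ≠ 0) (β γ σ : F) :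
    Commute p (z C φ (γ • e + α • a + β • f') σ) := by
  have cj : ∀ s u, Commute p (φ s) → (∀ σ, Commute p (z C φ u σ)) → ∀ σ, Commute p (z C φ (C.act s u) σ) :=
    fun s u c1 c2 σ => by rw [← h.z_conj]; exact (c1.mul_right (c2 σ)).mul_right c1.inv_right
  have k2 : P.B f' a = 1 := by rw [h.B_comm]; exact h.hp_iff.1 k.h₂
  have c1 := cj _ (α • a) (h2 (β / α)) fun σ => by rw [h.z_smul]; exact h1 _
  have c2 := cj _ _ (mem_centralizer_iff.1 hQ _
    (h.wd_τQ (h.ln_of_hh k).ne (h.wd_B k.ef (γ / α)) 0)).symm c1 σ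
  rw [h.x_app (h.wd_B k.ef _), h.z_app] at c2
  simp only [map_add, map_smul, LinearMap.smul_apply, k2, k.ee, k.ef, h.B_self, smul_eq_mul, mul_zero, mul_one,
    add_zero, zero_smul, div_mul_cancel₀ _ h0, mul_div_cancel₀ _ h0] at c2
  convert c2 using 2
  abel

end Emb

namespace MZ

variable (h : MZ C φ t) {e f a f' : V} {T : Fˣ × Fˣ →* S} {p : G} {c : F}
include h

theorem wd_yz (k : Ln P e a) (hp : PH C φ t e c p) (σ : F) : ∃ s r : F,
    p * z C φ a σ * p⁻¹ = z C φ a σ * τ C φ e (s • a) r := by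
  by_cases h0 : σ = 0
  · exact ⟨0, 0, by rw [h0, h.z_zero, zero_smul, mul_one, mul_inv_cancel, one_mul]; exact (h.z_zero e).symm⟩
  obtain ⟨f, f', k'⟩ := h.hh_of_ln k
  obtain ⟨T, hT⟩ := h.toMod.exists_tor k'
  have D := h.ld k' hT
  have hQ := D.mo_Y hp.1 (h.wd_zY k.perp σ)
  have g2 := h.z_sq a σ
  have gi : (z C φ a σ)⁻¹ = z C φ a σ := inv_eq_of_mul_eq_one_right g2
  have e1 : p * z C φ a σ * p⁻¹ = z C φ a σ * (z C φ a σ * p * (z C φ a σ)⁻¹ * p⁻¹) := by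
    rw [gi, ← mul_assoc, ← mul_assoc, ← mul_assoc, g2, one_mul]
  generalize z C φ a σ * p * (z C φ a σ)⁻¹ * p⁻¹ = ε at hQ e1
  have e2 : z C φ a σ * ε * (z C φ a σ * ε) = 1 := by rw [← e1, conj_mul, g2, mul_one, mul_inv_cancel]
  obtain ⟨s, r, rfl⟩ := h.wd_QE k hQ h0 (by
    rw [Commute, SemiconjBy, eq_inv_of_mul_eq_one_left e2, mul_inv_rev, gi,
      inv_eq_of_mul_eq_one_right (D.sq _ hQ)])
  exact ⟨s, r, e1⟩

theorem yz0 (k : Ln P e a) (hp : PH C φ t e c p) (σ : F) : ∃ r s : F,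
    p * z C φ a σ * p⁻¹ = z C φ a σ * z C φ e r * x C φ e (s • a) := by
  -- the commutator lies in Q_e (`mo_Y`) and commutes with z a σ (`mem_Q'`, `Bz`)
  obtain ⟨s, r, e1⟩ := h.wd_yz k hp σ
  exact ⟨r, s, by rw [e1, mul_assoc, h.wd_τ (h.wd_B k.perp s)]⟩

theorem yz1 (k : HH P e f a f') (hT : Tor C e f a f' T) : ∃ κ₁ : F, ∀ d p, PH C φ t e (d * d) p →
    (∀ m, Commute (φ (T (1, m))) p) → ∀ σ : F,
      p * z C φ a (σ * σ) * p⁻¹ = z C φ a (σ * σ) * x C φ e ((κ₁ * d * σ) • a) := by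
  -- d = 1: r, s of `yz0` are additive, r (m² σ) = r σ, s (m² σ) = m s σ; general d by T (d, 1) and `ho_uniq'`
  have D := h.ld k hT
  have ln := h.ln_of_hh k
  obtain ⟨p₁, hp, c1⟩ := D.ho_fix 1
  replace c1 : ∀ m, Commute (φ (T (1, m))) p₁ := c1
  obtain ⟨κ₁, ρ, e1⟩ := h.wd_yz ln hp 1
  have cj : ∀ (l m : Fˣ), φ (T (l, m)) * p₁ * (φ (T (l, m)))⁻¹ * z C φ a (m * m) *
      (φ (T (l, m)) * p₁ * (φ (T (l, m)))⁻¹)⁻¹ = z C φ a (m * m) * τ C φ e ((l * m * κ₁ : F) • a) (l * l * ρ) := by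
    intro l m
    rw [← h.wd_T k.ee hT, ← mul_one (m * m : F), ← h.wd_Tz hT l m, conj_mul, conj_mul, ← e1]; group
  have c2 : ∀ m : Fˣ, p₁ * z C φ a (m * m) * p₁⁻¹ = z C φ a (m * m) * τ C φ e ((m * κ₁ : F) • a) ρ := by
    intro m
    have := cj 1 m
    rw [mul_inv_eq_iff_eq_mul.2 (c1 m).eq] at this
    simpa using this
  have r0 : ρ = 0 := by
    obtain ⟨u, u0, u1⟩ := h.exists_big'
    have u2 : 1 + u ≠ 0 := fun e => u1 (h.eq_of_add e).symm
    have e2 := c2 (Units.mk0 u u0)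
    have e3 := c2 (Units.mk0 _ u2)
    simp only [Units.val_mk0] at e2 e3
    rw [show (1 + u) * (1 + u) = 1 + u * u by linear_combination u * h.two, h.z_add, ← conj_mul, e1, e2,
      mul_assoc, mul_assoc, mul_right_inj, ← mul_assoc,
      (h.wd_c k.ee (h.wd_τE k.ee _ _) (h.wd_zE k.ee _)).eq, mul_assoc, mul_right_inj, h.wd_mul k.ee,
      h.add_self] at e3
    exact (h.wd_inj ln e3).2.symm
  refine ⟨κ₁, fun d p hp' c' σ => ?_⟩
  by_cases σ0 : σ = 0
  · rw [σ0, mul_zero, mul_zero, zero_smul, h.z_zero, h.x_zero]; simp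
  have key : ∀ p', PH C φ t e (d * d) p' → (∀ m, Commute (φ (T (1, m))) p') →
      p * z C φ a (σ * σ) * p⁻¹ = p' * z C φ a (σ * σ) * p'⁻¹ := fun p' h1 h2 => by
    obtain ⟨r, rfl⟩ := D.ho_uniq' h1 hp' h2 c'
    rw [mul_inv_rev, mul_assoc p', (h.z_comm k.ee _ _).eq]; group
  by_cases d0 : d = 0
  · rw [key 1 (by rw [d0, mul_zero, PH, h.z_zero]; exact D.ho_Q (one_mem _)) fun _ => Commute.one_right _,
      d0, mul_zero, zero_mul, zero_smul, h.x_zero]; simp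
  have e2 := cj (Units.mk0 d d0) (Units.mk0 σ σ0)
  have e3 : φ (T (Units.mk0 d d0, Units.mk0 σ σ0)) = φ (T (Units.mk0 d d0, 1)) * φ (T (1, Units.mk0 σ σ0)) := by
    rw [← map_mul, ← map_mul]; simp
  have e4 : φ (T (1, Units.mk0 σ σ0)) * p₁ = p₁ * φ (T (1, Units.mk0 σ σ0)) := c1 _
  rw [e3, mul_assoc _ _ p₁, e4, mul_inv_rev (φ _), ← mul_assoc (φ _), ← mul_assoc (φ _ * p₁ * φ _),
    mul_inv_cancel_right] at e2
  have h1 := D.ho_m hp (Units.mk0 d d0)
  rw [mul_one] at h1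
  rw [key _ h1 fun m => ((Emb.wd_Tc T _ _).mul_right (c1 m)).mul_right (Emb.wd_Tc T _ _).inv_right]
  refine e2.trans ?_
  rw [r0, mul_zero, Units.val_mk0, Units.val_mk0, mul_comm _ κ₁, ← mul_assoc]; rfl

theorem cz_of (k : HH P e f a f') (hT : Tor C e f a f' T) (hp : PH C φ t e 1 p)
    (c1 : ∀ m, Commute (φ (T (1, m))) p) (c2 : ∀ σ, Commute p (z C φ a σ)) : CZ C φ t := by
  -- n ∈ Y_e swapping a, f' (`trans_hh`) normalises T (1, ·) (`hh_ext`): n p n⁻¹ = p z e r (`ho_uniq'`), so p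
  -- centralises z f' σ; the s ∈ S with φ s centralising p contain Q_e, z a, z f', T(1, m), hence all
  -- transvections of Y_e (`cent_Y`: z (α a + β f' + γ e) is a conjugate of z a or z f')
  have D := h.ld k hT
  have ln := h.ln_of_hh k
  have k' := h.wd_swap k
  obtain ⟨n, n1, n2, n3, n4⟩ := h.trans_hh k k'
  have nT : ∀ m : Fˣ, T (1, m) * n = n * T (1, m⁻¹) := fun m => h.toMod.hh_ext k
    (by simp only [C.mul_apply, n1, hT.e, map_smul]) (by simp only [C.mul_apply, n2, hT.f, map_smul])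
    (by simp only [C.mul_apply, n3, hT.f', hT.a, map_smul, Units.val_inv_eq_inv_val])
    (by simp only [C.mul_apply, n4, hT.f', hT.a, map_smul, Units.val_inv_eq_inv_val, inv_inv])
  obtain ⟨r, hr⟩ := D.ho_uniq' hp (D.hoc_Y hp (mem_map_of_mem φ (mem_fix_pt.2 n1))) c1 fun m => by
    change φ (T (1, m)) * (φ n * p * (φ n)⁻¹) = φ n * p * (φ n)⁻¹ * φ (T (1, m))
    have e1 : φ (T (1, m)) * φ n = φ n * φ (T (1, m⁻¹)) := by rw [← map_mul, nT, map_mul]
    have e2 : (φ n)⁻¹ * φ (T (1, m)) = φ (T (1, m⁻¹)) * (φ n)⁻¹ := by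
      rw [inv_mul_eq_iff_eq_mul, ← mul_assoc, ← e1, mul_inv_cancel_right]
    rw [mul_assoc _ _ (φ (T _)), e2, ← mul_assoc, ← mul_assoc, e1, mul_assoc (φ n), (c1 _).eq]; group
  have c3 : ∀ σ, Commute p (z C φ f' σ) := fun σ => by
    have e1 : Commute (φ n * p * (φ n)⁻¹) (φ n * z C φ a σ * (φ n)⁻¹) := (c2 σ).conj _
    rw [hr, h.z_conj, n3] at e1
    have := e1.mul_left (h.z_comm k.ef r σ)
    rwa [mul_assoc, h.z_sq, mul_one] at this
  refine ⟨e, ln.ne, p, h.cent_Y (h.ti_pt e) fun v hv σ => ?_, hp.1.pt, hp.1.co⟩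
  have e1 := h.hh_eq k v
  rw [h.mem_perp_span.1 hv e rfl, zero_smul, add_zero] at e1
  rw [e1]
  by_cases h1 : P.B f' v = 0
  · by_cases h2 : P.B a v = 0
    · rw [h1, h2, zero_smul, zero_smul, add_zero, add_zero, h.z_smul]
      exact (mem_centralizer_iff.1 hp.1.cQ _ (D.hoa_ζ _)).symm
    · rw [add_right_comm]; exact h.wd_gen k' hp.1.cQ c3 c2 h2 _ _ _
  · exact h.wd_gen k hp.1.cQ c2 c3 h1 _ _ _

end MZ

namespace W0

variable {w : V → V → G} {κ κ₀ : F} (h : W0 C φ t w κ κ₀) (hz : MZ C φ t) {e f a f' : V}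
  {T : Fˣ × Fˣ →* S} {p : G} {c : F}
include h hz

omit hz in
theorem wd_wE (k : Ln P e a) (v : F) {g : G} (hg : g ∈ Eg C φ (span F {e, a})) : Commute (w e (v • a)) g :=
  (mem_centralizer_iff.1 (h.lh e a v k).1.cQ _ hg).symm

theorem wd_yw (k : Ln P e a) (hp : PH C φ t e c p) (v : F) : ∃ s r : F,
    p * w e (v • a) * p⁻¹ = τ C φ e (s • a) r * w e (v • a) := by
  by_cases h0 : v = 0
  · exact ⟨0, 0, by rw [h0, zero_smul, h.w_zero, mul_one, mul_inv_cancel, mul_one]; exact (h.z_zero e).symm⟩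
  obtain ⟨f, f', k'⟩ := h.hh_of_ln k
  obtain ⟨T, hT⟩ := h.toMod.exists_tor k'
  have D := hz.ld k' hT
  have kv := h.wd_B k.perp v
  have wE := fun g => h.wd_wE k v (g := g)
  have pQ : ∀ g ∈ Rg C φ (span F {e}), Commute p g := fun g hg => (mem_centralizer_iff.1 hp.1.cQ _ hg).symm
  have wt := h.wt kv
  have w2 := h.sq e _ kv
  have wo := h.co kv
  have wQ := fun b (k : P.B e b = 0) c => h.wQ e _ b c kv k
  generalize w e (v • a) = W at *
  have xQ : x C φ e (v • a) ∈ Rg C φ (span F {e}) := h.wd_τQ k.ne kv 0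
  have xE : x C φ e (v • a) ∈ Eg C φ (span F {e, a}) := h.wd_τE k.perp v 0
  have gt : p * W * p⁻¹ * W⁻¹ * t = t * (p * W * p⁻¹ * W⁻¹) := by
    have c1 := (wE _ xE).eq
    have c2 := (wE _ (h.wd_zE' k.perp c)).eq
    have c3 := (pQ _ xQ).eq
    have c4 := (h.wd_c k.perp xE (h.wd_zE' k.perp c)).eq
    have c5 := (pQ _ (D.hoa_ζ c)).eq
    have e1 := mul_inv_eq_iff_eq_mul.1 wt
    have e2 := mul_inv_eq_iff_eq_mul.1 hp.1.pt
    generalize x C φ e (v • a) = X at *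
    generalize z C φ e c = Z at *
    have e3 : p * W * t = t * (Z * X) * (p * W) := by
      rw [mul_assoc p, e1, ← mul_assoc, ← mul_assoc, e2, mul_assoc _ p, c3]; group
    have e4 : W * p * t = t * (Z * X) * (W * p) := by
      rw [mul_assoc W, e2, ← mul_assoc, ← mul_assoc, e1, mul_assoc _ W, c2, ← c4]; group
    have e5 : Commute (W * p) (Z * X) := (Commute.mul_right c2 c1).mul_left (Commute.mul_right c5 c3)
    have e6 : Commute (p * W) (Z * X) := (Commute.mul_right c5 c3).mul_left (Commute.mul_right c2 c1)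
    rw [mul_assoc t, ← e5.eq, ← mul_assoc] at e4
    rw [mul_assoc t, ← e6.eq, ← mul_assoc] at e3
    have e7 : (W * p)⁻¹ * t = t * (Z * X)⁻¹ * (W * p)⁻¹ := by
      rw [inv_mul_eq_iff_eq_mul, ← mul_assoc, ← mul_assoc, e4]; group
    calc _ = p * W * ((W * p)⁻¹ * t) := by group
      _ = _ := by rw [e7, ← mul_assoc, ← mul_assoc, e3]; group
  have gQ : p * W * p⁻¹ * W⁻¹ ∈ centralizer (Rg C φ (span F {e}) : Set G) := mem_centralizer_iff.2 fun g hg => by
    obtain ⟨b, r, kb, rfl⟩ := (h.mem_Q k.ne).1 hg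
    have e1 := wQ b kb (r + κ * P.B (v • a) b)
    rw [add_assoc, h.add_self, add_zero] at e1
    have c1 := (pQ _ (h.wd_τQ k.ne kb (r + κ * P.B (v • a) b))).inv_left.eq
    have c2 := (pQ _ hg).eq
    generalize τ C φ e b (r + κ * P.B (v • a) b) = ε at *
    rw [← mul_assoc, ← mul_assoc, ← mul_assoc, ← c2, ← e1]
    calc _ = p * W * (ε * p⁻¹) * W⁻¹ := by group
      _ = _ := by rw [← c1]; group
  have gz : Commute (z C φ a 1) (p * W * p⁻¹ * W⁻¹) := by
    obtain ⟨s, r, e1⟩ := hz.wd_yz k (D.ho_inv hp) 1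
    have c1 := wE _ (mul_mem (h.wd_zE k.perp 1) (h.wd_τE k.perp s r))
    rw [← e1] at c1
    refine Commute.mul_right ?_ (wE _ (h.wd_zE k.perp 1)).symm.inv_right
    simpa [mul_assoc] using (c1.conj p).symm
  obtain ⟨ε, hε, o, ho, ot, od, H⟩ := D.dec gt gQ
  have zL : z C φ a 1 ∈ φ.range := ⟨_, rfl⟩
  have zo : Commute (z C φ a 1) o := mem_centralizer_iff.1 ho _ zL
  have zε : Commute (z C φ a 1) ε := by
    rcases H with H | H
    · rw [← mul_inv_eq_iff_eq_mul.2 H]; exact gz.mul_right zo.inv_right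
    · rw [← mul_inv_eq_iff_eq_mul.2 (mul_inv_eq_iff_eq_mul.2 H)]
      exact (gz.mul_right zo.inv_right).mul_right (Commute.inv_right (D.hoa_t zL))
  obtain ⟨s, r, rfl⟩ := h.wd_QE k hε one_ne_zero zε
  have c1 := wE _ (h.wd_τE k.perp s r)
  have c2 : Commute W o := wo o ho ot od
  have c3 : Commute (τ C φ e (s • a) r) o := mem_centralizer_iff.1 ho _ (D.hoa_QL hε)
  have c4 : Commute (τ C φ e (s • a) r) t := D.hoa_t (D.hoa_QL hε)
  have c5 : Commute (x C φ e (v • a)) o := mem_centralizer_iff.1 ho _ (D.hoa_QL xQ)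
  have c6 : Commute (τ C φ e (s • a) r) (x C φ e (v • a)) := D.hoa_Qc hε xQ
  have e2 := D.sq _ hε
  have e3 : p * W * p⁻¹ * W⁻¹ * (W * (p * W * p⁻¹ * W⁻¹) * W⁻¹) = 1 := by
    have := (pQ _ (h.wd_τQ k.ne (h.wd_B kv κ₀) 0)).eq
    change p * x C φ e _ = x C φ e _ * p at this
    rw [← w2] at this
    calc _ = p * (W * W) * p⁻¹ * W⁻¹ * W⁻¹ := by group
      _ = _ := by rw [this]; group
  refine ⟨s, r, mul_inv_eq_iff_eq_mul.1 ?_⟩
  have x2 := h.x_sq kv
  have x1 : x C φ e (v • a) ≠ 1 := fun e => h0 ((h.x_eq_one k).1 e)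
  generalize τ C φ e (s • a) r = ε at *
  generalize x C φ e (v • a) = X at *
  rcases H with H | H
  · rw [H, (c1.mul_right c2).eq, mul_inv_cancel_right, c3.symm.mul_mul_mul_comm, e2, one_mul] at e3
    rw [H, D.hoa_odd od (k := 1) (by rw [pow_one, pow_two, e3]), mul_one]
  · have e4 : W * (ε * t * o) * W⁻¹ = ε * (t * X) * o := by
      rw [← wt, ← conj_mul, ← conj_mul, c1.eq, c2.eq, mul_inv_cancel_right, mul_inv_cancel_right]
    have e5 : ε * t * o * (ε * (t * X) * o) = X * (o * o) := by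
      calc _ = ε * t * (o * ε) * t * X * o := by group
        _ = ε * (t * ε) * (o * t) * X * o := by rw [← c3.eq]; group
        _ = ε * ε * (t * t) * (o * X) * o := by rw [← c4.eq, ot]; group
        _ = _ := by rw [e2, D.t2, ← c5.eq]; group
    rw [H, e4, e5] at e3
    have e6 : o = 1 := D.hoa_odd od (k := 2) (by
      rw [show o ^ 2 ^ 2 = o * o * (o * o) by rw [show 2 ^ 2 = 2 + 2 by rfl, pow_add, pow_two],
        ← inv_eq_of_mul_eq_one_right e3, ← mul_inv_rev, x2, inv_one])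
    rw [e6, mul_one, mul_one] at e3
    exact absurd e3 x1

theorem yw0 (k : Ln P e a) (hp : PH C φ t e c p) (v : F) : ∃ r s : F,
    ⁅p, w e (v • a)⁆ = z C φ e r * x C φ e (s • a) := by
  -- g centralises t, Q_e (`wQ`) and E(l) (`yz0`): g = ε tⁱ o, ε ∈ Q_e centralising E(l); (g w)² = p w² p⁻¹ = w²
  -- gives i = 0, o = 1 (v ≠ 0)
  obtain ⟨s, r, e1⟩ := h.wd_yw hz k hp v
  exact ⟨r, s, by rw [commutatorElement_def, e1, mul_inv_cancel_right, h.wd_τ (h.wd_B k.perp s)]⟩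

theorem yw (k : HH P e f a f') (hT : Tor C e f a f' T) (hp : PH C φ t e c p)
    (c1 : ∀ m, Commute (φ (T (1, m))) p) (v : F) : Commute p (w e (v • a)) := by
  -- r (c, v), s (c, v) of `yw0` for y c = `ho_fix c` do not depend on the choice (`ho_uniq'`), are additive in v
  -- (`add0`) and in c (`ho_mul`); T (1, m): r (c, m v) = r (c, v); T (l, l⁻¹): s (l² c, v) = s (c, v)
  have D := hz.ld k hT
  have ln := h.ln_of_hh k
  obtain ⟨s, r, e1⟩ := h.wd_yw hz ln hp v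
  obtain ⟨u, u0, u1⟩ := h.exists_big'
  have u2 : 1 + u ≠ 0 := fun e => u1 (h.eq_of_add e).symm
  have cj : ∀ l m : Fˣ, φ (T (l, m)) * p * (φ (T (l, m)))⁻¹ * w e ((l * m * v : F) • a) *
      (φ (T (l, m)) * p * (φ (T (l, m)))⁻¹)⁻¹ =
        τ C φ e ((l * m * s : F) • a) (l * l * r) * w e ((l * m * v : F) • a) := by
    intro l m
    have e2 := h.eqv (T (l, m)) e _ (h.wd_B k.ee v)
    rw [map_smul, hT.e, hT.a, h.smul _ _ _ (h.wd_B (h.wd_B k.ee _) _), smul_smul, smul_smul,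
      mul_right_comm (l : F)] at e2
    rw [← h.wd_T k.ee hT, ← e2, conj_mul, conj_mul, ← e1]; group
  have pQ : ∀ {c p}, PH C φ t e c p → ∀ s r, Commute p (τ C φ e (s • a) r) := fun hp s r =>
    (mem_centralizer_iff.1 hp.1.cQ _ (h.wd_τQ ln.ne (h.wd_B k.ee s) r)).symm
  have r0 : r = 0 := by
    have c2 : ∀ m : Fˣ, p * w e ((m * v : F) • a) * p⁻¹ =
        τ C φ e ((m * s : F) • a) r * w e ((m * v : F) • a) := fun m => by
      have := cj 1 m
      rw [mul_inv_eq_iff_eq_mul.2 (c1 m).eq] at this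
      simpa using this
    have e2 := c2 (Units.mk0 u u0)
    have e3 := c2 (Units.mk0 _ u2)
    simp only [Units.val_mk0] at e2 e3
    obtain ⟨ρ, e4⟩ := h.add0 e a v (u * v) k.ee
    have c3 : Commute p (x C φ e (ρ • a)) := pQ hp ρ 0
    rw [add_mul 1 u v, one_mul, e4, ← conj_mul, ← conj_mul, e1, e2, c3.eq, mul_inv_cancel_right,
      ← mul_assoc, mul_assoc _ (w e (v • a)), (h.wd_wE ln v (h.wd_τE k.ee _ _)).eq, ← mul_assoc, ← mul_assoc,
      ← mul_assoc, mul_left_inj, mul_left_inj, mul_left_inj, h.wd_mul k.ee, h.add_self] at e3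
    exact (h.wd_inj ln e3).2.symm
  have s0 : s = 0 := by
    have c2 : ∀ l : Fˣ, ∃ q, PH C φ t e (l * l * c) q ∧ (∀ m, Commute (φ (T (1, m))) q) ∧
        q * w e (v • a) * q⁻¹ = τ C φ e (s • a) 0 * w e (v • a) := fun l => by
      refine ⟨φ (T (l, l⁻¹)) * p * (φ (T (l, l⁻¹)))⁻¹, ?_, fun m =>
        ((Emb.wd_Tc T _ _).mul_right (c1 m)).mul_right (Emb.wd_Tc T _ _).inv_right, ?_⟩
      · have := h.toSit.ph_conj (T (l, l⁻¹)) hp
        rwa [hT.e, h.toSit.ph_smul l.ne_zero] at this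
      · have := cj l l⁻¹
        rwa [Units.mul_inv, one_mul, one_mul, r0, mul_zero] at this
    obtain ⟨q, q1, q2, q3⟩ := c2 (Units.mk0 u u0)
    obtain ⟨q', q1', q2', q3'⟩ := c2 (Units.mk0 _ u2)
    simp only [Units.val_mk0] at q1 q1'
    rw [show (1 + u) * (1 + u) * c = c + u * u * c by linear_combination u * c * h.two] at q1'
    obtain ⟨ρ, e2⟩ := D.ho_uniq' q1' (D.ho_mul hp q1).1 q2' fun m => (c1 m).mul_right (q2 m)
    have e3 : p * q * w e (v • a) * (p * q)⁻¹ = q' * w e (v • a) * q'⁻¹ := by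
      rw [e2, mul_inv_rev, mul_assoc q', ← (h.wd_wE ln v (h.wd_zE' k.ee ρ)).eq]; group
    rw [q3', show p * q * w e (v • a) * (p * q)⁻¹ = p * (q * w e (v • a) * q⁻¹) * p⁻¹ by group, q3, ← conj_mul,
      e1, (pQ hp _ _).eq, mul_inv_cancel_right, ← mul_assoc, mul_left_inj, h.wd_mul k.ee, h.add_self] at e3
    exact (h.wd_inj ln e3).1.symm
  rw [r0, s0, zero_smul, show τ C φ e 0 0 = 1 from h.z_zero e, one_mul] at e1
  exact mul_inv_eq_iff_eq_mul.1 e1

/-- **KK** -/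
theorem kk (hκ : κ ≠ 0) : CZ C φ t := by
  -- y = y (d²) commutes with w e (β f') and w e (σ² β a) (`yw` for both frames e f a f', e f f' a with the
  -- inverse torus). D of `dQ` = y' ε tⁱ o (`LD.dec'`), i independent of d, so y D y⁻¹ = D z e (i d²); hence
  -- y W y⁻¹ = W z e (i d²) for W = w e (σ² β a + β f') = z a σ² w e (β f') z a σ²; but by `yz1`, `wQ`
  -- y W y⁻¹ = W z e (κ κ₁ d σ β). Two values of d: i = 0 and κ₁ = 0; `cz_of`
  obtain ⟨e, e0⟩ := h.toMod.exists_ne0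
  obtain ⟨f, hf⟩ := h.exists_hp e0
  obtain ⟨a, f', k⟩ := h.exists_hh hf
  obtain ⟨T, hT⟩ := h.toMod.exists_tor k
  have D := hz.ld k hT
  have k2 : P.B a f' = 1 := h.hp_iff.1 k.h₂
  obtain ⟨κ₁, hκ₁⟩ := hz.yz1 k hT
  obtain ⟨d1, d2, -⟩ := h.dQ k.ee k.ef e0
  obtain ⟨y', hy', -⟩ := D.ho_fix ((1 + κ) * P.B a f')
  obtain ⟨ε, hε, o, ho, ot, od, H⟩ := D.dec' hy'.1 d1 d2
  have kW : P.B e (a + f') = 0 := by rw [map_add, k.ee, k.ef, add_zero]
  have eW : w e (a + f') = z C φ a 1 * w e f' * (z C φ a 1)⁻¹ := by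
    have := h.eqv (C.T a 0 1) e f' k.ef
    rw [h.z_app, h.z_app, h.B_comm a e, k.ee, k2, mul_zero, zero_smul, add_zero, mul_one, one_smul,
      add_comm] at this
    exact this.symm
  have key : ∀ d y, PH C φ t e (d * d) y → (∀ m, Commute (φ (T (1, m))) y) →
      y * ((w e (a + f'))⁻¹ * w e a * w e f') * y⁻¹ =
        z C φ e (κ * κ₁ * d) * ((w e (a + f'))⁻¹ * w e a * w e f') := fun d y hy c => by
    have c1 := h.yw hz k hT hy c 1
    have c2 := h.yw hz (h.wd_swap k) (h.wd_inv hT) hy (fun m => c m⁻¹) 1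
    rw [one_smul] at c1 c2
    have e1 := hκ₁ d y hy c 1
    rw [mul_one, mul_one] at e1
    have kb := h.wd_B k.ee (κ₁ * d)
    have e2 := h.wQ e f' _ 0 k.ef kb
    rw [zero_add, map_smul, h.B_comm f' a, k2, smul_eq_mul, mul_one, ← mul_assoc, h.τ_eq kb, h.τ_eq kb,
      h.z_zero, mul_one] at e2
    have e3 : y * w e (a + f') * y⁻¹ = w e (a + f') * z C φ e (κ * κ₁ * d) := by
      have c3 := (h.z_comm k.ee (κ * κ₁ * d) 1).inv_right.eq
      have c4 := (h.wz k.ef (κ * κ₁ * d)).eq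
      have x2 := h.x_sq kb
      rw [eW, ← conj_mul, ← conj_mul, ← conj_inv, e1, c2.eq, mul_inv_cancel_right, mul_assoc _ _ (z C φ e _),
        ← c3, mul_inv_rev, inv_eq_of_mul_eq_one_right x2]
      generalize x C φ e ((κ₁ * d) • a) = X at *
      calc _ = z C φ a 1 * X * (w e f' * X * (w e f')⁻¹) * w e f' * (z C φ a 1)⁻¹ := by group
        _ = z C φ a 1 * (X * X) * (z C φ e (κ * κ₁ * d) * w e f') * (z C φ a 1)⁻¹ := by rw [e2]; group
        _ = _ := by rw [x2, ← c4]; group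
    rw [← conj_mul, ← conj_mul, ← conj_inv, e3, c1.eq, c2.eq, mul_inv_cancel_right, mul_inv_cancel_right,
      mul_inv_rev, inv_eq_of_mul_eq_one_right (h.z_sq e _)]
    group
  have cD : ∀ d y, PH C φ t e (d * d) y → Commute y (y' * ε) ∧ Commute y o := fun d y hy =>
    ⟨(D.ho_mul hy hy').2.mul_right (mem_centralizer_iff.1 hy.1.cQ _ hε).symm, hy.1.co o ho ot od⟩
  rcases H with H | H
  · obtain ⟨y, hy, c⟩ := D.ho_fix (1 * 1)
    have e1 := key 1 y hy c
    rw [H, ((cD 1 y hy).1.mul_right (cD 1 y hy).2).eq, mul_inv_cancel_right, right_eq_mul, h.z_eq_one,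
      mul_one, mul_eq_zero] at e1
    have k0 : κ₁ = 0 := (e1.resolve_left e0).resolve_left hκ
    refine hz.cz_of k hT (by rwa [mul_one] at hy) c fun σ => ?_
    obtain ⟨s, rfl⟩ := h.exists_sqrt σ
    have := hκ₁ 1 y hy c s
    rw [k0, zero_mul, zero_mul, zero_smul, h.x_zero, mul_one] at this
    exact mul_inv_eq_iff_eq_mul.1 this
  · have k1 : ∀ d, κ * κ₁ * d = d * d := fun d => by
      obtain ⟨y, hy, c⟩ := D.ho_fix (d * d)
      have e1 := key d y hy c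
      have c3 : Commute (z C φ e (κ * κ₁ * d)) (y' * ε * t) :=
        (Commute.mul_right (mem_centralizer_iff.1 hy'.1.cQ _ (D.hoa_ζ _)) (D.hoa_Qc (D.hoa_ζ _) hε)).mul_right
          (D.hoa_t (D.hoa_QL (D.hoa_ζ _)))
      rw [H, ← conj_mul, ← conj_mul, (cD d y hy).1.eq, (cD d y hy).2.eq, mul_inv_cancel_right,
        mul_inv_cancel_right, hy.1.pt, ← mul_assoc (z C φ e _), c3.eq, mul_left_inj, ← mul_assoc,
        mul_right_inj] at e1
      exact (h.z_inj e0 e1).symm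
    obtain ⟨u, u0, u1⟩ := h.exists_big'
    have e1 := k1 u
    rw [← mul_one (κ * κ₁), k1 1, mul_one, mul_left_inj' u0] at e1
    exact absurd e1.symm u1

end W0

end CfsgLib.SP4
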