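import Cfsg.Agent.Lib.SP4.WD
import Cfsg.Agent.Lib.SP4.LdB

/-! The line relation -/

set_option autoImplicit false
set_option linter.unusedSectionVars false

namespace CfsgLib.SP4

open Subgroup Module CfsgLib.Forms CfsgLib.LieMult
open CfsgLib.HX (Std CO Two Mv M2)
open CfsgLib.UN (AV SI TI HH Rad Stb Yg Rg Eg Act nu)
open CfsgLib.ClSys (II)
open Submodule (span)
open scoped commutatorElement Pointwise

universe u

variable {F : Type} [Field F] [Finite F] {V : Type} [AddCommGroup V] [Module F V]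
  [FiniteDimensional F V] {P : PQ (RingHom.id F) V} {S : Type} [Group S] [Finite S] {G : Type u}
  [Group G] [Finite G] {C : CG P S} {φ : S →* G} {t : G}

theorem we_as {a b c : G} (h : a * b = c) (u : G) : a * (b * u) = c * u := by rw [← mul_assoc, h]

theorem we_ma (a b c : G) : a * b * c = a * (b * c) := mul_assoc a b c

theorem we_odd {o : G} (ho : Odd (orderOf o)) (e : o * o = 1) : o = 1 := by
  rcases (Nat.dvd_prime Nat.prime_two).1 (orderOf_dvd_of_pow_eq_one ((pow_two o).trans e)) with k | k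
  · exact orderOf_eq_one_iff.1 k
  · rw [k] at ho
    exact absurd ho (by decide)

variable (C φ) in
/-- the elements of `E(l)` -/
def weE (e a : V) (r s r' : F) : G := z C φ e r * x C φ e (s • a) * z C φ a r'

namespace Emb

variable (h : Emb C φ) {e a f f' : V} {g : G}
include h

theorem we_Y (k : Ln P e a) : Eg C φ (span F {e, a}) = Yg C φ (span F {e, a}) := by
  have : P.perp (span F {e, a}) = span F {e, a} := h.lag_ln k
  rw [Eg, this, Yg]

theorem we_mem (k : Ln P e a) (r s r' : F) : weE C φ e a r s r' ∈ Yg C φ (span F {e, a}) :=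
  h.we_Y k ▸ (h.mem_El k).2 ⟨r, s, r', rfl⟩

theorem we_L (k : Ln P e a) (r s r' : F) : weE C φ e a r s r' ∈ φ.range := h.Y_le_L (h.we_mem k r s r')

theorem we_c (k : Ln P e a) (hg : g ∈ centralizer (Yg C φ (span F {e, a}) : Set G)) (r s r' : F) :
    weE C φ e a r s r' * g = g * weE C φ e a r s r' := mem_centralizer_iff.1 hg _ (h.we_mem k r s r')

theorem we_c' (k : Ln P e a) (hg : g ∈ centralizer (Yg C φ (span F {e, a}) : Set G)) (r s r' : F)
    (u : G) : weE C φ e a r s r' * (g * u) = g * (weE C φ e a r s r' * u) := by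
  rw [← mul_assoc, h.we_c k hg, mul_assoc]

theorem we_K (k : Ln P e a) (r s r' : F) :
    weE C φ e a r s r' ∈ centralizer (Yg C φ (span F {e, a}) : Set G) :=
  h.E_cent (h.ti_pair k.perp) ((h.mem_El k).2 ⟨r, s, r', rfl⟩)

theorem we_z (e a : V) (r : F) : z C φ e r = weE C φ e a r 0 0 := by
  rw [weE, zero_smul, h.x_zero, h.z_zero, mul_one, mul_one]

theorem we_x (e a : V) (s : F) : x C φ e (s • a) = weE C φ e a 0 s 0 := by
  rw [weE, h.z_zero, h.z_zero, mul_one, one_mul]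

theorem we_z' (e a : V) (r : F) : z C φ a r = weE C φ e a 0 0 r := by
  rw [weE, zero_smul, h.x_zero, h.z_zero, mul_one, one_mul]

theorem we_one (e a : V) : weE C φ e a 0 0 0 = 1 := by rw [← h.we_z, h.z_zero]

theorem we_mul (k : Ln P e a) (r s r' u v u' : F) :
    weE C φ e a r s r' * weE C φ e a u v u' = weE C φ e a (r + u) (s + v) (r' + u') := by
  have k0 : ∀ v : F, P.B e (v • a) = 0 := fun v => by rw [P.B_smul_right, k.perp, mul_zero]
  have c1 := h.we_c' k (h.we_K k u 0 0) 0 0 r'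
  have c2 := h.we_c' k (h.we_K k 0 v 0) 0 0 r'
  have c3 := h.we_c' k (h.we_K k u 0 0) 0 s 0
  rw [← h.we_z, ← h.we_z'] at c1
  rw [← h.we_x, ← h.we_z'] at c2
  rw [← h.we_z, ← h.we_x] at c3
  rw [weE, weE, weE, h.z_add, h.z_add, add_smul, h.x_add (k0 _) (k0 _)
    (by rw [h.B_smul_left, P.B_smul_right, h.B_self, mul_zero, mul_zero])]
  simp only [mul_assoc]
  rw [c1, c2, c3]

theorem we_mul' (k : Ln P e a) (r s r' u v u' : F) (g : G) :
    weE C φ e a r s r' * (weE C φ e a u v u' * g) = weE C φ e a (r + u) (s + v) (r' + u') * g :=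
  we_as (h.we_mul k r s r' u v u') g

theorem we_sq (k : Ln P e a) (r s r' : F) : weE C φ e a r s r' * weE C φ e a r s r' = 1 := by
  rw [h.we_mul k, h.add_self, h.add_self, h.add_self, h.we_one]

theorem we_inj (k : Ln P e a) {r s r' u v u' : F} {c c' : G} (hc : c ∈ centralizer (φ.range : Set G))
    (hc' : c' ∈ centralizer (φ.range : Set G))
    (e1 : c * weE C φ e a r s r' = c' * weE C φ e a u v u') : c = c' ∧ r = u ∧ s = v ∧ r' = u' := by
  rw [← mem_centralizer_iff.1 hc _ (h.we_L k _ _ _), ← mem_centralizer_iff.1 hc' _ (h.we_L k _ _ _)] at e1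
  obtain ⟨e2, e3⟩ := h.dec_inj (h.we_L k _ _ _) (h.we_L k _ _ _) hc hc' e1
  exact ⟨e3, h.line_inj k e2⟩

theorem we_B (k : HH P e f a f') (μ r s r' : F) :
    x C φ e (μ • f') * weE C φ e a r s r' * x C φ e (μ • f') =
      weE C φ e a (r + r' * μ * μ) (s + r' * μ) r' := by
  have l := h.ln_of_hh k
  have k1 : P.B e (μ • f') = 0 := by rw [P.B_smul_right, k.ef, mul_zero]
  have c1 : Commute (x C φ e (μ • f')) (z C φ e r) := h.τ_comm k1 (by simp) _ _
  have c2 : Commute (x C φ e (μ • f')) (x C φ e (s • a)) :=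
    h.τ_comm k1 (by rw [P.B_smul_right, k.ee, mul_zero]) _ _
  calc _ = z C φ e r * x C φ e (s • a) * (x C φ e (μ • f') * z C φ a r' * x C φ e (μ • f')) := by
        rw [weE, ← mul_assoc, (c1.mul_right c2).eq]; simp only [mul_assoc]
    _ = _ := by
      rw [h.Bz k, h.we_z e a, h.we_z e a, h.we_x, h.we_x, h.we_z' e a]
      simp only [h.we_mul l, add_zero, zero_add]

theorem we_conj {e' a' : V} (k : P.B e a = 0) (k' : P.B e' a' = 0) {l : S} {ρ μ : F}
    (h1 : C.act l e = ρ • e') (h2 : C.act l a = μ • a') (r s r' : F) :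
    φ l * weE C φ e a r s r' * (φ l)⁻¹ = weE C φ e' a' (ρ * ρ * r) (ρ * (s * μ)) (μ * μ * r') := by
  calc _ = (φ l * z C φ e r * (φ l)⁻¹) * (φ l * x C φ e (s • a) * (φ l)⁻¹) *
        (φ l * z C φ a r' * (φ l)⁻¹) := by rw [weE]; group
    _ = _ := by
      rw [h.z_conj, h.z_conj, h.x_conj _ (by rw [P.B_smul_right, k, mul_zero]), map_smul, h1, h2,
        h.z_smul, h.z_smul, smul_smul, h.x_smul (by rw [P.B_smul_right, k', mul_zero]), smul_smul, weE]

theorem we_swap (k : Ln P e a) (r s r' : F) : weE C φ a e r' s r = weE C φ e a r s r' := by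
  rw [weE, h.x_symm (by rw [P.B_smul_right, h.B_comm, k.perp, mul_zero]), h.x_smul k.perp, h.we_z' e a,
    h.we_x, h.we_z e a, h.we_mul k, h.we_mul k]
  simp only [add_zero, zero_add]

end Emb

theorem Sit.we_dec (h : Sit C φ t) (h2 : Two φ.range t) {e a : V} (k : Ln P e a) {g : G}
    (h1 : g * t = t * g) (hc : g ∈ centralizer (Yg C φ (span F {e, a}) : Set G)) :
    ∃ r s r' : F, ∃ i : ℕ, i ≤ 1 ∧ ∃ o ∈ centralizer (φ.range : Set G), o * t = t * o ∧
      Odd (orderOf o) ∧ g = weE C φ e a r s r' * (t ^ i * o) := by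
  obtain ⟨ε, hε, c, hc', rfl⟩ := h.cY (h.ti_pair k.perp) (h.norm_of h1) hc
  obtain ⟨r, s, r', rfl⟩ := (h.mem_El k).1 hε
  obtain ⟨o, o1, o2, o3, rfl | rfl⟩ := h.dec h2 (h.we_L k r s r') hc' h1
  · exact ⟨r, s, r', 0, by omega, c, o1, o2, o3, by rw [pow_zero, one_mul, weE]⟩
  · exact ⟨r, s, r', 1, by omega, o, o1, o2, o3, by rw [pow_one, weE]⟩

namespace W0

variable {w : V → V → G} {κ κ₀ κ₁ : F} {y : V → F → G} (h : W0 C φ t w κ κ₀) (hy : Y0 C φ t y κ₁)
  {e a b : V}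
include h hy

omit hy in
theorem we_wK (k : Ln P e a) (v : F) :
    w e (v • a) ∈ centralizer (Yg C φ (span F {e, a}) : Set G) := by
  refine centralizer_le (h.Y_anti (Submodule.span_le.2 ?_))
    (h.cE (by rw [P.B_smul_right, k.perp, mul_zero]))
  rintro u (rfl | rfl)
  · exact Submodule.subset_span (by simp)
  · exact Submodule.smul_mem _ _ (Submodule.subset_span (by simp))

theorem we_yK {p : V} (hp : p ∈ span F {e, a}) (c : F) :
    y p c ∈ centralizer (Yg C φ (span F {e, a}) : Set G) :=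
  centralizer_le (h.Y_anti (by simpa using hp)) (hy.cY p c)

omit hy in
theorem we_CK {g : G} (hg : g ∈ centralizer (φ.range : Set G)) :
    g ∈ centralizer (Yg C φ (span F {e, a}) : Set G) := centralizer_le h.Y_le_L hg

theorem we_yt (p : V) (c : F) : y p c * t * (y p c)⁻¹ = t * z C φ p c := by
  by_cases hp : p = 0
  · rw [hp, hy.zero', h.z_zero']; group
  · exact (hy.ph p c hp).1.pt

theorem we_yco (p : V) (c : F) : CO φ.range t (y p c) := by
  by_cases hp : p = 0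
  · rw [hp, hy.zero']; exact HX.CO.of_mem (one_mem _)
  · exact (hy.ph p c hp).1.co

theorem we_yz (e : V) (c d : F) : Commute (y e c) (z C φ e d) :=
  (mem_centralizer_iff.1 (hy.cY e c) _ (h.R_le_Y (h.E_le_R (h.ti_pt e) (h.mem_Z.2 ⟨d, rfl⟩)))).symm

theorem yw1 (k : P.B e a = 0) (c : F) : Commute (y e c) (w e a) := by
  by_cases he : e = 0
  · rw [he, h.zero]; exact Commute.one_right _
  by_cases ha : a ∈ span F {e}
  · obtain ⟨μ, rfl⟩ := Submodule.mem_span_singleton.1 ha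
    rw [h.dep]; exact h.we_yz hy e c _
  obtain ⟨f, f', hh⟩ := h.hh_of_ln ⟨he, ha, k⟩
  obtain ⟨T, hT⟩ := h.exists_tor hh
  have := h.yw hy.toMZ hh hT (hy.ph e c he) (fun m => mem_centralizer_iff.1 (hy.cY e c) _
    ⟨_, mem_fix_pt.2 (by simpa using hT.e 1 m), rfl⟩) 1
  rwa [one_smul] at this

theorem yw2 (h1 : P.B e a = 0) (h2 : P.B e b = 0) (h3 : P.B a b = 0) (c : F) :
    Commute (y e c) (w a b) := by
  by_cases he : e = 0
  · rw [he, hy.zero']; exact Commute.one_left _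
  by_cases ha : a = 0
  · rw [ha, h.zero]; exact Commute.one_right _
  by_cases hb : b ∈ span F {a}
  · obtain ⟨μ, rfl⟩ := Submodule.mem_span_singleton.1 hb
    rw [h.dep]
    refine (mem_centralizer_iff.1 (hy.cY e c) _ (h.τ_mem_Y (by simp) ?_ (zero_mem _) _)).symm
    exact h.mem_perp_span.2 (by simpa using h1)
  have l : Ln P a b := ⟨ha, hb, h3⟩
  have he' : e ∈ span F {a, b} := h.mem_ln l (by rw [h.B_comm, h1]) (by rw [h.B_comm, h2])
  obtain ⟨a', l', -, ε, hε, e1⟩ := h.red l he he'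
  rw [e1]
  exact (h.yw1 hy l'.perp c).mul_right
    (mem_centralizer_iff.1 (h.we_yK hy he' c) _ (h.we_Y l ▸ hε)).symm

theorem we_ty (a : V) {i : ℕ} (hi : i ≤ 1) (c : F) :
    t ^ i * y e c = y e c * (t ^ i * weE C φ e a (i * c) 0 0) := by
  interval_cases i
  · simp [h.we_one]
  · have e1 := h.we_yt hy e c
    have e2 := (h.we_yz hy e c c).eq
    rw [← h.we_z, pow_one, Nat.cast_one, one_mul, ← mul_assoc, eq_mul_of_mul_inv_eq e1, mul_assoc t, ← e2]
    simp only [mul_assoc, h.z_sq, mul_one]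

omit hy in
theorem we_tw (k : Ln P e a) {i : ℕ} (hi : i ≤ 1) (v : F) :
    t ^ i * w e (v • a) = w e (v • a) * (t ^ i * weE C φ e a 0 (i * v) 0) := by
  interval_cases i
  · simp [h.we_one]
  · have e1 := h.wt (e := e) (a := v • a) (by rw [P.B_smul_right, k.perp, mul_zero])
    have e2 := h.we_c k (h.we_wK k v) 0 v 0
    rw [h.we_x] at e1
    rw [pow_one, Nat.cast_one, one_mul, ← mul_assoc, eq_mul_of_mul_inv_eq e1, mul_assoc t, e2]
    simp only [mul_assoc, h.we_sq k, mul_one]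

theorem we_By {f f' : V} (k : HH P e f a f') (l μ σ : F) :
    x C φ e (μ • f') * y (a + l • e) σ * x C φ e (μ • f') = y (a + (l + μ) • e) σ := by
  have k1 : P.B e (μ • f') = 0 := by rw [P.B_smul_right, k.ef, mul_zero]
  have k2 : P.B f' a = 1 := by rw [h.B_comm]; exact h.hp_iff.1 k.h₂
  have := hy.eqv (C.T e (μ • f') 0) (a + l • e) σ
  rw [show (φ (C.T e (μ • f') 0))⁻¹ = x C φ e (μ • f') from h.τ_inv k1 0, h.x_app k1] at this
  refine this.trans (congrArg (y · σ) ?_)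
  simp only [P.B_add_right, P.B_smul_right, h.B_smul_left, k2, k.ee, h.B_self, h.B_comm f' e, k.ef]
  module

theorem we_Bf {f f' : V} (k : HH P e f a f') (μ c v r s r' : F) {T : G}
    (hT : T ∈ centralizer (φ.range : Set G)) :
    x C φ e (μ • f') * (y e c * w e (v • a) * (weE C φ e a r s r' * T)) * x C φ e (μ • f') =
      y e c * w e (v • a) * (weE C φ e a r s r' * T) *
        weE C φ e a (κ * (v * μ) + r' * μ * μ) (r' * μ) 0 := by
  have l := h.ln_of_hh k
  have k1 : P.B e (μ • f') = 0 := by rw [P.B_smul_right, k.ef, mul_zero]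
  have k0 : P.B e (v • a) = 0 := by rw [P.B_smul_right, k.ee, mul_zero]
  have B2 := h.x_sq k1
  have c1 : x C φ e (μ • f') * y e c = y e c * x C φ e (μ • f') :=
    mem_centralizer_iff.1 (hy.cY e c) _ (h.τ_mem_Y k1 (h.mem_perp_span.2 (by simp [h.B_self]))
      (h.mem_perp_span.2 (by simpa using k1)) 0)
  have c2 : T * x C φ e (μ • f') = x C φ e (μ • f') * T :=
    (mem_centralizer_iff.1 hT _ ⟨_, rfl⟩).symm
  have c3 : w e (v • a) * x C φ e (μ • f') =
      x C φ e (μ • f') * (weE C φ e a (κ * (v * μ)) 0 0 * w e (v • a)) := by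
    have := h.wQ e (v • a) (μ • f') 0 k0 k1
    rw [h.τ_eq k1 (0 + _), zero_add, h.B_smul_left, P.B_smul_right, h.hp_iff.1 k.h₂, mul_one,
      h.we_z e a] at this
    rw [← mul_assoc, ← this, inv_mul_cancel_right]; rfl
  calc _ = y e c * (x C φ e (μ • f') * (w e (v • a) * x C φ e (μ • f'))) *
        (x C φ e (μ • f') * weE C φ e a r s r' * x C φ e (μ • f')) * T := by
        simp only [mul_assoc, we_as B2, one_mul, c2, we_as c1]
    _ = _ := by
      rw [c3, h.we_B k]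
      simp only [we_ma, we_as B2, one_mul, h.we_c l (h.we_CK hT), h.we_mul l, h.we_c l (h.we_wK l v)]
      congr 4 <;> ring

theorem fl0 (k : Ln P e a) {σ l : F} (hσ : σ ≠ 0) (hl : l ≠ 0) : ∃ r s r' : F, ∃ i : ℕ, i ≤ 1 ∧
    y (a + l • e) σ = y a σ * (y e (σ * l * l) * w e ((σ * l) • a) *
      (z C φ e r * x C φ e (s • a) * z C φ a r') * t ^ i) ∧
    r' = (κ₀ + i) * σ ∧ κ + κ₁ + κ₀ = 0 := by
  -- all four hats centralise E(l); f = (y a σ)⁻¹ y (a + l e) σ = y_e w ε tⁱ o (`cY`, `Two.dec`). B = x e (l • f')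
  -- inverts f (y (a + l e) σ = B y a σ B); B f B = f z e (κ σ l²) x e (r' l a) z e (r' l²) (`wQ`, `Bz`);
  -- f² = z e ((κ₁ + i) σ l²) x e ((κ₀ + i) σ l a) o²
  obtain ⟨f, f', hh⟩ := h.hh_of_ln k
  have m1 : e ∈ span F {e, a} := Submodule.subset_span (by simp)
  have m2 : a ∈ span F {e, a} := Submodule.subset_span (by simp)
  have k0 : ∀ v : F, P.B e (v • a) = 0 := fun v => by rw [P.B_smul_right, k.perp, mul_zero]
  have y1 := h.we_yK hy m1 (σ * l * l)
  have y2 := h.we_yK hy m2 σ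
  have y3 := h.we_yK hy (add_mem m2 (Submodule.smul_mem _ l m1)) σ
  have w1 := h.we_wK k (σ * l)
  have pt : y e (σ * l * l) * w e ((σ * l) • a) * t * (y e (σ * l * l) * w e ((σ * l) • a))⁻¹ =
      t * weE C φ e a (σ * l * l) (σ * l) 0 := by
    calc _ = y e (σ * l * l) * (w e ((σ * l) • a) * t * (w e ((σ * l) • a))⁻¹) * (y e (σ * l * l))⁻¹ := by
          group
      _ = y e (σ * l * l) * t * (y e (σ * l * l))⁻¹ * weE C φ e a 0 (σ * l) 0 := by
          rw [h.wt (k0 _), h.we_x, we_ma, we_ma, h.we_c k (inv_mem y1)]; group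
      _ = _ := by
          rw [h.we_yt hy, h.we_z e a, we_ma, h.we_mul k, add_zero, zero_add, add_zero]
  have ft : (y a σ)⁻¹ * y (a + l • e) σ * t * ((y a σ)⁻¹ * y (a + l • e) σ)⁻¹ =
      t * weE C φ e a (σ * l * l) (σ * l) 0 := by
    have e1 : z C φ (a + l • e) σ = weE C φ e a (σ * l * l) (σ * l) σ := by
      have k1 : P.B (l • e) a = 0 := by rw [h.B_smul_left, k.perp, mul_zero]
      rw [add_comm, h.z_line k1, h.z_smul, h.x_smul (k0 _), smul_smul, h.we_z e a, h.we_z' e a, h.we_x,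
        h.we_mul k, h.we_mul k]
      congr 1 <;> ring
    have e2 : (y a σ)⁻¹ * t * y a σ = t * weE C φ e a 0 0 σ := by
      have := h.we_ty hy (e := a) e (i := 1) le_rfl σ
      rw [pow_one, ← h.we_z, h.we_z' e a, Nat.cast_one, one_mul] at this
      rw [we_ma, this, inv_mul_cancel_left]
    calc _ = (y a σ)⁻¹ * (y (a + l • e) σ * t * (y (a + l • e) σ)⁻¹) * y a σ := by group
      _ = (y a σ)⁻¹ * t * y a σ * weE C φ e a (σ * l * l) (σ * l) σ := by
          rw [h.we_yt hy, e1, we_ma, we_ma, h.we_c k y2]; group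
      _ = _ := by rw [e2, we_ma, h.we_mul k, zero_add, zero_add, h.add_self]
  obtain ⟨r, s, r', i, hi, o, o1, o2, o3, e1⟩ := h.we_dec h.two' k
    (g := (y e (σ * l * l) * w e ((σ * l) • a))⁻¹ * ((y a σ)⁻¹ * y (a + l • e) σ))
    (by
      rw [← pt] at ft
      rw [we_ma, eq_mul_of_mul_inv_eq ft]; group)
    (mul_mem (inv_mem (mul_mem y1 w1)) (mul_mem (inv_mem y2) y3))
  have hT : t ^ i * o ∈ centralizer (φ.range : Set G) := mul_mem (pow_mem h.tC i) o1
  have e2 := eq_mul_of_inv_mul_eq e1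
  have e3 := h.we_Bf hy hh l (σ * l * l) (σ * l) r s r' hT
  have e4 := h.we_By hy hh 0 l σ
  have B2 := h.x_sq (show P.B e (l • f') = 0 by rw [P.B_smul_right, hh.ef, mul_zero])
  rw [zero_smul, add_zero, zero_add] at e4
  have e5 : x C φ e (l • f') * ((y a σ)⁻¹ * y (a + l • e) σ) * x C φ e (l • f') *
      ((y a σ)⁻¹ * y (a + l • e) σ) = 1 := by
    rw [← e4]
    simp only [we_ma, we_as B2, one_mul, mul_inv_cancel_left, inv_mul_cancel_left, B2]
  rw [e2, e3] at e5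
  have c1 : o * y e (σ * l * l) = y e (σ * l * l) * o := (h.we_yco hy _ _ o o1 o2 o3).symm
  have c2 : o * w e ((σ * l) • a) = w e ((σ * l) • a) * o := (h.co (k0 _) o o1 o2 o3).symm
  have c3 : o * t ^ i = t ^ i * o := (Commute.pow_right o2 i).eq
  have c4 : t ^ i * t ^ i = 1 := by rw [← (Commute.refl t).mul_pow, h.t2, one_pow]
  have c5 := (h.yw1 hy (k0 (σ * l)) (σ * l * l)).symm.eq
  have c6 := hy.sq e (σ * l * l)
  have c7 := h.sq e _ (k0 (σ * l))
  rw [h.we_z e a] at c6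
  rw [smul_smul, h.we_x] at c7
  simp only [we_ma, h.we_c' k y1, h.we_c' k w1, h.we_c' k (h.we_CK (pow_mem h.tC i)),
    h.we_c' k (h.we_CK o1), h.we_c k (h.we_CK o1), we_as c1, we_as c2, we_as c3, we_as c4, we_as c5,
    we_as c6, we_as c7, we_as (h.we_ty hy a hi _), we_as (h.we_tw k hi _), h.we_mul k,
    one_mul] at e5
  rw [← we_ma, ← one_mul (1 : G), ← h.we_one e a, h.we_one e a] at e5
  nth_rw 2 [← h.we_one e a] at e5
  obtain ⟨e6, e7, e8, -⟩ := h.we_inj k (mul_mem o1 o1) (one_mem _) e5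
  obtain rfl := we_odd o3 e6
  have e9 : r' = (κ₀ + i) * σ := mul_right_cancel₀ hl (by
    linear_combination e8 - (κ₀ * σ * l + i * σ * l + s) * h.two)
  refine ⟨r, s, r', i, hi, ?_, e9, mul_right_cancel₀ (mul_ne_zero (mul_ne_zero hσ hl) hl) ?_⟩
  · rw [eq_mul_of_inv_mul_eq e2, mul_one, weE]; simp only [we_ma]
  · rw [e9] at e7
    linear_combination e7 - (i * σ * l * l + r) * h.two

theorem we_fl (k : Ln P e a) : (∃ r s : F,
    y (a + e) 1 = y a 1 * (y e 1 * w e a * weE C φ e a r s 0)) ∧ κ₀ = 0 ∧ κ₁ = κ := by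
  obtain ⟨f, f', hh⟩ := h.hh_of_ln k
  obtain ⟨r, s, r', i, hi, e1, e2, e3⟩ := h.fl0 hy k one_ne_zero one_ne_zero
  have k0 : ∀ v : F, P.B e (v • a) = 0 := fun v => by rw [P.B_smul_right, k.perp, mul_zero]
  have m1 : e ∈ span F {e, a} := Submodule.subset_span (by simp)
  have hT : t ^ i ∈ centralizer (φ.range : Set G) := pow_mem h.tC i
  simp only [one_smul, mul_one] at e1 e2
  have key : ∀ l : F, l ≠ 0 → y (a + l • e) 1 =
      y a 1 * (y e (l * l) * w e (l • a) * (weE C φ e a (l * l * r) (l * s) r' * t ^ i)) := by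
    intro l hl
    obtain ⟨d, -, d1, -, d2, -⟩ := h.exists_diag hh hl one_ne_zero
    have c := mem_centralizer_iff.1 hT _ ⟨d, rfl⟩
    have e4 := h.we_conj k.perp k.perp d1 d2 r s r'
    have e5 := hy.eqv d (a + e) 1
    have e6 := hy.eqv d a 1
    have e7 := hy.eqv d e 1
    have e8 := h.eqv d e a k.perp
    rw [map_add, d1, d2, one_smul] at e5
    rw [d2, one_smul] at e6
    rw [d1, hy.smul, mul_one] at e7
    rw [d1, d2, one_smul, h.smul _ _ _ k.perp] at e8
    simp only [mul_one, one_mul] at e4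
    rw [← e5, e1, ← e4, ← e7, ← e8]
    nth_rw 2 [← e6]
    simp only [we_ma, inv_mul_cancel_left, weE, mul_right_inj]
    rw [eq_inv_mul_iff_mul_eq, ← we_ma, c, mul_inv_cancel_right]
  obtain ⟨c, c0, c1⟩ := h.exists_big'
  have e4 := h.we_By hy hh c 1 1
  have e5 := h.we_By hy hh 0 1 1
  have e6 := h.we_Bf hy hh 1 (c * c) c (c * c * r) (c * s) r' hT
  have B2 := h.x_sq (show P.B e ((1 : F) • f') = 0 by rw [P.B_smul_right, hh.ef, mul_zero])
  rw [zero_smul, add_zero, zero_add, key 1 one_ne_zero] at e5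
  rw [key c c0, key (c + 1) (fun e0 => c1 (h.eq_of_add e0))] at e4
  have e7 := e4.symm.trans (show _ = (x C φ e ((1 : F) • f') * y a 1 * x C φ e ((1 : F) • f')) *
    (x C φ e ((1 : F) • f') * (y e (c * c) * w e (c • a) * (weE C φ e a (c * c * r) (c * s) r' * t ^ i)) *
      x C φ e ((1 : F) • f')) by simp only [we_ma, we_as B2, one_mul])
  obtain ⟨ρ, a1⟩ := hy.add0 e (1 * 1) (c * c)
  obtain ⟨ρ', a2⟩ := h.add0 e a 1 c k.perp
  rw [e5, e6, show (c + 1) * (c + 1) = 1 * 1 + c * c by linear_combination c * h.two, add_comm c 1,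
    a1, a2, h.we_z e a, h.we_x] at e7
  have c4 : t ^ i * t ^ i = 1 := by rw [← (Commute.refl t).mul_pow, h.t2, one_pow]
  simp only [we_ma, h.we_c' k (h.we_yK hy m1 _), h.we_c' k (h.we_wK k _), h.we_c' k (h.we_CK hT),
    h.we_c k (h.we_CK hT), we_as c4, we_as (h.yw1 hy (k0 _) _).symm.eq, we_as (h.we_ty hy a hi _),
    we_as (h.we_tw k hi _), h.we_mul k, mul_right_inj] at e7
  obtain ⟨e8, -, -, e9⟩ := h.we_inj k hT (one_mem _) e7
  have r0 : r' = 0 := by linear_combination -e9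
  have i0 : i = 0 := by
    interval_cases i
    · rfl
    · exact absurd ((pow_one t).symm.trans e8) h.t1
  subst i0
  have k1 : κ₀ = 0 := by rw [r0] at e2; simpa using e2.symm
  refine ⟨⟨r, s, ?_⟩, k1, by linear_combination e3 - k1 - κ * h.two⟩
  rw [e1, r0, pow_zero, mul_one, weE]

theorem k0 : κ₀ = 0 ∧ κ₁ = κ := by
  obtain ⟨e, he⟩ := h.exists_ne0
  obtain ⟨a, k⟩ := h.exists_ln he
  exact (h.we_fl hy k).2

theorem fl1 : ∃ r₀ s₀ : F, ∀ e a σ, Ln P e a → y (a + e) σ =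
    y a σ * y e σ * w e (σ • a) * z C φ e (r₀ * σ) * x C φ e ((s₀ * σ) • a) := by
  -- i of `fl0` is invariant under the torus (eqv, smul) and additive in l, so 0; r' = 0 by `k0`;
  -- scale (e, a) to (ρ e, ρ a), σ = ρ², and use `trans_ln`
  obtain ⟨e₀, he⟩ := h.exists_ne0
  obtain ⟨a₀, k₀⟩ := h.exists_ln he
  obtain ⟨r, s, e1⟩ := (h.we_fl hy k₀).1
  refine ⟨r, s, fun e a σ k => ?_⟩
  obtain ⟨ρ, rfl⟩ := h.exists_sqrt σ
  by_cases hρ : ρ = 0
  · simp only [hρ, mul_zero, zero_smul, hy.zero, h.w_zero, h.z_zero, h.x_zero, mul_one]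
  obtain ⟨d, d1, d2⟩ := h.trans_ln k₀ (h.ln_smul k hρ hρ 0)
  rw [zero_smul, add_zero] at d2
  have e4 := h.we_conj k₀.perp k.perp d1 d2 r s 0
  have e5 := hy.eqv d (a₀ + e₀) 1
  have e6 := hy.eqv d a₀ 1
  have e7 := hy.eqv d e₀ 1
  have e8 := h.eqv d e₀ a₀ k₀.perp
  rw [map_add, d1, d2, ← smul_add, hy.smul, mul_one] at e5
  rw [d2, hy.smul, mul_one] at e6
  rw [d1, hy.smul, mul_one] at e7
  rw [d1, d2, h.smul _ _ _ (by rw [P.B_smul_right, k.perp, mul_zero]), smul_smul] at e8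
  rw [mul_zero, mul_comm _ r, show ρ * (s * ρ) = s * (ρ * ρ) by ring, weE.eq_1 C φ e, h.z_zero,
    mul_one] at e4
  rw [we_ma, ← e4, ← e5, ← e6, ← e7, ← e8, e1]
  group

theorem we_g (k : Ln P e a) : ∃ r s r' : F, ⁅y a 1, y e 1⁆ = weE C φ e a r s r' := by
  have y1 := h.we_yK hy (e := e) (a := a) (p := e) (Submodule.subset_span (by simp)) 1
  have y2 := h.we_yK hy (e := e) (a := a) (p := a) (Submodule.subset_span (by simp)) 1
  have ta : ∀ {i : ℕ}, i ≤ 1 → t ^ i * y a 1 = y a 1 * (t ^ i * weE C φ e a 0 0 (i * 1)) := fun hi => by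
    rw [h.we_ty hy e hi, ← h.we_z, h.we_z' e a]
  have s1 := hy.sq e 1
  have s2 := hy.sq a 1
  rw [h.we_z e a] at s1
  rw [h.we_z' e a] at s2
  have i1 : (y e 1)⁻¹ = y e 1 * weE C φ e a (κ₁ * 1) 0 0 :=
    inv_eq_of_mul_eq_one_right (by rw [← we_ma, s1, h.we_sq k])
  have i2 : (y a 1)⁻¹ = y a 1 * weE C φ e a 0 0 (κ₁ * 1) :=
    inv_eq_of_mul_eq_one_right (by rw [← we_ma, s2, h.we_sq k])
  obtain ⟨r, s, r', i, hi, o, o1, o2, o3, e1⟩ := h.we_dec h.two' k (g := ⁅y a 1, y e 1⁆)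
    (by
      have t1 := h.we_ty hy (e := e) a le_rfl 1
      have t2 := ta le_rfl
      rw [pow_one] at t1 t2
      rw [commutatorElement_def, i1, i2]
      simp only [we_ma, h.we_c' k y1, h.we_c' k y2, h.we_c k (h.we_CK h.tC),
        we_as t1, we_as t2, h.we_mul k, mul_right_inj]
      congr 1
      · linear_combination (-1 : F) * h.two
      · ring
      · linear_combination (-1 : F) * h.two)
    (mul_mem (mul_mem (mul_mem y2 y1) (inv_mem y2)) (inv_mem y1))
  have e2 : ⁅y a 1, y e 1⁆⁻¹ * y a 1 * ⁅y a 1, y e 1⁆⁻¹ = y a 1 := by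
    calc _ = y e 1 * (y a 1 * y a 1) * (y e 1)⁻¹ * (y a 1)⁻¹ := by
          simp only [commutatorElement_def]; group
      _ = _ := by rw [s2, ← h.we_c k y1, ← s2]; group
  have e3 : ⁅y a 1, y e 1⁆ * y a 1 * ⁅y a 1, y e 1⁆ = y a 1 * (1 * weE C φ e a 0 0 0) := by
    rw [h.we_one, mul_one, mul_one]
    generalize ⁅y a 1, y e 1⁆ = g at e2 ⊢
    nth_rw 1 [← e2]
    group
  have c1 : o * y a 1 = y a 1 * o := (h.we_yco hy _ _ o o1 o2 o3).symm
  have c3 : o * t ^ i = t ^ i * o := (Commute.pow_right o2 i).eq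
  have c4 : t ^ i * t ^ i = 1 := by rw [← (Commute.refl t).mul_pow, h.t2, one_pow]
  rw [e1] at e3
  simp only [we_ma, h.we_c' k y2, h.we_c' k (h.we_CK (pow_mem h.tC i)), h.we_c' k (h.we_CK o1),
    h.we_c k (h.we_CK o1), we_as c1, we_as c3, we_as c4, we_as (ta hi), h.we_mul k, mul_right_inj] at e3
  rw [← we_ma, ← one_mul (weE C φ e a 0 0 0)] at e3
  obtain ⟨e4, -, -, e5⟩ := h.we_inj k (mul_mem o1 o1) (one_mem _) e3
  obtain rfl := we_odd o3 e4
  interval_cases i
  · exact ⟨r, s, r', by rw [e1, pow_zero, mul_one, mul_one]⟩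
  · exact absurd (show (1 : F) = 0 by
      rw [Nat.cast_one] at e5; linear_combination e5 - r' * h.two) one_ne_zero

theorem we_r0 (k : Ln P e a) {r s r' : F} (e1 : ⁅y a 1, y e 1⁆ = weE C φ e a r s r') : r = 0 := by
  obtain ⟨f, f', hh⟩ := h.hh_of_ln k
  have y1 := h.we_yK hy (e := e) (a := a) (p := e) (Submodule.subset_span (by simp)) 1
  have y2 := h.we_yK hy (e := e) (a := a) (p := a) (Submodule.subset_span (by simp)) 1
  have key : ∀ l : F, l ≠ 0 → ⁅y a (l * l), y e 1⁆ = weE C φ e a r (s * l) (l * l * r') := by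
    intro l hl
    obtain ⟨d, -, d1, -, d2, -⟩ := h.exists_diag hh one_ne_zero hl
    have e4 := h.we_conj k.perp k.perp d1 d2 r s r'
    have e6 := hy.eqv d a 1
    have e7 := hy.eqv d e 1
    rw [d2, hy.smul, mul_one] at e6
    rw [d1, one_smul] at e7
    simp only [mul_one, one_mul] at e4
    rw [← e4, ← e1, conjugate_commutatorElement, e6, e7]
  obtain ⟨c, c0, c1⟩ := h.exists_big'
  obtain ⟨ρ, a1⟩ := hy.add0 a 1 (c * c)
  have e2 := key (c + 1) (fun e0 => c1 (h.eq_of_add e0))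
  have e3 : ⁅z C φ a ρ, y e 1⁆ = 1 := by
    rw [h.we_z' e a]; exact commutatorElement_eq_one_iff_mul_comm.2 (h.we_c k y1 _ _ _)
  have e4 : ⁅y a 1 * y a (c * c) * z C φ a ρ, y e 1⁆ = y a 1 * (y a (c * c) * ⁅z C φ a ρ, y e 1⁆ *
      (y a (c * c))⁻¹ * ⁅y a (c * c), y e 1⁆) * (y a 1)⁻¹ * ⁅y a 1, y e 1⁆ := by
    simp only [commutatorElement_def]; group
  rw [show (c + 1) * (c + 1) = 1 + c * c by linear_combination c * h.two, a1, e4, e3, mul_one,
    mul_inv_cancel, one_mul, key c c0, ← h.we_c k y2, mul_inv_cancel_right, e1, h.we_mul k] at e2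
  linear_combination (h.line_inj k e2).1

theorem yy : ∃ ς : F, ∀ e a σ, Ln P e a → ⁅y a σ, y e σ⁆ = x C φ e ((ς * σ) • a) := by
  -- g (σ, ρ) = ⁅y a σ, y e ρ⁆ ∈ E(l) (centralises t, E(l); squares kill t, o), biadditive; the torus kills
  -- the z e- and z a-parts
  obtain ⟨e₀, he⟩ := h.exists_ne0
  obtain ⟨a₀, k₀⟩ := h.exists_ln he
  obtain ⟨r, s, r', e1⟩ := h.we_g hy k₀
  obtain rfl := h.we_r0 hy k₀ e1
  obtain rfl := h.we_r0 hy (h.ln_symm k₀) (r := r') (s := s) (r' := 0) (by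
    rw [← commutatorElement_inv, e1, h.we_swap k₀, inv_eq_of_mul_eq_one_right (h.we_sq k₀ _ _ _)])
  refine ⟨s, fun e a σ k => ?_⟩
  obtain ⟨ρ, rfl⟩ := h.exists_sqrt σ
  by_cases hρ : ρ = 0
  · simp only [hρ, mul_zero, zero_smul, hy.zero, h.x_zero, commutatorElement_self]
  obtain ⟨d, d1, d2⟩ := h.trans_ln k₀ (h.ln_smul k hρ hρ 0)
  rw [zero_smul, add_zero] at d2
  have e4 := h.we_conj k₀.perp k.perp d1 d2 0 s 0
  have e6 := hy.eqv d a₀ 1
  have e7 := hy.eqv d e₀ 1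
  rw [d2, hy.smul, mul_one] at e6
  rw [d1, hy.smul, mul_one] at e7
  rw [← e6, ← e7, ← conjugate_commutatorElement, e1, e4, h.we_x, mul_zero]
  congr 1
  ring

end W0

end CfsgLib.SP4
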