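import Cfsg.Agent.Lib.SP4.WF
import Cfsg.Agent.Lib.SP4.WB
import Cfsg.Agent.Lib.SP4.WH
import Cfsg.Agent.Lib.SP4.CaC

/-! The three types -/

set_option autoImplicit false
set_option linter.unusedSectionVars false

namespace CfsgLib.SP4

open Subgroup Module CfsgLib.Forms CfsgLib.LieMult
open CfsgLib.HX (Std CO Two Mv M2)
open CfsgLib.UN (AV SI TI HH Rad Stb Yg Rg Eg Act nu)
open CfsgLib.ClSys (II)
open Submodule (span)
open scoped commutatorElement Pointwise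

universe u

variable {F : Type} [Field F] [Finite F] {V : Type} [AddCommGroup V] [Module F V]
  [FiniteDimensional F V] {P : PQ (RingHom.id F) V} {S : Type} [Group S] [Finite S] {G : Type u}
  [Group G] [Finite G] {C : CG P S} {φ : S →* G} {t : G}

namespace W0

variable {w : V → V → G} {κ κ₀ κ₁ : F} (h : W0 C φ t w κ κ₀) {y : V → F → G}
include h

theorem hw (H : Yx C φ t w κ y) (h0 : κ₀ = 0) (hc : κ = 1 → ¬ Tz C φ t ∨ CZ C φ t) {δ : F}
    (del : κ = 1 → ∀ e a b, P.B e a = 0 → P.B e b = 0 → w e a * w e b = w e (a + b) * z C φ e (δ * P.B a b)) :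
    HW C φ t w κ δ :=
  ((h.hw1 h0 hc).hw2 (fun _ _ _ k1 k2 k3 => h.add h0 k1 k2 k3) fun _ _ _ k1 k2 => h.com H k1 k2).hw
    (h.kk' H h0) del

theorem hwB (hκ : κ = 1) (hc : ¬ Tz C φ t ∨ CZ C φ t) : ∃ δ, HW C φ t w 1 δ := by
  have h0 : κ₀ = 0 := by have := h.kk0; rwa [hκ, one_mul] at this
  obtain ⟨δ, hδ⟩ := h.ww (h.yx1 hκ) h0 (by simp) (by simp) (by simp)
  exact ⟨δ, hκ ▸ h.hw (h.yx1 hκ) h0 (fun _ => hc) fun _ e a b k k' => by rw [hδ e a b k k', mul_one]⟩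

theorem hc1 (hy : Y0 C φ t y κ₁) (hκ : κ = 1) (hc : CZ C φ t) :
    ∃ δ, HC1 C φ t w (fun e => y e 1) δ κ₁ := by
  obtain ⟨δ, hδ⟩ := h.hwB hκ (Or.inr hc)
  exact ⟨δ, hδ, fun e => ⟨hy.cY e 1, h.we_yt hy e 1, h.we_yco hy e 1⟩,
    fun e => by rw [hy.sq e 1, mul_one], hy.zero' 1, fun l e => hy.eqv l e 1,
    fun _ _ _ h1 h2 h3 => h.yw2 hy h1 h2 h3 1⟩

/-- the line relation for `κ = 0` -/
theorem yline0 (hy : Y0 C φ t y κ₁) (hκ : κ = 0) : ∃ s₀ : F, ∀ e a σ, Ln P e a → y (e + a) σ =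
    y e σ * y a σ * w e (σ • a) * x C φ e ((s₀ * σ) • a) := by
  have hE : Emb C φ := h.toEmb
  obtain ⟨r₀, s₀, H⟩ := h.fl1 hy
  obtain ⟨ς, H'⟩ := h.yy hy
  refine ⟨s₀, fun e a σ k => ?_⟩
  have k0 : ∀ v : F, P.B e (v • a) = 0 := fun v => by rw [P.B_smul_right, k.perp, mul_zero]
  have k1 : P.B a e = 0 := by rw [hE.B_comm, k.perp]
  have e1 := H e a σ k
  have e2 := H a e σ (hE.ln_symm k)
  have e3 := H' e a σ k
  have hw : w a (σ • e) = w e (σ • a) := by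
    rw [← h.smul a e σ k1, h.symm e _ (k0 σ), hκ, zero_smul, hE.x_zero, mul_one]
  have hx : x C φ a ((s₀ * σ) • e) = x C φ e ((s₀ * σ) • a) := by
    rw [← hE.x_smul k1, ← hE.x_symm (k0 _)]
  rw [hw, hx] at e2
  have c1 := h.we_yK hy (e := e) (a := a) (Submodule.subset_span (by simp) : e ∈ span F {e, a}) σ
  have c2 := h.we_yK hy (e := e) (a := a) (Submodule.subset_span (by simp) : a ∈ span F {e, a}) σ
  have c3 := h.we_wK k σ
  have e4 : y a σ * y e σ = weE C φ e a 0 (ς * σ) 0 * (y e σ * y a σ) := by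
    rw [← hE.we_x, ← e3, commutatorElement_def]; group
  have e5 : weE C φ e a (r₀ * σ) (ς * σ + s₀ * σ) 0 = weE C φ e a 0 (s₀ * σ) (r₀ * σ) := by
    rw [add_comm a e, e2, e4, hE.we_c k (mul_mem c1 c2), hE.we_z e a, hE.we_z' e a, hE.we_x] at e1
    simp only [mul_assoc] at e1
    rw [hE.we_c' k c3] at e1
    simp only [hE.we_mul k, mul_right_inj, add_zero, zero_add] at e1
    exact e1.symm
  have e6 := (hE.we_inj k (one_mem _) (one_mem _) (congrArg (1 * ·) e5)).2.1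
  rw [e2, e6, hE.z_zero, mul_one]

theorem ha (hy : Y0 C φ t y κ₁) (hκ : κ = 0) : ∃ y' δ, HA C φ t w y' δ := by
  have hE : Emb C φ := h.toEmb
  obtain ⟨s₀, L⟩ := h.yline0 hy hκ
  obtain ⟨h0, h1⟩ := h.k0 hy
  subst hκ h1
  have mv : ∀ e β, Mv φ.range (Yg C φ (span F {e})) t (z C φ e β) (y e β * z C φ e (s₀ * β)) := by
    intro e β
    have m : z C φ e (s₀ * β) ∈ φ.range := ⟨_, rfl⟩
    refine ⟨mul_mem (hy.cY e β) (hE.E_cent (hE.ti_pt e) (hE.mem_Z.2 ⟨_, rfl⟩)), ?_,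
      (h.we_yco hy e β).mul (HX.CO.of_mem m)⟩
    rw [← h.we_yt hy e β, mul_assoc (y e β), h.tC _ m]; group
  have add : ∀ e β β', y e (β + β') * z C φ e (s₀ * (β + β')) =
      y e β * z C φ e (s₀ * β) * (y e β' * z C φ e (s₀ * β')) := by
    intro e β β'
    rw [hy.add1 rfl, mul_add, hE.z_add, mul_assoc, mul_assoc, ← mul_assoc (y e β'), (h.we_yz hy e _ _).eq,
      mul_assoc]
  have zero : ∀ e, y e 0 * z C φ e (s₀ * 0) = 1 := fun e => by rw [hy.zero, mul_zero, hE.z_zero, mul_one]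
  have smul : ∀ e β (l : F), y (l • e) β * z C φ (l • e) (s₀ * β) =
      y e (l * l * β) * z C φ e (s₀ * (l * l * β)) := fun e β l => by
    rw [hy.smul, hE.z_smul, mul_left_comm]
  have eqv : ∀ l e β, φ l * (y e β * z C φ e (s₀ * β)) * (φ l)⁻¹ =
      y (C.act l e) β * z C φ (C.act l e) (s₀ * β) := fun l e β => by
    rw [← hy.eqv, ← hE.z_conj]; group
  have H : Yx C φ t w 0 fun e β => y e β * z C φ e (s₀ * β) := by
    intro e β
    refine ⟨by rw [add_zero, one_mul]; exact mv e β, ?_,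
      fun a k => (h.yw1 hy k β).mul_left (h.wz k _).symm⟩
    rw [← add, hE.add_self, zero, zero_mul, hE.z_zero]
  obtain ⟨δ, hδ⟩ := h.ww H h0 eqv smul zero
  have W : HW C φ t w 0 δ := h.hw H h0 (fun k => absurd k zero_ne_one) fun k => absurd k zero_ne_one
  refine ⟨_, δ, W, mv, add, smul, eqv, hδ, fun e a b β k1 k2 k3 => (h.yw2 hy k1 k2 k3 β).mul_left
    (W.cac_wz k3 (by rw [hE.B_comm, k1]) (by rw [hE.B_comm, k2]) _).symm, fun e a β k => ?_⟩
  rcases wc_cases k with rfl | ⟨μ, rfl⟩ | k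
  · simp only [zero_add, hy.zero', hE.z_zero', h.zero, one_mul, mul_one]
  · have e1 : e + μ • e = (1 + μ) • e := by rw [add_smul, one_smul]
    have e2 : (1 + μ) * (1 + μ) * β = β + μ * μ * β := by
      linear_combination (μ * β) * hE.two
    rw [e1, smul, smul, e2, add, smul_smul, h.dep, zero_mul, hE.z_zero, mul_one]
  · have c2 := h.we_yK hy (e := e) (a := a) (Submodule.subset_span (by simp) : a ∈ span F {e, a}) β
    have c3 := h.we_wK k β
    rw [L e a β k, hE.z_line k.perp, hE.we_z e a, hE.we_z' e a, hE.we_x]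
    simp only [mul_assoc]
    rw [hE.we_c' k c2, hE.we_c k c3, hE.we_c' k c3]
    simp only [hE.we_mul k, add_zero, zero_add, hE.add_self]

end W0

end CfsgLib.SP4
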